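import Groth.Prelude.Def_RelSpec
universe u
open CategoryTheory CategoryTheory.Limits AlgebraicGeometry TopologicalSpace Opposite
set_option backward.isDefEq.respectTransparency false
namespace RLpsi8
open RelSpec

theorem isIso_gammaAff {S : Scheme.{u}} (A : QCAlg S) (U : S.Opens) (hU : IsAffineOpen U) :
    IsIso (A.gammaAff U hU) := by
  have h1 : IsIso ((A.ι U hU).app (A.π ⁻¹ᵁ U)) :=
    Scheme.Hom.isIso_app _ _ (A.π_preimage U hU).le
  unfold QCAlg.gammaAff Scheme.Hom.appLE
  have hk : (A.ι U hU) ⁻¹ᵁ (A.π ⁻¹ᵁ U) = ⊤ := top_le_iff.mp (A.top_le_preimage U hU)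
  have : IsIso ((Spec (A.presheaf.obj (op U))).presheaf.map (homOfLE (A.top_le_preimage U hU)).op) := by
    have : IsIso (homOfLE (A.top_le_preimage U hU)) := by
      refine ⟨homOfLE hk.le, Subsingleton.elim _ _, Subsingleton.elim _ _⟩
    infer_instance
  infer_instance

theorem isIso_gammaMap {S : Scheme.{u}} (A : QCAlg S) : IsIso A.gammaMap := by
  let F : TopCat.Sheaf CommRingCat.{u} S.carrier :=
    ⟨A.π.base _* A.spec.presheaf, TopCat.Sheaf.pushforward_sheaf_of_sheaf _ A.spec.sheaf.property⟩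
  let G : TopCat.Sheaf CommRingCat.{u} S.carrier := ⟨A.presheaf, A.isSheaf⟩
  let α : F ⟶ G := ⟨A.gammaMap⟩
  have : IsIso α := by
    apply Functor.IsCoverDense.iso_of_restrict_iso (G := Scheme.AffineZariskiSite.toOpensFunctor S)
    show IsIso ((Scheme.AffineZariskiSite.toOpensFunctor S).op.whiskerLeft A.gammaMap)
    rw [A.gammaMap_restrict]
    have : ∀ U, IsIso (A.gammaRestrict.app U) := fun U => isIso_gammaAff A U.unop.1 U.unop.2
    exact NatIso.isIso_of_isIso_app _
  exact inferInstanceAs (IsIso ((sheafToPresheaf _ _).map α))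

end RLpsi8
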