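import Groth.Prelude.Def_RelSpec
import Groth.Agent.Lib.RLpsi8.GammaIso
import Groth.Agent.Lib.AffAlg8.Hom
universe u
open CategoryTheory CategoryTheory.Limits AlgebraicGeometry TopologicalSpace Opposite
set_option backward.isDefEq.respectTransparency false
namespace RLpsi8
open RelSpec

/-- A morphism into an affine open is determined by its values on sections. -/
theorem ext_of_appLE_affine {T Z : Scheme.{u}} (k₁ k₂ : T ⟶ Z) (W : Z.Opens) (hW : IsAffineOpen W)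
    (e₁ : ⊤ ≤ k₁ ⁻¹ᵁ W) (e₂ : ⊤ ≤ k₂ ⁻¹ᵁ W) (h : k₁.appLE W ⊤ e₁ = k₂.appLE W ⊤ e₂) : k₁ = k₂ := by
  rw [← cancel_epi T.topIso.hom]
  change (⊤ : T.Opens).ι ≫ k₁ = (⊤ : T.Opens).ι ≫ k₂
  rw [← Scheme.Hom.resLE_comp_ι k₁ e₁, ← Scheme.Hom.resLE_comp_ι k₂ e₂]
  congr 1
  have : IsAffine W.toScheme := hW
  apply ext_of_isAffine
  simp only [Scheme.Hom.appTop, Scheme.Hom.resLE_app_top, h]

theorem appLE_ι_eq_gammaAff {S : Scheme.{u}} (A : QCAlg S) (U : S.Opens) (hU : IsAffineOpen U) :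
    (A.ι U hU).appLE (A.π ⁻¹ᵁ U) ⊤ (A.top_le_preimage U hU) ≫
      (Scheme.ΓSpecIso (A.presheaf.obj (op U))).hom = A.gammaAff U hU := rfl

variable {S S' : Scheme.{u}} (q : S' ⟶ S) (B : QCAlg S)
    (B' : QCAlg S') (u : B.presheaf ⟶ q.base _* B'.presheaf)

theorem existsUnique_specMap
    (hu : B.str ≫ u = q.c ≫ (TopCat.Presheaf.pushforward CommRingCat.{u} q.base).map B'.str) :
    (∃! v : B'.spec ⟶ B.spec,
        ∀ (U : S.Opens) (hU : IsAffineOpen U) (U' : S'.Opens) (hU' : IsAffineOpen U') (hle : U' ≤ q ⁻¹ᵁ U),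
          B'.ι U' hU' ≫ v =
            Spec.map ((u.app (op U) : B.presheaf.obj (op U) ⟶ B'.presheaf.obj (op (q ⁻¹ᵁ U))) ≫
              B'.presheaf.map (homOfLE hle).op) ≫ B.ι U hU) ∧
      ∀ v : B'.spec ⟶ B.spec,
        (∀ (U : S.Opens) (hU : IsAffineOpen U) (U' : S'.Opens) (hU' : IsAffineOpen U') (hle : U' ≤ q ⁻¹ᵁ U),
          B'.ι U' hU' ≫ v =
            Spec.map ((u.app (op U) : B.presheaf.obj (op U) ⟶ B'.presheaf.obj (op (q ⁻¹ᵁ U))) ≫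
              B'.presheaf.map (homOfLE hle).op) ≫ B.ι U hU) →
        v ≫ B.π = B'.π ≫ q := by
  haveI : IsIso B'.gammaMap := isIso_gammaMap B'
  let ω : AffAlg.alg B.π ⟶ AffAlg.alg (B'.π ≫ q) :=
    B.gammaMap ≫ u ≫ (TopCat.Presheaf.pushforward CommRingCat.{u} q.base).map (inv B'.gammaMap)
  have hω : B.π.c ≫ ω = (B'.π ≫ q).c := by
    show B.π.c ≫ B.gammaMap ≫ u ≫ _ = _
    rw [← Category.assoc, B.π_c_gammaMap, ← Category.assoc, hu, Category.assoc, ← Functor.map_comp,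
      ← (IsIso.eq_comp_inv B'.gammaMap).mpr B'.π_c_gammaMap]
    rfl
  obtain ⟨v, hv, hvω⟩ := GrothLib.AffAlg8.exists_hom B.π (B'.π ≫ q) ω hω
  have huniq : ∀ w : B'.spec ⟶ B.spec,
      (∀ (U : S.Opens) (hU : IsAffineOpen U) (U' : S'.Opens) (hU' : IsAffineOpen U') (hle : U' ≤ q ⁻¹ᵁ U),
        B'.ι U' hU' ≫ w =
          Spec.map ((u.app (op U) : B.presheaf.obj (op U) ⟶ B'.presheaf.obj (op (q ⁻¹ᵁ U))) ≫
            B'.presheaf.map (homOfLE hle).op) ≫ B.ι U hU) → ∀ w' : B'.spec ⟶ B.spec,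
      (∀ (U : S.Opens) (hU : IsAffineOpen U) (U' : S'.Opens) (hU' : IsAffineOpen U') (hle : U' ≤ q ⁻¹ᵁ U),
        B'.ι U' hU' ≫ w' =
          Spec.map ((u.app (op U) : B.presheaf.obj (op U) ⟶ B'.presheaf.obj (op (q ⁻¹ᵁ U))) ≫
            B'.presheaf.map (homOfLE hle).op) ≫ B.ι U hU) → w = w' := by
    intro w hw w' hw'
    let J := {UU : S.affineOpens × S'.affineOpens // UU.2.1 ≤ q ⁻¹ᵁ UU.1.1}
    let 𝒰 := B'.spec.openCoverOfIsOpenCover (fun j : J => B'.π ⁻¹ᵁ j.1.2.1) (by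
      show (⨆ j : J, B'.π ⁻¹ᵁ j.1.2.1) = ⊤
      refine top_unique fun z _ => ?_
      obtain ⟨_, ⟨U, hU, rfl⟩, hzU, -⟩ := S.isBasis_affineOpens.exists_subset_of_mem_open
        (Set.mem_univ (q (B'.π z))) isOpen_univ
      obtain ⟨_, ⟨U', hU', rfl⟩, hzU', hle⟩ := S'.isBasis_affineOpens.exists_subset_of_mem_open
        (show B'.π z ∈ (q ⁻¹ᵁ U : S'.Opens) from hzU) (q ⁻¹ᵁ U).2
      exact Opens.mem_iSup.2 ⟨⟨(⟨U, hU⟩, ⟨U', hU'⟩), hle⟩, hzU'⟩)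
    refine Scheme.Cover.hom_ext 𝒰 _ _ fun j => ?_
    show (B'.π ⁻¹ᵁ j.1.2.1).ι ≫ w = (B'.π ⁻¹ᵁ j.1.2.1).ι ≫ w'
    have hr : Set.range (B'.π ⁻¹ᵁ j.1.2.1).ι = Set.range (B'.ι j.1.2.1 j.1.2.2) := by
      rw [Scheme.Opens.range_ι, B'.π_preimage j.1.2.1 j.1.2.2]; rfl
    rw [← IsOpenImmersion.isoOfRangeEq_hom_fac (B'.π ⁻¹ᵁ j.1.2.1).ι (B'.ι j.1.2.1 j.1.2.2) hr,
      Category.assoc, Category.assoc, hw j.1.1.1 j.1.1.2 j.1.2.1 j.1.2.2 j.2,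
      hw' j.1.1.1 j.1.1.2 j.1.2.1 j.1.2.2 j.2]
  have hchart : ∀ (U : S.Opens) (hU : IsAffineOpen U) (U' : S'.Opens) (hU' : IsAffineOpen U') (hle : U' ≤ q ⁻¹ᵁ U),
      B'.ι U' hU' ≫ v =
        Spec.map ((u.app (op U) : B.presheaf.obj (op U) ⟶ B'.presheaf.obj (op (q ⁻¹ᵁ U))) ≫
          B'.presheaf.map (homOfLE hle).op) ≫ B.ι U hU := by
    intro U hU U' hU' hle
    have le0 : B'.π ⁻¹ᵁ U' ≤ v ⁻¹ᵁ (B.π ⁻¹ᵁ U) := by
      have he : (v ≫ B.π) ⁻¹ᵁ U = (B'.π ≫ q) ⁻¹ᵁ U := by rw [hv]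
      exact le_trans (B'.π.preimage_mono hle) he.ge
    have e₁ : ⊤ ≤ (B'.ι U' hU' ≫ v) ⁻¹ᵁ (B.π ⁻¹ᵁ U) :=
      le_trans (B'.top_le_preimage U' hU') ((B'.ι U' hU').preimage_mono le0)
    have e₂ : ⊤ ≤ (Spec.map ((u.app (op U) : B.presheaf.obj (op U) ⟶ B'.presheaf.obj (op (q ⁻¹ᵁ U))) ≫
        B'.presheaf.map (homOfLE hle).op) ≫ B.ι U hU) ⁻¹ᵁ (B.π ⁻¹ᵁ U) :=
      le_trans le_top (Scheme.Hom.preimage_mono _ (B.top_le_preimage U hU))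
    refine ext_of_appLE_affine _ _ _ (hU.preimage B.π) e₁ e₂ ?_
    have key : v.appLE (B.π ⁻¹ᵁ U) (B'.π ⁻¹ᵁ U') le0 ≫ B'.gammaAff U' hU' =
        B.gammaAff U hU ≫ (u.app (op U) : B.presheaf.obj (op U) ⟶ B'.presheaf.obj (op (q ⁻¹ᵁ U))) ≫
          B'.presheaf.map (homOfLE hle).op := by
      have h1 := congr(($hvω).app (op U))
      rw [GrothLib.AffAlg8.algHom_app] at h1
      have h2 : v.appLE (B.π ⁻¹ᵁ U) (B'.π ⁻¹ᵁ U') le0 =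
          v.appLE (B.π ⁻¹ᵁ U) ((B'.π ≫ q) ⁻¹ᵁ U) (by rw [← hv]; rfl) ≫
            B'.spec.presheaf.map (homOfLE (B'.π.preimage_mono hle)).op := (v.appLE_map _ _).symm
      rw [h2]
      erw [h1]
      rw [← B'.gammaMap_app U' hU', ← B.gammaMap_app U hU]
      have h3 : B'.spec.presheaf.map (homOfLE (B'.π.preimage_mono hle)).op ≫ B'.gammaMap.app (op U') =
          B'.gammaMap.app (op (q ⁻¹ᵁ U)) ≫ B'.presheaf.map (homOfLE hle).op :=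
        B'.gammaMap.naturality (homOfLE hle).op
      show (B.gammaMap.app (op U) ≫ u.app (op U) ≫ (inv B'.gammaMap).app (op (q ⁻¹ᵁ U))) ≫ _ ≫ _ = _
      simp only [Category.assoc]
      erw [h3]
      have hz := congr_arg (fun η => η.app (op (q ⁻¹ᵁ U))) (IsIso.inv_hom_id B'.gammaMap)
      rw [NatTrans.comp_app, NatTrans.id_app] at hz
      erw [reassoc_of% hz]
    rw [← cancel_mono (Scheme.ΓSpecIso (B'.presheaf.obj (op U'))).hom]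
    rw [← Scheme.Hom.appLE_comp_appLE (B'.ι U' hU') v (B.π ⁻¹ᵁ U) (B'.π ⁻¹ᵁ U') ⊤ le0 (B'.top_le_preimage U' hU'),
      ← Scheme.Hom.appLE_comp_appLE _ (B.ι U hU) (B.π ⁻¹ᵁ U) ⊤ ⊤ (B.top_le_preimage U hU) le_top,
      Category.assoc, Category.assoc, appLE_ι_eq_gammaAff, key, ← appLE_ι_eq_gammaAff B U hU, Category.assoc]
    congr 1
    simp only [Scheme.Hom.appLE, Category.assoc]
    erw [CategoryTheory.Functor.map_id, Category.id_comp]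
    exact (Scheme.ΓSpecIso_naturality _).symm
  exact ⟨⟨v, hchart, fun w hw => huniq w hw v hchart⟩, fun w hw => by rw [huniq w hw v hchart, hv]⟩

end RLpsi8
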