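import Groth.Agent.Lib.RelVanish.Counit
import Groth.Agent.Lib.VA.Gen
import Groth.Agent.Lib.Ample.RelAmple

/-!
# Epimorphic counits from generation over preimages; small facts on relative ampleness
-/

set_option autoImplicit false
set_option linter.style.haveILetI false
set_option backward.isDefEq.respectTransparency false
universe u

open CategoryTheory CategoryTheory.Limits AlgebraicGeometry TopologicalSpace Opposite
open GrothLib.InvExt (mres IsGen)

noncomputable section

namespace GrothLib.RLpsi8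

variable {X Y : Scheme.{u}}

/-- Only preimages covering the source matter. -/
theorem epi_counit_of_ggen_on (f : X ⟶ Y) (F : X.Modules)
    (h : ∀ x : X, ∃ V : Y.Opens, f x ∈ V ∧ Curv2.IsGloballyGenerated (F.restrict (f ⁻¹ᵁ V).ι)) :
    Epi ((Scheme.Modules.pullbackPushforwardAdjunction f).counit.app F) := by
  refine ⟨fun {N} a b hab => ?_⟩
  have h' : (Scheme.Modules.pushforward f).map a = (Scheme.Modules.pushforward f).map b := by
    apply ((Scheme.Modules.pullbackPushforwardAdjunction f).homEquiv _ N).symm.injective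
    rw [Adjunction.homEquiv_counit, Adjunction.homEquiv_counit]
    simp only [Functor.id_obj, Functor.comp_obj] at *
    erw [(Scheme.Modules.pullbackPushforwardAdjunction f).counit_naturality a,
      (Scheme.Modules.pullbackPushforwardAdjunction f).counit_naturality b]
    exact hab
  choose V hy hV using h
  refine Scheme.Modules.hom_ext _ _ fun W => ?_
  ext (t : Γ(F, W))
  refine Ample.meq_of_cover _ (fun x : X => W ⊓ f ⁻¹ᵁ V x) (fun _ => inf_le_left)
    (fun x hx => Opens.mem_iSup.2 ⟨x, hx, hy x⟩) fun y => ?_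
  rw [← Ample.app_mres, ← Ample.app_mres]
  have e := RelVanish.restrict_ext_of_ggen a b (f ⁻¹ᵁ V y) (hV y)
    fun s => congrArg (fun k : (Scheme.Modules.pushforward f).obj F ⟶ (Scheme.Modules.pushforward f).obj N =>
      k.app (V y) s) h'
  have key : ∀ (W' : X.Opens), (∃ W'', (f ⁻¹ᵁ V y).ι ''ᵁ W'' = W') → ∀ s : Γ(F, W'), a.app W' s = b.app W' s := by
    rintro _ ⟨W'', rfl⟩ s
    exact congrArg (fun k : (Scheme.Modules.restrictFunctor (f ⁻¹ᵁ V y).ι).obj F ⟶
      (Scheme.Modules.restrictFunctor (f ⁻¹ᵁ V y).ι).obj N => k.app W'' s) e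
  refine key _ ⟨(f ⁻¹ᵁ V y).ι ⁻¹ᵁ W, ?_⟩ _
  rw [Scheme.Hom.image_preimage_eq_opensRange_inf, Scheme.Opens.opensRange_ι, inf_comm]

theorem genAt_of_isGen {L : X.Modules} {V : X.Opens} {t : Γ(L, V)} (h : IsGen L V t) {x : X} (hx : x ∈ V) :
    VA.GenAt L t x :=
  ⟨V, le_rfl, hx, by rwa [InvExt.mres_self]⟩

theorem mem_basicOpen_component (c : Ample.Cocycle X) {n : ℕ} {x : X} {V : X.Opens} (hxV : x ∈ V)
    (t : c.sect n V) (h : VA.GenAt (c.twist n) (show Γ(c.twist n, V) from t) x) {i : c.ι} (hi : x ∈ c.D i) :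
    x ∈ X.basicOpen (t.1 i) := by
  have h1 := (VA.genAt_iff_mem_basicOpen (inf_le_left : V ⊓ c.D i ≤ V) (c.isGen_base n i inf_le_right)
    (c := Ample.res (le_inf le_rfl inf_le_right) ((c.sectRes inf_le_left t).1 i))
    (c.eq_smul_base i inf_le_right (c.sectRes inf_le_left t)) ⟨hxV, hi⟩).mp h
  rw [c.sectRes_apply, Ample.res_res] at h1
  rw [show Ample.res (_ : V ⊓ c.D i ≤ V ⊓ c.D i) (t.1 i) = t.1 i from Ample.res_self _ _] at h1
  exact h1

theorem quasiSeparated_of_isRelAmple {f : X ⟶ Y} {L : X.Modules} (hL : RelAmple.IsRelAmple f L) :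
    QuasiSeparated f := by
  refine IsZariskiLocalAtTarget.of_iSup_eq_top (P := @QuasiSeparated) (fun V : Y.affineOpens => V.1)
    (iSup_affineOpens_eq_top Y) fun ⟨V, hV⟩ => ?_
  haveI : IsAffine (V : Scheme.{u}) := hV
  rw [HasAffineProperty.iff_of_isAffine (P := @QuasiSeparated)]
  obtain ⟨c, ⟨e⟩⟩ := Ample.exists_cocycle (hL.2 ⟨V, hV⟩).1
  obtain ⟨hc, hA⟩ := (c.isAmple_iff e).mp (hL.2 ⟨V, hV⟩)
  haveI := hc
  exact c.quasiSeparatedSpace_of_isAmp hA

end GrothLib.RLpsi8
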