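import Groth.Prelude.Def_RelSpec
import Groth.Prelude.Def_MoreMor
import Groth.Agent.Lib.RLpsi8.GammaIso
import Groth.Agent.Lib.AffAlg8.Hom
import Mathlib.AlgebraicGeometry.QuasiAffine
universe u
open CategoryTheory CategoryTheory.Limits AlgebraicGeometry TopologicalSpace Opposite
set_option backward.isDefEq.respectTransparency false
namespace RLpsi8
open RelSpec

theorem isOpenImmersion_of_isIso_appTop {T Z : Scheme.{u}} [IsAffine Z] [T.IsQuasiAffine]
    (k : T ⟶ Z) [IsIso k.appTop] : IsOpenImmersion k := by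
  have : k = T.toSpecΓ ≫ Spec.map k.appTop ≫ inv Z.toSpecΓ := by
    rw [← Category.assoc, IsIso.eq_comp_inv, Scheme.toSpecΓ_naturality]
  rw [this]; infer_instance

variable {X S : Scheme.{u}} (f : X ⟶ S) [QuasiCompact f] [QuasiSeparated f]

theorem exists_toSpecDirectImage :
    ∃ (c : X ⟶ (QCAlg.directImage f).spec) (e : c ≫ (QCAlg.directImage f).π = f),
      (QCAlg.directImage f).gammaMap = AffAlg.algHom (QCAlg.directImage f).π f c e := by
  obtain ⟨c, e, h⟩ := GrothLib.AffAlg8.exists_hom (QCAlg.directImage f).π f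
    (QCAlg.directImage f).gammaMap (QCAlg.π_c_gammaMap _)
  exact ⟨c, e, h.symm⟩

omit [QuasiCompact f] [QuasiSeparated f] in
theorem isOpenImmersion_of_isIso_algHom {Z : Scheme.{u}} (p : Z ⟶ S) [IsAffineHom p]
    (hf : MoreMor.IsQuasiAffineHom f) (c : X ⟶ Z) (e : c ≫ p = f)
    (h : ∀ U : S.affineOpens, IsIso ((AffAlg.algHom p f c e).app (op U.1))) :
    IsOpenImmersion c := by
  subst e
  refine (IsZariskiLocalAtTarget.iff_of_iSup_eq_top (P := @IsOpenImmersion) (fun U : S.affineOpens => p ⁻¹ᵁ U.1) ?_).mpr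
    fun U => ?_
  · rw [← Scheme.Hom.preimage_iSup, iSup_affineOpens_eq_top, Scheme.Hom.preimage_top]
  · have : IsAffine (p ⁻¹ᵁ U.1).toScheme := U.2.preimage p
    have : (c ⁻¹ᵁ (p ⁻¹ᵁ U.1)).toScheme.IsQuasiAffine := hf.2 U.1 U.2
    have hi := h U
    rw [GrothLib.AffAlg8.algHom_app] at hi
    have h2 : IsIso (c.app (p ⁻¹ᵁ U.1)) := by
      rw [Scheme.Hom.app_eq_appLE]
      exact hi
    have : IsIso (c ∣_ (p ⁻¹ᵁ U.1)).appTop := by
      rw [Scheme.Hom.appTop, morphismRestrict_app]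
      have : IsIso (c.app ((p ⁻¹ᵁ U.1).ι ''ᵁ ⊤)) := by rw [Scheme.Opens.ι_image_top]; exact h2
      infer_instance
    exact isOpenImmersion_of_isIso_appTop _

theorem isOpenImmersion_toSpecDirectImage (hf : MoreMor.IsQuasiAffineHom f)
    (c : X ⟶ (QCAlg.directImage f).spec) (e : c ≫ (QCAlg.directImage f).π = f)
    (h : (QCAlg.directImage f).gammaMap = AffAlg.algHom (QCAlg.directImage f).π f c e) :
    IsOpenImmersion c := by
  refine isOpenImmersion_of_isIso_algHom f _ hf c e fun U => ?_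
  rw [← h]
  have := RLpsi8.isIso_gammaMap (QCAlg.directImage f)
  infer_instance

omit [QuasiCompact f] [QuasiSeparated f] in
theorem isQuasiAffineHom_of_isOpenImmersion_into_affine {Z : Scheme.{u}} (p : Z ⟶ S) [IsAffineHom p]
    [QuasiCompact f] (c : X ⟶ Z) [IsImmersion c] (e : c ≫ p = f) :
    MoreMor.IsQuasiAffineHom f := by
  subst e
  refine ⟨inferInstance, fun V hV => ?_⟩
  have : IsAffine (p ⁻¹ᵁ V).toScheme := hV.preimage p
  have : CompactSpace ((c ≫ p) ⁻¹ᵁ V).toScheme :=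
    isCompact_iff_compactSpace.mp ((c ≫ p).isCompact_preimage hV.isCompact)
  have : IsImmersion (c.resLE (p ⁻¹ᵁ V) ((c ≫ p) ⁻¹ᵁ V) le_rfl) := by
    have h1 : IsImmersion (c.resLE (p ⁻¹ᵁ V) ((c ≫ p) ⁻¹ᵁ V) le_rfl ≫ (p ⁻¹ᵁ V).ι) := by
      rw [Scheme.Hom.resLE_comp_ι]; infer_instance
    exact IsImmersion.of_comp _ (p ⁻¹ᵁ V).ι
  exact Scheme.IsQuasiAffine.of_isImmersion (c.resLE (p ⁻¹ᵁ V) ((c ≫ p) ⁻¹ᵁ V) le_rfl)

theorem S9380 : MoreMor.IsQuasiAffineHom f ↔
      ∃ (c : X ⟶ (RelSpec.QCAlg.directImage f).spec) (e : c ≫ (RelSpec.QCAlg.directImage f).π = f),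
        (RelSpec.QCAlg.directImage f).gammaMap = AffAlg.algHom (RelSpec.QCAlg.directImage f).π f c e ∧
          QuasiCompact c ∧ IsOpenImmersion c := by
  constructor
  · intro hf
    obtain ⟨c, e, h⟩ := exists_toSpecDirectImage f
    refine ⟨c, e, h, ?_, isOpenImmersion_toSpecDirectImage f hf c e h⟩
    have : QuasiCompact (c ≫ (QCAlg.directImage f).π) := by rw [e]; infer_instance
    exact QuasiCompact.of_comp c (QCAlg.directImage f).π
  · rintro ⟨c, e, -, hqc, ho⟩
    exact isQuasiAffineHom_of_isOpenImmersion_into_affine f (QCAlg.directImage f).π c e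

end RLpsi8
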