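import Groth.Prelude.Def_RelSpec
import Groth.Agent.Lib.RLpsi8.GammaIso
import Groth.Agent.Lib.AffAlg8.Hom
universe u
open CategoryTheory CategoryTheory.Limits AlgebraicGeometry TopologicalSpace Opposite
set_option backward.isDefEq.respectTransparency false
namespace RLpsi8
open RelSpec GrothLib.AffAlg8

theorem algHom_comp {X Y T S : Scheme.{u}} (g : Y ⟶ S) (h : X ⟶ S) (t : T ⟶ S) (f : X ⟶ Y) (w : f ≫ g = h)
    (x : T ⟶ X) (v : x ≫ h = t) :
    AffAlg.algHom g t (x ≫ f) (by rw [Category.assoc, w, v]) =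
      AffAlg.algHom g h f w ≫ AffAlg.algHom h t x v := by
  subst w v
  apply NatTrans.ext; funext U
  induction U with | op U =>
  rw [NatTrans.comp_app, algHom_app, algHom_app, algHom_app, Scheme.Hom.appLE_comp_appLE]

/-- The algebra map attached to a morphism from a relative spectrum into a scheme over the base. -/
noncomputable def ofHom {X S : Scheme.{u}} (h : X ⟶ S) [QuasiCompact h] [QuasiSeparated h] {C : QCAlg S}
    (x : C.spec ⟶ X) (w : x ≫ h = C.π) : QCAlg.directImage h ⟶ C :=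
  ⟨AffAlg.algHom h C.π x w ≫ C.gammaMap, by
    show h.c ≫ AffAlg.algHom h C.π x w ≫ _ = _
    rw [← Category.assoc, AffAlg.algHom_comm, QCAlg.π_c_gammaMap]⟩

theorem exists_ofHom {X S : Scheme.{u}} (h : X ⟶ S) [IsAffineHom h] {C : QCAlg S}
    (a : QCAlg.directImage h ⟶ C) : ∃ (x : C.spec ⟶ X) (w : x ≫ h = C.π), ofHom h x w = a := by
  have := isIso_gammaMap C
  obtain ⟨x, w, e⟩ := exists_hom h C.π (a.hom ≫ inv C.gammaMap) (by
    rw [← Category.assoc, IsIso.comp_inv_eq, QCAlg.π_c_gammaMap]; exact a.comm)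
  exact ⟨x, w, QCAlg.hom_ext ((IsIso.eq_comp_inv C.gammaMap).1 e)⟩

theorem ofHom_injective {X S : Scheme.{u}} (h : X ⟶ S) [IsAffineHom h] {C : QCAlg S}
    {x₁ x₂ : C.spec ⟶ X} (w₁ : x₁ ≫ h = C.π) (w₂ : x₂ ≫ h = C.π) (e : ofHom h x₁ w₁ = ofHom h x₂ w₂) :
    x₁ = x₂ := by
  have := isIso_gammaMap C
  exact hom_ext h C.π w₁ w₂ ((cancel_mono C.gammaMap).1 (congrArg QCAlg.Hom.hom e))

/-- The map of direct-image algebras of a morphism over the base. -/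
noncomputable abbrev diMap {X Y S : Scheme.{u}} (g : Y ⟶ S) (h : X ⟶ S) [QuasiCompact g] [QuasiSeparated g]
    [QuasiCompact h] [QuasiSeparated h] (f : X ⟶ Y) (w : f ≫ g = h) : QCAlg.directImage g ⟶ QCAlg.directImage h :=
  ⟨AffAlg.algHom g h f w, AffAlg.algHom_comm g h f w⟩

theorem diMap_ofHom {X Y S : Scheme.{u}} (g : Y ⟶ S) (h : X ⟶ S) [QuasiCompact g] [QuasiSeparated g]
    [QuasiCompact h] [QuasiSeparated h] (f : X ⟶ Y) (w : f ≫ g = h) {C : QCAlg S}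
    (x : C.spec ⟶ X) (v : x ≫ h = C.π) :
    diMap g h f w ≫ ofHom h x v = ofHom g (x ≫ f) (by rw [Category.assoc, w, v]) := by
  apply QCAlg.hom_ext
  show AffAlg.algHom g h f w ≫ AffAlg.algHom h C.π x v ≫ C.gammaMap = AffAlg.algHom g C.π (x ≫ f) _ ≫ C.gammaMap
  rw [algHom_comp g h C.π f w x v, Category.assoc]

theorem diMap_comp_eq {X Y T S : Scheme.{u}} (g : Y ⟶ S) (h : X ⟶ S) (t : T ⟶ S) [QuasiCompact g] [QuasiSeparated g]
    [QuasiCompact h] [QuasiSeparated h] [QuasiCompact t] [QuasiSeparated t] (f : X ⟶ Y) (w : f ≫ g = h)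
    (x : T ⟶ X) (v : x ≫ h = t) :
    diMap g h f w ≫ diMap h t x v = diMap g t (x ≫ f) (by rw [Category.assoc, w, v]) :=
  QCAlg.hom_ext (algHom_comp g h t f w x v).symm

theorem isPushout_directImage {X X' Y Z S : Scheme.{u}} (g : Y ⟶ S) [IsAffineHom g]
    (f : X ⟶ Y) [IsAffineHom f] (f' : X' ⟶ Y) [IsAffineHom f'] (p : Z ⟶ X) (p' : Z ⟶ X') [IsAffineHom p]
    (hZ : IsPullback p p' f f') :
    IsPushout
      (C := RelSpec.QCAlg S)
      (⟨AffAlg.algHom g (f ≫ g) f rfl, AffAlg.algHom_comm g (f ≫ g) f rfl⟩ :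
        RelSpec.QCAlg.directImage g ⟶ RelSpec.QCAlg.directImage (f ≫ g))
      (⟨AffAlg.algHom g (f' ≫ g) f' rfl, AffAlg.algHom_comm g (f' ≫ g) f' rfl⟩ :
        RelSpec.QCAlg.directImage g ⟶ RelSpec.QCAlg.directImage (f' ≫ g))
      (⟨AffAlg.algHom (f ≫ g) (p ≫ f ≫ g) p rfl, AffAlg.algHom_comm (f ≫ g) (p ≫ f ≫ g) p rfl⟩ :
        RelSpec.QCAlg.directImage (f ≫ g) ⟶ RelSpec.QCAlg.directImage (p ≫ f ≫ g))
      (⟨AffAlg.algHom (f' ≫ g) (p ≫ f ≫ g) p'
          ((Category.assoc p' f' g).symm.trans ((congrArg (· ≫ g) hZ.w.symm).trans (Category.assoc p f g))),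
        AffAlg.algHom_comm (f' ≫ g) (p ≫ f ≫ g) p'
          ((Category.assoc p' f' g).symm.trans ((congrArg (· ≫ g) hZ.w.symm).trans (Category.assoc p f g)))⟩ :
        RelSpec.QCAlg.directImage (f' ≫ g) ⟶ RelSpec.QCAlg.directImage (p ≫ f ≫ g)) := by
  have hw : p' ≫ f' ≫ g = p ≫ f ≫ g :=
    (Category.assoc p' f' g).symm.trans ((congrArg (· ≫ g) hZ.w.symm).trans (Category.assoc p f g))
  let aX := diMap g (f ≫ g) f rfl
  let aX' := diMap g (f' ≫ g) f' rfl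
  let bX := diMap (f ≫ g) (p ≫ f ≫ g) p rfl
  let bX' := diMap (f' ≫ g) (p ≫ f ≫ g) p' hw
  show IsPushout aX aX' bX bX'
  have hsq : aX ≫ bX = aX' ≫ bX' := by
    simp only [aX, aX', bX, bX', diMap_comp_eq, hZ.w]
  have key : ∀ s : PushoutCocone aX aX', ∃ d : QCAlg.directImage (p ≫ f ≫ g) ⟶ s.pt,
      bX ≫ d = s.inl ∧ bX' ≫ d = s.inr ∧ ∀ m, bX ≫ m = s.inl → bX' ≫ m = s.inr → m = d := by
    intro s
    obtain ⟨x, wx, hx⟩ := exists_ofHom (f ≫ g) s.inl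
    obtain ⟨x', wx', hx'⟩ := exists_ofHom (f' ≫ g) s.inr
    have hxx : x ≫ f = x' ≫ f' := by
      refine ofHom_injective g (by rw [Category.assoc]; exact wx) (by rw [Category.assoc]; exact wx') ?_
      rw [← diMap_ofHom g (f ≫ g) f rfl x wx, ← diMap_ofHom g (f' ≫ g) f' rfl x' wx', hx, hx']
      exact s.condition
    have wz : hZ.lift x x' hxx ≫ p ≫ f ≫ g = s.pt.π := by rw [hZ.lift_fst_assoc]; exact wx
    refine ⟨ofHom (p ≫ f ≫ g) (hZ.lift x x' hxx) wz, ?_, ?_, fun m hm hm' => ?_⟩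
    · rw [← hx]; simp only [bX, diMap_ofHom, hZ.lift_fst]
    · rw [← hx']; simp only [bX', diMap_ofHom, hZ.lift_snd]
    · obtain ⟨z, vz, rfl⟩ := exists_ofHom (p ≫ f ≫ g) m
      have h1 : z ≫ p = x := ofHom_injective (f ≫ g) (by rw [Category.assoc]; exact vz) wx
        ((diMap_ofHom (f ≫ g) _ p rfl z vz).symm.trans (hm.trans hx.symm))
      have h2 : z ≫ p' = x' := ofHom_injective (f' ≫ g) (by rw [Category.assoc, hw]; exact vz) wx'
        ((diMap_ofHom (f' ≫ g) _ p' hw z vz).symm.trans (hm'.trans hx'.symm))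
      subst h1 h2
      have : hZ.lift (z ≫ p) (z ≫ p') hxx = z := hZ.hom_ext (hZ.lift_fst _ _ _) (hZ.lift_snd _ _ _)
      simp only [this]
  choose d hd1 hd2 hd3 using key
  exact ⟨⟨hsq⟩, ⟨PushoutCocone.IsColimit.mk _ d hd1 hd2 hd3⟩⟩

end RLpsi8
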