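import Groth.Agent.Lib.RLpsi8.ReesAlg
import Groth.Agent.Lib.RelProjK.GlueProj
import Groth.Agent.Lib.RelProjK.MapProps
import Groth.Agent.Lib.BlowUp.Exists
import Groth.Agent.Lib.Nagata6.Modification
import Groth.Agent.Lib.Nagata6.Charts

/-!
# Blow-ups in finite type ideals are projective
-/

set_option autoImplicit false
set_option backward.isDefEq.respectTransparency false

universe u

open CategoryTheory AlgebraicGeometry TopologicalSpace Limits Opposite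
open scoped HomogeneousIdeal

noncomputable section

namespace GrothLib.RLpsi8.ReesAlg

theorem isBlowUp_morphismRestrict {X X' : Scheme.{u}} {I : X.IdealSheafData} {b : X' ⟶ X}
    (hb : _root_.BlowUp.IsBlowUp b I) (U : X.Opens) :
    _root_.BlowUp.IsBlowUp (b ∣_ U) (I.comap U.ι) := by
  have h := GrothLib.BlowUp.isBlowUp_flat_baseChange U.ι hb
  let e := (isPullback_morphismRestrict b U).isoPullback
  have he : e.hom ≫ pullback.fst U.ι b = b ∣_ U := (isPullback_morphismRestrict b U).isoPullback_hom_fst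
  rw [← he]
  exact GrothLib.Nagata6.isBlowUp_iso_comp e.hom h

variable {X : Scheme.{u}} {I : X.IdealSheafData} {𝒮 : RelProj.QCGrAlg X}
  {P : Scheme.{u}} {p : P ⟶ X}
  {chart : ∀ (U : X.Opens) (hU : IsAffineOpen U), ((p ⁻¹ᵁ U : P.Opens) : Scheme.{u}) ≅ Proj (𝒮.deg U hU)}

theorem isBlowUp_restrict_of_isRees (h𝒮 : IsRees I 𝒮) (hp : RelProj.IsRelProj 𝒮 p chart)
    (U : X.Opens) (hU : IsAffineOpen U) : _root_.BlowUp.IsBlowUp (p ∣_ U) (I.comap U.ι) := by
  obtain ⟨e, hes, hed⟩ := h𝒮 U hU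
  let J : Ideal Γ(X, U) := I.ideal ⟨U, hU⟩
  let eG : Rees.deg (reesAlgebra J) →+*ᵍ 𝒮.deg U hU :=
    { e.toRingHom with map_mem := fun hx => (hed _ _).2 hx }
  have hirr : (𝒮.deg U hU)₊ ≤ ((Rees.deg (reesAlgebra J))₊).map eG := by
    rw [HomogeneousIdeal.irrelevant_le]
    intro i hi b hb
    obtain ⟨a, rfl⟩ := e.surjective b
    exact Ideal.mem_map_of_mem _ (HomogeneousIdeal.mem_irrelevant_of_mem _ hi ((hed i a).1 hb))
  haveI : IsIso (Proj.map eG hirr) := by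
    refine RelProjK.isIso_map_of_bijOn eG hirr fun n _ => ⟨fun a ha => (hed n a).2 ha,
      e.injective.injOn, fun b hb => ?_⟩
    obtain ⟨a, rfl⟩ := e.surjective b
    exact ⟨a, (hed n a).1 hb, rfl⟩
  have hpr := GrothLib.BlowUp.isBlowUp_proj J
  rw [← GrothLib.Nagata6.comap_fromSpec I ⟨U, hU⟩] at hpr
  have h1 := GrothLib.Nagata6.isBlowUp_iso_comp ((chart U hU).hom ≫ Proj.map eG hirr) hpr
  have h2 := GrothLib.BlowUp.isBlowUp_flat_baseChange hU.isoSpec.hom h1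
  have hq : ((chart U hU).hom ≫ Proj.map eG hirr) ≫
      (Proj (Rees.deg (reesAlgebra J)) ↘ Spec (CommRingCat.of Γ(X, U))) = (p ∣_ U) ≫ hU.isoSpec.hom := by
    rw [← cancel_mono hU.fromSpec, Category.assoc, Category.assoc, Category.assoc, hU.isoSpec_hom_fromSpec, morphismRestrict_ι, ← hp.chart_over U hU]
    show _ ≫ _ ≫ (Proj.toSpecZero _ ≫ Spec.map _) ≫ _ = _
    rw [Category.assoc, ← Category.assoc (Proj.map eG hirr), RelProjK.map_toSpecZero, Category.assoc,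
      ← Spec.map_comp_assoc]
    refine congrArg (fun k => (chart U hU).hom ≫ Proj.toSpecZero (𝒮.deg U hU) ≫ Spec.map k ≫ hU.fromSpec) ?_
    exact CommRingCat.hom_ext (RingHom.ext fun r => Subtype.ext (hes r))
  have hpb : IsPullback (p ∣_ U) (𝟙 (p ⁻¹ᵁ U).toScheme) hU.isoSpec.hom
      (((chart U hU).hom ≫ Proj.map eG hirr) ≫
        (Proj (Rees.deg (reesAlgebra J)) ↘ Spec (CommRingCat.of Γ(X, U)))) :=
    IsPullback.of_vert_isIso ⟨by rw [hq, Category.id_comp]⟩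
  have hc : hU.isoSpec.hom ≫ hU.fromSpec = U.ι := hU.isoSpec_hom_fromSpec
  rw [← hpb.isoPullback_hom_fst]
  have h3 := GrothLib.Nagata6.isBlowUp_iso_comp hpb.isoPullback.hom h2
  rwa [← Scheme.IdealSheafData.comap_comp, hc] at h3

theorem exists_iso_relProj {X' : Scheme.{u}} {b : X' ⟶ X} (hb : _root_.BlowUp.IsBlowUp b I)
    (h𝒮 : IsRees I 𝒮) (hp : RelProj.IsRelProj 𝒮 p chart) : ∃ e : X' ≅ P, e.hom ≫ p = b := by
  have hE : _root_.BlowUp.IsEffCartierIdeal (I.comap p) := by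
    refine GrothLib.BlowUp.isEffCartierIdeal_of_forall_exists_open fun y => ?_
    obtain ⟨U, hU, -⟩ := GrothLib.BlowUp.exists_affine_mem_le (W := (⊤ : X.Opens)) (x := p y) trivial
    refine ⟨p ⁻¹ᵁ U.1, hU, ?_⟩
    have := (isBlowUp_restrict_of_isRees h𝒮 hp U.1 U.2).1
    rwa [← Scheme.IdealSheafData.comap_comp, morphismRestrict_ι, Scheme.IdealSheafData.comap_comp] at this
  obtain ⟨h, hh, -⟩ := hb.2 P p hE
  subst hh
  have hloc : ∀ U : X.affineOpens, IsIso (h ∣_ (b ⁻¹ᵁ U.1)) := by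
    intro U
    have hbU := isBlowUp_morphismRestrict hb U.1
    have hpU := isBlowUp_restrict_of_isRees h𝒮 hp U.1 U.2
    obtain ⟨e, he⟩ := GrothLib.BlowUp.exists_iso_of_isBlowUp hpU hbU
    have : h ∣_ (b ⁻¹ᵁ U.1) = e.hom := by
      refine GrothLib.BlowUp.hom_ext hbU ?_ ?_
      · exact ((morphismRestrict_comp h b U.1).symm.trans he.symm)
      · rw [← morphismRestrict_comp]; exact hpU.1
    rw [this]; infer_instance
  have : IsIso h := by
    refine IsZariskiLocalAtTarget.of_iSup_eq_top (P := MorphismProperty.isomorphisms Scheme.{u})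
      (fun U : X.affineOpens => b ⁻¹ᵁ U.1) ?_ hloc
    rw [← Scheme.Hom.preimage_iSup, iSup_affineOpens_eq_top X, Scheme.Hom.preimage_top]
  exact ⟨(asIso h).symm, IsIso.inv_hom_id_assoc h b⟩

theorem isProjective_of_isBlowUp {X' : Scheme.{u}} (hI : _root_.BlowUp.IsFiniteTypeIdeal I)
    {b : X' ⟶ X} (hb : _root_.BlowUp.IsBlowUp b I) : RelProj.IsProjective b := by
  obtain ⟨𝒮, h𝒮⟩ := exists_isRees I
  obtain ⟨P, p, chart, hp⟩ : ∃ (P : Scheme.{u}) (p : P ⟶ X)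
      (chart : ∀ (U : X.Opens) (hU : IsAffineOpen U), ((p ⁻¹ᵁ U : P.Opens) : Scheme.{u}) ≅ Proj (𝒮.deg U hU)),
      RelProj.IsRelProj 𝒮 p chart := ⟨_, _, _, RelProjK.isRelProj_proj 𝒮⟩
  obtain ⟨e, he⟩ := exists_iso_relProj hb h𝒮 hp
  exact ⟨𝒮, P, p, chart, e, h𝒮.isGenDegOne, h𝒮.isFTDeg_one hI, hp, he⟩

end GrothLib.RLpsi8.ReesAlg
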