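import Groth.Prelude.Def_EGA4Misc
import Mathlib.AlgebraicGeometry.Fiber
import Mathlib.AlgebraicGeometry.Morphisms.UniversallyOpen

/-!
# Birational morphisms under flat base change
-/

set_option autoImplicit false

universe u

open CategoryTheory CategoryTheory.Limits AlgebraicGeometry

namespace RLpsi8.BiratBC

variable {X Y X' Y' : Scheme.{u}}

theorem mem_genericPoints_iff {T : Type u} [TopologicalSpace T] [QuasiSober T] [T0Space T] {x : T} :
    x ∈ genericPoints T ↔ ∀ z : T, z ⤳ x → z = x := by
  constructor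
  · intro hx z hz
    refine (hz.antisymm (specializes_iff_mem_closure.2 ?_)).eq
    have h1 : closure {x} ⊆ closure {z} := closure_minimal
      (Set.singleton_subset_iff.2 (specializes_iff_mem_closure.1 hz)) isClosed_closure
    exact hx.2 isIrreducible_singleton.closure h1 (subset_closure rfl)
  · intro h
    refine ⟨isIrreducible_singleton.closure, fun C hC hxC => ?_⟩
    obtain ⟨c, hc⟩ := QuasiSober.sober hC.closure isClosed_closure
    have hcx : c ⤳ x := hc.specializes (subset_closure (hxC (subset_closure rfl)))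
    rw [← h c hcx, hc.def]
    exact subset_closure

theorem isGenericMax_image (g : Y' ⟶ Y) [Flat g] {y' : Y'} (h : ∀ z, z ⤳ y' → z = y') :
    ∀ z, z ⤳ g y' → z = g y' := by
  intro z hz
  obtain ⟨z', hz', rfl⟩ := Flat.generalizingMap g hz
  rw [h z' hz']

theorem isBirational_of_flat {f : X ⟶ Y} {g : Y' ⟶ Y} [Flat g] {f' : X' ⟶ Y'} {g' : X' ⟶ X}
    (sq : IsPullback g' f' f g) (hf : RadPt.IsBirational f) : RadPt.IsBirational f' := by
  haveI : Flat g' := MorphismProperty.of_isPullback sq.flip inferInstance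
  have hcomm : ∀ z, f (g' z) = g (f' z) := fun z => by
    rw [← Scheme.Hom.comp_apply, ← Scheme.Hom.comp_apply, sq.w]
  -- analysis over one maximal point of `Y`
  have key : ∀ y ∈ genericPoints Y, ∀ y' : Y', g y' = y →
      (∃ x', f' x' = y') ∧ (∀ a b, f' a = y' → f' b = y' → a = b) ∧
      (∀ a, f' a = y' → Function.Bijective (f'.residueFieldMap a).hom) ∧
      (∀ a y'', f' a = y' → y'' ⤳ y' → g y'' = y → ∃ b, f' b = y'' ∧ b ⤳ a) := by
    intro y hy
    obtain ⟨x, hx, hxy⟩ := hf.1.surjOn hy
    have huniq := (hf.2 y hy).1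
    subst hxy
    haveI : IsIso (f.residueFieldMap x) := by
      rw [ConcreteCategory.isIso_iff_bijective]
      exact (hf.2 _ hy).2 x rfl
    let ψ : Spec (Y.residueField (f x)) ⟶ X := Spec.map (inv (f.residueFieldMap x)) ≫ X.fromSpecResidueField x
    have hψ : ψ ≫ f = Y.fromSpecResidueField (f x) := by
      simp only [ψ, Category.assoc, ← Scheme.Hom.SpecMap_residueFieldMap_fromSpecResidueField, ← Spec.map_comp_assoc,
        IsIso.hom_inv_id, Spec.map_id, Category.id_comp]
    let σ : g.fiber (f x) ⟶ X' := sq.lift (g.fiberToSpecResidueField (f x) ≫ ψ) (g.fiberι (f x))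
      (by rw [Category.assoc, hψ, g.fiber_fac])
    have hσ' : σ ≫ f' = g.fiberι (f x) := sq.lift_snd _ _ _
    have hσg : σ ≫ g' = g.fiberToSpecResidueField (f x) ≫ ψ := sq.lift_fst _ _ _
    have hfac : ∀ a : X', g (f' a) = f x → ∃ r : Spec (X'.residueField a) ⟶ g.fiber (f x),
        r ≫ g.fiberι (f x) = X'.fromSpecResidueField a ≫ f' ∧ r ≫ σ = X'.fromSpecResidueField a := by
      intro a ha
      have hga : g' a = x := huniq _ _ ((hcomm a).trans ha) rfl
      subst hga
      let r : Spec (X'.residueField a) ⟶ g.fiber (f (g' a)) :=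
        pullback.lift (X'.fromSpecResidueField a ≫ f')
          (Spec.map (g'.residueFieldMap a) ≫ Spec.map (f.residueFieldMap (g' a))) (by
            rw [Category.assoc, ← sq.w, ← Scheme.Hom.SpecMap_residueFieldMap_fromSpecResidueField_assoc,
              Category.assoc, Scheme.Hom.SpecMap_residueFieldMap_fromSpecResidueField])
      have h1 : r ≫ g.fiberι (f (g' a)) = X'.fromSpecResidueField a ≫ f' := pullback.lift_fst _ _ _
      have h2 : r ≫ g.fiberToSpecResidueField (f (g' a)) =
          Spec.map (g'.residueFieldMap a) ≫ Spec.map (f.residueFieldMap (g' a)) := pullback.lift_snd _ _ _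
      refine ⟨r, h1, sq.hom_ext ?_ ?_⟩
      · rw [Category.assoc, hσg, reassoc_of% h2, ← Scheme.Hom.SpecMap_residueFieldMap_fromSpecResidueField]
        simp only [ψ, ← Spec.map_comp_assoc, IsIso.inv_hom_id, Category.id_comp]
      · rw [Category.assoc, hσ', h1]
    intro y' hy'
    obtain ⟨z, hz⟩ : ∃ z, g.fiberι (f x) z = y' := by
      have : y' ∈ Set.range (g.fiberι (f x)) := by rw [g.range_fiberι]; exact hy'
      exact this
    have hat : ∀ a w, f' a = g.fiberι (f x) w → a = σ w := by
      intro a w haw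
      have hgw : g (g.fiberι (f x) w) = f x := by
        have : g.fiberι (f x) w ∈ g ⁻¹' {f x} := g.range_fiberι (f x) ▸ ⟨w, rfl⟩
        exact this
      obtain ⟨r, hr1, hr2⟩ := hfac a (by rw [haw]; exact hgw)
      have hw : r (IsLocalRing.closedPoint _) = w := by
        apply (g.fiberι (f x)).isEmbedding.injective
        rw [← Scheme.Hom.comp_apply, hr1, Scheme.Hom.comp_apply, Scheme.fromSpecResidueField_apply, haw]
      rw [← hw, ← Scheme.Hom.comp_apply, hr2, Scheme.fromSpecResidueField_apply]
    refine ⟨⟨σ z, ?_⟩, fun a b ha hb => ?_, fun a ha => ?_, fun a y'' ha hsp hy'' => ?_⟩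
    · rw [← Scheme.Hom.comp_apply, hσ', hz]
    · rw [hat a z (ha.trans hz.symm), hat b z (hb.trans hz.symm)]
    · refine ⟨RingHom.injective _, ?_⟩
      subst ha
      have hq : Y'.fromSpecResidueField (f' a) ≫ g =
          (Spec.map ((Y.residueFieldCongr hy').inv ≫ g.residueFieldMap (f' a))) ≫ Y.fromSpecResidueField (f x) := by
        rw [Spec.map_comp, Category.assoc, Scheme.residueFieldCongr_inv,
          Scheme.residueFieldCongr_fromSpecResidueField, Scheme.Hom.SpecMap_residueFieldMap_fromSpecResidueField]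
      let s : Spec (Y'.residueField (f' a)) ⟶ g.fiber (f x) := pullback.lift (Y'.fromSpecResidueField (f' a)) _ hq
      have hs : s ≫ g.fiberι (f x) = Y'.fromSpecResidueField (f' a) := pullback.lift_fst _ _ _
      obtain ⟨r, hr1, hr2⟩ := hfac a hy'
      have hr : r = Spec.map (f'.residueFieldMap a) ≫ s := by
        rw [← cancel_mono (g.fiberι (f x)), hr1, Category.assoc, hs,
          Scheme.Hom.SpecMap_residueFieldMap_fromSpecResidueField]
      -- the point `a` as a morphism through `s ≫ σ`
      have hpt : (s ≫ σ) (IsLocalRing.closedPoint _) = a := by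
        rw [Scheme.Hom.comp_apply]
        refine (hat a _ ?_).symm
        rw [← Scheme.Hom.comp_apply, hs, Scheme.fromSpecResidueField_apply]
      obtain ⟨φ, hφ⟩ : ∃ φ : X'.residueField a ⟶ Y'.residueField (f' a),
          Spec.map φ ≫ X'.fromSpecResidueField a = s ≫ σ := by
        obtain ⟨⟨x₁, φ₁⟩, he⟩ := (Scheme.SpecToEquivOfField (Y'.residueField (f' a)) X').symm.surjective (s ≫ σ)
        have he' : Spec.map φ₁ ≫ X'.fromSpecResidueField x₁ = s ≫ σ := he
        have hx₁ : x₁ = a := by
          rw [← hpt, ← he', Scheme.Hom.comp_apply, Scheme.fromSpecResidueField_apply]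
        subst hx₁
        exact ⟨φ₁, he'⟩
      have hid : φ ≫ f'.residueFieldMap a = 𝟙 _ := by
        apply Spec.map_injective
        rw [← cancel_mono (X'.fromSpecResidueField a), Spec.map_comp, Category.assoc, hφ,
          reassoc_of% hr.symm, hr2, Spec.map_id, Category.id_comp]
      intro w
      exact ⟨φ w, ConcreteCategory.congr_hom hid w⟩
    · obtain ⟨z'', hz''⟩ : ∃ w, g.fiberι (f x) w = y'' := by
        have : y'' ∈ Set.range (g.fiberι (f x)) := by rw [g.range_fiberι]; exact hy''
        exact this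
      refine ⟨σ z'', by rw [← Scheme.Hom.comp_apply, hσ', hz''], ?_⟩
      rw [hat a z (ha.trans hz.symm)]
      refine Specializes.map ?_ σ.continuous
      rw [← (g.fiberι (f x)).isEmbedding.isInducing.specializes_iff, hz, hz'']
      exact hsp
  have hmax : ∀ a ∈ genericPoints X', f' a ∈ genericPoints Y' ∧ g (f' a) ∈ genericPoints Y := by
    intro a ha
    have hx : g' a ∈ genericPoints X := mem_genericPoints_iff.2
      (isGenericMax_image g' (mem_genericPoints_iff.1 ha))
    have hy : g (f' a) ∈ genericPoints Y := hcomm a ▸ hf.1.mapsTo hx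
    refine ⟨mem_genericPoints_iff.2 fun y'' hy'' => ?_, hy⟩
    obtain ⟨b, hb, hba⟩ := (key _ hy (f' a) rfl).2.2.2 a y'' rfl hy''
      (mem_genericPoints_iff.1 hy _ (hy''.map g.continuous))
    rw [← hb, mem_genericPoints_iff.1 ha b hba]
  have hgen : ∀ y' ∈ genericPoints Y', g y' ∈ genericPoints Y := fun y' hy' =>
    mem_genericPoints_iff.2 (isGenericMax_image g (mem_genericPoints_iff.1 hy'))
  refine ⟨⟨fun a ha => (hmax a ha).1, fun a ha b hb hab => ?_, fun y' hy' => ?_⟩, fun y' hy' => ?_⟩
  · exact (key _ (hmax a ha).2 _ rfl).2.1 a b rfl hab.symm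
  · obtain ⟨a, ha⟩ := (key _ (hgen y' hy') y' rfl).1
    refine ⟨a, mem_genericPoints_iff.2 fun b hb => ?_, ha⟩
    have : f' b = y' := mem_genericPoints_iff.1 hy' _ (ha ▸ hb.map f'.continuous)
    exact (key _ (hgen y' hy') y' rfl).2.1 b a this ha
  · exact ⟨(key _ (hgen y' hy') y' rfl).2.1, (key _ (hgen y' hy') y' rfl).2.2.1⟩

end RLpsi8.BiratBC
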