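import Groth.Prelude.Def_EGA4Misc
import Groth.Agent.Lib.GeomUnib.Criterion
import Groth.Agent.Lib.BrnchNhd.Equiv
import Groth.Agent.Lib.RLpsi8.BiratBC
import Mathlib.FieldTheory.PurelyInseparable.Basic
import Mathlib.FieldTheory.IsAlgClosed.AlgebraicClosure

/-!
# Geometric unibranchness along a birational integral ring map
-/

set_option autoImplicit false
set_option backward.isDefEq.respectTransparency false

universe u

open CategoryTheory AlgebraicGeometry IsLocalRing

namespace RLpsi8.UnibRad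

variable {B C : Type u} [CommRing B] [CommRing C] [IsLocalRing B] (φ : B →+* C)

/-- Radicial over the closed point, on field valued points. -/
def RadAtRing : Prop :=
  ∀ (K : Type u) [Field K] (f g : C →+* K), f.comp φ = g.comp φ →
    (∀ b ∈ maximalIdeal B, f (φ b) = 0) → f = g

theorem isIntegralElem_map {A B D : Type u} [CommRing A] [CommRing B] [CommRing D] (φ : A →+* B)
    (g : B →+* D) {x : B} (h : φ.IsIntegralElem x) : (g.comp φ).IsIntegralElem (g x) := by
  obtain ⟨p, hp, hx⟩ := h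
  exact ⟨p, hp, by rw [← Polynomial.hom_eval₂, hx, map_zero]⟩

theorem ev_naturality {B C : Type u} [CommRing B] [CommRing C] (φ : B →+* C)
    (P : Spec (CommRingCat.of C)) (b : B) :
    ((Spec.map (CommRingCat.ofHom φ)).residueFieldMap P).hom
      ((Spec (CommRingCat.of B)).Γevaluation (Spec.map (CommRingCat.ofHom φ) P)
        ((Scheme.ΓSpecIso (CommRingCat.of B)).inv b)) =
      (Spec (CommRingCat.of C)).Γevaluation P ((Scheme.ΓSpecIso (CommRingCat.of C)).inv (φ b)) := by
  refine (Scheme.Γevaluation_naturality_apply (Spec.map (CommRingCat.ofHom φ)) P _).trans ?_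
  congr 1
  exact (ConcreteCategory.congr_hom (Scheme.ΓSpecIso_inv_naturality (CommRingCat.ofHom φ)) b).symm

theorem ev_eq {B : Type u} [CommRing B] (p : Spec (CommRingCat.of B)) (b : B) :
    (Spec (CommRingCat.of B)).Γevaluation p ((Scheme.ΓSpecIso (CommRingCat.of B)).inv b) =
      (Scheme.Spec.residueFieldIso (CommRingCat.of B) p).inv (algebraMap B p.asIdeal.ResidueField b) :=
  (ConcreteCategory.congr_hom (Scheme.Spec.algebraMap_residueFieldIso_inv (CommRingCat.of B) p) b).symm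

/-- The fractions condition from bijectivity of the residue field map. -/
theorem exists_fraction {B C : Type u} [CommRing B] [CommRing C] (φ : B →+* C)
    (P : PrimeSpectrum C)
    (h : Function.Surjective ((Spec.map (CommRingCat.ofHom φ)).residueFieldMap P).hom) (c : C) :
    ∃ a b : B, φ b ∉ P.asIdeal ∧ φ b * c - φ a ∈ P.asIdeal := by
  let p : Spec (CommRingCat.of B) := Spec.map (CommRingCat.ofHom φ) P
  obtain ⟨w, hw⟩ := h ((Spec (CommRingCat.of C)).Γevaluation P ((Scheme.ΓSpecIso (CommRingCat.of C)).inv c))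
  obtain ⟨z, rfl⟩ : ∃ z, (Scheme.Spec.residueFieldIso (CommRingCat.of B) p).inv z = w :=
    (ConcreteCategory.bijective_of_isIso _).2 w
  obtain ⟨⟨x⟩⟩ : Nonempty (p.asIdeal.ResidueField) := ⟨0⟩
  obtain ⟨a, b, hb, hab⟩ := IsFractionRing.div_surjective (A := B ⧸ p.asIdeal) z
  obtain ⟨a, rfl⟩ := Ideal.Quotient.mk_surjective a
  obtain ⟨b, rfl⟩ := Ideal.Quotient.mk_surjective b
  have hbp : φ b ∉ P.asIdeal := fun hbP => nonZeroDivisors.ne_zero hb
    (Ideal.Quotient.eq_zero_iff_mem.2 (show b ∈ p.asIdeal from hbP))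
  refine ⟨a, b, hbp, ?_⟩
  have h2 : z * algebraMap B p.asIdeal.ResidueField b = algebraMap B p.asIdeal.ResidueField a := by
    rw [← hab]
    show algebraMap (B ⧸ p.asIdeal) p.asIdeal.ResidueField _ / algebraMap (B ⧸ p.asIdeal) p.asIdeal.ResidueField _
      * _ = _
    rw [IsScalarTower.algebraMap_apply B (B ⧸ p.asIdeal) p.asIdeal.ResidueField,
      IsScalarTower.algebraMap_apply B (B ⧸ p.asIdeal) p.asIdeal.ResidueField]
    exact div_mul_cancel₀ _ ((map_ne_zero_iff _ (IsFractionRing.injective (B ⧸ p.asIdeal) _)).2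
      (nonZeroDivisors.ne_zero hb))
  have h3 := congrArg (fun t => ((Spec.map (CommRingCat.ofHom φ)).residueFieldMap P).hom
    ((Scheme.Spec.residueFieldIso (CommRingCat.of B) p).inv t)) h2
  simp only [map_mul] at h3
  rw [← ev_eq p b, ← ev_eq p a] at h3
  erw [ev_naturality, ev_naturality] at h3
  erw [hw] at h3
  rw [ev_eq, ev_eq, ev_eq, ← map_mul, ← map_mul] at h3
  have h4 := (ConcreteCategory.bijective_of_isIso
    (Scheme.Spec.residueFieldIso (CommRingCat.of C) P).inv).1 h3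
  rw [← Ideal.algebraMap_residueField_eq_zero, map_sub, h4.symm, mul_comm (φ b) c, map_mul, sub_self]

theorem radAtRing_of_pow (q : ℕ) (hq : ∀ (K : Type u) [Field K] (f : B →+* K),
      (∀ b ∈ maximalIdeal B, f b = 0) → ExpChar K q) (Q : Ideal C) [Q.IsPrime]
    (hQ : ∀ Q' : Ideal C, Q'.IsPrime → Q'.comap φ = maximalIdeal B → Q' = Q)
    (hpow : ∀ c, ∃ (n : ℕ) (a : B), c ^ q ^ n - φ a ∈ Q) : RadAtRing φ := by
  intro K _ f g hfg hf
  have hker : ∀ h : C →+* K, (∀ b ∈ maximalIdeal B, h (φ b) = 0) → RingHom.ker h = Q := fun h hh => by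
    haveI := RingHom.ker_isPrime h
    refine hQ _ inferInstance ((maximalIdeal.isMaximal B).eq_of_le ?_ fun b hb => hh b hb).symm
    exact Ideal.IsPrime.ne_top inferInstance
  have hg : ∀ b ∈ maximalIdeal B, g (φ b) = 0 := fun b hb => by
    rw [← RingHom.comp_apply, ← hfg]; exact hf b hb
  haveI := hq K (f.comp φ) hf
  ext c
  obtain ⟨n, a, ha⟩ := hpow c
  have h1 : f (c ^ q ^ n - φ a) = 0 := by rw [← RingHom.mem_ker, hker f hf]; exact ha
  have h2 : g (c ^ q ^ n - φ a) = 0 := by rw [← RingHom.mem_ker, hker g hg]; exact ha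
  rw [map_sub, map_pow, sub_eq_zero] at h1 h2
  refine iterateFrobenius_inj K q n ?_
  rw [iterateFrobenius_def, iterateFrobenius_def, h1, h2]
  exact RingHom.congr_fun hfg a

theorem expChar_of_local (K : Type u) [Field K] (f : B →+* K) (h : ∀ b ∈ maximalIdeal B, f b = 0) :
    ExpChar K (ringExpChar (ResidueField B)) :=
  let g : ResidueField B →+* K := Ideal.Quotient.lift (maximalIdeal B) f h
  expChar_of_injective_ringHom g.injective _

theorem isLocalRing_and_pow_of_radAtRing [Nontrivial C] (hint : φ.IsIntegral) (h : RadAtRing φ) :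
    ∃ _ : IsLocalRing C, ∀ c, ∃ (n : ℕ) (a : B),
      c ^ ringExpChar (ResidueField B) ^ n - φ a ∈ maximalIdeal C := by
  let k := ResidueField B
  let Ω := AlgebraicClosure k
  letI algB : Algebra B C := φ.toAlgebra
  have hover : ∀ Q : Ideal C, Q.IsMaximal → Q.comap φ = maximalIdeal B := fun Q hQ =>
    eq_maximalIdeal (Ideal.isMaximal_comap_of_isIntegral_of_isMaximal' φ hint Q)
  have hcl : ∀ (Q : Ideal C) [Q.IsMaximal],
      ∃ (_ : Algebra k (C ⧸ Q)), Algebra.IsAlgebraic k (C ⧸ Q) ∧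
        ∀ b, algebraMap k (C ⧸ Q) (residue B b) = Ideal.Quotient.mk Q (φ b) := by
    intro Q _
    let ρ : k →+* C ⧸ Q := Ideal.Quotient.lift (maximalIdeal B) ((Ideal.Quotient.mk Q).comp φ)
      fun b hb => Ideal.Quotient.eq_zero_iff_mem.2 (show b ∈ Q.comap φ from (hover Q inferInstance).ge hb)
    refine ⟨ρ.toAlgebra, ?_, fun b => rfl⟩
    letI := ρ.toAlgebra
    refine ⟨fun x => IsIntegral.isAlgebraic ?_⟩
    obtain ⟨c, rfl⟩ := Ideal.Quotient.mk_surjective x
    exact RingHom.IsIntegralElem.of_comp (f := residue B) (g := ρ)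
      (isIntegralElem_map φ (Ideal.Quotient.mk Q) (hint c))
  have hloc : ∀ Q Q' : Ideal C, Q.IsMaximal → Q'.IsMaximal → Q = Q' := by
    intro Q Q' _ _
    obtain ⟨_, _, h1⟩ := hcl Q
    obtain ⟨_, _, h2⟩ := hcl Q'
    letI := Ideal.Quotient.field Q
    letI := Ideal.Quotient.field Q'
    let e : C ⧸ Q →ₐ[k] Ω := IsAlgClosed.lift
    let e' : C ⧸ Q' →ₐ[k] Ω := IsAlgClosed.lift
    have := h Ω (e.toRingHom.comp (Ideal.Quotient.mk Q)) (e'.toRingHom.comp (Ideal.Quotient.mk Q'))
      (by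
        ext b
        show e (Ideal.Quotient.mk Q (φ b)) = e' (Ideal.Quotient.mk Q' (φ b))
        rw [← h1, ← h2, AlgHom.commutes, AlgHom.commutes])
      fun b hb => by
        show e (Ideal.Quotient.mk Q (φ b)) = 0
        rw [← h1, (residue_eq_zero_iff b).2 hb, map_zero, map_zero]
    have hk := congrArg RingHom.ker this
    rwa [RingHom.ker_comp_of_injective _ e.toRingHom.injective,
      RingHom.ker_comp_of_injective _ e'.toRingHom.injective, Ideal.mk_ker, Ideal.mk_ker] at hk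
  haveI : IsLocalRing C := by
    obtain ⟨M, hM⟩ := Ideal.exists_maximal C
    exact IsLocalRing.of_unique_max_ideal ⟨M, hM, fun Q hQ => hloc Q M hQ hM⟩
  refine ⟨inferInstance, fun c => ?_⟩
  obtain ⟨inst, halg, h1⟩ := hcl (maximalIdeal C)
  letI := Ideal.Quotient.field (maximalIdeal C)
  haveI := halg
  have hpi : IsPurelyInseparable k (C ⧸ maximalIdeal C) := by
    refine (isPurelyInseparable_iff_subsingleton_emb k (C ⧸ maximalIdeal C)).2 ⟨fun σ τ => ?_⟩
    have hb : ∀ b, σ (Ideal.Quotient.mk (maximalIdeal C) (φ b)) = algebraMap k (AlgebraicClosure (C ⧸ maximalIdeal C)) (residue B b) :=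
      fun b => by rw [← h1, AlgHom.commutes]
    have := h (AlgebraicClosure (C ⧸ maximalIdeal C)) (σ.toRingHom.comp (Ideal.Quotient.mk _))
      (τ.toRingHom.comp (Ideal.Quotient.mk _))
      (by
        ext b
        show σ (Ideal.Quotient.mk _ (φ b)) = τ (Ideal.Quotient.mk _ (φ b))
        rw [← h1, AlgHom.commutes, AlgHom.commutes])
      fun b hb' => by
        show σ (Ideal.Quotient.mk _ (φ b)) = 0
        rw [hb, (residue_eq_zero_iff b).2 hb', map_zero]
    ext x
    obtain ⟨c, rfl⟩ := Ideal.Quotient.mk_surjective x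
    exact RingHom.congr_fun this c
  obtain ⟨n, z, hz⟩ := (isPurelyInseparable_iff_pow_mem k (ringExpChar k)).1 hpi (Ideal.Quotient.mk _ c)
  obtain ⟨a, rfl⟩ := residue_surjective z
  refine ⟨n, a, ?_⟩
  rw [← Ideal.Quotient.eq, map_pow, ← hz, h1]

theorem isGeomUnibranch_atPrime_max_iff [IsLocalRing C] (Q : Ideal C) [Q.IsMaximal] :
    CAlg2.IsGeomUnibranch (Localization.AtPrime Q) ↔ CAlg2.IsGeomUnibranch C := by
  have hle : Q.primeCompl ≤ IsUnit.submonoid C := fun x hx => by
    by_contra hu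
    exact hx ((eq_maximalIdeal ‹Q.IsMaximal›).symm ▸ hu)
  let e := IsLocalization.atUnits C Q.primeCompl (S := Localization.AtPrime Q) hle
  exact ⟨GrothLib.BrnchNhd.isGeomUnibranch_of_ringEquiv e.toRingEquiv.symm,
    GrothLib.BrnchNhd.isGeomUnibranch_of_ringEquiv e.toRingEquiv⟩

theorem geomUnibranch_iff (hint : φ.IsIntegral)
    (hf : RadPt.IsBirational (Spec.map (CommRingCat.ofHom φ))) :
    CAlg2.IsGeomUnibranch B ↔ RadAtRing φ ∧
      ∀ (Q : Ideal C) [Q.IsMaximal], CAlg2.IsGeomUnibranch (Localization.AtPrime Q) := by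
  let F := Spec.map (CommRingCat.ofHom φ)
  have hFcomap : ∀ P : PrimeSpectrum C, (F P).asIdeal = P.asIdeal.comap φ := fun _ => rfl
  have gpC : ∀ P : PrimeSpectrum C, P ∈ genericPoints (Spec (CommRingCat.of C)) ↔
      ∀ P' : PrimeSpectrum C, P' ≤ P → P' = P := fun P =>
    (RLpsi8.BiratBC.mem_genericPoints_iff (T := Spec (CommRingCat.of C))).trans
      (forall_congr' fun P' => imp_congr (PrimeSpectrum.le_iff_specializes P' P).symm Iff.rfl)
  have gpB : ∀ P : PrimeSpectrum B, P ∈ genericPoints (Spec (CommRingCat.of B)) ↔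
      ∀ P' : PrimeSpectrum B, P' ≤ P → P' = P := fun P =>
    (RLpsi8.BiratBC.mem_genericPoints_iff (T := Spec (CommRingCat.of B))).trans
      (forall_congr' fun P' => imp_congr (PrimeSpectrum.le_iff_specializes P' P).symm Iff.rfl)
  have hexmin : ∀ {R : Type u} [CommRing R] (P : PrimeSpectrum R), ∃ P₀ : PrimeSpectrum R, P₀ ≤ P ∧
      ∀ P' : PrimeSpectrum R, P' ≤ P₀ → P' = P₀ := by
    intro R _ P
    obtain ⟨p, hp, hpP⟩ := Ideal.exists_minimalPrimes_le (J := P.asIdeal) (bot_le : (⊥ : Ideal R) ≤ _)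
    exact ⟨⟨p, hp.1.1⟩, hpP, fun P' h => PrimeSpectrum.ext (le_antisymm h (hp.2 ⟨P'.2, bot_le⟩ h))⟩
  haveI : Nontrivial C := by
    by_contra hC
    obtain ⟨p, -, hp⟩ := hexmin (closedPoint B)
    obtain ⟨P, -, -⟩ := hf.1.surjOn ((gpB p).2 hp)
    haveI := not_nontrivial_iff_subsingleton.1 hC
    exact P.2.ne_top (Subsingleton.elim _ _)
  -- the set-up once `C` has a unique minimal prime
  have setup : ∀ P₀ : PrimeSpectrum C, P₀.asIdeal = nilradical C → (∀ P', P' ≤ P₀ → P' = P₀) →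
      P₀.asIdeal.comap φ = nilradical B →
      ∃ (T : Type u) (_ : CommRing T) (_ : IsDomain T) (_ : IsIntegrallyClosed T) (ψ : C →+* T),
        RingHom.ker ψ = nilradical C ∧ RingHom.ker (ψ.comp φ) = nilradical B ∧ ψ.IsIntegral ∧
        (ψ.comp φ).IsIntegral ∧ (∀ t, ∃ a b, (ψ.comp φ) b ≠ 0 ∧ t * (ψ.comp φ) b = (ψ.comp φ) a) := by
    intro P₀ hP₀ hmin hp₀
    have hgp : P₀ ∈ genericPoints (Spec (CommRingCat.of C)) := (gpC P₀).2 hmin
    have hsurj := ((hf.2 _ (hf.1.mapsTo hgp)).2 P₀ rfl).2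
    let L := P₀.asIdeal.ResidueField
    letI : Algebra B L := ((algebraMap C L).comp φ).toAlgebra
    have hint' : ∀ c, IsIntegral B (algebraMap C L c) := fun c =>
      isIntegralElem_map φ (algebraMap C L) (hint c)
    let T := integralClosure B L
    let ψ : C →+* T := (algebraMap C L).codRestrict T.toSubring hint'
    have hψv : ∀ c, (ψ c : L) = algebraMap C L c := fun _ => rfl
    have hfrac : ∀ w : L, ∃ a b : B, algebraMap C L (φ b) ≠ 0 ∧
        w * algebraMap C L (φ b) = algebraMap C L (φ a) := by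
      intro w
      obtain ⟨c, d, hd, rfl⟩ := IsFractionRing.div_surjective (A := C ⧸ P₀.asIdeal) w
      obtain ⟨c, rfl⟩ := Ideal.Quotient.mk_surjective c
      obtain ⟨d, rfl⟩ := Ideal.Quotient.mk_surjective d
      obtain ⟨a, b, hb, hab⟩ := exists_fraction φ P₀ hsurj c
      obtain ⟨a', b', hb', hab'⟩ := exists_fraction φ P₀ hsurj d
      rw [← Ideal.algebraMap_residueField_eq_zero, map_sub, map_mul, sub_eq_zero] at hab hab'
      rw [← Ideal.algebraMap_residueField_eq_zero] at hb hb'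
      have hd0 : algebraMap C L d ≠ 0 := by
        intro h0
        rw [Ideal.algebraMap_residueField_eq_zero, ← Ideal.Quotient.eq_zero_iff_mem] at h0
        exact nonZeroDivisors.ne_zero hd h0
      refine ⟨a * b', b * a', ?_, ?_⟩
      · rw [map_mul, map_mul, ← hab']
        exact mul_ne_zero hb (mul_ne_zero hb' hd0)
      · show algebraMap (C ⧸ P₀.asIdeal) L (algebraMap C (C ⧸ P₀.asIdeal) c) /
            algebraMap (C ⧸ P₀.asIdeal) L (algebraMap C (C ⧸ P₀.asIdeal) d) * _ = _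
        rw [← IsScalarTower.algebraMap_apply C (C ⧸ P₀.asIdeal) L, ← IsScalarTower.algebraMap_apply C (C ⧸ P₀.asIdeal) L]
        rw [map_mul φ, map_mul φ, map_mul, map_mul, ← hab, ← hab']
        rw [div_mul_eq_mul_div, div_eq_iff hd0]; ring
    have hker : ∀ c, ψ c = 0 ↔ c ∈ P₀.asIdeal := fun c => by
      rw [Subtype.ext_iff, hψv, ZeroMemClass.coe_zero, Ideal.algebraMap_residueField_eq_zero]
    haveI : IsFractionRing T L := by
      haveI : FaithfulSMul T L := (faithfulSMul_iff_algebraMap_injective T L).2 Subtype.coe_injective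
      refine IsFractionRing.of_field T L fun w => ?_
      obtain ⟨a, b, hb, hab⟩ := hfrac w
      exact ⟨ψ (φ a), ψ (φ b), (eq_div_iff hb).2 hab⟩
    haveI : IsIntegrallyClosed T := (isIntegrallyClosed_iff L).2 fun {w} hw => by
      haveI : Algebra.IsIntegral B T := integralClosure.AlgebraIsIntegral
      exact ⟨⟨w, isIntegral_trans w hw⟩, rfl⟩
    have hTint : (ψ.comp φ).IsIntegral := fun t => by
      have := (integralClosure.AlgebraIsIntegral (R := B) (A := L)).isIntegral t
      exact this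
    refine ⟨T, inferInstance, inferInstance, inferInstance, ψ, ?_, ?_,
      RingHom.IsIntegral.tower_top φ ψ hTint, hTint, fun t => ?_⟩
    · ext c; rw [RingHom.mem_ker, hker, hP₀]
    · ext b; rw [RingHom.mem_ker, RingHom.comp_apply, hker, ← hp₀]; rfl
    · obtain ⟨a, b, hb, hab⟩ := hfrac (t : L)
      exact ⟨a, b, fun h => hb (congrArg Subtype.val h), Subtype.ext hab⟩
  constructor
  · intro hB
    haveI : IsDomain (CAlg2.red B) := hB.1.1
    have hp : (nilradical B).IsPrime := (Ideal.Quotient.isDomain_iff_prime _).1 hB.1.1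
    let p₀ : PrimeSpectrum B := ⟨nilradical B, hp⟩
    have hp₀ : ∀ p : PrimeSpectrum B, (∀ p', p' ≤ p → p' = p) → p = p₀ := fun p h =>
      (h p₀ (nilradical_le_prime p.asIdeal)).symm
    have huniq : ∀ P : PrimeSpectrum C, (∀ P', P' ≤ P → P' = P) → F P = p₀ := fun P h =>
      hp₀ _ ((gpB _).1 (hf.1.mapsTo ((gpC P).2 h)))
    obtain ⟨M, hM⟩ := Ideal.exists_maximal C
    obtain ⟨P₀, -, hP₀⟩ := hexmin (⟨M, hM.isPrime⟩ : PrimeSpectrum C)
    have hall : ∀ P : PrimeSpectrum C, (∀ P', P' ≤ P → P' = P) → P = P₀ := fun P h =>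
      hf.1.injOn ((gpC P).2 h) ((gpC P₀).2 hP₀) ((huniq P h).trans (huniq P₀ hP₀).symm)
    have hnil : P₀.asIdeal = nilradical C := by
      refine le_antisymm ?_ (nilradical_le_prime _)
      rw [nilradical_eq_sInf]
      refine le_sInf fun J hJ => ?_
      obtain ⟨P, hPJ, hP⟩ := hexmin (⟨J, hJ⟩ : PrimeSpectrum C)
      rw [← hall P hP]; exact hPJ
    obtain ⟨T, _, _, _, ψ, hkψ, hkφ, hψi, hφi, hbir⟩ := setup P₀ hnil hP₀
      (congrArg PrimeSpectrum.asIdeal (huniq P₀ hP₀))
    obtain ⟨hTl, hTp⟩ := (GrothLib.GeomUnib.isGeomUnibranch_iff_of_normal _ hkφ hφi hbir).1 hB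
    haveI := hTl
    have hmax : ∀ Q : Ideal C, Q.IsMaximal → Q = (maximalIdeal T).comap ψ := by
      intro Q hQ
      letI : Algebra C T := ψ.toAlgebra
      haveI : Algebra.IsIntegral C T := ⟨hψi⟩
      obtain ⟨P, hP, hPQ⟩ := Ideal.exists_ideal_over_maximal_of_isIntegral (S := T) Q
        (show RingHom.ker ψ ≤ Q from hkψ ▸ nilradical_le_prime Q)
      rw [← hPQ, eq_maximalIdeal hP]
      rfl
    haveI : IsLocalRing C := IsLocalRing.of_unique_max_ideal
      ⟨(maximalIdeal T).comap ψ, Ideal.isMaximal_comap_of_isIntegral_of_isMaximal' ψ hψi _,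
        fun Q hQ => hmax Q hQ⟩
    have hmC : (maximalIdeal T).comap ψ = maximalIdeal C :=
      eq_maximalIdeal (Ideal.isMaximal_comap_of_isIntegral_of_isMaximal' ψ hψi _)
    have hq : ringExpChar (T ⧸ maximalIdeal T) = ringExpChar (ResidueField B) := by
      letI := Ideal.Quotient.field (maximalIdeal T)
      exact GrothLib.GeomUnib.ringExpChar_eq (Ideal.Quotient.lift (maximalIdeal B)
        ((Ideal.Quotient.mk (maximalIdeal T)).comp (ψ.comp φ)) fun b hb =>
          Ideal.Quotient.eq_zero_iff_mem.2 (show b ∈ (maximalIdeal T).comap (ψ.comp φ) from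
            (eq_maximalIdeal (Ideal.isMaximal_comap_of_isIntegral_of_isMaximal' _ hφi _)).ge hb))
    refine ⟨radAtRing_of_pow φ (ringExpChar (ResidueField B)) (fun K _ f h => expChar_of_local K f h)
      (maximalIdeal C) ?_ fun c => ?_, fun Q _ => ?_⟩
    · intro Q' hQ' hQ'm
      refine eq_maximalIdeal (Ideal.isMaximal_of_isIntegral_of_isMaximal_comap' φ hint Q' ?_)
      rw [hQ'm]; exact maximalIdeal.isMaximal B
    · obtain ⟨n, a, ha⟩ := hTp (maximalIdeal T) (Ideal.Quotient.mk _ (ψ c))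
      refine ⟨n, a, ?_⟩
      rw [← hmC, Ideal.mem_comap, ← Ideal.Quotient.eq_zero_iff_mem, map_sub, map_pow, map_sub, map_pow,
        ← hq, ← ha]
      exact sub_self _
    · rw [isGeomUnibranch_atPrime_max_iff]
      refine (GrothLib.GeomUnib.isGeomUnibranch_iff_of_normal ψ hkψ hψi fun t => ?_).2 ⟨hTl, fun P _ x => ?_⟩
      · obtain ⟨a, b, hb, hab⟩ := hbir t
        exact ⟨φ a, φ b, hb, hab⟩
      · obtain ⟨n, a, ha⟩ := hTp P x
        exact ⟨n, φ a, ha⟩
  · rintro ⟨hrad, hC⟩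
    obtain ⟨_, hpow⟩ := isLocalRing_and_pow_of_radAtRing φ hint hrad
    have hCu : CAlg2.IsGeomUnibranch C := (isGeomUnibranch_atPrime_max_iff _).1 (hC (maximalIdeal C))
    have hp : (nilradical C).IsPrime := (Ideal.Quotient.isDomain_iff_prime _).1 hCu.1.1
    let P₀ : PrimeSpectrum C := ⟨nilradical C, hp⟩
    have hmin : ∀ P', P' ≤ P₀ → P' = P₀ := fun P' h =>
      PrimeSpectrum.ext (le_antisymm h (nilradical_le_prime P'.asIdeal))
    have hp₀ : P₀.asIdeal.comap φ = nilradical B := by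
      refine le_antisymm ?_ (nilradical_le_prime _)
      rw [nilradical_eq_sInf]
      refine le_sInf fun J hJ => ?_
      obtain ⟨p, hpJ, hp⟩ := hexmin (⟨J, hJ⟩ : PrimeSpectrum B)
      obtain ⟨P, hP, rfl⟩ := hf.1.surjOn ((gpB p).2 hp)
      have hPP : P = P₀ := ((gpC P).1 hP P₀ (nilradical_le_prime P.asIdeal)).symm
      subst hPP
      exact hpJ
    obtain ⟨T, _, _, _, ψ, hkψ, hkφ, hψi, hφi, hbir⟩ := setup P₀ rfl hmin hp₀
    obtain ⟨hTl, hTp⟩ := (GrothLib.GeomUnib.isGeomUnibranch_iff_of_normal ψ hkψ hψi (fun t => by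
      obtain ⟨a, b, hb, hab⟩ := hbir t
      exact ⟨φ a, φ b, hb, hab⟩)).1 hCu
    refine (GrothLib.GeomUnib.isGeomUnibranch_iff_of_normal _ hkφ hφi hbir).2 ⟨hTl, fun P _ x => ?_⟩
    letI := Ideal.Quotient.field P
    have hPm : P.comap ψ = maximalIdeal C :=
      eq_maximalIdeal (Ideal.isMaximal_comap_of_isIntegral_of_isMaximal' ψ hψi P)
    have hq : ringExpChar (T ⧸ P) = ringExpChar (ResidueField B) :=
      GrothLib.GeomUnib.ringExpChar_eq (Ideal.Quotient.lift (maximalIdeal B)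
        ((Ideal.Quotient.mk P).comp (ψ.comp φ)) fun b hb =>
          Ideal.Quotient.eq_zero_iff_mem.2 (show b ∈ P.comap (ψ.comp φ) from
            (eq_maximalIdeal (Ideal.isMaximal_comap_of_isIntegral_of_isMaximal' _ hφi _)).ge hb))
    obtain ⟨n, c, hc⟩ := hTp P x
    obtain ⟨m, a, ha⟩ := hpow c
    refine ⟨n + m, a, ?_⟩
    rw [← hPm, Ideal.mem_comap, ← Ideal.Quotient.eq_zero_iff_mem, map_sub, map_pow, map_sub, map_pow,
      sub_eq_zero] at ha
    rw [pow_add, pow_mul, ← hc, hq]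
    exact ha.symm

end RLpsi8.UnibRad
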