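import Groth.Prelude.Def_Pi1
import Mathlib.AlgebraicGeometry.FunctionField
import Mathlib.RingTheory.Localization.Integral
import Mathlib.RingTheory.Polynomial.ScaleRoots
import Mathlib.RingTheory.IntegralClosure.IntegrallyClosed

/-!
# Functions on an open of a locally integral normal scheme, localized at a prime
-/

set_option autoImplicit false
set_option backward.isDefEq.respectTransparency false
set_option maxHeartbeats 400000

universe u

open CategoryTheory CategoryTheory.Limits AlgebraicGeometry TopologicalSpace Opposite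

noncomputable section

namespace GrothLib.RLpsi8.GlobalNormal

variable {V : Scheme.{u}} (hloc : ∀ x : V, ∃ U : V.Opens, x ∈ U ∧ IsIntegral (U : Scheme.{u}))

theorem eq_zero_of_germ {U : V.Opens} [IsIntegral (U : Scheme.{u})] {W : V.Opens} (hWU : W ≤ U) {y : V} (hy : y ∈ W)
    (a : Γ(V, W)) (ha : V.presheaf.germ W y hy a = 0) : a = 0 := by
  have hy' : (⟨y, hWU hy⟩ : U) ∈ U.ι ⁻¹ᵁ W := hy
  haveI : Nonempty ↥(U.ι ⁻¹ᵁ W) := ⟨⟨_, hy'⟩⟩
  have hinj : Function.Injective (U.ι.app W) := by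
    haveI := U.ι.isIso_app W (by rwa [Scheme.Opens.opensRange_ι])
    exact (ConcreteCategory.bijective_of_isIso (U.ι.app W)).1
  have h0 : U.ι.app W a = 0 := by
    refine germ_injective_of_isIntegral (U : Scheme.{u}) (⟨y, hWU hy⟩ : U) hy' ?_
    rw [map_zero, ← Scheme.Hom.germ_stalkMap_apply U.ι W ⟨y, hWU hy⟩ hy']
    exact (congrArg _ ha).trans (map_zero (U.ι.stalkMap ⟨y, hWU hy⟩).hom)
  exact hinj (h0.trans (map_zero _).symm)

variable {O : V.Opens}

/-- The locus where a function is not zero in the local ring. -/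
def supp (a : Γ(V, O)) : Set V := {y | ∃ hy : y ∈ O, V.presheaf.germ O y hy a ≠ 0}

include hloc in
theorem isOpen_supp (a : Γ(V, O)) : IsOpen (supp a) := by
  refine isOpen_iff_forall_mem_open.2 fun y hy => ?_
  obtain ⟨hyO, hne⟩ := hy
  obtain ⟨U, hyU, hU⟩ := hloc y
  haveI := hU
  refine ⟨(O ⊓ U : V.Opens), fun z hz => ⟨hz.1, fun hz0 => hne ?_⟩, (O ⊓ U).2, hyO, hyU⟩
  have h := eq_zero_of_germ (W := O ⊓ U) inf_le_right (y := z) hz ((V.presheaf.map (homOfLE inf_le_left).op).hom a)
    (by rw [TopCat.Presheaf.germ_res_apply]; exact hz0)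
  rw [← V.presheaf.germ_res_apply (homOfLE (inf_le_left : O ⊓ U ≤ O)) y ⟨hyO, hyU⟩, h, map_zero]

include hloc in
theorem isOpen_diff_supp (a : Γ(V, O)) : IsOpen ((O : Set V) \ supp a) := by
  refine isOpen_iff_forall_mem_open.2 fun y hy => ?_
  obtain ⟨U, hyU, hU⟩ := hloc y
  haveI := hU
  refine ⟨(O ⊓ U : V.Opens), fun z hz => ⟨hz.1, fun ⟨_, hne⟩ => hne ?_⟩, (O ⊓ U).2, hy.1, hyU⟩
  have h := eq_zero_of_germ (W := O ⊓ U) inf_le_right (y := y) ⟨hy.1, hyU⟩
    ((V.presheaf.map (homOfLE inf_le_left).op).hom a) (by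
      rw [TopCat.Presheaf.germ_res_apply]
      by_contra h0
      exact hy.2 ⟨hy.1, h0⟩)
  rw [← V.presheaf.germ_res_apply (homOfLE (inf_le_left : O ⊓ U ≤ O)) z hz, h, map_zero]

include hloc in
theorem exists_idem (a : Γ(V, O)) : ∃ e : Γ(V, O), ∀ (y : V) (hy : y ∈ O),
    (y ∈ supp a → V.presheaf.germ O y hy e = 1) ∧ (y ∉ supp a → V.presheaf.germ O y hy e = 0) := by
  let W : Bool → V.Opens := fun b => bif b then ⟨supp a, isOpen_supp hloc a⟩ else ⟨(O : Set V) \ supp a, isOpen_diff_supp hloc a⟩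
  have hW : ∀ b, W b ≤ O := fun b => by cases b; exacts [fun y hy => hy.1, fun y hy => hy.1]
  let sf : ∀ b, Γ(V, W b) := fun b => bif b then 1 else 0
  obtain ⟨e, he, -⟩ := V.sheaf.existsUnique_gluing' W O (fun b => homOfLE (hW b)) (fun y hy => by
      by_cases h : y ∈ supp a
      · exact Opens.mem_iSup.mpr ⟨true, h⟩
      · exact Opens.mem_iSup.mpr ⟨false, hy, h⟩) sf (fun b b' => by
      refine TopCat.Presheaf.section_ext V.sheaf _ _ _ fun y hy => ?_
      cases b <;> cases b'
      · rfl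
      · exact (hy.1.2 hy.2).elim
      · exact (hy.2.2 hy.1).elim
      · rfl)
  refine ⟨e, fun y hy => ⟨fun h => ?_, fun h => ?_⟩⟩
  · rw [← V.presheaf.germ_res_apply (homOfLE (hW true)) y h]
    exact (congrArg _ (he true)).trans (map_one (V.presheaf.germ (W true) y h).hom)
  · rw [← V.presheaf.germ_res_apply (homOfLE (hW false)) y ⟨hy, h⟩]
    exact (congrArg _ (he false)).trans (map_zero (V.presheaf.germ (W false) y ⟨hy, h⟩).hom)

theorem eq_of_forall_germ {a b : Γ(V, O)} (h : ∀ y hy, V.presheaf.germ O y hy a = V.presheaf.germ O y hy b) : a = b :=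
  TopCat.Presheaf.section_ext V.sheaf _ _ _ h

variable (hn : Pi1.IsNormalScheme V) (P : Ideal Γ(V, O)) [P.IsPrime]

include hloc hn in
theorem isDomain_localization : IsDomain (Localization.AtPrime P) := by
  haveI : NoZeroDivisors (Localization.AtPrime P) := ⟨fun {x y} h => by
    obtain ⟨a, s, rfl⟩ := IsLocalization.exists_mk'_eq P.primeCompl x
    obtain ⟨b, t, rfl⟩ := IsLocalization.exists_mk'_eq P.primeCompl y
    rw [← IsLocalization.mk'_mul, IsLocalization.mk'_eq_zero_iff] at h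
    obtain ⟨u, hu⟩ := h
    obtain ⟨e, he⟩ := exists_idem hloc ((u : Γ(V, O)) * a)
    have heb : e * b = 0 := eq_of_forall_germ fun z hz => by
      haveI := (hn z).1
      rw [map_mul, map_zero]
      by_cases hza : z ∈ supp ((u : Γ(V, O)) * a)
      · obtain ⟨_, hne⟩ := hza
        have h0 : V.presheaf.germ O z hz ((u : Γ(V, O)) * a) * V.presheaf.germ O z hz b = 0 := by
          rw [← map_mul, mul_assoc, hu, map_zero]
        rw [(mul_eq_zero.1 h0).resolve_left hne, mul_zero]
      · rw [((he z hz).2 hza), zero_mul]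
    have hea : (1 - e) * ((u : Γ(V, O)) * a) = 0 := eq_of_forall_germ fun z hz => by
      rw [map_mul, map_zero, map_sub, map_one]
      by_cases hza : z ∈ supp ((u : Γ(V, O)) * a)
      · rw [(he z hz).1 hza, sub_self, zero_mul]
      · rw [not_not.1 fun hne => hza ⟨hz, hne⟩, mul_zero]
    by_cases hep : e ∈ P
    · refine Or.inl ((IsLocalization.mk'_eq_zero_iff _ _).2 ⟨⟨(1 - e) * u, ?_⟩, ?_⟩)
      · refine fun hm => (‹P.IsPrime›.mem_or_mem hm).elim (fun h1 => ‹P.IsPrime›.ne_top ?_) u.2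
        exact P.eq_top_of_isUnit_mem (by simpa using P.add_mem h1 hep) isUnit_one
      · show (1 - e) * u * a = 0
        rw [mul_assoc]; exact hea
    · exact Or.inr ((IsLocalization.mk'_eq_zero_iff _ _).2 ⟨⟨e, hep⟩, heb⟩)⟩
  exact NoZeroDivisors.to_isDomain _

include hloc hn in
theorem exists_quotient (a b : Γ(V, O)) (Z : Set V) (hZ : IsOpen Z) (hZO : Z ⊆ O) (hZc : IsOpen ((O : Set V) \ Z))
    (h : ∀ y hy, y ∈ Z → V.presheaf.germ O y hy b ≠ 0 ∧ ∃ c, c * V.presheaf.germ O y hy b = V.presheaf.germ O y hy a) :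
    ∃ c : Γ(V, O), ∀ y hy, y ∈ Z → V.presheaf.germ O y hy c * V.presheaf.germ O y hy b = V.presheaf.germ O y hy a := by
  have hloc' : ∀ y : Z, ∃ (W : V.Opens) (_ : y.1 ∈ W) (hWO : W ≤ O) (_ : (W : Set V) ⊆ Z) (c : Γ(V, W)),
      c * (V.presheaf.map (homOfLE hWO).op).hom b = (V.presheaf.map (homOfLE hWO).op).hom a := by
    intro y
    obtain ⟨hb, c, hc⟩ := h y.1 (hZO y.2) y.2
    obtain ⟨W, hyW, c₀, rfl⟩ := V.presheaf.germ_exist c
    let W₁ : V.Opens := W ⊓ ⟨Z, hZ⟩
    have hW₁O : W₁ ≤ O := fun z hz => hZO hz.2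
    have e : V.presheaf.germ W₁ y.1 ⟨hyW, y.2⟩ ((V.presheaf.map (homOfLE inf_le_left).op).hom c₀ *
        (V.presheaf.map (homOfLE hW₁O).op).hom b) = V.presheaf.germ W₁ y.1 ⟨hyW, y.2⟩
          ((V.presheaf.map (homOfLE hW₁O).op).hom a) := by
      rw [map_mul, TopCat.Presheaf.germ_res_apply, TopCat.Presheaf.germ_res_apply, TopCat.Presheaf.germ_res_apply]
      exact hc
    obtain ⟨W', hyW', i₁, i₂, h'⟩ := V.presheaf.germ_eq y.1 _ _ _ _ e
    refine ⟨W', hyW', (leOfHom i₁).trans hW₁O, fun z hz => ((leOfHom i₁) hz).2,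
      (V.presheaf.map (homOfLE ((leOfHom i₁).trans inf_le_left)).op).hom c₀, ?_⟩
    rw [Subsingleton.elim i₂ i₁, map_mul] at h'
    have r : ∀ {W₂ : V.Opens} (l : W₁ ≤ W₂) (l' : W' ≤ W₂) (s : Γ(V, W₂)),
        V.presheaf.map i₁.op ((V.presheaf.map (homOfLE l).op).hom s) = (V.presheaf.map (homOfLE l').op).hom s := by
      intro W₂ l l' s
      show (V.presheaf.map (homOfLE l).op ≫ V.presheaf.map i₁.op).hom s = _
      rw [← Functor.map_comp]
      rfl
    exact (congrArg₂ (· * ·) (r _ _ c₀) (r _ _ b)).symm.trans (h'.trans (r _ _ a))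
  choose W hyW hWO hWZ c hc using hloc'
  let U : Option Z → V.Opens := fun o => o.elim ⟨(O : Set V) \ Z, hZc⟩ W
  have hU : ∀ o, U o ≤ O := fun o => by cases o with
    | none => exact fun z hz => hz.1
    | some y => exact hWO y
  let sf : ∀ o, Γ(V, U o) := fun o => match o with
    | none => 0
    | some y => c y
  obtain ⟨s, hs, -⟩ := V.sheaf.existsUnique_gluing' U O (fun o => homOfLE (hU o)) (fun z hz => by
      by_cases hzZ : z ∈ Z
      · exact Opens.mem_iSup.mpr ⟨some ⟨z, hzZ⟩, hyW _⟩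
      · exact Opens.mem_iSup.mpr ⟨none, hz, hzZ⟩) sf (fun o o' => by
      refine TopCat.Presheaf.section_ext V.sheaf _ _ _ fun z hz => ?_
      cases o with
      | none => cases o' with
        | none => rfl
        | some y => exact (hz.1.2 (hWZ y hz.2)).elim
      | some y => cases o' with
        | none => exact (hz.2.2 (hWZ y hz.1)).elim
        | some y' =>
          haveI := (hn z).1
          show V.presheaf.germ _ z hz ((V.presheaf.map (homOfLE inf_le_left).op).hom (c y)) =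
            V.presheaf.germ _ z hz ((V.presheaf.map (homOfLE inf_le_right).op).hom (c y'))
          rw [TopCat.Presheaf.germ_res_apply, TopCat.Presheaf.germ_res_apply]
          have hzO : z ∈ O := hWO y hz.1
          refine mul_right_cancel₀ (h z hzO (hWZ y hz.1)).1 ?_
          have e1 := congrArg (V.presheaf.germ (W y) z hz.1) (hc y)
          have e2 := congrArg (V.presheaf.germ (W y') z hz.2) (hc y')
          rw [map_mul, TopCat.Presheaf.germ_res_apply, TopCat.Presheaf.germ_res_apply] at e1 e2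
          exact e1.trans e2.symm)
  refine ⟨s, fun z hz hzZ => ?_⟩
  have e1 := congrArg (V.presheaf.germ (W ⟨z, hzZ⟩) z (hyW _)) (hc ⟨z, hzZ⟩)
  rw [map_mul, TopCat.Presheaf.germ_res_apply, TopCat.Presheaf.germ_res_apply] at e1
  rw [← e1]
  congr 1
  rw [← V.presheaf.germ_res_apply (homOfLE (hU (some ⟨z, hzZ⟩))) z (hyW _)]
  exact congrArg _ (hs (some ⟨z, hzZ⟩))

include hloc hn in
theorem isIntegrallyClosed_localization : IsIntegrallyClosed (Localization.AtPrime P) := by
  classical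
  haveI := isDomain_localization hloc hn P
  let L := Localization.AtPrime P
  let K := FractionRing L
  refine (isIntegrallyClosed_iff K).2 fun {x} hx => ?_
  obtain ⟨m, hm⟩ := hx.exists_multiple_integral_of_isLocalization P.primeCompl x
  obtain ⟨α, β, hβ, hαβ⟩ := IsFractionRing.div_surjective (A := L) x
  obtain ⟨a₀, sa, hα'⟩ := IsLocalization.exists_mk'_eq P.primeCompl α
  obtain ⟨b₀, sb, hβ'⟩ := IsLocalization.exists_mk'_eq P.primeCompl β
  let φ : Γ(V, O) →+* K := (algebraMap L K).comp (algebraMap Γ(V, O) L)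
  have hφ : algebraMap Γ(V, O) K = φ := IsScalarTower.algebraMap_eq Γ(V, O) L K
  let y : K := φ m * x
  let a : Γ(V, O) := (m : Γ(V, O)) * a₀ * sb
  let b : Γ(V, O) := b₀ * sa
  have hβK : algebraMap L K β ≠ 0 := (map_ne_zero_iff _ (IsFractionRing.injective L K)).2 (nonZeroDivisors.ne_zero hβ)
  have hub : ∀ s : P.primeCompl, φ s ≠ 0 := fun s => by
    show algebraMap L K (algebraMap _ L (s : Γ(V, O))) ≠ 0
    exact (map_ne_zero_iff _ (IsFractionRing.injective L K)).2 (IsLocalization.map_units L s).ne_zero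
  have hyb : y * φ b = φ a := by
    have e1 : algebraMap L K α * φ sa = φ a₀ := by
      rw [show φ (sa : Γ(V, O)) = algebraMap L K (algebraMap Γ(V, O) L sa) from rfl,
        show φ a₀ = algebraMap L K (algebraMap Γ(V, O) L a₀) from rfl]
      rw [← map_mul, ← hα', IsLocalization.mk'_spec]
    have e2 : algebraMap L K β * φ sb = φ b₀ := by
      rw [show φ (sb : Γ(V, O)) = algebraMap L K (algebraMap Γ(V, O) L sb) from rfl,
        show φ b₀ = algebraMap L K (algebraMap Γ(V, O) L b₀) from rfl]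
      rw [← map_mul, ← hβ', IsLocalization.mk'_spec]
    have e3 : x * algebraMap L K β = algebraMap L K α := by rw [← hαβ, div_mul_cancel₀ _ hβK]
    simp only [y, a, b, map_mul, ← e1, ← e2, ← e3]
    ring
  have hb : φ b ≠ 0 := by
    show φ (b₀ * sa) ≠ 0
    rw [map_mul]
    refine mul_ne_zero (fun h0 => hβK ?_) (hub sa)
    have : algebraMap L K β * φ sb = 0 := by
      rw [show φ sb = algebraMap L K (algebraMap _ L (sb : Γ(V, O))) from rfl, ← map_mul, ← hβ', IsLocalization.mk'_spec]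
      exact h0
    exact (mul_eq_zero.1 this).resolve_right (hub sb)
  obtain ⟨p, hp, hpy⟩ : IsIntegral Γ(V, O) y := by
    have : (m : Γ(V, O)) • x = y := by rw [Algebra.smul_def, hφ]
    rwa [Submonoid.smul_def, this] at hm
  let q := p.scaleRoots b
  have hq : φ (q.eval a) = 0 := by
    rw [hφ] at hpy
    rw [← Polynomial.eval₂_at_apply, ← hyb, mul_comm, Polynomial.scaleRoots_eval₂_mul, hpy, mul_zero]
  obtain ⟨t, ht⟩ : ∃ t : P.primeCompl, (t : Γ(V, O)) * q.eval a = 0 :=
    (IsLocalization.map_eq_zero_iff P.primeCompl L _).1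
      (IsFractionRing.injective L K (hq.trans (map_zero (algebraMap L K)).symm))
  obtain ⟨eb, heb⟩ := exists_idem hloc b
  obtain ⟨et, het⟩ := exists_idem hloc (t : Γ(V, O))
  have hidem : ∀ (c e : Γ(V, O)), (∀ (y : V) (hy : y ∈ O), (y ∈ supp c → V.presheaf.germ O y hy e = 1) ∧
      (y ∉ supp c → V.presheaf.germ O y hy e = 0)) → φ c ≠ 0 → e ∉ P := by
    intro c e he hc hep
    have h1 : (1 - e) * c = 0 := eq_of_forall_germ fun z hz => by
      rw [map_mul, map_zero, map_sub, map_one]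
      by_cases hzc : z ∈ supp c
      · rw [(he z hz).1 hzc, sub_self, zero_mul]
      · rw [not_not.1 fun hne => hzc ⟨hz, hne⟩, mul_zero]
    have h2 : 1 - e ∉ P := fun h1' => ‹P.IsPrime›.ne_top (P.eq_top_of_isUnit_mem (by simpa using P.add_mem h1' hep) isUnit_one)
    have h3 : φ (1 - e) * φ c = 0 := by rw [← map_mul, h1, map_zero]
    exact hc ((mul_eq_zero.1 h3).resolve_left (hub ⟨_, h2⟩))
  have hebP : eb ∉ P := hidem b eb heb hb
  have hetP : et ∉ P := hidem t et het (hub t)
  let Z : Set V := supp b ∩ supp (t : Γ(V, O))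
  have hZc : IsOpen ((O : Set V) \ Z) := by
    rw [Set.sdiff_inter]
    exact (isOpen_diff_supp hloc b).union (isOpen_diff_supp hloc _)
  obtain ⟨c, hc⟩ := exists_quotient hloc hn a b Z ((isOpen_supp hloc b).inter (isOpen_supp hloc _))
    (fun z hz => hz.1.1) hZc (by
    intro z hz hzZ
    obtain ⟨⟨_, hbz⟩, ⟨_, htz⟩⟩ := hzZ
    refine ⟨hbz, ?_⟩
    haveI := (hn z).1
    haveI := (hn z).2
    let R := V.presheaf.stalk z
    let γ : Γ(V, O) →+* R := (V.presheaf.germ O z hz).hom
    let ψ : Γ(V, O) →+* FractionRing R := (algebraMap R _).comp γ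
    have hq0 : ψ (q.eval a) = 0 := by
      show algebraMap R _ (γ (q.eval a)) = 0
      have : γ (t : Γ(V, O)) * γ (q.eval a) = 0 := by rw [← map_mul, ht, map_zero]
      rw [(mul_eq_zero.1 this).resolve_left htz, map_zero]
    have hψb : ψ b ≠ 0 := (map_ne_zero_iff _ (IsFractionRing.injective R _)).2 hbz
    have hint : IsIntegral R (ψ a / ψ b) := by
      refine ⟨p.map γ, hp.map γ, ?_⟩
      rw [Polynomial.eval₂_map]
      have h1 : (ψ b) ^ p.natDegree * Polynomial.eval₂ ψ (ψ a / ψ b) p = 0 := by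
        rw [← Polynomial.scaleRoots_eval₂_mul, mul_div_cancel₀ _ hψb, Polynomial.eval₂_at_apply]
        exact hq0
      exact (mul_eq_zero.1 h1).resolve_left (pow_ne_zero _ hψb)
    obtain ⟨c, hc⟩ := IsIntegrallyClosed.isIntegral_iff.mp hint
    refine ⟨c, IsFractionRing.injective R (FractionRing R) ?_⟩
    rw [map_mul, hc]
    exact div_mul_cancel₀ _ hψb)
  let e := eb * et
  have he : e ∈ P.primeCompl := fun h => (‹P.IsPrime›.mem_or_mem h).elim hebP hetP
  have hzero : e * (a - c * b) = 0 := eq_of_forall_germ fun z hz => by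
    rw [map_mul, map_zero]
    by_cases h1 : z ∈ supp b
    · by_cases h2 : z ∈ supp (t : Γ(V, O))
      · rw [map_sub, map_mul _ c, hc z hz ⟨h1, h2⟩, sub_self, mul_zero]
      · rw [map_mul, (het z hz).2 h2, mul_zero, zero_mul]
    · rw [map_mul, (heb z hz).2 h1, zero_mul, zero_mul]
  have hy : y = φ c := by
    have h := congrArg φ hzero
    rw [map_mul, map_zero, map_sub, map_mul φ c b, ← hyb, ← sub_mul] at h
    exact sub_eq_zero.1 ((mul_eq_zero.1 ((mul_eq_zero.1 h).resolve_left (hub ⟨e, he⟩))).resolve_right hb)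
  obtain ⟨v, hv⟩ := (IsLocalization.map_units L m).exists_left_inv
  refine ⟨v * algebraMap _ L c, ?_⟩
  rw [map_mul, show algebraMap L K (algebraMap _ L c) = φ c from rfl, ← hy]
  show algebraMap L K v * (algebraMap L K (algebraMap _ L (m : Γ(V, O))) * x) = x
  rw [← mul_assoc, ← map_mul, hv, map_one, one_mul]

end GrothLib.RLpsi8.GlobalNormal
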