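import Groth.Agent.Lib.RLpsi8.ConeIntegral
import Groth.Agent.Lib.RLpsi8.GlobalNormal
import Groth.Agent.Lib.SymAlgX.Graded

/-!
# Integrality and normality of the spectrum of a direct image algebra
-/

set_option autoImplicit false
set_option backward.isDefEq.respectTransparency false
set_option maxHeartbeats 400000

universe u

open CategoryTheory CategoryTheory.Limits AlgebraicGeometry TopologicalSpace Opposite
open GrothLib.InvExt (IsGen mres)

noncomputable section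

namespace GrothLib.RLpsi8.ConeSeries

theorem isIntegrallyClosed_affine_of_le {X : Scheme.{u}} (hn : Pi1.IsNormalScheme X) {U : X.Opens}
    [IsIntegral (U : Scheme.{u})] {W : X.Opens} (hW : IsAffineOpen W) (hWU : W ≤ U) [Nonempty W] :
    IsDomain Γ(X, W) ∧ IsIntegrallyClosed Γ(X, W) := by
  have hU' : Pi1.IsNormalScheme (U : Scheme.{u}) := fun y => by
    let e := (asIso (U.ι.stalkMap y)).commRingCatIsoToRingEquiv
    haveI := (hn (U.ι y)).1
    haveI := (hn (U.ι y)).2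
    exact ⟨e.symm.toMulEquiv.isDomain _, IsIntegrallyClosed.of_equiv e⟩
  have hW' : IsAffineOpen (U.ι ⁻¹ᵁ W) := by
    refine (Scheme.Hom.isAffineOpen_iff_of_isOpenImmersion U.ι).mp ?_
    rw [GrothLib.RLpsi8.image_preimage_ι hWU]
    exact hW
  obtain ⟨x⟩ : Nonempty W := inferInstance
  haveI : Nonempty ↥(U.ι ⁻¹ᵁ W) := ⟨⟨⟨x.1, hWU x.2⟩, x.2⟩⟩
  haveI := @GrothLib.RLpsi8.Contract.isIntegrallyClosed_of_normal _ hU' _ _ hW' ⟨⟨⟨x.1, hWU x.2⟩, x.2⟩⟩
  haveI : Nonempty ((U.ι ⁻¹ᵁ W : (U : Scheme.{u}).Opens) : Scheme.{u}) := ⟨⟨⟨x.1, hWU x.2⟩, x.2⟩⟩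
  haveI := IsIntegral.component_integral (X := (U : Scheme.{u})) (U.ι ⁻¹ᵁ W)
  haveI := U.ι.isIso_app W (by rwa [Scheme.Opens.opensRange_ι])
  let e := (asIso (U.ι.app W)).commRingCatIsoToRingEquiv
  exact ⟨e.toMulEquiv.isDomain _, IsIntegrallyClosed.of_equiv e.symm⟩

variable {X : Scheme.{u}} {L : X.Modules} {𝒜 : RelProj.QCGrAlg X} {j : L ⟶ 𝒜.toModule}

theorem exists_polyEquiv (hLq : Coh.IsQCoh L) (hj : RelProj.IsGrSymAlg L 𝒜 j) (t : Triv L) :
    Nonempty (Polynomial Γ(X, t.V.1) ≃+* 𝒜.presheaf.obj (op t.V.1)) := by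
  let Φ : Polynomial Γ(X, t.V.1) →+* 𝒜.presheaf.obj (op t.V.1) :=
    Polynomial.eval₂RingHom (𝒜.str.app (op t.V.1)).hom (T j t)
  have hcomp : (series hLq hj t).comp Φ = Polynomial.coeToPowerSeries.ringHom := by
    refine Polynomial.ringHom_ext (fun r => ?_) ?_
    · show series hLq hj t (Polynomial.eval₂ _ _ (Polynomial.C r)) = ((Polynomial.C r : Polynomial _) : PowerSeries _)
      rw [Polynomial.eval₂_C, series_str, Polynomial.coe_C]
    · show series hLq hj t (Polynomial.eval₂ _ _ Polynomial.X) = Polynomial.coeToPowerSeries.ringHom Polynomial.X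
      rw [Polynomial.eval₂_X, series_T]
      simp
  refine ⟨RingEquiv.ofBijective Φ ⟨fun a b hab => Polynomial.coe_injective _ ?_, fun x => ?_⟩⟩
  · exact (RingHom.congr_fun hcomp a).symm.trans ((congrArg (series hLq hj t) hab).trans (RingHom.congr_fun hcomp b))
  · have h : x ∈ Subring.closure (Set.range (𝒜.str.app (op t.V.1)).hom ∪ Set.range (VA.ev j t.V)) :=
      (VA.closure_str_ev hLq hj t.V).ge trivial
    refine Subring.closure_le (t := Φ.range) |>.mpr ?_ h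
    rintro y (⟨r, rfl⟩ | ⟨e, rfl⟩)
    · exact ⟨Polynomial.C r, Polynomial.eval₂_C _ _⟩
    · obtain ⟨c, hc⟩ := t.isGen.exists_smul_eq le_rfl e
      rw [show mres L (le_refl t.V.1) t.e = t.e from InvExt.mres_self L t.e] at hc
      refine ⟨Polynomial.C c * Polynomial.X, ?_⟩
      show Polynomial.eval₂ _ _ (Polynomial.C c * Polynomial.X) = _
      rw [Polynomial.eval₂_mul, Polynomial.eval₂_C, Polynomial.eval₂_X, hc]
      exact (Scheme.Modules.Hom.app_smul j c t.e).symm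

theorem normal_spec (hL : PicF.IsInvertible L) (hLq : Coh.IsQCoh L) (hj : RelProj.IsGrSymAlg L 𝒜 j)
    (hloc : ∀ x : X, ∃ U : X.Opens, x ∈ U ∧ IsIntegral (U : Scheme.{u})) (hn : Pi1.IsNormalScheme X) :
    (∀ v : 𝒜.toQCAlg.spec, ∃ O : 𝒜.toQCAlg.spec.Opens, v ∈ O ∧ IsIntegral (O : Scheme.{u})) ∧
      Pi1.IsNormalScheme 𝒜.toQCAlg.spec := by
  have key : ∀ v : 𝒜.toQCAlg.spec, ∃ t : Triv L, 𝒜.toQCAlg.π v ∈ t.V.1 ∧
      IsDomain (𝒜.presheaf.obj (op t.V.1)) ∧ IsIntegrallyClosed (𝒜.presheaf.obj (op t.V.1)) := by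
    intro v
    obtain ⟨U, hxU, hU⟩ := hloc (𝒜.toQCAlg.π v)
    haveI := hU
    obtain ⟨t, ht, htU⟩ := exists_triv_le hL hxU
    haveI : Nonempty t.V.1 := ⟨⟨_, ht⟩⟩
    obtain ⟨hd, hi⟩ := isIntegrallyClosed_affine_of_le hn t.V.2 htU
    haveI : IsDomain Γ(X, t.V.1) := hd
    haveI : IsIntegrallyClosed Γ(X, t.V.1) := hi
    obtain ⟨e⟩ := exists_polyEquiv hLq hj t
    exact ⟨t, ht, e.symm.toMulEquiv.isDomain _, IsIntegrallyClosed.of_equiv e⟩
  refine ⟨fun v => ?_, fun v => ?_⟩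
  · obtain ⟨t, ht, hd, -⟩ := key v
    haveI := hd
    haveI := isOpenImmersion_ι 𝒜.toQCAlg t.V.1 t.V.2
    obtain ⟨P, rfl⟩ := RelCone8.exists_ι_eq 𝒜.toQCAlg t.V.1 t.V.2 v ht
    refine ⟨(𝒜.toQCAlg.ι t.V.1 t.V.2).opensRange, ⟨P, rfl⟩, ?_⟩
    haveI : Nonempty ((𝒜.toQCAlg.ι t.V.1 t.V.2).opensRange : Scheme.{u}) := ⟨⟨_, P, rfl⟩⟩
    exact isIntegral_of_isOpenImmersion (𝒜.toQCAlg.ι t.V.1 t.V.2).isoOpensRange.inv
  · obtain ⟨t, ht, hd, hi⟩ := key v
    haveI := hd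
    haveI := hi
    haveI := isOpenImmersion_ι 𝒜.toQCAlg t.V.1 t.V.2
    obtain ⟨P, rfl⟩ := RelCone8.exists_ι_eq 𝒜.toQCAlg t.V.1 t.V.2 v ht
    let e := (asIso ((𝒜.toQCAlg.ι t.V.1 t.V.2).stalkMap P)).commRingCatIsoToRingEquiv
    let R := 𝒜.presheaf.obj (op t.V.1)
    let P' : PrimeSpectrum R := P
    letI : Algebra R ((Spec R).presheaf.stalk P') := StructureSheaf.stalkAlgebra _ P'
    haveI : IsLocalization.AtPrime ((Spec R).presheaf.stalk P') P'.asIdeal := StructureSheaf.IsLocalization.to_stalk _ P'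
    haveI : IsDomain ((Spec R).presheaf.stalk P') :=
      IsLocalization.isDomain_of_le_nonZeroDivisors _ P'.asIdeal.primeCompl_le_nonZeroDivisors
    haveI : IsIntegrallyClosed ((Spec R).presheaf.stalk P') :=
      isIntegrallyClosed_of_isLocalization _ P'.asIdeal.primeCompl P'.asIdeal.primeCompl_le_nonZeroDivisors
    exact ⟨e.toMulEquiv.isDomain _, IsIntegrallyClosed.of_equiv e.symm⟩

end GrothLib.RLpsi8.ConeSeries

namespace GrothLib.RLpsi8.Contract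

variable {Y V : Scheme.{u}} (h : V ⟶ Y) [QuasiCompact h] [QuasiSeparated h]

theorem isIntegral_directImage_spec [IsIntegral V] : IsIntegral (RelSpec.QCAlg.directImage h).spec := by
  let A := RelSpec.QCAlg.directImage h
  obtain ⟨v, -, hch⟩ := exists_hom_of_nat A h (𝟙 _) (Category.comp_id _)
  haveI : ∀ c : A.spec, _root_.IsReduced (A.spec.presheaf.stalk c) := fun c => by
    obtain ⟨U, hU, hcU, -⟩ := exists_isAffineOpen_mem_and_subset (x := A.π c) (U := (⊤ : Y.Opens)) trivial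
    obtain ⟨P, rfl⟩ := RelCone8.exists_ι_eq A U hU c hcU
    haveI := ConeSeries.isOpenImmersion_ι A U hU
    haveI : _root_.IsReduced (A.presheaf.obj (op U)) := inferInstanceAs (_root_.IsReduced Γ(V, h ⁻¹ᵁ U))
    haveI : IsReduced (Spec (A.presheaf.obj (op U))) := inferInstance
    exact isReduced_of_injective _ (asIso ((A.ι U hU).stalkMap P)).commRingCatIsoToRingEquiv.injective
  haveI : IsReduced A.spec := isReduced_of_isReduced_stalk _
  have hd : Dense (Set.range fun x : V => v x) := by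
    rw [dense_iff_inter_open]
    rintro O hO ⟨c, hc⟩
    obtain ⟨U, hU, hcU, -⟩ := exists_isAffineOpen_mem_and_subset (x := A.π c) (U := (⊤ : Y.Opens)) trivial
    obtain ⟨P, rfl⟩ := RelCone8.exists_ι_eq A U hU c hcU
    obtain ⟨_, ⟨_, ⟨g, rfl⟩, rfl⟩, hgP, hgO⟩ := PrimeSpectrum.isBasis_basic_opens.exists_subset_of_mem_open
      (show P ∈ (A.ι U hU) ⁻¹' O from hc) (hO.preimage (A.ι U hU).continuous)
    let g' : Γ(V, h ⁻¹ᵁ U) := g
    have hg : g' ≠ 0 := fun h0 => hgP (by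
      have : (g : A.presheaf.obj (op U)) = 0 := h0
      rw [this]; exact P.asIdeal.zero_mem)
    obtain ⟨w, hw⟩ : (V.basicOpen g' : Set V).Nonempty := by
      rw [Set.nonempty_iff_ne_empty]
      intro he
      exact hg ((AlgebraicGeometry.basicOpen_eq_bot_iff g').1 (Opens.ext he))
    obtain ⟨W, hW, hwW, hWle⟩ := exists_isAffineOpen_mem_and_subset (x := w) (U := V.basicOpen g') hw
    obtain ⟨a, rfl⟩ : w ∈ Set.range hW.fromSpec := by rw [hW.range_fromSpec]; exact hwW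
    have hm : ⊤ ≤ hW.fromSpec ⁻¹ᵁ (h ⁻¹ᵁ U) := le_trans hW.fromSpec_preimage_self.ge
      (hW.fromSpec.preimage_mono fun y hy => V.basicOpen_le g' (hWle hy))
    refine ⟨v (hW.fromSpec a), ?_, _, rfl⟩
    rw [← Scheme.Hom.comp_apply, hch U hU _ hW.fromSpec hm, Scheme.Hom.comp_apply]
    refine hgO ?_
    show (hW.fromSpec.appLE (h ⁻¹ᵁ U) ⊤ hm ≫ (Scheme.ΓSpecIso Γ(V, W)).hom).hom g' ∉ a.asIdeal
    exact (ConeSeries.mem_basicOpen_iff_val g' hW.fromSpec hm a).1 hw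
  haveI : IrreducibleSpace A.spec := by
    rw [irreducibleSpace_def, Set.top_eq_univ, ← hd.closure_eq]; rw [← Set.image_univ]
    exact ((irreducibleSpace_def V).1 inferInstance).image _ v.continuous.continuousOn |>.closure
  exact isIntegral_of_irreducibleSpace_of_isReduced _

theorem isNormal_directImage_spec (hloc : ∀ x : V, ∃ U : V.Opens, x ∈ U ∧ IsIntegral (U : Scheme.{u}))
    (hn : Pi1.IsNormalScheme V) : Pi1.IsNormalScheme (RelSpec.QCAlg.directImage h).spec := by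
  let A := RelSpec.QCAlg.directImage h
  intro c
  obtain ⟨U, hU, hcU, -⟩ := exists_isAffineOpen_mem_and_subset (x := A.π c) (U := (⊤ : Y.Opens)) trivial
  obtain ⟨P, rfl⟩ := RelCone8.exists_ι_eq A U hU c hcU
  haveI := ConeSeries.isOpenImmersion_ι A U hU
  let e := (asIso ((A.ι U hU).stalkMap P)).commRingCatIsoToRingEquiv
  let R := A.presheaf.obj (op U)
  let P' : PrimeSpectrum R := P
  letI : Algebra R ((Spec R).presheaf.stalk P') := StructureSheaf.stalkAlgebra _ P'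
  haveI : IsLocalization.AtPrime ((Spec R).presheaf.stalk P') P'.asIdeal := StructureSheaf.IsLocalization.to_stalk _ P'
  let eL := (IsLocalization.algEquiv P'.asIdeal.primeCompl (Localization.AtPrime P'.asIdeal)
    ((Spec R).presheaf.stalk P')).toRingEquiv
  haveI : IsDomain (Localization.AtPrime P'.asIdeal) :=
    GlobalNormal.isDomain_localization (V := V) (O := h ⁻¹ᵁ U) hloc hn P'.asIdeal
  haveI : IsIntegrallyClosed (Localization.AtPrime P'.asIdeal) :=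
    GlobalNormal.isIntegrallyClosed_localization (V := V) (O := h ⁻¹ᵁ U) hloc hn P'.asIdeal
  exact ⟨(e.trans eL.symm).toMulEquiv.isDomain _, IsIntegrallyClosed.of_equiv (e.trans eL.symm).symm⟩

theorem normal_of_iso {A B : Scheme.{u}} (e : A ≅ B)
    (h1 : ∀ x : A, ∃ U : A.Opens, x ∈ U ∧ IsIntegral (U : Scheme.{u})) (h2 : Pi1.IsNormalScheme A) :
    (∀ x : B, ∃ U : B.Opens, x ∈ U ∧ IsIntegral (U : Scheme.{u})) ∧ Pi1.IsNormalScheme B := by
  refine ⟨fun x => ?_, fun x => ?_⟩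
  · obtain ⟨U, hU, hI⟩ := h1 (e.inv x)
    haveI := hI
    haveI : Nonempty ((e.inv ⁻¹ᵁ U : B.Opens) : Scheme.{u}) := ⟨⟨x, hU⟩⟩
    exact ⟨e.inv ⁻¹ᵁ U, hU, isIntegral_of_isOpenImmersion (e.inv ∣_ U)⟩
  · let f := (asIso (e.inv.stalkMap x)).commRingCatIsoToRingEquiv
    haveI := (h2 (e.inv x)).1
    haveI := (h2 (e.inv x)).2
    exact ⟨f.symm.toMulEquiv.isDomain _, IsIntegrallyClosed.of_equiv f⟩

theorem exists_graded_iso {X : Scheme.{u}} {L : X.Modules} (hLq : Coh.IsQCoh L) (𝒜 : RelSpec.QCAlg X)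
    (jL : L ⟶ 𝒜.toModule) (hA : RelSpec.IsSymAlg L 𝒜 jL) :
    ∃ (G : RelProj.QCGrAlg X) (j : L ⟶ G.toModule), RelProj.IsGrSymAlg L G j ∧ Nonempty (G.toQCAlg.spec ≅ 𝒜.spec) := by
  obtain ⟨G, j, hG⟩ := SymAlgX.exists_isGrSymAlg hLq
  obtain ⟨a, ha, -⟩ := hA G.toQCAlg j
  obtain ⟨b, hb, -⟩ := hG.1 𝒜 jL
  have h1 : a ≫ b = 𝟙 𝒜 := (hA 𝒜 jL).unique (by
    rw [show RelSpec.QCAlg.Hom.toModuleMap (a ≫ b) = RelSpec.QCAlg.Hom.toModuleMap a ≫ RelSpec.QCAlg.Hom.toModuleMap b from rfl,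
      ← Category.assoc, ha, hb]) (Category.comp_id _)
  have h2 : b ≫ a = 𝟙 G.toQCAlg := (hG.1 G.toQCAlg j).unique (by
    rw [show RelSpec.QCAlg.Hom.toModuleMap (b ≫ a) = RelSpec.QCAlg.Hom.toModuleMap b ≫ RelSpec.QCAlg.Hom.toModuleMap a from rfl,
      ← Category.assoc, hb, ha]) (Category.comp_id _)
  exact ⟨G, j, hG, ⟨⟨RelSpec.QCAlg.specMap a, RelSpec.QCAlg.specMap b, specMap_comp_id b a h2,
    specMap_comp_id a b h1⟩⟩⟩

end GrothLib.RLpsi8.Contract
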