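import Groth.Agent.S0042
import Groth.Agent.S4457
import Groth.Agent.Lib.Cohom.Compare
import Groth.Agent.Lib.RelVanish.Basic
import Groth.Agent.Lib.FTIdeals9.Colim
import Groth.Agent.Lib.AbsApprox.EventualDim
import Groth.Agent.Lib.AbsApprox.ImageSystem
import Groth.Agent.Lib.AbsApprox.ProperSystem
import Groth.Agent.Lib.AbsApprox.Rel
import Groth.Agent.Lib.LimDesc.Proper
import Groth.Agent.Lib.LimDesc.Snd
import Groth.Agent.Lib.Dim.Scheme
import Groth.Agent.Lib.QCoh.Qcqs
import Mathlib.AlgebraicGeometry.Fiber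

/-!
# Higher direct images of quasi-coherent modules vanish above the fibre dimension
-/

set_option autoImplicit false
set_option backward.isDefEq.respectTransparency false
set_option linter.style.haveILetI false

universe u

open CategoryTheory CategoryTheory.Limits AlgebraicGeometry TopologicalSpace Opposite Abelian

namespace GrothLib.RLpsi8.FibreVanish

open GrothLib

variable {X S : Scheme.{u}}

/-- The fibres of a restriction are those of the morphism. -/
theorem dim_fiber_restrict (f : X ⟶ S) (W : S.Opens) (s : W) :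
    topologicalKrullDim ↥((f ∣_ W).fiber s) = topologicalKrullDim ↥(f.fiber (s : S)) := by
  rw [IsHomeomorph.topologicalKrullDim_eq _ ((f ∣_ W).fiberHomeo s).isHomeomorph,
    IsHomeomorph.topologicalKrullDim_eq _ (f.fiberHomeo (s : S)).isHomeomorph]
  refine GrothLib.Dim.IsEmbedding.topologicalKrullDim_eq
    (f := fun z : ((f ∣_ W) ⁻¹' {s}) => (f ⁻¹ᵁ W).ι z.1)
    ((f ⁻¹ᵁ W).ι.isEmbedding.comp Topology.IsEmbedding.subtypeVal) ?_
  ext x
  constructor
  · rintro ⟨⟨z, hz⟩, rfl⟩
    show f ((f ⁻¹ᵁ W).ι z) = (s : S)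
    rw [← Scheme.Hom.comp_apply, ← morphismRestrict_ι, Scheme.Hom.comp_apply, show (f ∣_ W) z = s from hz]
    rfl
  · intro (hx : f x = (s : S))
    have hxW : x ∈ f ⁻¹ᵁ W := by
      show f x ∈ W
      rw [hx]; exact s.2
    refine ⟨⟨⟨x, hxW⟩, ?_⟩, rfl⟩
    show (f ∣_ W) ⟨x, hxW⟩ = s
    apply W.ι.isOpenEmbedding.injective
    rw [← Scheme.Hom.comp_apply, morphismRestrict_ι]
    exact hx

/-- A proper morphism with fibres of dimension `≤ d` maps affinely to one over a Noetherian base. -/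
theorem exists_approx (f : X ⟶ S) [IsProper f] [CompactSpace S] [QuasiSeparatedSpace S] (d : ℕ)
    (hd : ∀ s : S, topologicalKrullDim ↥(f.fiber s) ≤ d) :
    ∃ (X₀ S₀ : Scheme.{u}) (h : X ⟶ X₀) (g : S ⟶ S₀) (f₀ : X₀ ⟶ S₀),
      IsAffineHom h ∧ IsAffineHom g ∧ IsProper f₀ ∧ IsNoetherian S₀ ∧ f ≫ g = h ≫ f₀ ∧
        ∀ s : S₀, topologicalKrullDim ↥(f₀.fiber s) ≤ d := by
  classical
  haveI : CompactSpace X := QuasiCompact.compactSpace_of_compactSpace f
  obtain ⟨I₁, _, _, _, D₁, π₁, -, h1, -, h3⟩ := GrothLib.AbsApprox.exists_proper_system f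
  obtain ⟨i₁⟩ : Nonempty I₁ := inferInstance
  let f₀ : (D₁.obj (Opposite.op i₁)).left ⟶ S := (D₁.obj (Opposite.op i₁)).hom
  haveI : IsProper f₀ := (h1 _).1
  haveI : LocallyOfFinitePresentation f₀ := (h1 _).2
  let ι : X ⟶ (D₁.obj (Opposite.op i₁)).left := (π₁.app (Opposite.op i₁)).left
  haveI : IsClosedImmersion ι := h3 _
  have hι : ι ≫ f₀ = f := Over.w (π₁.app (Opposite.op i₁))
  obtain ⟨𝒲⟩ := GrothLib.AbsApprox.nonempty_cov (S := S)
  let D := GrothLib.AbsApprox.Cov.system 𝒲
  let c : Limits.Cone D := GrothLib.AbsApprox.Cov.cone 𝒲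
  have hc : Limits.IsLimit c := GrothLib.AbsApprox.Cov.isLimitCone 𝒲
  haveI : ∀ (i j : 𝒲.Idxᵒᵖ) (a : i ⟶ j), IsAffineHom (D.map a) := fun i j a =>
    GrothLib.AbsApprox.Cov.isAffineHom_system a
  haveI hN : ∀ i, IsLocallyNoetherian (D.obj i) := fun i =>
    GrothLib.AbsApprox.Cov.isLocallyNoetherian_model i.unop.2
  haveI hC : ∀ i, CompactSpace ↥(D.obj i) := fun i =>
    inferInstanceAs (CompactSpace ↥(GrothLib.AbsApprox.Cov.model i.unop.2))
  haveI hQ : ∀ i, QuasiSeparatedSpace ↥(D.obj i) := fun i => inferInstance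
  obtain ⟨i₀⟩ : Nonempty 𝒲.Idxᵒᵖ := inferInstance
  let f₁ : (D₁.obj (Opposite.op i₁)).left ⟶ c.pt := f₀
  haveI : LocallyOfFinitePresentation f₁ := (h1 _).2
  haveI : IsProper f₁ := (h1 _).1
  haveI : QuasiCompact f₁ := (inferInstance : QuasiCompact f₀)
  haveI : QuasiSeparated f₁ := (inferInstance : QuasiSeparated f₀)
  obtain ⟨j, _, ⟨M⟩⟩ := GrothLib.LimDescend.exists_model_over D c hc i₀ f₁
  haveI := M.lfp
  haveI := M.qc
  haveI := M.qs
  haveI : CompactSpace M.obj := QuasiCompact.compactSpace_of_compactSpace M.hom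
  haveI : QuasiSeparatedSpace M.obj := quasiSeparatedSpace_of_quasiSeparated M.hom
  have hY : IsPullback (c.π.app j) (𝟙 c.pt) (𝟙 (D.obj j)) (c.π.app j) :=
    IsPullback.id_vert _
  obtain ⟨j', φ, hp⟩ := GrothLib.LimDesc.exists_snd_of_exists_stage D (i₀ := j) @IsProper M.hom
    (GrothLib.LimDesc.exists_isProper D hc M.hom (𝟙 _) hY M.isPullback)
  let a := Limits.pullback.snd M.hom (D.map φ)
  haveI : IsProper a := hp
  let q : (D₁.obj (Opposite.op i₁)).left ⟶ Limits.pullback M.hom (D.map φ) :=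
    Limits.pullback.lift M.proj (f₁ ≫ c.π.app j')
      (by rw [Category.assoc, c.w]; exact M.isPullback.w)
  have hP : IsPullback q f₁ a (c.π.app j') := by
    refine IsPullback.of_right ?_ (Limits.pullback.lift_snd _ _ _) (IsPullback.of_hasPullback M.hom (D.map φ))
    rw [Limits.pullback.lift_fst, c.w]
    exact M.isPullback
  haveI : CompactSpace ↥(Limits.pullback M.hom (D.map φ)) := QuasiCompact.compactSpace_of_compactSpace a
  haveI : QuasiSeparatedSpace ↥(Limits.pullback M.hom (D.map φ)) := quasiSeparatedSpace_of_quasiSeparated a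
  let G := GrothLib.LimDesc.diag D j' a
  let cG := GrothLib.LimDesc.cone D j' a hP
  have hG : Limits.IsLimit cG := GrothLib.LimDesc.isLimitCone D j' a hP hc
  haveI : ∀ i, IsAffineHom (cG.π.app i) := fun i => isAffineHom_π_app G cG hG i
  let ι' : X ⟶ cG.pt := ι
  haveI : IsClosedImmersion ι' := h3 _
  let incl := GrothLib.AbsApprox.imageIncl G cG ι'
  let DX := GrothLib.AbsApprox.imageSys G cG ι'
  let DS := Over.forget j' ⋙ D
  let ν : DX ⟶ DS :=
    { app := fun i => incl.app i ≫ Limits.pullback.snd a (D.map i.hom)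
      naturality := fun i k b => by
        rw [← Category.assoc, incl.naturality b]
        exact (Category.assoc _ _ _).trans ((congrArg _ (GrothLib.LimDesc.map_snd D j' a b)).trans
          (Category.assoc _ _ _).symm) }
  haveI hν : ∀ i, IsProper (ν.app i) := fun i => by
    show IsProper (incl.app i ≫ Limits.pullback.snd a (D.map i.hom))
    haveI : IsProper (Limits.pullback.snd a (D.map i.hom)) := MorphismProperty.pullback_snd _ _ hp
    exact MorphismProperty.comp_mem _ _ _ (inferInstance : IsProper _) ‹_›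
  let cX := GrothLib.AbsApprox.imageCone G cG ι'
  haveI : ∀ (i k : Over j') (b : i ⟶ k), IsAffineHom (DS.map b) := fun i k b =>
    inferInstanceAs (IsAffineHom (D.map b.left))
  haveI : ∀ i, CompactSpace ↥(DS.obj i) := fun i => hC i.left
  haveI : ∀ i, QuasiSeparatedSpace ↥(DS.obj i) := fun i => hQ i.left
  have hcl : ∀ (i k : Over j') (b : i ⟶ k),
      IsClosedImmersion (pullback.lift (DX.map b) (ν.app i) (ν.naturality b)) := by
    intro i k b
    let e := (GrothLib.LimDesc.isPullback_map D j' a b).isoPullback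
    let m : pullback (ν.app k) (DS.map b) ⟶ pullback (Limits.pullback.snd a (D.map k.hom)) (D.map b.left) :=
      pullback.map (ν.app k) (DS.map b) _ _ (incl.app k) (𝟙 _) (𝟙 _) (Category.comp_id _) (by simp [DS])
    haveI : IsClosedImmersion m :=
      MorphismProperty.pullbackMap (P := @IsClosedImmersion) inferInstance inferInstance rfl (Category.id_comp _).symm
    have key : pullback.lift (DX.map b) (ν.app i) (ν.naturality b) ≫ m = incl.app i ≫ e.hom := by
      apply pullback.hom_ext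
      · rw [Category.assoc, Category.assoc, IsPullback.isoPullback_hom_fst]
        simp only [m, pullback.map, pullback.lift_fst, pullback.lift_fst_assoc]
        exact incl.naturality b
      · rw [Category.assoc, Category.assoc, IsPullback.isoPullback_hom_snd]
        simp only [m, pullback.map, pullback.lift_snd, pullback.lift_snd_assoc, Category.comp_id]
        rfl
    haveI : IsClosedImmersion (pullback.lift (DX.map b) (ν.app i) (ν.naturality b) ≫ m) := by
      rw [key]; infer_instance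
    exact IsClosedImmersion.of_comp _ m
  have hf : ∀ i, f ≫ (c.whisker (Over.forget j')).π.app i = cX.π.app i ≫ ν.app i := fun i => by
    show f ≫ c.π.app i.left = cX.π.app i ≫ incl.app i ≫ Limits.pullback.snd a (D.map i.hom)
    rw [← Category.assoc, GrothLib.AbsApprox.imageCone_π]
    exact (((congrArg (ι' ≫ ·) (GrothLib.LimDesc.π_snd D j' a hP i)).trans
      ((Category.assoc ι f₀ _).symm.trans (by rw [hι]))).symm.trans (Category.assoc ι' _ _).symm)
  obtain ⟨i, hi⟩ := GrothLib.AbsApprox.exists_dim_fiber_le DX DS ν cX (c.whisker (Over.forget j'))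
    (GrothLib.AbsApprox.isLimitImageCone G cG ι' hG)
    ((Functor.Initial.isLimitWhiskerEquiv (Over.forget j') c).symm hc) hcl f hf d hd
  refine ⟨DX.obj i, D.obj i.left, cX.π.app i, c.π.app i.left, ν.app i, ?_, isAffineHom_π_app D c hc i.left,
    hν i, { toIsLocallyNoetherian := hN i.left, toCompactSpace := hC i.left }, hf i, hi⟩
  haveI : IsAffineHom (cX.π.app i ≫ incl.app i) := by
    rw [GrothLib.AbsApprox.imageCone_π]; infer_instance
  exact MorphismProperty.of_postcomp (W := @IsAffineHom) (W' := @IsSeparated) _ (incl.app i) inferInstance ‹_›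

/-- Sections over an affine of an abelian higher direct image vanish when it is zero. -/
theorem subsingleton_ext_of_isZero (f : X ⟶ S) [QuasiCompact f] [QuasiSeparated f] (M : X.Modules)
    [M.IsQuasicoherent] (p : ℕ) (h : IsZero ((Coh.RpushAb f p).obj (Coh.toAb M))) {V : S.Opens}
    (hV : IsAffineOpen V) :
    Subsingleton (Ext.{u} (Cohom.freeFun.obj (f ⁻¹ᵁ V)) (Coh.toAb M) p) := by
  haveI : Subsingleton (((Coh.RpushAb f p).obj (Coh.toAb M)).obj.obj (op V)) :=
    AddCommGrpCat.subsingleton_of_isZero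
      (((sheafToPresheaf _ _ ⋙ (evaluation _ _).obj (op V)).map_isZero h))
  obtain ⟨e⟩ := Cohom.nonempty_RpushAb_sections_equiv f p M hV
  exact e.toEquiv.subsingleton

/-- The Noetherian case. -/
theorem isZero_RpushAb_of_noetherian (f : X ⟶ S) [IsProper f] [IsNoetherian S] (d : ℕ)
    (hd : ∀ s : S, topologicalKrullDim ↥(f.fiber s) ≤ d) (M : X.Modules) [M.IsQuasicoherent] (p : ℕ)
    (hp : d < p) : IsZero ((Coh.RpushAb f p).obj (Coh.toAb M)) := by
  refine RelVanish.isZero_RpushAb_of_cover f M p (fun W : S.affineOpens => W.1) (fun W => W.2)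
    (fun x => by
      obtain ⟨W, hW, hx, -⟩ := exists_isAffineOpen_mem_and_subset (show x ∈ (⊤ : S.Opens) from trivial)
      exact ⟨⟨W, hW⟩, hx⟩) fun W => ?_
  let U := f ⁻¹ᵁ W.1
  let fW : (U : Scheme.{u}) ⟶ (W.1 : Scheme.{u}) := f ∣_ W.1
  haveI : IsProper fW := IsZariskiLocalAtTarget.restrict ‹IsProper f› W.1
  haveI : IsAffine (W.1 : Scheme.{u}) := W.2
  haveI : IsLocallyNoetherian (W.1 : Scheme.{u}) := inferInstance
  haveI : CompactSpace (U : Scheme.{u}) := QuasiCompact.compactSpace_of_compactSpace fW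
  haveI : QuasiSeparatedSpace (U : Scheme.{u}) := quasiSeparatedSpace_of_quasiSeparated fW
  obtain ⟨e⟩ := Cohom.nonempty_HHon_equiv M U p
  suffices Subsingleton (Coh.HHon X M U p) from e.symm.toEquiv.subsingleton
  haveI : (M.restrict U.ι).IsQuasicoherent := inferInstance
  refine FTIdeals9.subsingleton_HH_of_ft p fun Q i _ hQ hQft => ?_
  haveI := hQ
  have hz : IsZero ((Coh.RpushAb fW p).obj (Coh.toAb Q)) := by
    refine RelVanish.isZero_RpushAb_of_cover fW Q p (fun V : (W.1 : Scheme.{u}).affineOpens => V.1)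
      (fun V => V.2) (fun x => ⟨⟨⊤, isAffineOpen_top _⟩, trivial⟩) fun V => ?_
    obtain ⟨e'⟩ := Cohom.nonempty_RpushAb_sections_equiv fW p Q V.2
    suffices Subsingleton (((Coh.RpushAb fW p).obj (Coh.toAb Q)).obj.obj (op V.1)) from e'.toEquiv.subsingleton
    refine ⟨fun a b => TopCat.Presheaf.section_ext ((Coh.RpushAb fW p).obj (Coh.toAb Q)) V.1 a b fun x _ => ?_⟩
    haveI := AddCommGrpCat.subsingleton_of_isZero (Groth.Agent.S0042.result fW x d
      (by rw [dim_fiber_restrict]; exact hd _) Q ⟨hQ, hQft⟩ p hp)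
    exact Subsingleton.elim _ _
  have h2 := subsingleton_ext_of_isZero fW Q p hz (isAffineOpen_top _)
  rw [show fW ⁻¹ᵁ (⊤ : (W.1 : Scheme.{u}).Opens) = (⊤ : (U : Scheme.{u}).Opens) from Scheme.Hom.preimage_top fW] at h2
  haveI := h2
  exact (Cohom.HEquivTop (T := TopCat.of (U : Scheme.{u})) (Coh.toAb Q) p).toEquiv.subsingleton

/-- **Vanishing above the fibre dimension**, over any quasi-compact quasi-separated base. -/
theorem isZero_RpushAb (f : X ⟶ S) [IsProper f] [CompactSpace S] [QuasiSeparatedSpace S] (d : ℕ)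
    (hd : ∀ s : S, topologicalKrullDim ↥(f.fiber s) ≤ d) (M : X.Modules) [M.IsQuasicoherent] (p : ℕ)
    (hp : d < p) : IsZero ((Coh.RpushAb f p).obj (Coh.toAb M)) := by
  obtain ⟨X₀, S₀, h, g, f₀, _, _, _, _, hw, hd₀⟩ := exists_approx f d hd
  haveI : CompactSpace X := QuasiCompact.compactSpace_of_compactSpace f
  haveI : ((Scheme.Modules.pushforward h).obj M).IsQuasicoherent := QCoh.isQuasicoherent_pushforward h M
  have h0 := isZero_RpushAb_of_noetherian f₀ d hd₀ ((Scheme.Modules.pushforward h).obj M) p hp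
  refine RelVanish.isZero_RpushAb_of_cover f M p (fun W : S₀.affineOpens => g ⁻¹ᵁ W.1)
    (fun W => W.2.preimage g) (fun x => by
      obtain ⟨W, hW, hx, -⟩ := exists_isAffineOpen_mem_and_subset (show g x ∈ (⊤ : S₀.Opens) from trivial)
      exact ⟨⟨W, hW⟩, hx⟩) fun W => ?_
  haveI := subsingleton_ext_of_isZero f₀ _ p h0 W.2
  obtain ⟨e⟩ := Cohom.nonempty_ext_preimage_equiv h M (f₀ ⁻¹ᵁ W.1) p
  have : f ⁻¹ᵁ (g ⁻¹ᵁ W.1) = h ⁻¹ᵁ (f₀ ⁻¹ᵁ W.1) := by
    rw [← Scheme.Hom.comp_preimage, hw, Scheme.Hom.comp_preimage]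
  rw [this]
  exact e.toEquiv.subsingleton

/-- Vanishing of the sections over an affine open above which the fibres have dimension `≤ d`. -/
theorem subsingleton_sections (f : X ⟶ S) [IsProper f] (d : ℕ) {W : S.Opens} (hW : IsAffineOpen W)
    (hd : ∀ s ∈ W, topologicalKrullDim ↥(f.fiber s) ≤ d) (M : X.Modules) [M.IsQuasicoherent] (p : ℕ)
    (hp : d < p) : Subsingleton (((Coh.RpushAb f p).obj (Coh.toAb M)).obj.obj (op W)) := by
  haveI : IsAffine (W : Scheme.{u}) := hW
  haveI : IsProper (f ∣_ W) := IsZariskiLocalAtTarget.restrict ‹IsProper f› W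
  haveI : (M.restrict (f ⁻¹ᵁ W).ι).IsQuasicoherent := inferInstance
  have hz := isZero_RpushAb (f ∣_ W) d (fun s => by rw [dim_fiber_restrict]; exact hd _ s.2)
    (M.restrict (f ⁻¹ᵁ W).ι) p hp
  have h1 := subsingleton_ext_of_isZero (f ∣_ W) _ p hz (isAffineOpen_top _)
  obtain ⟨e'⟩ := Cohom.nonempty_ext_image_equiv (f ⁻¹ᵁ W).ι M ⊤ p
  rw [Scheme.Opens.ι_image_top] at e'
  haveI := @Equiv.subsingleton _ _ e'.toEquiv h1
  obtain ⟨e⟩ := Cohom.nonempty_RpushAb_sections_equiv f p M hW
  exact e.symm.toEquiv.subsingleton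

end GrothLib.RLpsi8.FibreVanish
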