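import Groth.Prelude.Def_EGA4Misc
import Mathlib.AlgebraicGeometry.Fiber
import Mathlib.AlgebraicGeometry.Morphisms.UniversallyInjective
import Mathlib.AlgebraicGeometry.Morphisms.FlatDescent

/-!
# Radicial at a point, via the fibre
-/

set_option autoImplicit false

universe u

open CategoryTheory CategoryTheory.Limits AlgebraicGeometry

namespace RLpsi8.RadAt

variable {X Y X' Y' : Scheme.{u}}

theorem pi_comp_bij {F E K : Type u} [Field F] [Field E] [Field K] (a : F →+* E) (b : E →+* K)
    (hb : Function.Bijective b) : (b.comp a).IsPurelyInseparable ↔ a.IsPurelyInseparable := by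
  constructor
  · intro h
    algebraize [a, b, b.comp a]
    exact IsPurelyInseparable.tower_bot F E K
  · intro h
    refine RingHom.IsPurelyInseparable.comp h ?_
    algebraize [b]
    exact isPurelyInseparable_iff_pow_mem E (ringExpChar E) |>.2 fun z =>
      ⟨0, by rw [pow_zero, pow_one]; exact hb.2 z⟩

theorem pi_bij_comp {F E K : Type u} [Field F] [Field E] [Field K] (a : F →+* E) (b : E →+* K)
    (ha : Function.Bijective a) : (b.comp a).IsPurelyInseparable ↔ b.IsPurelyInseparable := by
  constructor
  · intro h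
    algebraize [a, b, b.comp a]
    exact IsPurelyInseparable.tower_top F E K
  · intro h
    refine RingHom.IsPurelyInseparable.comp ?_ h
    algebraize [a]
    exact isPurelyInseparable_iff_pow_mem F (ringExpChar F) |>.2 fun z =>
      ⟨0, by rw [pow_zero, pow_one]; exact ha.2 z⟩

theorem bijective_residueFieldMap {A B : Scheme.{u}} (e : A ⟶ B) [IsPreimmersion e] (a : A) :
    Function.Bijective (e.residueFieldMap a).hom := by
  refine ⟨RingHom.injective _, fun w => ?_⟩
  obtain ⟨s, rfl⟩ := Scheme.residue_surjective A a w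
  obtain ⟨r, rfl⟩ := e.stalkMap_surjective a s
  exact ⟨B.residue _ r, ConcreteCategory.congr_hom (Scheme.residue_residueFieldMap e a) r⟩

theorem residue_pi_iff (f : X ⟶ Y) (y : Y) (z : f.fiber y) :
    ((f.fiberToSpecResidueField y).residueFieldMap z).hom.IsPurelyInseparable ↔
      (f.residueFieldMap (f.fiberι y z)).hom.IsPurelyInseparable := by
  have h1 : ((f.fiberι y ≫ f).residueFieldMap z).hom.IsPurelyInseparable ↔
      (f.residueFieldMap (f.fiberι y z)).hom.IsPurelyInseparable := by
    rw [Scheme.residueFieldMap_comp]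
    exact pi_comp_bij (f.residueFieldMap _).hom ((f.fiberι y).residueFieldMap z).hom
      (bijective_residueFieldMap (f.fiberι y) z)
  have h2 : ((f.fiberToSpecResidueField y ≫ Y.fromSpecResidueField y).residueFieldMap z).hom.IsPurelyInseparable ↔
      ((f.fiberToSpecResidueField y).residueFieldMap z).hom.IsPurelyInseparable := by
    rw [Scheme.residueFieldMap_comp]
    exact pi_bij_comp _ ((f.fiberToSpecResidueField y).residueFieldMap z).hom
      (bijective_residueFieldMap (Y.fromSpecResidueField y) _)
  rw [← h1, ← h2, Scheme.Hom.residueFieldMap_congr (f.fiber_fac y) z, CommRingCat.hom_comp]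
  exact (pi_bij_comp _ _ (ConcreteCategory.bijective_of_isIso (Y.residueFieldCongr _).hom)).symm

theorem isRadicialAt_iff (f : X ⟶ Y) (y : Y) :
    RadPt.IsRadicialAt f y ↔ UniversallyInjective (f.fiberToSpecResidueField y) := by
  have e : UniversallyInjective (f.fiberToSpecResidueField y) ↔
      (Function.Injective (f.fiberToSpecResidueField y) ∧
        ∀ z, ((f.fiberToSpecResidueField y).residueFieldMap z).hom.IsPurelyInseparable) :=
    (tfae_universallyInjective (f.fiberToSpecResidueField y)).out 0 2
  rw [e]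
  constructor
  · rintro ⟨hu, hr⟩
    have hy : ∀ z, f (f.fiberι y z) = y := fun z => by
      have : f.fiberι y z ∈ f ⁻¹' {y} := f.range_fiberι y ▸ ⟨z, rfl⟩
      exact this
    exact ⟨fun z z' _ => (f.fiberι y).isEmbedding.injective (hu _ _ (hy z) (hy z')),
      fun z => (residue_pi_iff f y z).2 (hr _ (hy z))⟩
  · rintro ⟨hi, hr⟩
    haveI : Subsingleton ↥(f.fiber y) := ⟨fun a b => hi (Subsingleton.elim (α := PrimeSpectrum _) _ _)⟩
    refine ⟨fun x x' hx hx' => ?_, fun x hx => ?_⟩
    · subst hx
      rw [← f.fiberι_asFiber x]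
      obtain ⟨z, rfl⟩ : x' ∈ Set.range (f.fiberι (f x)) := by
        rw [f.range_fiberι]; exact hx'
      exact congrArg _ (Subsingleton.elim _ _)
    · subst hx
      have := (residue_pi_iff f (f x) (f.asFiber x)).1 (hr _)
      rwa [f.fiberι_asFiber] at this

theorem isRadicialAt_iff_of_isPullback {f : X ⟶ Y} {h : Y' ⟶ Y} {f' : X' ⟶ Y'} {h' : X' ⟶ X}
    (sq : IsPullback h' f' f h) (y' : Y') :
    RadPt.IsRadicialAt f (h y') ↔ RadPt.IsRadicialAt f' y' := by
  rw [isRadicialAt_iff, isRadicialAt_iff]
  have hp := (isPullback_fiberToSpecResidueField_of_isPullback sq y')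
  refine ⟨fun hU => MorphismProperty.of_isPullback hp hU, fun hU => ?_⟩
  refine MorphismProperty.of_isPullback_of_descendsAlong (P := @UniversallyInjective)
    (Q := @Surjective ⊓ @Flat ⊓ @QuasiCompact) hp.flip ⟨⟨?_, ?_⟩, inferInstance⟩ hU
  · exact ⟨fun z => ⟨IsLocalRing.closedPoint _, Subsingleton.elim (α := PrimeSpectrum _) _ _⟩⟩
  · refine Flat.SpecMap_iff.mpr ?_
    letI := (h.residueFieldMap y').hom.toAlgebra
    exact inferInstanceAs (Module.Flat (Y.residueField (h y')) (Y'.residueField y'))

end RLpsi8.RadAt
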