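import Groth.Agent.Lib.RLpsi8.UnibRad
import Groth.Agent.Lib.RLpsi8.RadAt
import Groth.Agent.Lib.RLpsi8.BiratBC
import Groth.Agent.Lib.GeomUnib.Affine
import Groth.Agent.Lib.FEt21.Spread
import Mathlib.AlgebraicGeometry.Morphisms.Integral

/-!
# Geometric unibranchness along birational integral morphisms
-/

set_option autoImplicit false
set_option backward.isDefEq.respectTransparency false

universe u

open CategoryTheory CategoryTheory.Limits AlgebraicGeometry IsLocalRing

namespace RLpsi8.UnibRad

theorem isIso_stalkMap_of_flat_preimmersion {A B : Scheme.{u}} (e : A ⟶ B) [IsPreimmersion e] [Flat e]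
    (a : A) : IsIso (e.stalkMap a) := by
  rw [ConcreteCategory.isIso_iff_bijective]
  refine ⟨?_, e.stalkMap_surjective a⟩
  letI := (e.stalkMap a).hom.toAlgebra
  haveI : Module.Flat (B.presheaf.stalk (e a)) (A.presheaf.stalk a) := Flat.stalkMap e a
  haveI : IsLocalHom (algebraMap (B.presheaf.stalk (e a)) (A.presheaf.stalk a)) :=
    inferInstanceAs (IsLocalHom (e.stalkMap a).hom)
  haveI : Module.FaithfullyFlat (B.presheaf.stalk (e a)) (A.presheaf.stalk a) :=
    Module.FaithfullyFlat.of_flat_of_isLocalHom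
  exact FaithfulSMul.algebraMap_injective (B.presheaf.stalk (e a)) (A.presheaf.stalk a)

theorem radAtRing_iff {B C : Type u} [CommRing B] [CommRing C] [IsLocalRing B] (φ : B →+* C) :
    RadPt.IsRadicialAt (Spec.map (CommRingCat.ofHom φ)) (closedPoint B) ↔ RadAtRing φ := by
  let F := Spec.map (CommRingCat.ofHom φ)
  rw [RLpsi8.RadAt.isRadicialAt_iff]
  have e : UniversallyInjective (F.fiberToSpecResidueField (closedPoint B)) ↔
      ∀ (K : Type u) [Field K],
        Function.Injective (fun g : Spec (.of K) ⟶ F.fiber (closedPoint B) ↦ g ≫ F.fiberToSpecResidueField (closedPoint B)) :=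
    (tfae_universallyInjective (F.fiberToSpecResidueField (closedPoint B))).out 0 1
  rw [e]
  constructor
  · intro h K _ f g hfg hf
    let a := Spec.map (CommRingCat.ofHom f)
    let b := Spec.map (CommRingCat.ofHom g)
    have hab : a ≫ F = b ≫ F := by
      simp only [a, b, F, ← Spec.map_comp, ← CommRingCat.ofHom_comp, hfg]
    have hpt : (a ≫ F) (closedPoint K) = closedPoint B := by
      refine PrimeSpectrum.ext ?_
      show Ideal.comap φ (Ideal.comap f (maximalIdeal K)) = maximalIdeal B
      refine ((maximalIdeal.isMaximal B).eq_of_le ?_ fun b hb => ?_).symm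
      · exact Ideal.IsPrime.ne_top inferInstance
      · show f (φ b) ∈ maximalIdeal K
        rw [hf b hb]; exact zero_mem _
    obtain ⟨⟨x, t⟩, ht⟩ := (Scheme.SpecToEquivOfField K (Spec (CommRingCat.of B))).symm.surjective (a ≫ F)
    have ht' : Spec.map t ≫ (Spec (CommRingCat.of B)).fromSpecResidueField x = a ≫ F := ht
    have hx : x = closedPoint B := by
      rw [← hpt, ← ht', Scheme.Hom.comp_apply, Scheme.fromSpecResidueField_apply]
    subst hx
    let la : Spec (CommRingCat.of K) ⟶ F.fiber (closedPoint B) := pullback.lift a (Spec.map t) ht'.symm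
    let lb : Spec (CommRingCat.of K) ⟶ F.fiber (closedPoint B) := pullback.lift b (Spec.map t) (hab.symm.trans ht'.symm)
    have hl : la = lb := @h K _ la lb ((pullback.lift_snd _ _ _).trans (pullback.lift_snd _ _ _).symm)
    have : a = b := by
      rw [← pullback.lift_fst (f := F) (g := (Spec (CommRingCat.of B)).fromSpecResidueField (closedPoint B)) a (Spec.map t) ht'.symm]
      show la ≫ pullback.fst _ _ = b
      rw [hl]
      exact pullback.lift_fst _ _ _
    exact congrArg CommRingCat.Hom.hom (Spec.map_injective this)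
  · intro h K _ l₁ l₂ hl
    obtain ⟨f, hf⟩ := Spec.map_surjective (l₁ ≫ F.fiberι _)
    obtain ⟨g, hg⟩ := Spec.map_surjective (l₂ ≫ F.fiberι _)
    have hl' : l₁ ≫ F.fiberToSpecResidueField _ = l₂ ≫ F.fiberToSpecResidueField _ := hl
    have hfg : f.hom.comp φ = g.hom.comp φ := by
      have : Spec.map f ≫ F = Spec.map g ≫ F := by
        rw [hf, hg, Category.assoc, Category.assoc, F.fiber_fac, reassoc_of% hl']
      simp only [F, ← Spec.map_comp] at this
      exact congrArg CommRingCat.Hom.hom (Spec.map_injective this)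
    have hkill : ∀ b ∈ maximalIdeal B, f.hom (φ b) = 0 := by
      intro b hb
      have hpt : (Spec.map f ≫ F) (closedPoint K) = closedPoint B := by
        rw [hf, Category.assoc, F.fiber_fac, ← Category.assoc, Scheme.Hom.comp_apply,
          Scheme.fromSpecResidueField_apply]
      have h2 : Ideal.comap φ (Ideal.comap f.hom (maximalIdeal K)) = maximalIdeal B :=
        congrArg PrimeSpectrum.asIdeal hpt
      have h3 : f.hom (φ b) ∈ maximalIdeal K := h2.ge hb
      by_contra h4
      exact h3 (isUnit_iff_ne_zero.2 h4)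
    have := h K f.hom g.hom hfg hkill
    have hfg' : f = g := CommRingCat.hom_ext this
    refine pullback.hom_ext ?_ hl'
    show l₁ ≫ F.fiberι _ = l₂ ≫ F.fiberι _
    rw [← hf, ← hg, hfg']

theorem geomUnibranch_iff_radicialAt {X Y : Scheme.{u}} (f : X ⟶ Y) [IsIntegralHom f]
    (hf : RadPt.IsBirational f) (y : Y) :
    CAlg2.IsGeomUnibranch (Y.presheaf.stalk y) ↔
      (RadPt.IsRadicialAt f y ∧ ∀ x : X, f x = y → CAlg2.IsGeomUnibranch (X.presheaf.stalk x)) := by
  let S := Spec (Y.presheaf.stalk y)
  let f₁ := pullback.snd f (Y.fromSpecStalk y)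
  haveI : IsAffine (pullback f (Y.fromSpecStalk y)) := isAffine_of_isAffineHom f₁
  let X₁ := pullback f (Y.fromSpecStalk y)
  let C := Γ(X₁, ⊤)
  obtain ⟨φ, hφ⟩ := Spec.map_surjective (X₁.isoSpec.inv ≫ f₁)
  let g' : Spec C ⟶ X := X₁.isoSpec.inv ≫ pullback.fst f (Y.fromSpecStalk y)
  have sq : IsPullback g' (Spec.map (CommRingCat.ofHom φ.hom)) f (Y.fromSpecStalk y) := by
    refine (IsPullback.of_hasPullback f (Y.fromSpecStalk y)).of_iso X₁.isoSpec (Iso.refl _) (Iso.refl _)
      (Iso.refl _) ?_ ?_ (by simp) (by simp)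
    · simp [g']
    · rw [show Spec.map (CommRingCat.ofHom φ.hom) = X₁.isoSpec.inv ≫ f₁ from hφ]
      simp only [Iso.refl_hom, Category.comp_id, Iso.hom_inv_id_assoc]
      rfl
  haveI : Flat (Y.fromSpecStalk y) := GrothLib.FEt21.flat_fromSpecStalk y
  haveI : Flat g' := MorphismProperty.of_isPullback sq.flip inferInstance
  haveI : IsPreimmersion g' := MorphismProperty.of_isPullback sq.flip inferInstance
  haveI : IsIntegralHom (Spec.map (CommRingCat.ofHom φ.hom)) := MorphismProperty.of_isPullback sq inferInstance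
  have hint : φ.hom.IsIntegral := (IsIntegralHom.SpecMap_iff (φ := CommRingCat.ofHom φ.hom)).1 inferInstance
  have hbir := RLpsi8.BiratBC.isBirational_of_flat sq hf
  have hcp : (Y.fromSpecStalk y) (closedPoint (Y.presheaf.stalk y) : ↥(Spec (Y.presheaf.stalk y))) = y :=
    Scheme.fromSpecStalk_closedPoint
  have hrad : RadPt.IsRadicialAt f y ↔ RadAtRing φ.hom := by
    rw [← radAtRing_iff]
    have h := RLpsi8.RadAt.isRadicialAt_iff_of_isPullback sq (closedPoint (Y.presheaf.stalk y))
    erw [hcp] at h
    exact h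
  rw [geomUnibranch_iff φ.hom hint hbir, hrad]
  refine and_congr Iff.rfl ⟨fun h x hx => ?_, fun h Q _ => ?_⟩
  · obtain ⟨z, hz1, hz2⟩ := Scheme.exists_preimage_of_isPullback sq x (closedPoint (Y.presheaf.stalk y))
      (hx.trans hcp.symm)
    subst hz1
    haveI : z.asIdeal.IsMaximal := by
      refine Ideal.isMaximal_of_isIntegral_of_isMaximal_comap' φ.hom hint _ ?_
      rw [show Ideal.comap φ.hom z.asIdeal = maximalIdeal _ from congrArg PrimeSpectrum.asIdeal hz2]
      exact maximalIdeal.isMaximal _
    haveI := isIso_stalkMap_of_flat_preimmersion g' z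
    exact GrothLib.BrnchNhd.isGeomUnibranch_of_ringEquiv
      (asIso (g'.stalkMap z)).commRingCatIsoToRingEquiv.symm
      ((GrothLib.GeomUnib.isGeomUnibranch_stalk_spec_iff z).2 (h z.asIdeal))
  · let z : Spec C := ⟨Q, inferInstance⟩
    have hz : Spec.map (CommRingCat.ofHom φ.hom) z = closedPoint (Y.presheaf.stalk y) :=
      PrimeSpectrum.ext (eq_maximalIdeal (Ideal.isMaximal_comap_of_isIntegral_of_isMaximal' φ.hom hint Q))
    have hx : f (g' z) = y := by
      rw [← Scheme.Hom.comp_apply, sq.w, Scheme.Hom.comp_apply]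
      erw [hz]
      exact hcp
    haveI := isIso_stalkMap_of_flat_preimmersion g' z
    exact (GrothLib.GeomUnib.isGeomUnibranch_stalk_spec_iff z).1
      (GrothLib.BrnchNhd.isGeomUnibranch_of_ringEquiv
        (asIso (g'.stalkMap z)).commRingCatIsoToRingEquiv (h _ hx))

end RLpsi8.UnibRad
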