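import Groth.Agent.Lib.RLpsi8.FibreVanish
import Groth.Agent.Lib.Cohom.LinearLES
import Groth.Agent.Lib.Cohom.RpushModules
import Groth.Agent.Lib.BCCoh.RpushAffine
import Groth.Agent.Lib.ProjCoh.Finite
import Groth.Agent.Lib.Euler.Scalar
import Groth.Agent.Lib.FTIdeals9.Colim
import Groth.Agent.Lib.QCoh.Coherent
import Mathlib.AlgebraicGeometry.Morphisms.Finite

/-!
# The top higher direct image is of finite type (S7432)
-/

set_option autoImplicit false
set_option backward.isDefEq.respectTransparency false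
set_option linter.style.haveILetI false
set_option maxHeartbeats 400000

universe u

open CategoryTheory CategoryTheory.Limits AlgebraicGeometry TopologicalSpace Opposite Abelian
open GrothLib GrothLib.QCoh

noncomputable section

namespace GrothLib.RLpsi8.TopDegree

variable {X : Scheme.{u}}

/-- Restrictions of a morphism that vanishes on an affine cover. -/
theorem hom_eq_zero {Q C : X.Modules} [Q.IsQuasicoherent] (φ : Q ⟶ C) {ι : Type*} (V : ι → X.Opens)
    (hV : ∀ k, IsAffineOpen (V k)) (hcov : ∀ x, ∃ k, x ∈ V k)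
    (h : ∀ k (t : Γ(Q, V k)), φ.app (V k) t = 0) : φ = 0 := by
  ext W s
  rw [Scheme.Modules.Hom.zero_app]
  change φ.app W s = 0
  refine TopCat.Presheaf.section_ext ⟨C.presheaf, C.isSheaf⟩ W _ _ fun x hx => ?_
  obtain ⟨k, hk⟩ := hcov x
  obtain ⟨g, hg, hxg⟩ := QCoh.exists_basicOpen_mem (T := W) (hV k) hk hx
  obtain ⟨n, t, ht⟩ := (smulLift_and_smulSep_of_isAffineOpen (hV k) Q g).1
    (Q.presheaf.map (homOfLE hg).op s)
  have hu : IsUnit ((X.presheaf.map (homOfLE (X.basicOpen_le g)).op g : Γ(X, X.basicOpen g)) ^ n) :=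
    (RingedSpace.isUnit_res_basicOpen (X := X.toLocallyRingedSpace.toRingedSpace) g).pow n
  have h0 : φ.app (X.basicOpen g) (Q.presheaf.map (homOfLE hg).op s) = 0 := by
    refine hu.smul_left_cancel.1 ?_
    rw [smul_zero, ← Scheme.Modules.Hom.app_smul, ← ht, ← map_app, h, map_zero]
  rw [← map_app] at h0
  have e := congrArg (TopCat.Presheaf.germ C.presheaf (X.basicOpen g) x hxg) h0
  rw [TopCat.Presheaf.germ_res_apply, map_zero] at e
  rw [map_zero]
  exact e

/-- Finitely many classes come from a finite type submodule. -/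
theorem exists_ft_rep [CompactSpace X] [QuasiSeparatedSpace X] (F : X.Modules) [F.IsQuasicoherent]
    (p : ℕ) (x : Coh.HH X F p) :
    ∃ (Q : SubData F), SubData.LocGen Q ⊤ ∧ ∃ y : Coh.HH X Q.obj p,
      Sheaf.H.map ((QCoh.toAbFun X).map Q.ι) p y = x := by
  haveI := FTIdeals9.isIso_desc F
  have hc : IsColimit (FTIdeals9.ftCocone F) :=
    IsColimit.ofPointIso (t := FTIdeals9.ftCocone F) (colimit.isColimit (FTIdeals9.ftDiag F))
      (i := FTIdeals9.isIso_desc F)
  have := ColimCoh.preservesColimit_cohomology_of_isQuasiSeparated (X := X.carrier) (W := (⊤ : Opens X))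
    (isQuasiSeparated_univ_iff.2 inferInstance) CompactSpace.isCompact_univ (FTIdeals9.ftDiag F) p
  let G := (Sheaf.cohomologyPresheafFunctor (Opens.grothendieckTopology X.carrier) p).flip.obj (op (⊤ : Opens X))
  let e : ∀ A : CohTop.Ab X.carrier, CohTop.H A p ≃+ ↑(G.obj A) := fun A =>
    SheafCoh.extPrecompIso (SheafCoh.freeYTerminalIso (J := Opens.grothendieckTopology X.carrier)
      (isTerminalTop (α := Opens X))) A p
  obtain ⟨Q, y, hy⟩ := Concrete.isColimit_exists_rep _ (isColimitOfPreserves G hc) (e _ x)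
  refine ⟨Q.1, Q.2, (e _).symm y, (e _).injective ?_⟩
  refine Eq.trans ?_ hy
  have nat : ∀ {A B : CohTop.Ab X.carrier} (φ : A ⟶ B) (z : CohTop.H A p),
      e B (Sheaf.H.map φ p z) = (G.map φ).hom (e A z) := by
    intro A B φ z
    exact (Ext.comp_assoc_of_third_deg_zero (Ext.mk₀ _) z (Ext.mk₀ φ) (zero_add p)).symm
  rw [nat]
  exact congrArg _ ((e _).apply_symm_apply y)

variable {A₀ : Type u} [CommRing A₀]

/-- Vanishing in degree `d + 1` for quasi-coherent modules over an affine base. -/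
theorem subsingleton_HH_succ (f₀ : X ⟶ Spec (CommRingCat.of A₀)) [IsProper f₀] (d : ℕ)
    (hd : ∀ s, topologicalKrullDim ↥(f₀.fiber s) ≤ d) (Q : X.Modules) [Q.IsQuasicoherent] :
    Subsingleton (Coh.HH X Q (d + 1)) := by
  have hz := FibreVanish.isZero_RpushAb f₀ d hd Q (d + 1) (Nat.lt_succ_self d)
  have h2 := FibreVanish.subsingleton_ext_of_isZero f₀ Q (d + 1) hz (isAffineOpen_top _)
  rw [Scheme.Hom.preimage_top f₀] at h2
  haveI := h2
  exact (Cohom.HEquivTop (T := TopCat.of X) (Coh.toAb Q) (d + 1)).toEquiv.subsingleton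

/-- Right exactness of top degree cohomology. -/
theorem HH_map_surjective {M N : X.Modules} [M.IsQuasicoherent] [N.IsQuasicoherent] (φ : M ⟶ N) [Epi φ]
    (n : ℕ) (h : ∀ Q : X.Modules, Q.IsQuasicoherent → Subsingleton (Coh.HH X Q (n + 1))) :
    Function.Surjective (Sheaf.H.map ((QCoh.toAbFun X).map φ) n :
      Coh.HH X M n → Coh.HH X N n) := by
  have hS : (ShortComplex.mk (kernel.ι φ) φ (kernel.condition φ)).ShortExact :=
    { exact := ShortComplex.exact_kernel φ }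
  intro x
  let S := ShortComplex.mk (kernel.ι φ) φ (kernel.condition φ)
  let x' : Ext.{u} _ (S.map (QCoh.toAbFun X)).X₃ n := x
  have hsub : Subsingleton (Coh.HH X S.X₁ (n + 1)) := h _ (QCoh.isQuasicoherent_kernel φ)
  have h0 : x'.comp (QCoh.toAbFun_map_shortExact S hS).extClass rfl = 0 :=
    hsub.elim _ _
  obtain ⟨y, hy⟩ := Ext.covariant_sequence_exact₃ _ (QCoh.toAbFun_map_shortExact S hS) x' rfl h0
  exact ⟨y, hy⟩

/-- `HEquivTop` is natural. -/
theorem HEquivTop_nat {T : TopCat.{u}} {F F' : Cohom.AbSheaf T} (φ : F ⟶ F') (n : ℕ) (x : Sheaf.H F n) :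
    Cohom.HEquivTop F' n (Sheaf.H.map φ n x) =
      (Cohom.HEquivTop F n x).comp (Ext.mk₀ φ) (add_zero n) :=
  (Ext.comp_assoc_of_third_deg_zero (Ext.mk₀ _) x (Ext.mk₀ φ) (zero_add n)).symm

/-- Sections on the preimage in a fibred product with an affine are generated by both factors. -/
theorem subring_eq_top {P : Scheme.{u}} {A : Type u} [CommRing A] (f₀ : X ⟶ Spec (CommRingCat.of A₀))
    (q : A₀ →+* A) {fst : P ⟶ X} {snd : P ⟶ Spec (CommRingCat.of A)}
    (hP : IsPullback fst snd f₀ (Spec.map (CommRingCat.ofHom q))) {V : X.Opens} (hV : IsAffineOpen V)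
    (S : Subring Γ(P, fst ⁻¹ᵁ V)) (h1 : ∀ v, fst.app V v ∈ S)
    (h2 : ∀ a, P.presheaf.map (homOfLE (le_top : fst ⁻¹ᵁ V ≤ ⊤)).op (Coh.toGlobal snd a) ∈ S) :
    S = ⊤ := by
  haveI : IsAffine (V : Scheme.{u}) := hV
  have hpo := isPushout_appTop_of_isPullback
    ((isPullback_morphismRestrict fst V).flip.paste_horiz hP.flip).flip
  let τ : Γ(P, fst ⁻¹ᵁ V) →+* Γ(((fst ⁻¹ᵁ V : P.Opens) : Scheme.{u}), ⊤) :=
    (fst ⁻¹ᵁ V).topIso.inv.hom
  let S' : Subring Γ(((fst ⁻¹ᵁ V : P.Opens) : Scheme.{u}), ⊤) := S.map τ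
  have m1 : ∀ v, (fst ∣_ V).appTop v ∈ S' := fun v => by
    refine ⟨_, h1 (V.topIso.hom v), ?_⟩
    show ((fst ⁻¹ᵁ V).topIso.inv).hom (fst.app V (V.topIso.hom v)) = _
    rw [morphismRestrict_appTop]
    simp only [Scheme.Opens.topIso_inv, Scheme.Opens.topIso_hom, ConcreteCategory.comp_apply]
    change P.presheaf.map _ (fst.app V (X.presheaf.map _ v)) = P.presheaf.map _ (fst.app _ v)
    rw [← ConcreteCategory.comp_apply (X.presheaf.map _), fst.naturality, ConcreteCategory.comp_apply,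
      ← ConcreteCategory.comp_apply (P.presheaf.map _), ← Functor.map_comp]
    rfl
  have m2 : ∀ a, ((fst ⁻¹ᵁ V).ι ≫ snd).appTop a ∈ S' := fun a => by
    refine ⟨_, h2 ((Scheme.ΓSpecIso (CommRingCat.of A)).hom a), ?_⟩
    show ((fst ⁻¹ᵁ V).topIso.inv).hom _ = _
    have ea : Coh.toGlobal snd ((Scheme.ΓSpecIso (CommRingCat.of A)).hom a) = snd.appTop a :=
      congrArg snd.appTop (Iso.hom_inv_id_apply (Scheme.ΓSpecIso (CommRingCat.of A)) a)
    rw [ea]
    simp only [Scheme.Opens.topIso_inv, Scheme.Hom.comp_appTop,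
      ConcreteCategory.comp_apply, Scheme.Opens.ι_appTop]
    change P.presheaf.map _ (P.presheaf.map _ (snd.appTop a)) = P.presheaf.map _ (snd.appTop a)
    rw [← ConcreteCategory.comp_apply, ← Functor.map_comp]
    rfl
  let incl : CommRingCat.of S' ⟶ Γ(((fst ⁻¹ᵁ V : P.Opens) : Scheme.{u}), ⊤) :=
    CommRingCat.ofHom S'.subtype
  let l1 : Γ((V : Scheme.{u}), ⊤) ⟶ CommRingCat.of S' :=
    CommRingCat.ofHom ((fst ∣_ V).appTop.hom.codRestrict S' m1)
  let l2 : Γ(Spec (CommRingCat.of A), ⊤) ⟶ CommRingCat.of S' :=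
    CommRingCat.ofHom (((fst ⁻¹ᵁ V).ι ≫ snd).appTop.hom.codRestrict S' m2)
  have e1 : l1 ≫ incl = (fst ∣_ V).appTop := rfl
  have e2 : l2 ≫ incl = ((fst ⁻¹ᵁ V).ι ≫ snd).appTop := rfl
  haveI : Mono incl := ConcreteCategory.mono_of_injective _ Subtype.val_injective
  let r := hpo.desc l1 l2 (by rw [← cancel_mono incl, Category.assoc, Category.assoc, e1, e2]; exact hpo.w)
  have hr : r ≫ incl = 𝟙 _ := hpo.hom_ext (by rw [← Category.assoc, hpo.inl_desc, e1, Category.comp_id])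
    (by rw [← Category.assoc, hpo.inr_desc, e2, Category.comp_id])
  refine eq_top_iff.2 fun t _ => ?_
  have ht : (r (τ t)).1 = τ t := ConcreteCategory.congr_hom hr (τ t)
  obtain ⟨t', ht', e⟩ := (ht ▸ (r (τ t)).2 : τ t ∈ S')
  have hτ : Function.Injective τ :=
    (ConcreteCategory.bijective_of_isIso (fst ⁻¹ᵁ V).topIso.inv).1
  exact hτ e ▸ ht'

variable {X₀ : Scheme.{u}} {A : Type u} [CommRing A]

/-- A scalar of the base, acting on a direct image. -/
def σ (h : X ⟶ X₀) (fX : X ⟶ Spec (CommRingCat.of A)) (M : X.Modules) (a : A) :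
    (Scheme.Modules.pushforward h).obj M ⟶ (Scheme.Modules.pushforward h).obj M :=
  (Scheme.Modules.pushforward h).map (Euler.smulMod M (Coh.toGlobal fX a))

theorem σ_app (h : X ⟶ X₀) (fX : X ⟶ Spec (CommRingCat.of A)) (M : X.Modules) (a : A) (V : X₀.Opens)
    (z : Γ(M, h ⁻¹ᵁ V)) :
    (σ h fX M a).app V z =
      (X.presheaf.map (homOfLE (le_top : h ⁻¹ᵁ V ≤ ⊤)).op (Coh.toGlobal fX a) : Γ(X, h ⁻¹ᵁ V)) • z :=
  Euler.smulMod_app M _ _ z

/-- The scalar of the base on an open. -/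
abbrev scal {P : Scheme.{u}} (snd : P ⟶ Spec (CommRingCat.of A)) (U : P.Opens) (a : A) : Γ(P, U) :=
  P.presheaf.map (homOfLE (le_top : U ≤ ⊤)).op (Coh.toGlobal snd a)

/-- Generators of a coherent module over an affine open of the second model. -/
theorem exists_span {P : Scheme.{u}} (f₀ : X₀ ⟶ Spec (CommRingCat.of A₀)) (q : A₀ →+* A)
    {fst : P ⟶ X₀} {snd : P ⟶ Spec (CommRingCat.of A)}
    (hP : IsPullback fst snd f₀ (Spec.map (CommRingCat.ofHom q))) (k : X ⟶ P) [IsFinite k]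
    {V : X₀.Opens} (hV : IsAffineOpen V) (M : X.Modules) (hM : Coh.IsCoh M) :
    ∃ s : Finset Γ(M, k ⁻¹ᵁ (fst ⁻¹ᵁ V)),
      ∀ t : Γ(M, k ⁻¹ᵁ (fst ⁻¹ᵁ V)),
        t ∈ AddSubgroup.closure {z | ∃ (a : A) (v : Γ(X₀, V)), ∃ m ∈ s,
          z = (X.presheaf.map (homOfLE (le_top : k ⁻¹ᵁ (fst ⁻¹ᵁ V) ≤ ⊤)).op
              (Coh.toGlobal (k ≫ snd) a) : Γ(X, k ⁻¹ᵁ (fst ⁻¹ᵁ V))) •
            ((k.app (fst ⁻¹ᵁ V) (fst.app V v) : Γ(X, k ⁻¹ᵁ (fst ⁻¹ᵁ V))) • m)} := by
  classical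
  haveI := hM.1
  haveI : IsAffineHom fst := MorphismProperty.of_isPullback hP.flip inferInstance
  have hW : IsAffineOpen (fst ⁻¹ᵁ V) := hV.preimage fst
  have hU : IsAffineOpen (k ⁻¹ᵁ (fst ⁻¹ᵁ V)) := hW.preimage k
  have hscal : ∀ a : A, k.app (fst ⁻¹ᵁ V) (scal snd (fst ⁻¹ᵁ V) a) =
      X.presheaf.map (homOfLE (le_top : k ⁻¹ᵁ (fst ⁻¹ᵁ V) ≤ ⊤)).op (Coh.toGlobal (k ≫ snd) a) := by
    intro a
    change k.app _ (P.presheaf.map _ (snd.appTop ((Scheme.ΓSpecIso _).inv a))) =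
      X.presheaf.map _ ((k ≫ snd).appTop ((Scheme.ΓSpecIso _).inv a))
    rw [← ConcreteCategory.comp_apply (P.presheaf.map _), k.naturality, ConcreteCategory.comp_apply,
      Scheme.Hom.comp_appTop, ConcreteCategory.comp_apply]
    rfl
  letI := (k.app (fst ⁻¹ᵁ V)).hom.toAlgebra
  haveI : Module.Finite Γ(P, fst ⁻¹ᵁ V) Γ(X, k ⁻¹ᵁ (fst ⁻¹ᵁ V)) := k.finite_app (fst ⁻¹ᵁ V) hW
  haveI := QCoh.moduleFinite_of_isFiniteType M hM.2 hU
  letI : Module Γ(P, fst ⁻¹ᵁ V) Γ(M, k ⁻¹ᵁ (fst ⁻¹ᵁ V)) :=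
    Module.compHom _ (k.app (fst ⁻¹ᵁ V)).hom
  haveI : IsScalarTower Γ(P, fst ⁻¹ᵁ V) Γ(X, k ⁻¹ᵁ (fst ⁻¹ᵁ V)) Γ(M, k ⁻¹ᵁ (fst ⁻¹ᵁ V)) :=
    ⟨fun a b z => mul_smul ((k.app (fst ⁻¹ᵁ V)).hom a) b z⟩
  obtain ⟨s, hs⟩ := (Module.Finite.trans (R := Γ(P, fst ⁻¹ᵁ V)) Γ(X, k ⁻¹ᵁ (fst ⁻¹ᵁ V))
    Γ(M, k ⁻¹ᵁ (fst ⁻¹ᵁ V))).fg_top
  refine ⟨s, fun t => ?_⟩
  set K := AddSubgroup.closure {z : Γ(M, k ⁻¹ᵁ (fst ⁻¹ᵁ V)) | ∃ (a : A) (v : Γ(X₀, V)), ∃ m ∈ s,
    z = (X.presheaf.map (homOfLE (le_top : k ⁻¹ᵁ (fst ⁻¹ᵁ V) ≤ ⊤)).op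
        (Coh.toGlobal (k ≫ snd) a) : Γ(X, k ⁻¹ᵁ (fst ⁻¹ᵁ V))) •
      ((k.app (fst ⁻¹ᵁ V) (fst.app V v) : Γ(X, k ⁻¹ᵁ (fst ⁻¹ᵁ V))) • m)} with hK
  have hv : ∀ v : Γ(X₀, V), ∀ z ∈ K,
      (k.app (fst ⁻¹ᵁ V) (fst.app V v) : Γ(X, k ⁻¹ᵁ (fst ⁻¹ᵁ V))) • z ∈ K := by
    intro v z hz
    induction hz using AddSubgroup.closure_induction with
    | mem z hz =>
      obtain ⟨a, w, m, hm, rfl⟩ := hz
      refine AddSubgroup.subset_closure ⟨a, v * w, m, hm, ?_⟩
      rw [map_mul, map_mul, smul_comm, mul_smul]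
    | zero => rw [smul_zero]; exact zero_mem _
    | add y z _ _ hy hz => rw [smul_add]; exact add_mem hy hz
    | neg y _ hy => rw [smul_neg]; exact neg_mem hy
  have ha : ∀ a : A, ∀ z ∈ K,
      (k.app (fst ⁻¹ᵁ V) (scal snd (fst ⁻¹ᵁ V) a) : Γ(X, k ⁻¹ᵁ (fst ⁻¹ᵁ V))) • z ∈ K := by
    intro a z hz
    induction hz using AddSubgroup.closure_induction with
    | mem z hz =>
      obtain ⟨b, w, m, hm, rfl⟩ := hz
      refine AddSubgroup.subset_closure ⟨a * b, w, m, hm, ?_⟩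
      rw [hscal, map_mul, map_mul]
      simp only [← mul_smul, mul_assoc]
    | zero => rw [smul_zero]; exact zero_mem _
    | add y z _ _ hy hz => rw [smul_add]; exact add_mem hy hz
    | neg y _ hy => rw [smul_neg]; exact neg_mem hy
  let S : Subring Γ(P, fst ⁻¹ᵁ V) :=
    { carrier := {b | ∀ z ∈ K, b • z ∈ K}
      one_mem' := fun z hz => by simpa only [one_smul] using hz
      mul_mem' := fun {b c} hb hc z hz => by
        rw [mul_smul]
        exact hb _ (hc z hz)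
      zero_mem' := fun z hz => by
        rw [zero_smul]
        exact zero_mem _
      add_mem' := fun {b c} hb hc z hz => by
        rw [add_smul]
        exact add_mem (hb z hz) (hc z hz)
      neg_mem' := fun {b} hb z hz => by
        rw [neg_smul]
        exact neg_mem (hb z hz) }
  have hS : S = ⊤ := subring_eq_top f₀ q hP hV S hv ha
  have hm : ∀ m ∈ s, m ∈ K := fun m hm => AddSubgroup.subset_closure ⟨1, 1, m, hm, by
    simp only [map_one, one_smul]⟩
  have ht : t ∈ Submodule.span Γ(P, fst ⁻¹ᵁ V) (s : Set Γ(M, k ⁻¹ᵁ (fst ⁻¹ᵁ V))) :=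
    hs ▸ Submodule.mem_top
  show t ∈ K
  induction ht using Submodule.span_induction with
  | mem m hm' => exact hm m hm'
  | zero => exact zero_mem _
  | add y z _ _ hy hz => exact add_mem hy hz
  | smul b y _ hy => exact (hS ▸ Subring.mem_top b : b ∈ S) y hy

/-- Global functions on the target act on a direct image through their pull-back. -/
theorem smulAb_pushforward (h : X ⟶ X₀) (M : X.Modules) (r : Coh.Γtop X₀) :
    Coh.smulAb ((Scheme.Modules.pushforward h).obj M) r =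
      (QCoh.toAbFun X₀).map ((Scheme.Modules.pushforward h).map (Euler.smulMod M (h.appTop r))) := by
  ext U (z : Γ(M, h ⁻¹ᵁ U.unop))
  change (h.app U.unop (X₀.presheaf.map (homOfLE (le_top : U.unop ≤ ⊤)).op r) :
      Γ(X, h ⁻¹ᵁ U.unop)) • z =
    (X.presheaf.map (homOfLE (le_top : h ⁻¹ᵁ U.unop ≤ ⊤)).op (h.appTop r) : Γ(X, h ⁻¹ᵁ U.unop)) • z
  congr 1
  rw [← ConcreteCategory.comp_apply (X₀.presheaf.map _), h.naturality, ConcreteCategory.comp_apply]
  rfl

/-- The two ways around a model. -/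
theorem appTop_toGlobal (h : X ⟶ X₀) (fX : X ⟶ Spec (CommRingCat.of A))
    (f₀ : X₀ ⟶ Spec (CommRingCat.of A₀)) (q : A₀ →+* A)
    (hw : h ≫ f₀ = fX ≫ Spec.map (CommRingCat.ofHom q)) (r : A₀) :
    h.appTop (Coh.toGlobal f₀ r) = Coh.toGlobal fX (q r) := by
  have hnat : (Scheme.ΓSpecIso (CommRingCat.of A)).inv (q r) =
      (Spec.map (CommRingCat.ofHom q)).appTop ((Scheme.ΓSpecIso (CommRingCat.of A₀)).inv r) :=
    ConcreteCategory.congr_hom (Scheme.ΓSpecIso_inv_naturality (CommRingCat.ofHom q)) r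
  change h.appTop (f₀.appTop ((Scheme.ΓSpecIso _).inv r)) = fX.appTop ((Scheme.ΓSpecIso _).inv (q r))
  rw [hnat, ← ConcreteCategory.comp_apply, ← Scheme.Hom.comp_appTop, hw, Scheme.Hom.comp_appTop,
    ConcreteCategory.comp_apply]

/-- Cohomology along an affine morphism, compatibly with endomorphisms. -/
theorem exists_equiv_push (h : X ⟶ X₀) [IsAffineHom h] (M : X.Modules) [M.IsQuasicoherent] (d : ℕ) :
    ∃ e : Coh.HH X M d ≃+ Coh.HH X₀ ((Scheme.Modules.pushforward h).obj M) d,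
      ∀ (φ : M ⟶ M) (x : Coh.HH X M d),
        e (Sheaf.H.map ((QCoh.toAbFun X).map φ) d x) =
          Sheaf.H.map ((QCoh.toAbFun X₀).map ((Scheme.Modules.pushforward h).map φ)) d (e x) := by
  obtain ⟨cmp⟩ := Cohom.nonempty_comparison_pushFun h.base X₀.isBasis_affineOpens (⊤ : X₀.Opens) d
  have hac := Cohom.acyclicOn_of_isAffineHom h M
  refine ⟨(Cohom.HEquivTop (T := TopCat.of X) (Coh.toAb M) d).trans
      ((cmp.equiv (Coh.toAb M) hac).trans (Cohom.HEquivTop (T := TopCat.of X₀)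
        (Coh.toAb ((Scheme.Modules.pushforward h).obj M)) d).symm), fun φ x => ?_⟩
  apply (Cohom.HEquivTop (T := TopCat.of X₀)
    (Coh.toAb ((Scheme.Modules.pushforward h).obj M)) d).injective
  refine ((Cohom.HEquivTop _ d).apply_symm_apply _).trans ?_
  refine Eq.trans ?_ (HEquivTop_nat _ d _).symm
  refine (congrArg _ (HEquivTop_nat ((QCoh.toAbFun X).map φ) d x)).trans ?_
  refine (cmp.naturality ((QCoh.toAbFun X).map φ) hac hac _).trans ?_
  exact congrArg (fun z => Ext.comp z (Ext.mk₀ _) (add_zero d))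
    ((Cohom.HEquivTop _ d).apply_symm_apply _).symm

/-- A finite type submodule lies in the image of finitely many translates of a generating one. -/
theorem exists_translates {F : X.Modules} [F.IsQuasicoherent] {N : X.Modules} [N.IsQuasicoherent]
    {α : Type u} (t : α → (N ⟶ F)) {ι : Type u} [Finite ι] (V : ι → X.Opens) (hV : ∀ c, IsAffineOpen (V c))
    (hcov : ∀ x, ∃ c, x ∈ V c)
    (hgen : ∀ (c : ι) (z : Γ(F, V c)),
      z ∈ AddSubgroup.closure {w | ∃ (a : α) (n : Γ(N, V c)), w = (t a).app (V c) n})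
    (Q : SubData F) (hQ : SubData.LocGen Q ⊤) :
    ∃ (T : Finset α), ∃ (_ : HasBiproduct fun _ : T => N),
      Q.ι ≫ cokernel.π (biproduct.desc fun a : T => t a.1) = 0 := by
  classical
  haveI hQq : Q.obj.IsQuasicoherent := hQ.isQuasicoherent
  choose G hG using fun c : ι => (QCoh.moduleFinite_of_isFiniteType Q.obj hQ.isFiniteType (hV c)).fg_top
  have hT : ∀ (c : ι) (z : Γ(F, V c)), ∃ T : Finset α,
      z ∈ AddSubgroup.closure {w | ∃ a ∈ T, ∃ n : Γ(N, V c), w = (t a).app (V c) n} := by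
    intro c z
    have hz := hgen c z
    induction hz using AddSubgroup.closure_induction with
    | mem z hz =>
      obtain ⟨a, n, rfl⟩ := hz
      exact ⟨{a}, AddSubgroup.subset_closure ⟨a, Finset.mem_singleton_self a, n, rfl⟩⟩
    | zero => exact ⟨∅, zero_mem _⟩
    | add y z _ _ hy hz =>
      obtain ⟨T₁, h1⟩ := hy
      obtain ⟨T₂, h2⟩ := hz
      refine ⟨T₁ ∪ T₂, add_mem (AddSubgroup.closure_mono ?_ h1) (AddSubgroup.closure_mono ?_ h2)⟩
      · rintro z ⟨a, ha, r⟩; exact ⟨a, Finset.mem_union_left _ ha, r⟩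
      · rintro z ⟨a, ha, r⟩; exact ⟨a, Finset.mem_union_right _ ha, r⟩
    | neg y _ hy =>
      obtain ⟨T₁, h1⟩ := hy
      exact ⟨T₁, neg_mem h1⟩
  choose Tt hTt using fun (c : ι) (g : Γ(Q.obj, V c)) => hT c (Q.ι.app _ g)
  haveI : Fintype ι := Fintype.ofFinite _
  let T : Finset α := Finset.univ.biUnion fun c => (G c).biUnion fun g => Tt c g
  haveI : HasFiniteBiproducts X.Modules := HasFiniteBiproducts.of_hasFiniteProducts
  refine ⟨T, inferInstance, hom_eq_zero _ V hV hcov fun c z => ?_⟩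
  have hz : z ∈ Submodule.span Γ(X, V c) (G c : Set Γ(Q.obj, V c)) := hG c ▸ Submodule.mem_top
  induction hz using Submodule.span_induction with
  | mem g hg =>
    show (cokernel.π (biproduct.desc fun a : T => t a.1)).app _ (Q.ι.app _ g) = 0
    have hg' := hTt c g
    revert hg'
    generalize Q.ι.app _ g = z₀
    intro hg'
    induction hg' using AddSubgroup.closure_induction with
    | mem z hz =>
      obtain ⟨a, ha, n, rfl⟩ := hz
      have haT : a ∈ T := Finset.mem_biUnion.mpr ⟨c, Finset.mem_univ _,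
        Finset.mem_biUnion.mpr ⟨g, hg, ha⟩⟩
      have e1 : t a ≫ cokernel.π (biproduct.desc fun a : T => t a.1) = 0 := by
        have e0 : biproduct.ι (fun _ : T => N) ⟨a, haT⟩ ≫ biproduct.desc (fun a : T => t a.1) = t a :=
          biproduct.ι_desc _ _
        rw [← e0, Category.assoc, cokernel.condition, comp_zero]
      exact congrArg (fun m : N ⟶ _ => m.app (V c) n) e1
    | zero => exact map_zero _
    | add y z _ _ hy hz => rw [map_add, hy, hz, add_zero]
    | neg y _ hy => rw [map_neg, hy, neg_zero]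
  | zero => exact map_zero _
  | add y z _ _ hy hz => rw [map_add, hy, hz, add_zero]
  | smul r y _ hy => rw [Scheme.Modules.Hom.app_smul, hy, smul_zero]

/-- Additivity of the map on cohomology in the morphism. -/
theorem H_map_sum {M N : X.Modules} {α : Type*} (s : Finset α) (φ : α → (M ⟶ N)) (d : ℕ)
    (w : Coh.HH X M d) :
    Sheaf.H.map ((QCoh.toAbFun X).map (∑ a ∈ s, φ a)) d w =
      ∑ a ∈ s, Sheaf.H.map ((QCoh.toAbFun X).map (φ a)) d w := by
  classical
  induction s using Finset.induction with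
  | empty =>
    simp only [Finset.sum_empty]
    rw [Functor.map_zero, Cohom.H_map_eq_comp, Ext.mk₀_zero, Ext.comp_zero]
  | insert a S ha ih =>
    rw [Finset.sum_insert ha, Finset.sum_insert ha, Functor.map_add, Sheaf.H.map_add_apply, ih]

/-- Classes of the top degree come from translates of a generating submodule. -/
theorem mem_of_translates {F : X.Modules} [F.IsQuasicoherent] [CompactSpace X] [QuasiSeparatedSpace X]
    {N : X.Modules} [N.IsQuasicoherent] (d : ℕ)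
    (hvan : ∀ Q : X.Modules, Q.IsQuasicoherent → Subsingleton (Coh.HH X Q (d + 1)))
    {α : Type u} (t : α → (N ⟶ F)) {ι : Type u} [Finite ι] (V : ι → X.Opens) (hV : ∀ c, IsAffineOpen (V c))
    (hcov : ∀ x, ∃ c, x ∈ V c)
    (hgen : ∀ (c : ι) (z : Γ(F, V c)),
      z ∈ AddSubgroup.closure {w | ∃ (a : α) (n : Γ(N, V c)), w = (t a).app (V c) n})
    (x : Coh.HH X F d) :
    x ∈ AddSubgroup.closure {z | ∃ (a : α) (w : Coh.HH X N d),
      z = Sheaf.H.map ((QCoh.toAbFun X).map (t a)) d w} := by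
  classical
  obtain ⟨Q, hQ, xQ, hxQ⟩ := exists_ft_rep F d x
  obtain ⟨T, hb, hz⟩ := exists_translates t V hV hcov hgen Q hQ
  haveI := hb
  haveI : HasFiniteBiproducts X.Modules := HasFiniteBiproducts.of_hasFiniteProducts
  let Φ := biproduct.desc fun a : T => t a.1
  haveI hsumq : (⨁ fun _ : T => N).IsQuasicoherent :=
    haveI : (∐ fun _ : T => N).IsQuasicoherent :=
      QCoh.isQuasicoherent_colimit (Discrete.functor fun _ : T => N) fun _ => ‹N.IsQuasicoherent›
    QCoh.isQuasicoherent_of_iso (M := ∐ fun _ : T => N) (biproduct.isoCoproduct _).symm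
  haveI : (Abelian.image Φ).IsQuasicoherent := QCoh.isQuasicoherent_image Φ
  let j : Q.obj ⟶ Abelian.image Φ := kernel.lift _ Q.ι hz
  obtain ⟨w, hw⟩ := HH_map_surjective (Abelian.factorThruImage Φ) d hvan
    (Sheaf.H.map ((QCoh.toAbFun X).map j) d xQ)
  have hj : j ≫ Abelian.image.ι Φ = Q.ι := kernel.lift_ι _ _ _
  have hx : x = Sheaf.H.map ((QCoh.toAbFun X).map Φ) d w := by
    rw [← hxQ, ← Abelian.image.fac Φ, Functor.map_comp, Sheaf.H.map_comp_apply, hw,
      ← Sheaf.H.map_comp_apply, ← Functor.map_comp, hj]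
  have hsum : Φ = ∑ a : T, biproduct.π (fun _ : T => N) a ≫ t a.1 := by
    refine biproduct.hom_ext' _ _ fun b => ?_
    rw [biproduct.ι_desc, Preadditive.comp_sum, Finset.sum_eq_single b]
    · rw [biproduct.ι_π_self_assoc]
    · intro c _ hc
      rw [biproduct.ι_π_ne_assoc _ (Ne.symm hc), zero_comp]
    · exact fun hb => absurd (Finset.mem_univ b) hb
  rw [hx, hsum, H_map_sum]
  refine sum_mem fun a _ => AddSubgroup.subset_closure ⟨a.1,
    Sheaf.H.map ((QCoh.toAbFun X).map (biproduct.π (fun _ : T => N) a)) d w, ?_⟩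
  rw [Functor.map_comp, Sheaf.H.map_comp_apply]

/-- The key finiteness, in a relative model. -/
theorem exists_generators {P : Scheme.{u}} [IsNoetherianRing A₀] (f₀ : X₀ ⟶ Spec (CommRingCat.of A₀))
    [IsProper f₀] (d : ℕ) (hd : ∀ s, topologicalKrullDim ↥(f₀.fiber s) ≤ d) (q : A₀ →+* A)
    {fst : P ⟶ X₀} {snd : P ⟶ Spec (CommRingCat.of A)}
    (hP : IsPullback fst snd f₀ (Spec.map (CommRingCat.ofHom q))) (k : X ⟶ P) [IsFinite k]
    (M : X.Modules) (hM : Coh.IsCoh M) :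
    ∃ G : Finset (Coh.HH X M d), ∀ x : Coh.HH X M d,
      x ∈ AddSubgroup.closure {z | ∃ (a : A), ∃ g ∈ G,
        z = Sheaf.H.map (Coh.smulAb M (Coh.toGlobal (k ≫ snd) a)) d g} := by
  classical
  haveI := hM.1
  haveI : IsAffineHom fst := MorphismProperty.of_isPullback hP.flip inferInstance
  let h := k ≫ fst
  let fX := k ≫ snd
  haveI : IsAffineHom h := inferInstanceAs (IsAffineHom (k ≫ fst))
  letI : X₀.Over (Spec (CommRingCat.of A₀)) := ⟨f₀⟩
  haveI : IsProper (X₀ ↘ Spec (CommRingCat.of A₀)) := ‹IsProper f₀›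
  haveI : IsLocallyNoetherian X₀ := LocallyOfFiniteType.isLocallyNoetherian f₀
  haveI : CompactSpace X₀ := QuasiCompact.compactSpace_of_compactSpace f₀
  let F := (Scheme.Modules.pushforward h).obj M
  haveI : CompactSpace X := QuasiCompact.compactSpace_of_compactSpace h
  haveI hFq : F.IsQuasicoherent := QCoh.isQuasicoherent_pushforward h M
  let 𝒱 := X₀.affineCover.finiteSubcover
  have hcov : ∀ x : X₀, ∃ c : 𝒱.I₀, x ∈ (𝒱.f c).opensRange := fun x => ⟨𝒱.idx x, 𝒱.covers x⟩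
  have haff : ∀ c : 𝒱.I₀, IsAffineOpen (𝒱.f c).opensRange := fun c => isAffineOpen_opensRange _
  choose s hs using fun c : 𝒱.I₀ => exists_span f₀ q hP k (haff c) M hM
  obtain ⟨NN, hNN, hsec⟩ := FTIdeals9.exists_locGen_family (F := F)
    (κ := Σ c : 𝒱.I₀, (s c : Set Γ(M, k ⁻¹ᵁ (fst ⁻¹ᵁ (𝒱.f c).opensRange))))
    (fun p => (𝒱.f p.1).opensRange) (fun p => (haff p.1).isCompact) fun p => p.2.1
  haveI hNq : NN.obj.IsQuasicoherent := hNN.isQuasicoherent
  obtain ⟨gN, hgN⟩ := (ProjCoh.moduleFinite_HH A₀ NN.obj ⟨hNq, hNN.isFiniteType⟩ d).fg_top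
  obtain ⟨e, he⟩ := exists_equiv_push h M d
  have he' : ∀ (a : A) (x : Coh.HH X M d), e (Sheaf.H.map (Coh.smulAb M (Coh.toGlobal fX a)) d x) =
      Sheaf.H.map ((QCoh.toAbFun X₀).map (σ h fX M a)) d (e x) := fun a x =>
    he (Euler.smulMod M (Coh.toGlobal fX a)) x
  have hgen : ∀ (c : 𝒱.I₀) (z : Γ(F, (𝒱.f c).opensRange)),
      z ∈ AddSubgroup.closure {w | ∃ (a : A) (n : Γ(NN.obj, (𝒱.f c).opensRange)),
        w = (NN.ι ≫ σ h fX M a).app _ n} := by
    intro c z
    refine AddSubgroup.closure_mono ?_ (hs c z)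
    rintro w ⟨a, v, m, hm, rfl⟩
    let mF : Γ(F, (𝒱.f c).opensRange) := m
    let m' : Γ(NN.obj, (𝒱.f c).opensRange) := NN.lift mF (hsec ⟨c, m, hm⟩)
    refine ⟨a, v • m', ?_⟩
    show _ = (σ h fX M a).app _ (NN.ι.app _ (v • m'))
    rw [Scheme.Modules.Hom.app_smul, σ_app]
    rfl
  have hσ : ∀ r : A₀, Coh.smulAb F (Coh.toGlobal f₀ r) = (QCoh.toAbFun X₀).map (σ h fX M (q r)) := by
    intro r
    rw [smulAb_pushforward h M (Coh.toGlobal f₀ r), appTop_toGlobal h fX f₀ q (by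
      simp only [h, fX, Category.assoc, hP.w]) r]
    rfl
  refine ⟨gN.image fun y => e.symm (Sheaf.H.map ((QCoh.toAbFun X₀).map NN.ι) d y), fun x => ?_⟩
  set K := AddSubgroup.closure {z | ∃ (a : A),
    ∃ g ∈ gN.image fun y => e.symm (Sheaf.H.map ((QCoh.toAbFun X₀).map NN.ι) d y),
      z = Sheaf.H.map (Coh.smulAb M (Coh.toGlobal fX a)) d g} with hK
  have hspan : ∀ (a : A) (w : Coh.HH X₀ NN.obj d),
      e.symm (Sheaf.H.map ((QCoh.toAbFun X₀).map (σ h fX M a)) d
        (Sheaf.H.map ((QCoh.toAbFun X₀).map NN.ι) d w)) ∈ K := by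
    intro a w
    have hw : w ∈ Submodule.span A₀ (gN : Set (Coh.HH X₀ NN.obj d)) := hgN ▸ Submodule.mem_top
    induction hw using Submodule.span_induction generalizing a with
    | mem y hy =>
      refine AddSubgroup.subset_closure ⟨a, _, Finset.mem_image.mpr ⟨y, hy, rfl⟩, ?_⟩
      rw [AddEquiv.symm_apply_eq, he', AddEquiv.apply_symm_apply]
    | zero => simp only [map_zero]; exact zero_mem _
    | add y z _ _ hy hz => simp only [map_add]; exact add_mem (hy a) (hz a)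
    | smul r y _ hy =>
      have h1 : Sheaf.H.map ((QCoh.toAbFun X₀).map NN.ι) d (r • y) =
          Sheaf.H.map (Coh.smulAb F (Coh.toGlobal f₀ r)) d
            (Sheaf.H.map ((QCoh.toAbFun X₀).map NN.ι) d y) :=
        (Cohom.hhMap A₀ NN.ι d).map_smul r y
      have h2 : σ h fX M (q r) ≫ σ h fX M a = σ h fX M (a * q r) := by
        refine Scheme.Modules.hom_ext _ _ fun U => ConcreteCategory.hom_ext _ _ fun z => ?_
        show (σ h fX M a).app U ((σ h fX M (q r)).app U z) = (σ h fX M (a * q r)).app U z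
        rw [σ_app, σ_app, σ_app, map_mul, map_mul, mul_smul]
      rw [h1, hσ, ← Sheaf.H.map_comp_apply, ← Functor.map_comp, h2]
      exact hy _
  have hx := mem_of_translates d (fun R hR => @subsingleton_HH_succ _ _ _ f₀ _ d hd R hR)
    (fun a : A => NN.ι ≫ σ h fX M a) (fun c : 𝒱.I₀ => (𝒱.f c).opensRange) haff hcov hgen (e x)
  rw [← e.symm_apply_apply x]
  revert hx
  generalize e x = x₀
  intro hx
  induction hx using AddSubgroup.closure_induction with
  | mem z hz =>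
    obtain ⟨a, w, rfl⟩ := hz
    rw [Functor.map_comp, Sheaf.H.map_comp_apply]
    exact hspan a w
  | zero => rw [map_zero]; exact zero_mem _
  | add y z _ _ hy hz => rw [map_add]; exact add_mem hy hz
  | neg y _ hy => rw [map_neg]; exact neg_mem hy

end GrothLib.RLpsi8.TopDegree
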