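import Groth.Agent.Lib.Ample.GenLocusPull
import Groth.Agent.Lib.Ample.Functorial

/-!
# Sections of tensor products of invertible modules and their generating loci
-/

set_option autoImplicit false
set_option backward.isDefEq.respectTransparency false
set_option linter.style.haveILetI false

universe u

open CategoryTheory AlgebraicGeometry TopologicalSpace

noncomputable section

namespace GrothLib.RLpsi8

open GrothLib.Ample

variable {X Y : Scheme.{u}}

/-- A section of an invertible module generating everywhere is an isomorphism. -/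
theorem isIso_of_genLocus_eq_top {L : X.Modules} (hL : PicF.IsInvertible L) (s : Coh.structureModule X ⟶ L)
    (h : CohB1.genLocus L s = ⊤) : IsIso s := by
  obtain ⟨c, ⟨i⟩⟩ := exists_cocycle hL
  obtain ⟨a, ha⟩ := c.exists_hom_eq (s ≫ i.hom)
  have hloc : c.locus a = ⊤ := by
    rw [← c.genLocus_hom a, ha, genLocus_comp_iso, h]
  have : IsIso (c.hom a) := by
    rw [Scheme.Modules.Hom.isIso_iff_isIso_app]
    intro W
    rw [ConcreteCategory.isIso_iff_bijective]
    exact c.bijective_hom_app a (hloc ▸ le_top)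
  rw [ha] at this
  exact IsIso.of_isIso_comp_right s i.hom

theorem genLocus_eq_top_of_isIso {L : X.Modules} (s : Coh.structureModule X ⟶ L) [IsIso s] :
    CohB1.genLocus L s = ⊤ :=
  top_le_iff.mp (le_sSup (inferInstanceAs (IsIso ((Scheme.Modules.restrictFunctor (⊤ : X.Opens).ι).map s))))

/-- The pullback of a section of an invertible module is an isomorphism iff the image lies in the generating locus. -/
theorem isIso_pullback_map_iff (f : Y ⟶ X) {L : X.Modules} (hL : PicF.IsInvertible L)
    (s : Coh.structureModule X ⟶ L) :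
    IsIso ((Scheme.Modules.pullback f).map s) ↔ f ⁻¹ᵁ CohB1.genLocus L s = ⊤ := by
  obtain ⟨e⟩ := nonempty_pullback_structureModule f
  rw [← genLocus_pullback f L hL s e.symm]
  constructor
  · intro h
    exact genLocus_eq_top_of_isIso _
  · intro h
    have := isIso_of_genLocus_eq_top (isInvertible_pullback f hL) _ h
    exact IsIso.of_isIso_comp_left e.symm.hom _

/-- A tensor product of two sections. -/
theorem exists_tensor_section {L M : X.Modules} (hL : PicF.IsInvertible L) (hM : PicF.IsInvertible M)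
    (s : Coh.structureModule X ⟶ L) (t : Coh.structureModule X ⟶ M) :
    ∃ w : Coh.structureModule X ⟶ CohB1.tensorMod L M,
      CohB1.genLocus (CohB1.tensorMod L M) w = CohB1.genLocus L s ⊓ CohB1.genLocus M t := by
  obtain ⟨c, ⟨i⟩⟩ := exists_cocycle hL
  obtain ⟨c', ⟨i'⟩⟩ := exists_cocycle hM
  obtain ⟨d⟩ := c.nonempty_tensorMod_iso_prod c' i i'
  obtain ⟨a, ha⟩ := c.exists_hom_eq (s ≫ i.hom)
  obtain ⟨b, hb⟩ := c'.exists_hom_eq (t ≫ i'.hom)
  refine ⟨(c.prod c').hom (c.mulProd c' a b) ≫ d.inv, ?_⟩
  rw [show d.inv = d.symm.hom from rfl, genLocus_comp_iso, (c.prod c').genLocus_hom, c.locus_mulProd,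
    ← c.genLocus_hom a, ha, ← c'.genLocus_hom b, hb, genLocus_comp_iso, genLocus_comp_iso]

/-- A tensor power of a section. -/
theorem exists_tensorPow_section {L : X.Modules} (hL : PicF.IsInvertible L) (s : Coh.structureModule X ⟶ L) :
    ∀ n : ℕ, ∃ w : Coh.structureModule X ⟶ CohB1.tensorPow L n,
      CohB1.genLocus L s ≤ CohB1.genLocus (CohB1.tensorPow L n) w
  | 0 => ⟨𝟙 _, le_top.trans (genLocus_eq_top_of_isIso (𝟙 _)).ge⟩
  | n + 1 => by
    obtain ⟨w, hw⟩ := exists_tensorPow_section hL s n
    obtain ⟨w', hw'⟩ := exists_tensor_section (isInvertible_tensorPow hL n) hL w s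
    exact ⟨w', le_trans (le_inf hw le_rfl) hw'.ge⟩

/-- Combining a section of `L` and a section of `K` pulled back along `g`, in `L ⊗ g^*(K^n)`. -/
theorem exists_combined_section (g : Y ⟶ X) {L : Y.Modules} {K : X.Modules} (hL : PicF.IsInvertible L)
    (hK : PicF.IsInvertible K) (s : Coh.structureModule Y ⟶ L) (t : Coh.structureModule X ⟶ K) (n : ℕ) :
    ∃ w : Coh.structureModule Y ⟶ CohB1.tensorMod L ((Scheme.Modules.pullback g).obj (CohB1.tensorPow K n)),
      CohB1.genLocus L s ⊓ g ⁻¹ᵁ CohB1.genLocus K t ≤ CohB1.genLocus _ w := by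
  obtain ⟨v, hv⟩ := exists_tensorPow_section hK t n
  obtain ⟨e⟩ := nonempty_pullback_structureModule g
  have hKn := isInvertible_tensorPow hK n
  obtain ⟨w, hw⟩ := exists_tensor_section hL (isInvertible_pullback g hKn) s
    (e.symm.hom ≫ (Scheme.Modules.pullback g).map v)
  refine ⟨w, ?_⟩
  rw [hw, genLocus_pullback g _ hKn v e.symm]
  exact inf_le_inf_left _ (fun _ hx => hv hx)

end GrothLib.RLpsi8
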