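import Groth.Agent.Lib.SpreadOut.Glue
import Groth.Agent.Lib.SpreadLfp9.Basic
import Groth.Agent.Lib.LocNoeth.Scheme
import Groth.Agent.Lib.Nagata6.UnionTwo
import Mathlib.AlgebraicGeometry.Morphisms.QuasiCompact

/-!
# Glueing a morphism near a closed point
-/

set_option autoImplicit false

universe u

open CategoryTheory CategoryTheory.Limits AlgebraicGeometry TopologicalSpace

namespace RLpsi8.GluePoint

variable {X Y S : Scheme.{u}}

theorem hom_ext_of_fromSpecStalk (f g : X ⟶ Y)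
    (h : ∀ z, X.fromSpecStalk z ≫ f = X.fromSpecStalk z ≫ g) : f = g := by
  have hb : ∀ z, f z = g z := fun z => by
    have := congr($(h z) (IsLocalRing.closedPoint _))
    simpa using this
  have hst : ∀ z, Y.presheaf.stalkSpecializes (Inseparable.of_eq (hb z)).specializes ≫ f.stalkMap z =
      g.stalkMap z := by
    intro z
    apply Spec.map_injective
    rw [← cancel_mono (Y.fromSpecStalk _), Spec.map_comp, Category.assoc,
      Scheme.SpecMap_stalkSpecializes_fromSpecStalk, Scheme.SpecMap_stalkMap_fromSpecStalk,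
      Scheme.SpecMap_stalkMap_fromSpecStalk]
    exact h z
  refine Scheme.Hom.ext (by ext z; exact hb z) fun W => ?_
  refine CommRingCat.hom_ext (RingHom.ext fun s => ?_)
  refine TopCat.Presheaf.section_ext X.sheaf _ _ _ fun z hz => ?_
  rw [CommRingCat.comp_apply]
  erw [TopCat.Presheaf.germ_res_apply]
  have hz' : g z ∈ W := hz
  have hz'' : f z ∈ W := (hb z) ▸ hz'
  have e1 := (Scheme.Hom.germ_stalkMap_apply g W z hz' s)
  rw [← hst z, CommRingCat.comp_apply, TopCat.Presheaf.germ_stalkSpecializes_apply] at e1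
  exact ((Scheme.Hom.germ_stalkMap_apply f W z hz'' s).symm.trans e1)

theorem eq_of_open_of_point (x : X) (U : X.Opens) (hU : (U : Set X) = {x}ᶜ) (g₁ g₂ : X ⟶ Y)
    (h₁ : U.ι ≫ g₁ = U.ι ≫ g₂) (h₂ : X.fromSpecStalk x ≫ g₁ = X.fromSpecStalk x ≫ g₂) : g₁ = g₂ := by
  refine hom_ext_of_fromSpecStalk g₁ g₂ fun z => ?_
  by_cases hz : z = x
  · subst hz; exact h₂
  · have hzU : z ∈ U := by
      rw [← SetLike.mem_coe, hU]; exact hz
    rw [← Scheme.Opens.fromSpecStalkOfMem_ι U z hzU, Category.assoc, Category.assoc, h₁]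

theorem exists_glue (p : X ⟶ S) (q : Y ⟶ S) [LocallyOfFinitePresentation q]
    (x : X) (U : X.Opens) (hU : (U : Set X) = {x}ᶜ) [QuasiCompact U.ι]
    (a : (U : Scheme.{u}) ⟶ Y) (b : Spec (X.presheaf.stalk x) ⟶ Y) (ha : a ≫ q = U.ι ≫ p)
    (hb : b ≫ q = X.fromSpecStalk x ≫ p)
    (hab : ((X.fromSpecStalk x) ⁻¹ᵁ U).ι ≫ b = ((X.fromSpecStalk x) ∣_ U) ≫ a) :
    ∃ g : X ⟶ Y, g ≫ q = p ∧ U.ι ≫ g = a ∧ X.fromSpecStalk x ≫ g = b := by
  obtain ⟨U₀, hx₀, f, hf, hfq⟩ := GrothLib.SpreadOut.spread_out_stalk p q x b hb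
  let P := U₀ ⊓ U
  let f₁ : (P : Scheme.{u}) ⟶ Y := X.homOfLE inf_le_left ≫ f
  let f₂ : (P : Scheme.{u}) ⟶ Y := X.homOfLE inf_le_right ≫ a
  have hq12 : f₁ ≫ q = f₂ ≫ q := by
    simp only [f₁, f₂, Category.assoc, hfq, ha, Scheme.homOfLE_ι_assoc]
  -- the largest open on which the two maps agree
  let O : P.toScheme.Opens := ⨆ W : {W : P.toScheme.Opens // W.ι ≫ f₁ = W.ι ≫ f₂}, W.1
  have hgen : ∀ z : P.toScheme, (P.ι z) ⤳ x → z ∈ O := by
    intro z hzx
    have e : P.toScheme.fromSpecStalk z ≫ f₁ = P.toScheme.fromSpecStalk z ≫ f₂ := by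
      let l : Spec (P.toScheme.presheaf.stalk z) ⟶ Spec (X.presheaf.stalk x) :=
        Spec.map (P.ι.stalkMap z) ≫ Spec.map (X.presheaf.stalkSpecializes hzx)
      have hl : l ≫ X.fromSpecStalk x = P.toScheme.fromSpecStalk z ≫ P.ι := by
        simp only [l, Category.assoc, Scheme.SpecMap_stalkSpecializes_fromSpecStalk,
          Scheme.SpecMap_stalkMap_fromSpecStalk]
      have hlU : Set.range l.base ⊆ Set.range ((X.fromSpecStalk x) ⁻¹ᵁ U).ι.base := by
        rw [Scheme.Opens.range_ι]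
        rintro _ ⟨w, rfl⟩
        show X.fromSpecStalk x (l w) ∈ U
        rw [← Scheme.Hom.comp_apply, hl, Scheme.Hom.comp_apply]
        exact (P.toScheme.fromSpecStalk z w).2.2
      let l' := IsOpenImmersion.lift ((X.fromSpecStalk x) ⁻¹ᵁ U).ι l hlU
      have hl' : l' ≫ ((X.fromSpecStalk x) ⁻¹ᵁ U).ι = l := IsOpenImmersion.lift_fac _ _ _
      have h1 : P.toScheme.fromSpecStalk z ≫ f₁ = l ≫ b := by
        rw [← hf, ← Category.assoc l]
        show P.toScheme.fromSpecStalk z ≫ X.homOfLE inf_le_left ≫ f = _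
        rw [← Category.assoc]
        congr 1
        rw [← cancel_mono U₀.ι, Category.assoc, Category.assoc, Scheme.homOfLE_ι,
          Scheme.Opens.fromSpecStalkOfMem_ι, hl]
      have h2 : P.toScheme.fromSpecStalk z ≫ f₂ = (l' ≫ ((X.fromSpecStalk x) ∣_ U)) ≫ a := by
        show P.toScheme.fromSpecStalk z ≫ X.homOfLE inf_le_right ≫ a = _
        rw [← Category.assoc]
        congr 1
        rw [← cancel_mono U.ι, Category.assoc, Category.assoc, Scheme.homOfLE_ι, morphismRestrict_ι,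
          reassoc_of% hl', hl]
      rw [h1, h2, Category.assoc l', ← hab, reassoc_of% hl']
    obtain ⟨W, hzW, hW⟩ := GrothLib.SpreadOut.spread_out_unique' q f₁ f₂ hq12 e
    exact Opens.mem_iSup.mpr ⟨⟨W, hW⟩, hzW⟩
  have hOeq : O.ι ≫ f₁ = O.ι ≫ f₂ := by
    refine (Scheme.Opens.iSupOpenCover
      fun W : {W : P.toScheme.Opens // W.ι ≫ f₁ = W.ι ≫ f₂} => W.1).hom_ext _ _ fun i => ?_
    exact (Scheme.homOfLE_ι_assoc _ (le_iSup (fun W : {W : P.toScheme.Opens // W.ι ≫ f₁ = W.ι ≫ f₂} => W.1) i) f₁).trans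
      (i.2.trans (Scheme.homOfLE_ι_assoc _ (le_iSup (fun W : {W : P.toScheme.Opens // W.ι ≫ f₁ = W.ι ≫ f₂} => W.1) i) f₂).symm)
  -- the closed set where they may differ, mapped quasi-compactly to `U₀`
  let j : (P : Scheme.{u}) ⟶ U₀.toScheme := X.homOfLE inf_le_left
  haveI : QuasiCompact j := by
    have hp : IsPullback j (X.homOfLE (inf_le_right : P ≤ U)) U₀.ι U.ι := isPullback_opens_inf U₀ U
    exact MorphismProperty.of_isPullback (P := @QuasiCompact) hp.flip inferInstance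
  let C : Closeds P.toScheme := ⟨(O : Set P.toScheme)ᶜ, O.2.isClosed_compl⟩
  let k := (Scheme.IdealSheafData.vanishingIdeal C).subschemeι
  have hk : Set.range k = (O : Set P.toScheme)ᶜ := by
    rw [Scheme.IdealSheafData.range_subschemeι]
    rw [Scheme.IdealSheafData.coe_support_vanishingIdeal]; rfl
  have hxnot : (⟨x, hx₀⟩ : U₀.toScheme) ∉ closure (Set.range (k ≫ j)) := by
    intro hmem
    obtain ⟨c, hc⟩ := GrothLib.LocNoeth.exists_specializes_of_mem_closure_range (k ≫ j) hmem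
    rw [Scheme.Hom.comp_apply] at hc
    have hc' : k c ∈ (O : Set P.toScheme)ᶜ := hk ▸ ⟨c, rfl⟩
    refine hc' (hgen _ ?_)
    have := hc.map U₀.ι.continuous
    rwa [← Scheme.Hom.comp_apply, Scheme.homOfLE_ι] at this
  let W' : U₀.toScheme.Opens := ⟨(closure (Set.range (k ≫ j)))ᶜ, isClosed_closure.isOpen_compl⟩
  let W : X.Opens := U₀.ι ''ᵁ W'
  have hW₀ : W ≤ U₀ := U₀.ι_image_le W'
  have hxW : x ∈ W := ⟨⟨x, hx₀⟩, hxnot, rfl⟩
  have htop : W ⊔ U = ⊤ := by
    rw [eq_top_iff]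
    intro y _
    by_cases hy : y = x
    · subst hy; exact Or.inl hxW
    · exact Or.inr (show y ∈ (U : Set X) by rw [hU]; exact hy)
  have hPO : Set.range (X.homOfLE (inf_le_inf hW₀ le_rfl : W ⊓ U ≤ P)) ⊆ Set.range O.ι := by
    rintro _ ⟨⟨y, hyW, hyU⟩, rfl⟩
    rw [Scheme.Opens.range_ι]
    by_contra hO
    obtain ⟨⟨y', hy'U₀⟩, hy'W', rfl⟩ := hyW
    refine hy'W' (subset_closure ?_)
    obtain ⟨c, hc⟩ := hk.symm ▸ (show _ ∈ (O : Set P.toScheme)ᶜ from hO)
    refine ⟨c, ?_⟩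
    rw [Scheme.Hom.comp_apply, hc]
    apply U₀.ι.isOpenEmbedding.injective
    rw [← Scheme.Hom.comp_apply, Scheme.homOfLE_ι, ← Scheme.Hom.comp_apply, Scheme.homOfLE_ι]
    rfl
  let r := IsOpenImmersion.lift O.ι (X.homOfLE (inf_le_inf hW₀ le_rfl : W ⊓ U ≤ P)) hPO
  have hr : r ≫ O.ι = X.homOfLE (inf_le_inf hW₀ le_rfl : W ⊓ U ≤ P) := IsOpenImmersion.lift_fac _ _ _
  have hagree : X.homOfLE (inf_le_left : W ⊓ U ≤ W) ≫ (X.homOfLE hW₀ ≫ f) =
      X.homOfLE (inf_le_right : W ⊓ U ≤ U) ≫ a := by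
    have := congrArg (r ≫ ·) hOeq
    simp only [reassoc_of% hr, f₁, f₂, Scheme.homOfLE_homOfLE_assoc] at this
    simpa only [Scheme.homOfLE_homOfLE_assoc] using this
  obtain ⟨g, hgW, hgU⟩ := GrothLib.Nagata6.exists_glue_two W U htop (X.homOfLE hW₀ ≫ f) a hagree
  have hgx : X.fromSpecStalk x ≫ g = b := by
    rw [← Scheme.Opens.fromSpecStalkOfMem_ι W x hxW, Category.assoc, hgW, ← Category.assoc, ← hf]
    congr 1
    rw [← cancel_mono U₀.ι, Category.assoc, Scheme.homOfLE_ι, Scheme.Opens.fromSpecStalkOfMem_ι,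
      Scheme.Opens.fromSpecStalkOfMem_ι]
  refine ⟨g, eq_of_open_of_point x U hU _ _ ?_ ?_, hgU, hgx⟩
  · rw [← Category.assoc, hgU, ha]
  · rw [← Category.assoc, hgx, hb]

end RLpsi8.GluePoint
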