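import Groth.Agent.Lib.QCoh.LocGenCases

/-!
# Submodules of finite type containing given sections
-/

universe u

open CategoryTheory CategoryTheory.Limits Opposite AlgebraicGeometry TopologicalSpace
open GrothLib.QCoh

namespace GrothLib.RLpsi8

variable {X : Scheme.{u}} {F : X.Modules} [F.IsQuasicoherent]

theorem exists_locGen_mem [CompactSpace X] [QuasiSeparatedSpace X] {U : X.Opens} (hU : IsAffineOpen U)
    (S : Set Γ(F, U)) (hS : S.Finite) : ∃ Q : SubData F, SubData.LocGen Q ⊤ ∧ S ⊆ Q.sec U := by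
  let P := SubData.gen (F := F) S
  have hP : SubData.LocGen P U := fun x hx ↦ ⟨U, hU, hx, le_rfl, S, hS, fun _ _ ↦ rfl⟩
  obtain ⟨ι, _, V, hVA, -, hcov⟩ := exists_finite_affine_cover (U := (⊤ : X.Opens)) (by simpa using isCompact_univ)
  let e := Fintype.equivFin ι
  obtain ⟨Q, hQ, hQU⟩ := hP.exists_extension (fun l ↦ V (e.symm l)) (fun l ↦ hVA _) U
    (eq_top_iff.2 (hcov.trans (le_sup_of_le_right (iSup_le fun j ↦
      le_iSup_of_le (f := fun l ↦ V (e.symm l)) (e j) (by simp))))) fun l ↦ by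
      rw [inf_sup_left, inf_iSup_eq, Opens.coe_sup, Opens.coe_iSup]
      exact (QuasiSeparatedSpace.inter_isCompact _ _ (V _).isOpen (hVA _).isCompact U.isOpen hU.isCompact).union
        (isCompact_iUnion fun m ↦ QuasiSeparatedSpace.inter_isCompact _ _ (V _).isOpen
          (hVA _).isCompact (V _).isOpen (hVA _).isCompact)
  refine ⟨Q, hQ, fun s hs ↦ ?_⟩
  rw [SetLike.mem_coe, hQU U le_rfl]
  exact SubData.mem_gen_of_mem_span le_rfl (Submodule.subset_span ⟨s, hs, rr_self _ s⟩)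

theorem mono_ι (Q : SubData F) : Mono Q.ι :=
  (Scheme.Modules.toPresheaf X).mono_of_mono_map
    (@NatTrans.mono_of_mono_app _ _ _ _ _ _ _ fun T ↦
      (AddCommGrpCat.mono_iff_injective _).2 (Q.ι_app_injective T.unop))

/-- The sum of two submodules. -/
noncomputable def subSup (P Q : SubData F) : SubData F where
  sec T :=
    { carrier := {s | ∀ x ∈ T, ∃ (T' : X.Opens) (h : T' ≤ T), x ∈ T' ∧ rr h s ∈ P.sec T' ⊔ Q.sec T'}
      add_mem' := fun {a b} ha hb x hx ↦ by
        obtain ⟨T₁, h₁, hx₁, m₁⟩ := ha x hx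
        obtain ⟨T₂, h₂, hx₂, m₂⟩ := hb x hx
        refine ⟨T₁ ⊓ T₂, inf_le_left.trans h₁, ⟨hx₁, hx₂⟩, ?_⟩
        rw [map_add]
        refine add_mem ?_ ?_
        · obtain ⟨p, hp, q', hq', e⟩ := Submodule.mem_sup.mp m₁
          rw [← rr_rr h₁ inf_le_left, ← e, map_add]
          exact add_mem (Submodule.mem_sup_left (P.map_mem _ hp)) (Submodule.mem_sup_right (Q.map_mem _ hq'))
        · obtain ⟨p, hp, q', hq', e⟩ := Submodule.mem_sup.mp m₂
          rw [← rr_rr h₂ inf_le_right, ← e, map_add]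
          exact add_mem (Submodule.mem_sup_left (P.map_mem _ hp)) (Submodule.mem_sup_right (Q.map_mem _ hq'))
      zero_mem' := fun x hx ↦ ⟨T, le_rfl, hx, by rw [map_zero]; exact zero_mem _⟩
      smul_mem' := fun r s hs x hx ↦ by
        obtain ⟨T', h, hx', m⟩ := hs x hx
        exact ⟨T', h, hx', by rw [rr_smul]; exact Submodule.smul_mem _ _ m⟩ }
  map_mem {U W} i s hs x hx := by
    obtain ⟨T', h, hx', m⟩ := hs x (i.le hx)
    refine ⟨T' ⊓ W, inf_le_right, ⟨hx', hx⟩, ?_⟩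
    obtain ⟨p, hp, q', hq', e⟩ := Submodule.mem_sup.mp m
    change rr _ (rr i.le s) ∈ _
    rw [rr_rr, ← rr_rr h inf_le_left, ← e, map_add]
    exact add_mem (Submodule.mem_sup_left (P.map_mem _ hp)) (Submodule.mem_sup_right (Q.map_mem _ hq'))
  locality {U} s h x hx := by
    obtain ⟨W, i, hxW, hW⟩ := h x hx
    obtain ⟨T', h₁, hx', m⟩ := hW x hxW
    refine ⟨T', h₁.trans i.le, hx', ?_⟩
    change rr h₁ (rr i.le s) ∈ _ at m
    rwa [rr_rr] at m

omit [F.IsQuasicoherent] in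
theorem sec_le_subSup_left (P Q : SubData F) (T : X.Opens) : P.sec T ≤ (subSup P Q).sec T := fun s hs x hx ↦
  ⟨T, le_rfl, hx, by rw [rr_self]; exact Submodule.mem_sup_left hs⟩

omit [F.IsQuasicoherent] in
theorem sec_le_subSup_right (P Q : SubData F) (T : X.Opens) : Q.sec T ≤ (subSup P Q).sec T := fun s hs x hx ↦
  ⟨T, le_rfl, hx, by rw [rr_self]; exact Submodule.mem_sup_right hs⟩

omit [F.IsQuasicoherent] in
theorem gen_mono {V : X.Opens} {S S' : Set Γ(F, V)} (h : S ⊆ S') (T : X.Opens) :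
    (SubData.gen S).sec T ≤ (SubData.gen S').sec T := fun s hs x hx hxV ↦ by
  obtain ⟨T', h₁, h₂, hx', m⟩ := hs x hx hxV
  exact ⟨T', h₁, h₂, hx', Submodule.span_mono (Set.image_mono h) m⟩

omit [F.IsQuasicoherent] in
theorem locGen_subSup {P Q : SubData F} {W : X.Opens} (hP : SubData.LocGen P W) (hQ : SubData.LocGen Q W) :
    SubData.LocGen (subSup P Q) W := by
  intro x hx
  obtain ⟨U, hU, hxU, -, S, hS, hgen⟩ := hP x hx
  obtain ⟨g, hxg, hgW, S', hS', hgen'⟩ := hQ.exists_basicOpen hU hxU hx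
  let D := X.basicOpen g
  have hD : D ≤ U := X.basicOpen_le g
  refine ⟨D, hU.basicOpen g, hxg, hgW, rr hD '' S ∪ S', (hS.image _).union hS', fun T hT ↦ ?_⟩
  ext s
  constructor
  · intro hs
    refine (SubData.gen _).locality _ fun y hy ↦ ?_
    obtain ⟨T', h, hy', m⟩ := hs y hy
    refine ⟨T', homOfLE h, hy', ?_⟩
    obtain ⟨p, hp, q', hq', e⟩ := Submodule.mem_sup.mp m
    change rr h s ∈ _
    rw [← e]
    refine add_mem ?_ (gen_mono Set.subset_union_right T' (by rw [← hgen' T' (h.trans hT)]; exact hq'))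
    refine gen_mono Set.subset_union_left T' ?_
    rw [SubData.gen_image_rr hD S (h.trans hT), ← hgen T' ((h.trans hT).trans hD)]
    exact hp
  · intro hs
    refine (subSup P Q).locality _ fun y hy ↦ ?_
    obtain ⟨T', h₁, h₂, hy', m⟩ := hs y hy (hT hy)
    refine ⟨T', homOfLE h₁, hy', ?_⟩
    change rr h₁ s ∈ _
    refine Submodule.span_le.2 ?_ m
    rintro _ ⟨z, hz | hz, rfl⟩
    · obtain ⟨w, hw, rfl⟩ := hz
      refine sec_le_subSup_left P Q T' ?_
      rw [rr_rr, hgen T' (h₂.trans hD)]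
      exact SubData.mem_gen_of_mem_span _ (Submodule.subset_span ⟨w, hw, rfl⟩)
    · refine sec_le_subSup_right P Q T' ?_
      rw [hgen' T' h₂]
      exact SubData.mem_gen_of_mem_span h₂ (Submodule.subset_span ⟨z, hz, rfl⟩)

/-- Finitely many sections lie in one submodule of finite type. -/
theorem exists_locGen_forall_mem [CompactSpace X] [QuasiSeparatedSpace X] {ι : Type*} (T : Finset ι)
    (U : ι → X.Opens) (hU : ∀ i, IsAffineOpen (U i)) (S : ∀ i, Set Γ(F, U i)) (hS : ∀ i, (S i).Finite) :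
    ∃ Q : SubData F, SubData.LocGen Q ⊤ ∧ ∀ i ∈ T, S i ⊆ Q.sec (U i) := by
  classical
  induction T using Finset.induction_on with
  | empty =>
    obtain ⟨Q, hQ, -⟩ := exists_locGen_mem (F := F) (U := ⊥) (isAffineOpen_bot X) ∅ Set.finite_empty
    exact ⟨Q, hQ, by simp⟩
  | insert a T _ ih =>
    obtain ⟨Q, hQ, hmem⟩ := ih
    obtain ⟨Q', hQ', hmem'⟩ := exists_locGen_mem (hU a) (S a) (hS a)
    refine ⟨subSup Q Q', locGen_subSup hQ hQ', fun i hi ↦ ?_⟩
    rcases Finset.mem_insert.mp hi with rfl | hi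
    · exact hmem'.trans (sec_le_subSup_right Q Q' _)
    · exact (hmem i hi).trans (sec_le_subSup_left Q Q' _)

end GrothLib.RLpsi8
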