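import Groth.Agent.Lib.RelPCUnb.Source
import Groth.Agent.Lib.KSix19.NPCRing
import Groth.Agent.Lib.PerfHom.Examples
import Groth.Agent.Lib.PerfHom.Scheme
import Groth.Agent.Lib.Detect22.PerfectDetect
import Groth.Agent.Lib.FppfSource.Scheme
import Groth.Agent.Lib.OX.RHomDual
import Groth.Agent.Lib.OX.PerfectEnvelope
import Groth.Prelude.Def_MoreMor

/-!
# Pseudo-coherent morphisms and fppf covers of the source
-/

set_option autoImplicit false
set_option linter.style.haveILetI false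

universe u

open CategoryTheory CategoryTheory.Limits AlgebraicGeometry

attribute [local instance] HasDerivedCategory.standard

namespace GrothLib.RLpsi8.PCSource

open GrothLib.KSix19

variable {X X' S : Scheme.{u}} (f : X ⟶ S)

theorem isPseudoCoherentMor_iff :
    MoreMor.IsPseudoCoherentMor f ↔ LocallyOfFiniteType f ∧ ∀ m : ℤ, DerSch.IsNPseudoCoherent f m := by
  refine ⟨fun h => ?_, fun ⟨hlft, h⟩ U V hU hV hle => ?_⟩
  · haveI : LocallyOfFiniteType f := ⟨fun {V} hV {U} hU hle => by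
      letI := (f.appLE V U hle).hom.toAlgebra
      obtain ⟨n, φ, hφ, -⟩ := h U V hU hV hle
      exact Algebra.FiniteType.iff_quotient_mvPolynomial''.2 ⟨n, φ, hφ⟩⟩
    refine ⟨inferInstance, fun m => isNPseudoCoherent_of_ring fun x => ?_⟩
    obtain ⟨U, V, hU, hV, hxU, -, hle⟩ := exists_affine_pair f (O := ⊤) (x := x) trivial
    letI := (f.appLE V U hle).hom.toAlgebra
    obtain ⟨n, φ, hφ, hpc⟩ := h U V hU hV hle
    refine ⟨U, V, hle, n, φ.toRingHom, hxU, hU, hV, ⟨hφ, RingHom.ext fun a => φ.commutes a⟩, ?_⟩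
    letI := φ.toRingHom.toAlgebra
    exact (ringPC_iff_forall _).1 (PHom.ringPC_iff_module.2 hpc) m
  · haveI := hlft
    obtain ⟨n, φ, hφ⟩ := exists_isChart f hU hV hle
    letI := (f.appLE V U hle).hom.toAlgebra
    exact PHom.isPseudoCoherentHom_of_ringPC
      ({ toRingHom := φ, commutes' := fun a => DFunLike.congr_fun hφ.2 a } :
        MvPolynomial (Fin n) Γ(S, V) →ₐ[Γ(S, V)] Γ(X, U)) hφ.1
      ((ringPC_iff_forall _).2 fun m => ringPCm_chart (h m) hU hV hφ)

theorem iff_of_fppf_cover (a : X' ⟶ X) [Flat a] [Surjective a] [LocallyOfFinitePresentation a] :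
    MoreMor.IsPseudoCoherentMor f ↔ MoreMor.IsPseudoCoherentMor (a ≫ f) := by
  haveI : ∀ i : PUnit.{u+1}, DCoh.HasLpull ((fun _ => a) i) := fun _ => OX.hasLpull a
  haveI : DCoh.HasLpull a := OX.hasLpull a
  obtain ⟨e⟩ := Detect22.nonempty_lpull_unit (Y := X) a
  have hq : DCoh.IsQCohD (DCoh.toD X (DerSch.unitCx X)) := OX.isQCohD_of_isPerfect
    (OX.isPerfect_of_iso (OX.isPerfect_unit X) (OX.unitCxQIso X).symm)
  rw [isPseudoCoherentMor_iff, isPseudoCoherentMor_iff]
  refine ⟨fun ⟨hl, h⟩ => ?_, fun ⟨hl, h⟩ => ?_⟩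
  · haveI := hl
    refine ⟨inferInstance, fun m => ?_⟩
    exact isPseudoCoherentRel_of_iso e (RelPCUnb.isPseudoCoherentRel_lpull_flat_source f a hq (h m))
  · haveI := hl
    haveI : LocallyOfFiniteType f :=
      FppfSource.fppfSourceDescends_lft a f inferInstance inferInstance inferInstance hl
    refine ⟨inferInstance, fun m => ?_⟩
    exact RelPCUnb.isPseudoCoherentRel_of_fppf_source f (fun _ : PUnit.{u+1} => a)
      (fun x => ⟨⟨⟩, a.surjective x⟩) hq fun _ => isPseudoCoherentRel_of_iso e.symm (h m)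

end GrothLib.RLpsi8.PCSource
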