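import Groth.Agent.Lib.RLpsi8.FTSub
import Groth.Agent.Lib.OmegaAff.Basic
import Groth.Agent.Lib.TensorGen.Basic
import Groth.Agent.Lib.Ample.Frame
import Groth.Agent.Lib.Ample.Finite
import Groth.Agent.Lib.VA.Gen

/-!
# Twisted submodules of the structure sheaf and their sections
-/

set_option autoImplicit false
set_option backward.isDefEq.respectTransparency false
set_option maxHeartbeats 400000

universe u

open CategoryTheory CategoryTheory.Limits AlgebraicGeometry TopologicalSpace Opposite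
open GrothLib.InvExt (mres fres IsGen)
open GrothLib.Ample (res Cocycle)
open GrothLib.VA (tm GenAt)

noncomputable section

namespace GrothLib.RLpsi8

variable {X : Scheme.{u}}

theorem isGen_hom_app {M N : X.Modules} (e : M ≅ N) {V : X.Opens} {a : Γ(M, V)} (ha : IsGen M V a) :
    IsGen N V (e.hom.app V a) := by
  intro W h
  have : (fun r : Γ(X, W) => r • mres N h (e.hom.app V a)) = fun r => e.hom.app W (r • mres M h a) := by
    funext r
    rw [Ample.app_smul, Ample.app_mres]
  rw [this]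
  have hb : Function.Bijective (e.hom.app W) := Function.bijective_iff_has_inverse.mpr
    ⟨e.inv.app W, fun z => congrArg (fun k : M ⟶ M => k.app W z) e.hom_inv_id,
      fun z => congrArg (fun k : N ⟶ N => k.app W z) e.inv_hom_id⟩
  exact hb.comp (ha W h)

variable (c : Cocycle X) {n : ℕ} {J M : X.Modules} (φ : J ⟶ Coh.structureModule X) (d : M ≅ c.twist n)

/-- The generator over a piece. -/
def genOf (i : c.ι) {W : X.Opens} (h : W ≤ c.D i) : Γ(M, W) := d.inv.app W (c.base n i h)

theorem isGen_genOf (i : c.ι) {W : X.Opens} (h : W ≤ c.D i) : IsGen M W (genOf c d i h) :=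
  isGen_hom_app d.symm (c.isGen_base n i h)

theorem mres_genOf (i : c.ι) {W W' : X.Opens} (h : W ≤ c.D i) (h' : W' ≤ W) :
    mres M h' (genOf c d i h) = genOf c d i (h'.trans h) := by
  show mres M h' (d.inv.app W (c.base n i h)) = _
  rw [← Ample.app_mres]
  exact congrArg (d.inv.app W') (c.sectRes_base n i h h')

/-- The coefficient of a twisted section over a piece, in the structure sheaf. -/
def coef (i : c.ι) {W : X.Opens} (h : W ≤ c.D i) : Γ(CohB1.tensorMod J M, W) →ₗ[Γ(X, W)] Γ(X, W) where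
  toFun t := φ.app W ((TensorGen.tmEquiv J M (isGen_genOf c d i h)).symm t)
  map_add' a b := by rw [map_add]; exact map_add (φ.app W).hom _ _
  map_smul' r a := by rw [map_smul]; exact Ample.app_smul φ r _

theorem coef_tm (i : c.ι) {W : X.Opens} (h : W ≤ c.D i) (a : Γ(J, W)) :
    coef c φ d i h (tm a (genOf c d i h)) = φ.app W a := by
  show φ.app W ((TensorGen.tmEquiv J M (isGen_genOf c d i h)).symm (tm a (genOf c d i h))) = _
  rw [← TensorGen.tmEquiv_apply J M (isGen_genOf c d i h), LinearEquiv.symm_apply_apply]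

theorem exists_eq_tm (i : c.ι) {W : X.Opens} (h : W ≤ c.D i) (t : Γ(CohB1.tensorMod J M, W)) :
    ∃ a : Γ(J, W), t = tm a (genOf c d i h) :=
  ⟨_, ((TensorGen.tmEquiv J M (isGen_genOf c d i h)).apply_symm_apply t).symm⟩

theorem coef_mres (i : c.ι) {W W' : X.Opens} (h : W ≤ c.D i) (h' : W' ≤ W) (t : Γ(CohB1.tensorMod J M, W)) :
    coef c φ d i (h'.trans h) (mres _ h' t) = res h' (coef c φ d i h t) := by
  obtain ⟨a, rfl⟩ := exists_eq_tm c d i h t
  rw [VA.mres_tm, mres_genOf, coef_tm, coef_tm, Ample.app_mres]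
  rfl

theorem coef_change (i k : c.ι) {W : X.Opens} (hi : W ≤ c.D i) (hk : W ≤ c.D k) (t : Γ(CohB1.tensorMod J M, W)) :
    coef c φ d i hi t = c.G i k hi hk ^ n * coef c φ d k hk t := by
  obtain ⟨a, rfl⟩ := exists_eq_tm c d k hk t
  have e : genOf c d k hk = c.G i k hi hk ^ n • genOf c d i hi := by
    show d.inv.app W (c.base n k hk) = _
    rw [c.base_eq_smul_base n i k hi hk]
    exact Ample.app_smul d.inv _ _
  rw [coef_tm]
  conv_lhs => rw [e, VA.tm_smul_right, map_smul, coef_tm]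
  rfl

/-- The family of coefficients of a twisted section. -/
def sectOf {V : X.Opens} (t : Γ(CohB1.tensorMod J M, V)) : c.sect n V :=
  ⟨fun i => coef c φ d i inf_le_right (mres _ inf_le_left t), fun i k W hi hk => by
    rw [← coef_mres c φ d i inf_le_right hi, ← coef_mres c φ d k inf_le_right hk, InvExt.mres_mres,
      InvExt.mres_mres]
    exact coef_change c φ d i k _ _ _⟩

theorem sectOf_apply {V : X.Opens} (t : Γ(CohB1.tensorMod J M, V)) (i : c.ι) :
    (sectOf c φ d t).1 i = coef c φ d i inf_le_right (mres _ inf_le_left t) := rfl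

/-- The morphism to the twist. -/
def toTwist : CohB1.tensorMod J M ⟶ c.twist n :=
  ⟨{
    app := fun V => ModuleCat.ofHom
      (X := ((CohB1.tensorMod J M).val.obj V : Type u))
      (Y := ((c.twist n).val.obj V : Type u))
      { toFun := fun (t : Γ(CohB1.tensorMod J M, V.unop)) => sectOf c φ d t
        map_add' := fun (a b : Γ(CohB1.tensorMod J M, V.unop)) => c.sect_ext fun i => by
          show coef c φ d i _ (mres _ _ (a + b)) = _
          rw [mres, map_add, map_add]
          rfl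
        map_smul' := fun (r : Γ(X, V.unop)) (a : Γ(CohB1.tensorMod J M, V.unop)) => c.sect_ext fun i => by
          show coef c φ d i _ (mres _ _ (r • a)) = _
          rw [Ample.mres_smul', map_smul]
          rfl }
    naturality := fun {V W} f => by
      ext (a : Γ(CohB1.tensorMod J M, V.unop))
      refine c.sect_ext fun i => ?_
      show coef c φ d i _ (mres _ _ (mres _ (leOfHom f.unop) a)) = res _ (coef c φ d i _ (mres _ _ a))
      rw [← coef_mres c φ d i inf_le_right (inf_le_inf_right _ (leOfHom f.unop)), InvExt.mres_mres, InvExt.mres_mres] }⟩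

/-- A point where all values of `J` vanish is outside the loci of all twisted sections. -/
theorem not_mem_basicOpen {y : X} (hy : ∀ (O : X.Opens) (z : Γ(J, O)), y ∉ X.basicOpen (φ.app O z))
    {V : X.Opens} (t : Γ(CohB1.tensorMod J M, V)) (i : c.ι) : y ∉ X.basicOpen ((sectOf c φ d t).1 i) := by
  obtain ⟨a, ha⟩ := exists_eq_tm c d i (inf_le_right : V ⊓ c.D i ≤ c.D i) (mres _ inf_le_left t)
  rw [sectOf_apply, ha, coef_tm]
  exact hy _ a

/-- The loci of spanning sections contain the points where `J` does not vanish. -/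
theorem exists_mem_basicOpen_of_spanned {ι : Type*} {V : X.Opens} (s : ι → Γ(CohB1.tensorMod J M, V))
    (hs : ∀ (O : X.Opens) (m : Γ(CohB1.tensorMod J M, O)) (x : X), x ∈ O → x ∈ V →
      ∃ (W : X.Opens) (h : W ≤ O) (h' : W ≤ V), x ∈ W ∧
        mres _ h m ∈ Submodule.span Γ(X, W) (Set.range fun b => mres _ h' (s b)))
    {x : X} (hxV : x ∈ V) {O : X.Opens} (k : Γ(J, O)) (hx : x ∈ X.basicOpen (φ.app O k)) {i : c.ι} (hi : x ∈ c.D i) :
    ∃ b, x ∈ X.basicOpen ((sectOf c φ d (s b)).1 i) := by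
  by_contra hne
  simp only [not_exists] at hne
  let O' := O ⊓ c.D i
  have hxO' : x ∈ O' := ⟨X.basicOpen_le _ hx, hi⟩
  obtain ⟨W, h, h', hxW, hmem⟩ := hs O' (tm (mres J (inf_le_left : O' ≤ O) k) (genOf c d i inf_le_right)) x hxO' hxV
  have hW : W ≤ c.D i := h.trans inf_le_right
  let m := (IsLocalRing.maximalIdeal (X.presheaf.stalk x)).comap (X.presheaf.germ W x hxW).hom
  have hlin : Submodule.span Γ(X, W) (Set.range fun b => mres _ h' (s b)) ≤
      Submodule.comap (coef c φ d i hW) (m : Submodule Γ(X, W) Γ(X, W)) := by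
    rw [Submodule.span_le]
    rintro _ ⟨b, rfl⟩
    show coef c φ d i hW (mres _ h' (s b)) ∈ m
    have e : coef c φ d i hW (mres _ h' (s b)) = res (le_inf h' hW) ((sectOf c φ d (s b)).1 i) := by
      rw [sectOf_apply, ← coef_mres c φ d i inf_le_right (le_inf h' hW), InvExt.mres_mres]
    rw [e, Ideal.mem_comap]
    show X.presheaf.germ W x hxW (X.presheaf.map (homOfLE (le_inf h' hW)).op ((sectOf c φ d (s b)).1 i)) ∈ _
    rw [TopCat.Presheaf.germ_res_apply]
    exact fun hu => hne b ((X.mem_basicOpen ((sectOf c φ d (s b)).1 i) x ⟨hxV, hi⟩).mpr hu)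
  have h1 : coef c φ d i hW (mres _ h (tm (mres J inf_le_left k) (genOf c d i inf_le_right))) ∈ m := hlin hmem
  rw [coef_mres c φ d i inf_le_right h, coef_tm, Ample.app_mres, Ideal.mem_comap] at h1
  refine (IsLocalRing.mem_maximalIdeal _).mp h1 ?_
  show IsUnit (X.presheaf.germ W x hxW (X.presheaf.map (homOfLE h).op (X.presheaf.map (homOfLE inf_le_left).op (φ.app O k))))
  rw [TopCat.Presheaf.germ_res_apply, TopCat.Presheaf.germ_res_apply]
  exact (X.mem_basicOpen _ x (X.basicOpen_le _ hx)).mp hx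

theorem genAt_toTwist {x : X} {O : X.Opens} (k : Γ(J, O)) (hx : x ∈ X.basicOpen (φ.app O k)) :
    ∃ (V : X.Opens) (t : Γ(CohB1.tensorMod J M, V)), GenAt (c.twist n) ((toTwist c φ d).app V t) x := by
  obtain ⟨i, hi⟩ := c.exists_mem x
  refine ⟨O ⊓ c.D i, tm (mres J inf_le_left k) (genOf c d i inf_le_right), ?_⟩
  refine (VA.genAt_iff_mem_basicOpen le_rfl (c.isGen_base n i inf_le_right)
    (c := res (le_inf le_rfl inf_le_right) ((sectOf c φ d (tm (mres J inf_le_left k) (genOf c d i inf_le_right))).1 i))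
    ?_ ⟨X.basicOpen_le _ hx, hi⟩).mpr ?_
  · rw [InvExt.mres_self]
    exact c.eq_smul_base i inf_le_right _
  · rw [sectOf_apply, ← coef_mres c φ d i inf_le_right (le_inf le_rfl inf_le_right), InvExt.mres_mres, InvExt.mres_self,
      coef_tm, Ample.app_mres]
    show x ∈ X.basicOpen (X.presheaf.map (homOfLE (inf_le_left : O ⊓ c.D i ≤ O)).op (φ.app O k))
    rw [X.basicOpen_res]
    exact ⟨⟨X.basicOpen_le _ hx, hi⟩, hx⟩

theorem mem_basicOpen_of_genAt {x : X} {V : X.Opens} (hxV : x ∈ V) (t : Γ(CohB1.tensorMod J M, V))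
    (h : GenAt (c.twist n) ((toTwist c φ d).app V t) x) {i : c.ι} (hi : x ∈ c.D i) :
    x ∈ X.basicOpen ((sectOf c φ d t).1 i) := by
  have h1 := (VA.genAt_iff_mem_basicOpen (inf_le_left : V ⊓ c.D i ≤ V) (c.isGen_base n i inf_le_right)
    (c := res (le_inf le_rfl inf_le_right) ((c.sectRes inf_le_left (sectOf c φ d t)).1 i))
    (c.eq_smul_base i inf_le_right (c.sectRes inf_le_left (sectOf c φ d t))) ⟨hxV, hi⟩).mp h
  rw [c.sectRes_apply, Ample.res_res] at h1
  rw [show res (_ : V ⊓ c.D i ≤ V ⊓ c.D i) ((sectOf c φ d t).1 i) = (sectOf c φ d t).1 i from Ample.res_self _ _] at h1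
  exact h1

/-! ### Ideals with given support -/

theorem not_mem_basicOpen_val (I : X.IdealSheafData) {y : X} (hy : y ∈ (I.support : Set X)) {O : X.Opens}
    (z : Γ(ClSub.idealMod I, O)) : y ∉ X.basicOpen ((ClSub.idealModι I).app O z) := by
  intro hyz
  have hyO : y ∈ O := X.basicOpen_le _ hyz
  obtain ⟨T, hT, hyT, hTO⟩ := exists_isAffineOpen_mem_and_subset (U := O) hyO
  have h1 : y ∈ (I.support : Set X) ∩ (T : Set X) := ⟨hy, hyT⟩
  rw [I.coe_support_inter ⟨T, hT⟩] at h1
  refine (Scheme.mem_zeroLocus_iff _ _ _).mp h1.1 _ (IdealModSec.val_mem I ⟨T, hT⟩ (mres _ hTO z)) ?_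
  rw [IdealModSec.val_mres]
  show y ∈ X.basicOpen ((X.presheaf.map (homOfLE hTO).op).hom ((ClSub.idealModι I).app O z))
  rw [X.basicOpen_res]
  exact ⟨hyT, hyz⟩

theorem exists_mem_basicOpen_val (I : X.IdealSheafData) {x : X} (hx : x ∉ (I.support : Set X)) :
    ∃ (T : X.Opens) (_ : IsAffineOpen T) (k : Γ(ClSub.idealMod I, T)),
      x ∈ X.basicOpen ((ClSub.idealModι I).app T k) := by
  obtain ⟨T, hT, hxT, -⟩ := exists_isAffineOpen_mem_and_subset (Opens.mem_top x)
  have h1 : x ∉ X.zeroLocus (U := T) (I.ideal ⟨T, hT⟩ : Set Γ(X, T)) := fun h =>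
    hx (((I.coe_support_inter ⟨T, hT⟩).ge ⟨h, hxT⟩).1)
  rw [Scheme.mem_zeroLocus_iff] at h1
  push Not at h1
  obtain ⟨f, hf, hxf⟩ := h1
  obtain ⟨k, hk⟩ := IdealModSec.exists_val_eq I ⟨T, hT⟩ hf
  exact ⟨T, hT, k, by rw [show (ClSub.idealModι I).app T k = f from hk]; exact hxf⟩

/-- A finite type ideal module vanishing outside `W` but not at `x`. -/
theorem exists_ft_ideal [CompactSpace X] [QuasiSeparatedSpace X] {W : X.Opens} {x : X} (hx : x ∈ W) :
    ∃ (J : X.Modules) (φ : J ⟶ Coh.structureModule X) (_ : Mono φ) (_ : Coh.IsQCoh J) (_ : CohB1.IsFT J)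
      (O : X.Opens) (k : Γ(J, O)), x ∈ X.basicOpen (φ.app O k) ∧
        ∀ y, y ∉ W → ∀ (O' : X.Opens) (z : Γ(J, O')), y ∉ X.basicOpen (φ.app O' z) := by
  let I := Scheme.IdealSheafData.vanishingIdeal (X := X) ⟨(W : Set X)ᶜ, W.2.isClosed_compl⟩
  have hsupp : (I.support : Set X) = (W : Set X)ᶜ := by simp [I]
  obtain ⟨T, hT, k, hk⟩ := exists_mem_basicOpen_val I (x := x) (by rw [hsupp]; exact fun h => h hx)
  haveI : (ClSub.idealMod I).IsQuasicoherent := OmegaAff.isQuasicoherent_idealMod I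
  obtain ⟨Q, hQ, hkQ⟩ := exists_locGen_mem (F := ClSub.idealMod I) hT {k} (Set.finite_singleton k)
  have hi : Mono (Q.ι ≫ ClSub.idealModι I) := by
    have := mono_ι Q
    have : Mono (ClSub.idealModι I) := by unfold ClSub.idealModι; infer_instance
    infer_instance
  refine ⟨Q.obj, Q.ι ≫ ClSub.idealModι I, hi, hQ.isQuasicoherent, hQ.isFiniteType, T, Q.lift k (hkQ rfl),
    ?_, fun y hy O' z => ?_⟩
  · show x ∈ X.basicOpen ((ClSub.idealModι I).app T (Q.ι.app T (Q.lift k (hkQ rfl))))
    rw [Q.ι_app_lift]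
    exact hk
  · exact not_mem_basicOpen_val I (by rw [hsupp]; exact hy) (Q.ι.app O' z)

end GrothLib.RLpsi8
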