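import Groth.Agent.Lib.Ample.External
import Mathlib.AlgebraicGeometry.Morphisms.QuasiSeparated
universe u
open CategoryTheory CategoryTheory.Limits AlgebraicGeometry TopologicalSpace Opposite
set_option backward.isDefEq.respectTransparency false
namespace RLpsi8
open GrothLib

theorem isAmple_externalTensor {X Y S : Scheme.{u}} [QuasiSeparatedSpace S]
    (f : X ⟶ S) (g : Y ⟶ S) (L : X.Modules) (N : Y.Modules) (hL : CohB1.IsAmple L) (hN : CohB1.IsAmple N) :
    CohB1.IsAmple (CohB1.tensorMod ((Scheme.Modules.pullback (pullback.fst f g)).obj L)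
      ((Scheme.Modules.pullback (pullback.snd f g)).obj N)) := by
  have := hL.2.1
  have := hN.2.1
  have : QuasiCompact g := inferInstance
  have : CompactSpace (pullback f g : Scheme.{u}) :=
    QuasiCompact.compactSpace_of_compactSpace (pullback.fst f g)
  obtain ⟨c₁, ⟨d₁⟩⟩ := Ample.exists_cocycle hL.1
  obtain ⟨c₂, ⟨d₂⟩⟩ := Ample.exists_cocycle hN.1
  obtain ⟨k₁⟩ := c₁.nonempty_pullback_iso (pullback.fst f g) d₁
  obtain ⟨k₂⟩ := c₂.nonempty_pullback_iso (pullback.snd f g) d₂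
  obtain ⟨d⟩ := (c₁.comap (pullback.fst f g)).nonempty_tensorMod_iso_prod (c₂.comap (pullback.snd f g)) k₁ k₂
  refine (((c₁.comap (pullback.fst f g)).prod (c₂.comap (pullback.snd f g))).isAmple_iff d).mpr
    ⟨inferInstance, Ample.Cocycle.isAmp_prod_of_inf _ _ fun p => ?_⟩
  obtain ⟨V, hV, hpV, -⟩ := exists_isAffineOpen_mem_and_subset
    (Opens.mem_top (f (pullback.fst f g p)))
  have hpV' : g (pullback.snd f g p) ∈ V := by
    rw [← Scheme.Hom.comp_apply, ← pullback.condition]; exact hpV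
  obtain ⟨n, a, hpa, haV, ha⟩ := c₁.exists_affine_locus_le ((c₁.isAmple_iff d₁).mp hL).2
    (O := f ⁻¹ᵁ V) (p := pullback.fst f g p) hpV
  obtain ⟨m, b, hpb, hbV, hb⟩ := c₂.exists_affine_locus_le ((c₂.isAmple_iff d₂).mp hN).2
    (O := g ⁻¹ᵁ V) (p := pullback.snd f g p) hpV'
  refine ⟨n, c₁.pullSect _ le_top a, m, c₂.pullSect _ le_top b, ?_⟩
  rw [c₁.locus_pullSect, c₂.locus_pullSect]
  exact ⟨⟨hpa, hpb⟩, Ample.isAffineOpen_fst_inf_snd f g ha hb hV haV hbV⟩

end RLpsi8
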