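import Groth.Agent.Lib.AicCover.Section
import Groth.Prelude.Def_Curves

/-!
# Schemes local for Zariski and finite coverings
-/

set_option autoImplicit false

universe u

open CategoryTheory CategoryTheory.Limits AlgebraicGeometry

namespace GrothLib.RLpsi8.ZarFinLocal

/-- The scheme `P` is local for the coverings attached to `Q`. -/
def IsLocalFor (Q : MorphismProperty Scheme.{u}) (P : Scheme.{u}) : Prop :=
  ∀ (X : Scheme.{u}) (R : Presieve X), R ∈ Scheme.precoverage Q X →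
    ∀ g : P ⟶ X, ∃ (Y : Scheme.{u}) (w : Y ⟶ X) (h : P ⟶ Y), R w ∧ h ≫ w = g

lemma IsLocalFor.ofArrows {Q : MorphismProperty Scheme.{u}} {P : Scheme.{u}} (hP : IsLocalFor Q P)
    {X : Scheme.{u}} {ι : Type u} {U : ι → Scheme.{u}} (f : ∀ i, U i ⟶ X)
    (hs : ∀ x, ∃ i, x ∈ Set.range (f i)) (hQ : ∀ i, Q (f i)) (g : P ⟶ X) :
    ∃ (i : ι) (h : P ⟶ U i), h ≫ f i = g := by
  obtain ⟨Y, w, h, ⟨i⟩, hh⟩ := hP X (.ofArrows U f) ((Scheme.ofArrows_mem_precoverage_iff Q).2 ⟨hs, hQ⟩) g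
  exact ⟨i, h, hh⟩

lemma eq_top_of_factors {X : Scheme.{u}} {U : X.Opens} (h : X ⟶ U) (hh : h ≫ U.ι = 𝟙 X) : U = ⊤ :=
  top_unique fun x _ => by
    have hx : U.ι (h x) = x := by rw [← Scheme.Hom.comp_apply, hh]; rfl
    exact hx ▸ (h x).2

lemma isUnit_of_basicOpen_eq_top {P : Scheme.{u}} (a : Γ(P, ⊤)) (h : P.basicOpen a = ⊤) : IsUnit a :=
  RingedSpace.isUnit_of_isUnit_germ P.toRingedSpace ⊤ a fun x _ => (P.mem_basicOpen_top a x).1 (by rw [h]; trivial)

lemma isLocalRing_of_local {P : Scheme.{u}} [QuasiSeparatedSpace P]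
    (hP : IsLocalFor (@IsOpenImmersion ⊓ @QuasiCompact) P) : IsAffine P ∧ IsLocalRing Γ(P, ⊤) := by
  have hne : Nonempty P := by
    by_contra hne
    rw [not_nonempty_iff] at hne
    obtain ⟨i, -⟩ := hP.ofArrows (X := P) (ι := PEmpty.{u+1}) (U := PEmpty.elim) (fun i => i.elim)
      (fun x => isEmptyElim x) (fun i => i.elim) (𝟙 P)
    exact i.elim
  have hqc : ∀ U : P.Opens, IsAffineOpen U → (@IsOpenImmersion ⊓ @QuasiCompact : MorphismProperty Scheme) U.ι :=
    fun U hU => ⟨inferInstance, haveI : CompactSpace (U : Scheme.{u}) := isCompact_iff_compactSpace.1 hU.isCompact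
      quasiCompact_of_compactSpace _⟩
  have haff : IsAffine P := by
    obtain ⟨U, h, hh⟩ := hP.ofArrows (ι := P.affineOpens) (fun U => U.1.ι) (fun x => by
        obtain ⟨U, hU, hxU, -⟩ := exists_isAffineOpen_mem_and_subset (x := x) (U := (⊤ : P.Opens)) trivial
        exact ⟨⟨U, hU⟩, by rw [Scheme.Opens.range_ι]; exact hxU⟩) (fun U => hqc U.1 U.2) (𝟙 P)
    have hU := U.2
    rw [eq_top_of_factors h hh] at hU
    haveI : IsAffine ((⊤ : P.Opens) : Scheme.{u}) := hU
    exact .of_isIso P.topIso.inv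
  haveI := haff
  refine ⟨haff, ?_⟩
  haveI : Nontrivial Γ(P, ⊤) := by
    obtain ⟨x⟩ := hne
    exact (P.presheaf.germ ⊤ x trivial).hom.domain_nontrivial
  refine IsLocalRing.of_isUnit_or_isUnit_one_sub_self fun a => ?_
  let b := 1 - a
  have hab : a + b = 1 := add_sub_cancel _ _
  let U : ULift.{u} Bool → P.Opens := fun i => P.basicOpen (if i.down then a else b)
  obtain ⟨i, h, hh⟩ := hP.ofArrows (fun i => (U i).ι) (fun x => by
      by_cases hx : x ∈ P.basicOpen a
      · exact ⟨⟨true⟩, by rw [Scheme.Opens.range_ι]; exact hx⟩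
      · refine ⟨⟨false⟩, ?_⟩
        rw [Scheme.Opens.range_ι]
        have h1 : IsUnit (P.presheaf.germ ⊤ x trivial a + P.presheaf.germ ⊤ x trivial b) := by
          rw [← map_add, hab, map_one]; exact isUnit_one
        have h2 : ¬ IsUnit (P.presheaf.germ ⊤ x trivial a) := fun h => hx ((P.mem_basicOpen_top a x).2 h)
        exact (P.mem_basicOpen_top b x).2 ((IsLocalRing.isUnit_or_isUnit_of_isUnit_add h1).resolve_left h2))
    (fun i => hqc _ ((isAffineOpen_top P).basicOpen _)) (𝟙 P)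
  have ht := eq_top_of_factors h hh
  obtain ⟨i⟩ := i
  cases i
  · exact Or.inr (isUnit_of_basicOpen_eq_top _ (by simpa [U] using ht))
  · exact Or.inl (isUnit_of_basicOpen_eq_top _ (by simpa [U] using ht))

lemma exists_section_of_finite {A : CommRingCat.{u}} {P : Scheme.{u}} (e : P ≅ Spec A)
    (hP : IsLocalFor @IsFinite P) {ι : Type u} (B : ι → CommRingCat.{u}) (φ : ∀ i, A ⟶ B i)
    (hf : ∀ i, (φ i).hom.Finite) (hs : ∀ p : PrimeSpectrum A, ∃ i, p ∈ Set.range (PrimeSpectrum.comap (φ i).hom)) :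
    ∃ (i : ι) (ψ : B i →+* A), ψ.comp (φ i).hom = RingHom.id A := by
  obtain ⟨i, h, hh⟩ := hP.ofArrows (fun i => Spec.map (φ i)) hs (fun i => (IsFinite.SpecMap_iff _).2 (hf i)) e.hom
  have h2 : φ i ≫ Spec.preimage (e.inv ≫ h) = 𝟙 A := Spec.map_injective (by simp [hh])
  exact ⟨i, (Spec.preimage (e.inv ≫ h)).hom, RingHom.ext fun x => congrArg (fun q => q.hom x) h2⟩

lemma isDomain_isAIC_of_local {P : Scheme.{u}} [IsAffine P] [IsLocalRing Γ(P, ⊤)]
    (hP : IsLocalFor @IsFinite P) : IsDomain Γ(P, ⊤) ∧ Curves.IsAIC Γ(P, ⊤) := by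
  let A := Γ(P, ⊤)
  have hd : IsDomain A := by
    obtain ⟨p, ψ, hψ⟩ := exists_section_of_finite P.isoSpec hP
      (ι := (minimalPrimes A : Set (Ideal A))) (fun p => CommRingCat.of (A ⧸ (p : Ideal A)))
      (fun p => CommRingCat.ofHom (Ideal.Quotient.mk (p : Ideal A)))
      (fun p => RingHom.Finite.of_surjective _ Ideal.Quotient.mk_surjective)
      (fun q => by
        obtain ⟨p, hp, hpq⟩ := Ideal.exists_minimalPrimes_le (I := (⊥ : Ideal A)) (J := q.asIdeal) bot_le
        exact ⟨⟨p, hp⟩, (range_comap_of_surjective _ _ Ideal.Quotient.mk_surjective).symm.subset (by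
          show ((RingHom.ker (Ideal.Quotient.mk p) : Ideal A) : Set A) ⊆ q.asIdeal
          rw [Ideal.mk_ker]; exact hpq)⟩)
    have hb : (p : Ideal A) = ⊥ := by
      refine le_bot_iff.1 fun x hx => ?_
      have := RingHom.congr_fun hψ x
      simp only [CommRingCat.hom_ofHom, RingHom.comp_apply, RingHom.id_apply] at this
      rw [Ideal.Quotient.eq_zero_iff_mem.2 hx, map_zero] at this
      exact this.symm ▸ Submodule.zero_mem _
    haveI : (⊥ : Ideal A).IsPrime := hb ▸ p.2.1.1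
    exact IsDomain.of_bot_isPrime A
  refine ⟨hd, fun f hf hdeg => ?_⟩
  haveI := hf.free_adjoinRoot
  haveI := hf.finite_adjoinRoot
  have hinj : Function.Injective (algebraMap A (AdjoinRoot f)) :=
    AdjoinRoot.of.injective_of_degree_ne_zero (by
      rw [Polynomial.degree_eq_natDegree hf.ne_zero]; exact_mod_cast hdeg.ne')
  obtain ⟨-, ψ, hψ⟩ := exists_section_of_finite P.isoSpec hP (ι := PUnit.{u+1})
    (fun _ => CommRingCat.of (AdjoinRoot f)) (fun _ => CommRingCat.ofHom (algebraMap A (AdjoinRoot f)))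
    (fun _ => RingHom.finite_algebraMap.2 inferInstance)
    (fun p => ⟨⟨⟩, by
      haveI : Algebra.IsIntegral A (AdjoinRoot f) := inferInstance
      exact RingHom.IsIntegral.comap_surjective (f := algebraMap A (AdjoinRoot f)) (fun x => Algebra.IsIntegral.isIntegral x) hinj p⟩)
  refine ⟨ψ (AdjoinRoot.root f), ?_⟩
  have h0 := congrArg ψ (AdjoinRoot.eval₂_root f)
  rw [Polynomial.hom_eval₂, map_zero] at h0
  have hc : ψ.comp (AdjoinRoot.of f) = RingHom.id A := hψ
  rwa [hc, Polynomial.eval₂_id] at h0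

lemma local_of_isLocalRing {P : Scheme.{u}} [IsAffine P] [IsLocalRing Γ(P, ⊤)] :
    IsLocalFor (@IsOpenImmersion ⊓ @QuasiCompact) P := by
  intro X R hR g
  let c : P := P.isoSpec.inv (IsLocalRing.closedPoint Γ(P, ⊤))
  obtain ⟨Y, w, hw, hc⟩ := Scheme.JointlySurjective.exists_eq R hR (g c)
  haveI : IsOpenImmersion w := (hR.2 hw).1
  refine ⟨Y, w, IsOpenImmersion.lift w g ?_, hw, IsOpenImmersion.lift_fac _ _ _⟩
  rintro _ ⟨p, rfl⟩
  have hp : p ⤳ c := by
    have h1 : P.isoSpec.hom p ⤳ IsLocalRing.closedPoint Γ(P, ⊤) := IsLocalRing.specializes_closedPoint _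
    have h2 := h1.map P.isoSpec.inv.continuous
    rwa [← Scheme.Hom.comp_apply, Iso.hom_inv_id] at h2
  exact (hp.map g.continuous).mem_open w.isOpenEmbedding.isOpen_range hc

lemma local_of_aic {P : Scheme.{u}} [IsAffine P] [IsDomain Γ(P, ⊤)]
    (hA : Curves.IsAIC Γ(P, ⊤)) : IsLocalFor @IsFinite P := by
  intro X R hR g
  let η : P := P.isoSpec.inv ⟨⊥, Ideal.isPrime_bot⟩
  obtain ⟨Y, w, hw, y, hy⟩ := Scheme.JointlySurjective.exists_eq R hR (g η)
  haveI : IsFinite w := hR.2 hw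
  obtain ⟨z, hz, -⟩ := Scheme.Pullback.exists_preimage_pullback (f := g) (g := w) η y hy.symm
  let u : pullback g w ⟶ Spec Γ(P, ⊤) := pullback.fst g w ≫ P.isoSpec.hom
  haveI : IsAffine (pullback g w) := isAffine_of_isAffineHom u
  let B := Γ(pullback g w, ⊤)
  let φ : Γ(P, ⊤) ⟶ B := Spec.preimage ((pullback g w).isoSpec.inv ≫ u)
  have hφ : Spec.map φ = (pullback g w).isoSpec.inv ≫ u := Spec.map_preimage _
  have hfin : φ.hom.Finite := by
    rw [← IsFinite.SpecMap_iff, hφ]; infer_instance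
  let q : PrimeSpectrum B := (pullback g w).isoSpec.hom z
  have hq : q.asIdeal.comap φ.hom = ⊥ := by
    have h1 : Spec.map φ ((pullback g w).isoSpec.hom z) = P.isoSpec.hom η := by
      rw [hφ, ← Scheme.Hom.comp_apply, Iso.hom_inv_id_assoc]
      show P.isoSpec.hom (pullback.fst g w z) = _
      rw [hz]
    have h2 : P.isoSpec.hom η = (⟨⊥, Ideal.isPrime_bot⟩ : PrimeSpectrum Γ(P, ⊤)) := by
      show P.isoSpec.hom (P.isoSpec.inv _) = _
      rw [← Scheme.Hom.comp_apply, Iso.inv_hom_id]; rfl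
    exact congrArg PrimeSpectrum.asIdeal (h1.trans h2)
  let π : Γ(P, ⊤) →+* B ⧸ q.asIdeal := (Ideal.Quotient.mk q.asIdeal).comp φ.hom
  have hπi : Function.Injective π := (injective_iff_map_eq_zero _).2 fun a ha => by
    have : a ∈ q.asIdeal.comap φ.hom := Ideal.mem_comap.2 (Ideal.Quotient.eq_zero_iff_mem.1 ha)
    rwa [hq] at this
  have hπs : Function.Surjective π := fun b =>
    AicCover.HasMonicRoots.mem_range (fun p hp hp0 => hA p hp (Nat.pos_of_ne_zero hp0)) π
      (((RingHom.Finite.of_surjective _ Ideal.Quotient.mk_surjective).comp hfin).to_isIntegral b)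
  let ψ : B →+* Γ(P, ⊤) := (RingEquiv.ofBijective π ⟨hπi, hπs⟩).symm.toRingHom.comp (Ideal.Quotient.mk q.asIdeal)
  have hs : φ ≫ CommRingCat.ofHom ψ = 𝟙 _ := by
    ext a
    exact (RingEquiv.ofBijective π ⟨hπi, hπs⟩).symm_apply_apply a
  let s : P ⟶ pullback g w := P.isoSpec.hom ≫ Spec.map (CommRingCat.ofHom ψ) ≫ (pullback g w).isoSpec.inv
  have hsu : s ≫ pullback.fst g w = 𝟙 P := by
    rw [← cancel_mono P.isoSpec.hom, Category.assoc, Category.id_comp]
    show P.isoSpec.hom ≫ Spec.map (CommRingCat.ofHom ψ) ≫ (pullback g w).isoSpec.inv ≫ u = P.isoSpec.hom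
    rw [← hφ, ← Spec.map_comp, hs, Spec.map_id, Category.comp_id]
  refine ⟨Y, w, s ≫ pullback.snd g w, hw, ?_⟩
  rw [Category.assoc, ← pullback.condition, ← Category.assoc, hsu, Category.id_comp]

end GrothLib.RLpsi8.ZarFinLocal
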