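import Groth.Agent.Lib.FibreGen6.Valuation
import Groth.Agent.Lib.AffDom.FibreDim
import Mathlib.AlgebraicGeometry.ZariskisMainTheorem
import Mathlib.AlgebraicGeometry.Morphisms.UniversallyOpen

/-!
# Flat, proper, generically finite over a valuation ring implies finite
-/

set_option autoImplicit false

universe u

open CategoryTheory CategoryTheory.Limits AlgebraicGeometry

namespace RLpsi8.ValFinite

theorem finite_of_forall_isClosed {T : Type u} [TopologicalSpace T] [TopologicalSpace.NoetherianSpace T]
    [QuasiSober T] (h : ∀ x : T, IsClosed ({x} : Set T)) : Finite T := by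
  have hfin := TopologicalSpace.NoetherianSpace.finite_irreducibleComponents (α := T)
  have : (Set.univ : Set T) ⊆ ⋃₀ irreducibleComponents T := by rw [sUnion_irreducibleComponents]
  refine Set.finite_univ_iff.1 ((hfin.sUnion fun C hC => ?_).subset this)
  obtain ⟨c, hc⟩ := QuasiSober.sober hC.1 (isClosed_of_mem_irreducibleComponents C hC)
  rw [← hc.def, (h c).closure_eq]
  exact Set.finite_singleton c

theorem isFinite_of_flat_proper {R : Type u} [CommRing R] [IsDomain R] [ValuationRing R] {Y : Scheme.{u}}
    (f : Y ⟶ Spec (CommRingCat.of R)) [Flat f] [IsProper f]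
    (hgen : IsFinite (pullback.snd f
      (Spec.map (CommRingCat.ofHom (algebraMap R (FractionRing R)))))) :
    IsFinite f := by
  let η : ↥(Spec (CommRingCat.of R)) := (⊥ : PrimeSpectrum R)
  let g := Spec.map (CommRingCat.ofHom (algebraMap R (FractionRing R)))
  -- the generic fibre is finite
  have hη : (f ⁻¹' {η}).Finite := by
    haveI := hgen
    have hP : Finite ↥(pullback f g) :=
      Set.finite_univ_iff.1 (((pullback.snd f g).finite_preimage
        (s := (Set.univ : Set ↥(Spec (CommRingCat.of (FractionRing R))))) (by
          haveI : Subsingleton ↥(Spec (CommRingCat.of (FractionRing R))) :=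
            inferInstanceAs (Subsingleton (PrimeSpectrum (FractionRing R)))
          exact Set.subsingleton_univ.finite)).subset (fun _ _ => trivial))
    refine (Set.finite_range (pullback.fst f g)).subset fun y hy => ?_
    rw [Scheme.Pullback.range_fst]
    refine ⟨IsLocalRing.closedPoint (FractionRing R), ?_⟩
    rw [show f y = η from hy]
    exact PrimeSpectrum.ext (by
      show Ideal.comap (algebraMap R (FractionRing R)) (IsLocalRing.maximalIdeal (FractionRing R)) = ⊥
      rw [IsLocalRing.isField_iff_maximalIdeal_eq.1 (Field.toIsField _)]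
      exact (RingHom.ker_eq_comap_bot _).symm.trans
        ((RingHom.injective_iff_ker_eq_bot _).1 (IsFractionRing.injective R (FractionRing R))))
  have hpts : ∀ y : Y, GrothLib.AffDom.ptDim (f.asFiber y) ≤ 0 := by
    intro y
    obtain ⟨y', hy', hy'η⟩ := Flat.generalizingMap f (show η ⤳ f y from
      (PrimeSpectrum.le_iff_specializes (⊥ : PrimeSpectrum R) (f y)).1 bot_le)
    refine (GrothLib.FibreGen6.ptDim_le_of_specializes R f hy').trans ?_
    haveI : Finite ↥(f.fiber (f y')) := by
      have : Finite (f ⁻¹' {f y'}) := by rw [hy'η]; exact hη.to_subtype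
      exact Finite.of_equiv _ (f.fiberHomeo (f y')).symm.toEquiv
    haveI : DiscreteTopology ↥(f.fiber (f y')) := inferInstance
    exact (GrothLib.AffDom.ptDim_closedPoint (isClosed_discrete _)).le
  have hqf : LocallyQuasiFinite f := by
    refine LocallyQuasiFinite.of_finite_preimage_singleton _ fun s => ?_
    haveI : LocallyOfFiniteType (f.fiberToSpecResidueField s) :=
      MorphismProperty.pullback_snd _ _ inferInstance
    haveI : IsLocallyNoetherian (f.fiber s) :=
      LocallyOfFiniteType.isLocallyNoetherian (f.fiberToSpecResidueField s)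
    haveI : IsNoetherian (f.fiber s) := {}
    haveI : Finite ↥(f.fiber s) := finite_of_forall_isClosed fun z => by
      obtain ⟨⟨y, rfl⟩, rfl⟩ := (f.fiberHomeo s).symm.surjective z
      exact GrothLib.AffDom.isClosed_of_ptDim_eq_zero
        (le_antisymm (hpts y) (GrothLib.AffDom.ptDim_nonneg _))
    haveI : Finite (f ⁻¹' {s}) := Finite.of_equiv _ (f.fiberHomeo s).toEquiv
    exact Set.toFinite _
  exact IsFinite.of_isProper_of_locallyQuasiFinite f

end RLpsi8.ValFinite
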