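import Groth.Prelude.Def_RelSpec
import Groth.Agent.Lib.RLpsi8.GammaIso
import Groth.Agent.Lib.AffAlg8.Hom
import Mathlib.AlgebraicGeometry.Morphisms.Immersion
import Mathlib.AlgebraicGeometry.Morphisms.QuasiSeparated
import Mathlib.AlgebraicGeometry.QuasiAffine
universe u
open CategoryTheory CategoryTheory.Limits AlgebraicGeometry TopologicalSpace Opposite
set_option backward.isDefEq.respectTransparency false
namespace RLpsi8
open RelSpec

theorem isOpenImmersion_of_ker_eq_bot {X Z : Scheme.{u}} (g : X ⟶ Z) [IsImmersion g] [QuasiCompact g]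
    (h : g.ker = ⊥) : IsOpenImmersion g := by
  have : IsIso g.imageι := by delta Scheme.Hom.imageι Scheme.Hom.image; rw [h]; infer_instance
  rw [← g.toImage_imageι]
  infer_instance

theorem S4837 {X Y : Scheme.{u}} (f : X ⟶ Y)
    [QuasiCompact f] [QuasiSeparated f] (C : RelSpec.QCAlg Y) (g : X ⟶ C.spec) (w : g ≫ C.π = f)
    [IsImmersion g] (φ : C ⟶ RelSpec.QCAlg.directImage f)
    (hφ : C.gammaMap ≫ φ.hom = AffAlg.algHom C.π f g w) :
    (g.ker = ⊥ ↔ ∀ U : Y.Opens, Function.Injective (φ.hom.app (Opposite.op U)).hom) ∧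
      (g.ker = ⊥ → IsOpenImmersion g) := by
  subst w
  have : QuasiCompact g := QuasiCompact.of_comp g C.π
  refine ⟨?_, isOpenImmersion_of_ker_eq_bot g⟩
  have key : ∀ U : Y.affineOpens, Function.Injective (g.app (C.π ⁻¹ᵁ U.1)) ↔
      Function.Injective (φ.hom.app (op U.1)).hom := by
    intro U
    have h1 := congr(($hφ).app (op U.1))
    rw [GrothLib.AffAlg8.algHom_app, NatTrans.comp_app, C.gammaMap_app U.1 U.2] at h1
    have := isIso_gammaAff C U.1 U.2
    have hb := ConcreteCategory.bijective_of_isIso (C.gammaAff U.1 U.2)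
    have h2 : (fun z => g.app (C.π ⁻¹ᵁ U.1) z) = fun z => (φ.hom.app (op U.1)).hom (C.gammaAff U.1 U.2 z) := by
      funext z
      exact (congr($(Scheme.Hom.app_eq_appLE g (U := C.π ⁻¹ᵁ U.1)) z)).trans ((congr($h1 z)).symm.trans rfl)
    show Function.Injective (fun z => g.app (C.π ⁻¹ᵁ U.1) z) ↔ _
    rw [h2]
    exact ⟨fun h => (Function.Injective.of_comp_iff' (φ.hom.app (op U.1)).hom hb).mp h, fun h => h.comp hb.1⟩
  constructor
  · intro h U s t hst
    choose W hW hxW hWV using fun p : U => exists_isAffineOpen_mem_and_subset (x := p.1) (U := U) p.2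
    refine TopCat.Sheaf.eq_of_locally_eq' ⟨C.presheaf, C.isSheaf⟩ W U (fun p => homOfLE (hWV p))
      (fun p hp => Opens.mem_iSup.mpr ⟨⟨p, hp⟩, hxW ⟨p, hp⟩⟩) _ _ fun p => ?_
    have hi : Function.Injective (φ.hom.app (op (W p))).hom := by
      refine (key ⟨W p, hW p⟩).mp ?_
      have h3 := congr(($h).ideal ⟨C.π ⁻¹ᵁ W p, (hW p).preimage C.π⟩)
      rw [Scheme.Hom.ker_apply, Scheme.IdealSheafData.ideal_bot] at h3
      exact (RingHom.injective_iff_ker_eq_bot _).mpr h3
    refine hi ?_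
    have n1 := ConcreteCategory.congr_hom (φ.hom.naturality (homOfLE (hWV p)).op) s
    have n2 := ConcreteCategory.congr_hom (φ.hom.naturality (homOfLE (hWV p)).op) t
    exact n1.trans ((congrArg ((QCAlg.directImage (g ≫ C.π)).presheaf.map (homOfLE (hWV p)).op) hst).trans n2.symm)
  · intro h
    refine Scheme.IdealSheafData.ext_of_iSup_eq_top
      (fun U : Y.affineOpens => (⟨C.π ⁻¹ᵁ U.1, U.2.preimage C.π⟩ : C.spec.affineOpens))
      (by rw [← Scheme.Hom.preimage_iSup, iSup_affineOpens_eq_top, Scheme.Hom.preimage_top]) fun U => ?_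
    rw [Scheme.Hom.ker_apply, Scheme.IdealSheafData.ideal_bot]
    exact (RingHom.injective_iff_ker_eq_bot _).mp ((key U).mpr (h U.1))

end RLpsi8
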