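import Mathlib.AlgebraicGeometry.Morphisms.Immersion
import Mathlib.AlgebraicGeometry.Morphisms.FiniteType
/-!
# An immersion into an affine scheme over the base only needs finitely many functions
-/
universe u
open CategoryTheory CategoryTheory.Limits AlgebraicGeometry TopologicalSpace Opposite
set_option backward.isDefEq.respectTransparency false
namespace RLpsi8

variable {X Z Z' Y : Scheme.{u}}

theorem isImmersion_of_closedImmersion_restrict (g : X ⟶ Z) {ι : Type*} (W : ι → Z.Opens)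
    (hW : ∀ x, ∃ i, g x ∈ W i) (h : ∀ i, IsClosedImmersion (g ∣_ W i)) : IsImmersion g := by
  let O : Z.Opens := ⨆ i, W i
  have hO : ⊤ ≤ g ⁻¹ᵁ O := fun x _ => by
    obtain ⟨i, hi⟩ := hW x
    exact Opens.mem_iSup.2 ⟨i, hi⟩
  have hc : IsClosedImmersion (g ∣_ O) := by
    refine (IsZariskiLocalAtTarget.iff_of_iSup_eq_top (P := @IsClosedImmersion) (fun i => O.ι ⁻¹ᵁ W i) ?_).mpr fun i => ?_
    · rw [← Scheme.Hom.preimage_iSup]
      exact top_unique fun z _ => z.2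
    · refine (MorphismProperty.arrow_mk_iso_iff @IsClosedImmersion
        (morphismRestrictRestrict g O (O.ι ⁻¹ᵁ W i))).mpr ?_
      refine (MorphismProperty.arrow_mk_iso_iff @IsClosedImmersion (morphismRestrictEq g ?_)).mpr (h i)
      rw [Scheme.Hom.image_preimage_eq_opensRange_inf, Scheme.Opens.opensRange_ι, inf_eq_right]
      exact le_iSup W i
  have : IsIso (g ⁻¹ᵁ O).ι := by
    rw [top_le_iff.mp hO]
    exact inferInstanceAs (IsIso X.topIso.hom)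
  have e : g = inv (g ⁻¹ᵁ O).ι ≫ g ∣_ O ≫ O.ι := by
    rw [morphismRestrict_ι, IsIso.inv_hom_id_assoc]
  rw [e]
  infer_instance

theorem exists_basicOpen_closedImmersion (g : X ⟶ Z) [IsImmersion g] {V : Z.Opens} (hV : IsAffineOpen V)
    (x : X) (hx : g x ∈ V) : ∃ s : Γ(Z, V), g x ∈ Z.basicOpen s ∧ IsClosedImmersion (g ∣_ Z.basicOpen s) := by
  have hxW : g x ∈ g.coborderRange := subset_coborder ⟨x, rfl⟩
  obtain ⟨s, hsW, hsx⟩ := hV.exists_basicOpen_le (V := g.coborderRange) ⟨g x, hxW⟩ hx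
  refine ⟨s, hsx, ?_⟩
  have e : IsClosedImmersion ((g.liftCoborder ≫ g.coborderRange.ι) ∣_ Z.basicOpen s) := by
    rw [morphismRestrict_comp]
    have h1 : IsClosedImmersion (g.coborderRange.ι ∣_ Z.basicOpen s) := by
      refine IsClosedImmersion.of_isPreimmersion _ ?_
      have : Set.range (g.coborderRange.ι ∣_ Z.basicOpen s) = Set.univ :=
        Set.eq_univ_of_forall fun z => ⟨⟨⟨z.1, hsW z.2⟩, z.2⟩, Subtype.ext (morphismRestrict_base_coe _ _ _)⟩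
      rw [this]
      exact isClosed_univ
    have h2 : IsClosedImmersion (g.liftCoborder ∣_ g.coborderRange.ι ⁻¹ᵁ Z.basicOpen s) :=
      IsZariskiLocalAtTarget.restrict (P := @IsClosedImmersion) inferInstance _
    infer_instance
  rwa [g.liftCoborder_ι] at e

/-- Finitely many functions suffice to detect a closed immersion over a basic open. -/
theorem exists_gens (g : X ⟶ Z) (p : Z ⟶ Y) [LocallyOfFiniteType (g ≫ p)] {U : Y.Opens} (hU : IsAffineOpen U)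
    (hV : IsAffineOpen (p ⁻¹ᵁ U)) (s : Γ(Z, p ⁻¹ᵁ U)) [IsClosedImmersion (g ∣_ Z.basicOpen s)] :
    ∃ T : Set Γ(Z, p ⁻¹ᵁ U), T.Finite ∧ s ∈ T ∧
      ∀ ⦃Z' : Scheme.{u}⦄ (q : Z ⟶ Z') (p' : Z' ⟶ Y) (hq : q ≫ p' = p), IsAffineOpen (p' ⁻¹ᵁ U) →
        T ⊆ Set.range (q.appLE (p' ⁻¹ᵁ U) (p ⁻¹ᵁ U) (by rw [← hq]; rfl)) →
        ∃ W : Z'.Opens, q ⁻¹ᵁ W = Z.basicOpen s ∧ IsClosedImmersion ((g ≫ q) ∣_ W) := by
  classical
  let R := Γ(X, g ⁻¹ᵁ Z.basicOpen s)
  have hD : IsAffineOpen (Z.basicOpen s) := hV.basicOpen s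
  have hXa : IsAffineOpen (g ⁻¹ᵁ Z.basicOpen s) := by
    have : IsAffine (Z.basicOpen s).toScheme := hD
    exact isAffine_of_isAffineHom (g ∣_ Z.basicOpen s)
  have hgsurj : Function.Surjective (g.app (Z.basicOpen s)) := by
    have h := (g ∣_ Z.basicOpen s).app_surjective ⊤ (by
      have : IsAffine (Z.basicOpen s).toScheme := hD; exact isAffineOpen_top _)
    rw [morphismRestrict_app] at h
    intro r
    have hb : ∀ {P Q : CommRingCat.{u}} (m : P ⟶ Q) [IsIso m], Function.Bijective m :=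
      fun m _ => ConcreteCategory.bijective_of_isIso m
    have h' : Function.Surjective (g.app ((Z.basicOpen s).ι ''ᵁ ⊤)) := fun z => by
      obtain ⟨y, hy⟩ := h ((X.presheaf.map (eqToHom (image_morphismRestrict_preimage g _ ⊤)).op) z)
      exact ⟨y, (hb _).1 ((ConcreteCategory.comp_apply _ _ _).symm.trans hy)⟩
    rw [Scheme.Opens.ι_image_top] at h'
    exact h' r
  have hle : g ⁻¹ᵁ Z.basicOpen s ≤ (g ≫ p) ⁻¹ᵁ U := g.preimage_mono (Z.basicOpen_le s)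
  have hft := (g ≫ p).finiteType_appLE hU hXa hle
  letI := ((g ≫ p).appLE U (g ⁻¹ᵁ Z.basicOpen s) hle).hom.toAlgebra
  obtain ⟨G, hG⟩ := (hft : Algebra.FiniteType Γ(Y, U) R).out
  choose y hy using fun r : G => hgsurj r.1
  choose n a ha using fun r : G => exists_eq_pow_mul_of_isAffineOpen Z _ hV s (y r)
  refine ⟨insert s (Set.range a), (Set.finite_range a).insert s, Set.mem_insert _ _, ?_⟩
  intro Z' q p' hq hV' hT
  subst hq
  obtain ⟨s', hs'⟩ := hT (Set.mem_insert _ _)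
  replace hs' : q.app (p' ⁻¹ᵁ U) s' = s := by rw [Scheme.Hom.app_eq_appLE]; exact hs'
  have hpre : q ⁻¹ᵁ Z'.basicOpen s' = Z.basicOpen s := by
    rw [Scheme.Hom.preimage_basicOpen, hs']
  refine ⟨Z'.basicOpen s', hpre, ?_⟩
  have hD' : IsAffineOpen (Z'.basicOpen s') := hV'.basicOpen s'
  have hle' : g ⁻¹ᵁ Z.basicOpen s ≤ (g ≫ q) ⁻¹ᵁ Z'.basicOpen s' := (g.preimage_mono hpre.ge : _)
  have heq : (g ≫ q) ⁻¹ᵁ Z'.basicOpen s' = g ⁻¹ᵁ Z.basicOpen s := congrArg (g ⁻¹ᵁ ·) hpre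
  -- the comparison map
  let Φ : Γ(Z', Z'.basicOpen s') ⟶ R := (g ≫ q).appLE (Z'.basicOpen s') (g ⁻¹ᵁ Z.basicOpen s) hle'
  let ψ : Γ(Z, Z.basicOpen s) →+* R := (g.app (Z.basicOpen s)).hom
  let ρ : Γ(Z, (q ≫ p') ⁻¹ᵁ U) ⟶ Γ(Z, Z.basicOpen s) := Z.presheaf.map (homOfLE (Z.basicOpen_le s)).op
  have hΦ : ∀ b : Γ(Z', p' ⁻¹ᵁ U), Φ ((Z'.presheaf.map (homOfLE (Z'.basicOpen_le s')).op) b) =
      ψ (ρ (q.appLE (p' ⁻¹ᵁ U) ((q ≫ p') ⁻¹ᵁ U) le_rfl b)) := by
    intro b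
    show (Z'.presheaf.map _ ≫ (g ≫ q).appLE (Z'.basicOpen s') _ hle') b =
      (q.appLE (p' ⁻¹ᵁ U) ((q ≫ p') ⁻¹ᵁ U) le_rfl ≫ Z.presheaf.map _ ≫ g.app (Z.basicOpen s)) b
    congr 2
    rw [Scheme.Hom.map_appLE, ← Category.assoc, Scheme.Hom.appLE_map, ← Scheme.Hom.appLE_eq_app,
      Scheme.Hom.appLE_comp_appLE]
  have hstr : ∀ c : Γ(Y, U), algebraMap Γ(Y, U) R c ∈ Set.range Φ := by
    intro c
    refine ⟨(Z'.presheaf.map (homOfLE (Z'.basicOpen_le s')).op) (p'.app U c), ?_⟩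
    show (p'.app U ≫ Z'.presheaf.map _ ≫ (g ≫ q).appLE _ _ hle') c = ((g ≫ q ≫ p').appLE U _ hle) c
    congr 2
    rw [Scheme.Hom.map_appLE, ← Scheme.Hom.appLE_eq_app, Scheme.Hom.appLE_comp_appLE]
    simp only [Category.assoc]
  have hsurj : Function.Surjective Φ := by
    intro r
    have hr : r ∈ Algebra.adjoin Γ(Y, U) (G : Set R) := hG.symm ▸ Algebra.mem_top
    induction hr using Algebra.adjoin_induction with
    | algebraMap c => exact hstr c
    | mem x hx =>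
      obtain ⟨a', ha'⟩ := hT (Set.mem_insert_of_mem _ ⟨⟨x, hx⟩, rfl⟩)
      obtain ⟨i, hi⟩ : ∃ i : Γ(Z', Z'.basicOpen s'),
          (Z'.presheaf.map (homOfLE (Z'.basicOpen_le s')).op) s' * i = 1 :=
        (RingedSpace.isUnit_res_basicOpen Z'.toRingedSpace s').exists_right_inv
      refine ⟨(Z'.presheaf.map (homOfLE (Z'.basicOpen_le s')).op) a' * i ^ n ⟨x, hx⟩, ?_⟩
      have h1 : Φ ((Z'.presheaf.map (homOfLE (Z'.basicOpen_le s')).op) s') * Φ i = 1 := by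
        rw [← map_mul]
        exact (congrArg Φ hi).trans (map_one _)
      have h2 : Φ ((Z'.presheaf.map (homOfLE (Z'.basicOpen_le s')).op) s') = ψ (ρ s) := by
        rw [hΦ]; refine congrArg (fun w => ψ (ρ w)) ?_; rw [← hs', Scheme.Hom.app_eq_appLE]; rfl
      rw [h2] at h1
      rw [map_mul, map_pow, hΦ, ha']
      have h3 : ψ (ρ (a ⟨x, hx⟩)) = ψ (ρ s) ^ n ⟨x, hx⟩ * x := by
        have := ha ⟨x, hx⟩
        show ψ (ρ (a ⟨x, hx⟩)) = _
        rw [← map_pow]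
        refine (congrArg ψ this).trans ?_
        rw [map_mul]
        exact congrArg (ψ (ρ s ^ n ⟨x, hx⟩) * ·) (hy ⟨x, hx⟩)
      rw [h3, mul_comm (ψ (ρ s) ^ n ⟨x, hx⟩) x, mul_assoc, ← mul_pow, h1, one_pow, mul_one]
    | add x y _ _ hx hy =>
      obtain ⟨a, rfl⟩ := hx; obtain ⟨b, rfl⟩ := hy
      exact ⟨a + b, map_add _ _ _⟩
    | mul x y _ _ hx hy =>
      obtain ⟨a, rfl⟩ := hx; obtain ⟨b, rfl⟩ := hy
      exact ⟨a * b, map_mul _ _ _⟩
  have : IsAffine (Z'.basicOpen s').toScheme := hD'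
  have : IsAffine ((g ≫ q) ⁻¹ᵁ Z'.basicOpen s').toScheme := by rw [heq]; exact hXa
  refine IsClosedImmersion.of_surjective_of_isAffine _ ?_
  have h3 : Function.Surjective ((g ≫ q).app (Z'.basicOpen s')) := by
    have hi : IsIso (homOfLE hle') := ⟨homOfLE heq.le, Subsingleton.elim _ _, Subsingleton.elim _ _⟩
    intro r
    obtain ⟨z, hz⟩ := hsurj ((X.presheaf.map (homOfLE hle').op) r)
    exact ⟨z, (ConcreteCategory.bijective_of_isIso (X.presheaf.map (homOfLE hle').op)).1 hz⟩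
  rw [Scheme.Hom.appTop, morphismRestrict_app]
  intro r
  have hb : ∀ {P Q : CommRingCat.{u}} (m : P ⟶ Q) [IsIso m], Function.Bijective m :=
    fun m _ => ConcreteCategory.bijective_of_isIso m
  have h4 : Function.Surjective ((g ≫ q).app ((Z'.basicOpen s').ι ''ᵁ ⊤)) := by
    rw [Scheme.Opens.ι_image_top]; exact h3
  obtain ⟨w, hw⟩ := (hb (X.presheaf.map (eqToHom (image_morphismRestrict_preimage (g ≫ q) (Z'.basicOpen s') ⊤)).op)).2 r
  obtain ⟨y, hy⟩ := h4 w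
  exact ⟨y, (ConcreteCategory.comp_apply _ _ _).trans ((congrArg _ hy).trans hw)⟩

end RLpsi8
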