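import Groth.Prelude.Def_RelSpec
import Groth.Agent.Lib.SymAlgX.Glue
import Groth.Agent.Lib.ModDesc.Basic
import Groth.Agent.Lib.QCoh.FT
universe u
open CategoryTheory CategoryTheory.Limits AlgebraicGeometry TopologicalSpace Opposite
set_option backward.isDefEq.respectTransparency false
namespace RLpsi8
open RelSpec GrothLib

variable {S : Scheme.{u}}

theorem locallyOfFiniteType_π_of_finiteType (A : QCAlg S)
    (h : ∀ U : S.affineOpens, (A.str.app (op U.1)).hom.FiniteType) : LocallyOfFiniteType A.π := by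
  rw [IsZariskiLocalAtSource.iff_of_openCover (P := @LocallyOfFiniteType) A.glueData.cover]
  intro U
  show LocallyOfFiniteType (A.ι U.1 U.2 ≫ A.π)
  rw [A.ι_π]
  have : LocallyOfFiniteType (Spec.map (A.str.app (op U.1))) :=
    (HasRingHomProperty.Spec_iff (P := @LocallyOfFiniteType)).mpr (h ⟨U.1, U.2⟩)
  infer_instance

theorem isClosedImmersion_specMap_of_surjective {A B : QCAlg S} (ψ : A ⟶ B)
    (h : ∀ U : S.affineOpens, Function.Surjective (ψ.hom.app (op U.1))) :
    IsClosedImmersion (QCAlg.specMap ψ) := by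
  refine (IsZariskiLocalAtTarget.iff_of_iSup_eq_top (P := @IsClosedImmersion) (fun U : S.affineOpens => A.π ⁻¹ᵁ U.1) ?_).mpr
    fun U => ?_
  · rw [← Scheme.Hom.preimage_iSup, iSup_affineOpens_eq_top, Scheme.Hom.preimage_top]
  · have hsq : IsPullback (B.ι U.1 U.2) (Spec.map (ψ.hom.app (op U.1))) (QCAlg.specMap ψ) (A.ι U.1 U.2) := by
      refine (IsOpenImmersion.isPullback _ _ _ _ ?_ ?_).flip
      · exact QCAlg.ι_specMap U.1 U.2 ψ
      · rw [← A.π_preimage U.1 U.2, ← B.π_preimage U.1 U.2, ← Scheme.Hom.comp_preimage, QCAlg.specMap_π]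
    have : IsClosedImmersion (Spec.map (ψ.hom.app (op U.1))) :=
      IsClosedImmersion.spec_of_surjective _ (h U)
    have hr : A.π ⁻¹ᵁ U.1 = (A.ι U.1 U.2).opensRange := A.π_preimage U.1 U.2
    rw [hr]
    exact ((MorphismProperty.arrow_mk_iso_iff @IsClosedImmersion
      (morphismRestrictOpensRange (QCAlg.specMap ψ) (A.ι U.1 U.2))).trans
      (MorphismProperty.arrow_mk_iso_iff @IsClosedImmersion
        (Arrow.isoMk (hsq.isoPullback).symm (Iso.refl _) (by simp) : Arrow.mk (pullback.snd (QCAlg.specMap ψ) (A.ι U.1 U.2)) ≅ Arrow.mk (Spec.map (ψ.hom.app (op U.1)))))).mpr this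

theorem S8268 (E F : S.Modules) (hE : Coh.IsQCoh E)
    (hF : Coh.IsQCoh F) (u : E ⟶ F) [Epi u]
    (A B : RelSpec.QCAlg S) (j : E ⟶ A.toModule) (k : F ⟶ B.toModule)
    (hB : RelSpec.IsSymAlg F B k)
    (ψ : A ⟶ B) (hψ : j ≫ RelSpec.QCAlg.Hom.toModuleMap ψ = u ≫ k) :
    IsClosedImmersion (RelSpec.QCAlg.specMap ψ) := by
  refine isClosedImmersion_specMap_of_surjective ψ fun U b => ?_
  obtain ⟨e, hes, hej⟩ := SymAlgX.isAffSym_of_isSymAlg hF hB U.1 U.2
  obtain ⟨a, rfl⟩ := e.surjective b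
  induction a using SymmetricAlgebra.induction with
  | algebraMap r =>
    exact ⟨(A.str.app (op U.1)).hom r, (ConcreteCategory.congr_hom (NatTrans.congr_app ψ.comm (op U.1)) r).trans (hes r).symm⟩
  | ι x =>
    obtain ⟨y, rfl⟩ := ModDesc.app_surjective_of_epi u U.2 x
    refine ⟨j.app U.1 y, ?_⟩
    exact (congrArg (fun f : E ⟶ B.toModule => (show B.presheaf.obj (op U.1) from f.app U.1 y)) hψ).trans (hej _).symm
  | mul a b ha hb =>
    obtain ⟨a', ha⟩ := ha; obtain ⟨b', hb⟩ := hb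
    exact ⟨a' * b', by rw [map_mul, map_mul, ha, hb]⟩
  | add a b ha hb =>
    obtain ⟨a', ha⟩ := ha; obtain ⟨b', hb⟩ := hb
    exact ⟨a' + b', by rw [map_add, map_add, ha, hb]⟩

theorem S8267 (E : S.Modules) (hE : Coh.IsCoh E)
    (A : RelSpec.QCAlg S) (j : E ⟶ A.toModule) (hA : RelSpec.IsSymAlg E A j) :
    LocallyOfFiniteType A.π := by
  refine locallyOfFiniteType_π_of_finiteType A fun U => ?_
  obtain ⟨e, hes, hej⟩ := SymAlgX.isAffSym_of_isSymAlg hE.1 hA U.1 U.2
  have := hE.1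
  have := hE.2
  have : Module.Finite Γ(S, U.1) Γ(E, U.1) := QCoh.moduleFinite_of_isFiniteType E hE.2 U.2
  obtain ⟨s, hs⟩ := Module.Finite.fg_top (R := Γ(S, U.1)) (M := Γ(E, U.1))
  have h1 : (algebraMap Γ(S, U.1) (SymmetricAlgebra Γ(S, U.1) Γ(E, U.1))).FiniteType := by
    classical
    rw [RingHom.finiteType_algebraMap]
    refine ⟨⟨s.image (SymmetricAlgebra.ι Γ(S, U.1) Γ(E, U.1)), ?_⟩⟩
    refine Algebra.eq_top_iff.2 fun a => ?_
    induction a using SymmetricAlgebra.induction with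
    | algebraMap r => exact Subalgebra.algebraMap_mem _ r
    | ι x =>
      have hx : x ∈ Submodule.span Γ(S, U.1) (s : Set Γ(E, U.1)) := hs.symm ▸ Submodule.mem_top
      induction hx using Submodule.span_induction with
      | mem y hy => exact Algebra.subset_adjoin (Finset.mem_coe.2 (Finset.mem_image_of_mem _ hy))
      | zero => rw [map_zero]; exact zero_mem _
      | add y z _ _ hy hz => rw [map_add]; exact add_mem hy hz
      | smul c y _ hy => rw [map_smul]; exact Subalgebra.smul_mem _ hy c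
    | mul a b ha hb => exact mul_mem ha hb
    | add a b ha hb => exact add_mem ha hb
  have h2 : (A.str.app (op U.1)).hom = e.toRingHom.comp (algebraMap Γ(S, U.1) (SymmetricAlgebra Γ(S, U.1) Γ(E, U.1))) :=
    RingHom.ext fun r => (hes r).symm
  rw [h2]
  exact h1.comp_surjective e.surjective

end RLpsi8
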