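import Groth.Prelude.Def_RelSpec
import Groth.Prelude.Def_Mor2
import Groth.Agent.Lib.RLpsi8.ImmFT
import Groth.Agent.Lib.RLpsi8.QAffSpec
import Groth.Agent.Lib.RLpsi8.VBundle
import Groth.Agent.Lib.RLpsi8.SpecUMP
import Groth.Agent.Lib.RLpsi8.FTSub
import Groth.Agent.Lib.QCAlgFT9.Sub
universe u
open CategoryTheory CategoryTheory.Limits AlgebraicGeometry TopologicalSpace Opposite
set_option backward.isDefEq.respectTransparency false
namespace RLpsi8
open RelSpec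
open GrothLib.QCoh (SubData)

/-- The identifications of sections are natural in the algebra. -/
theorem appLE_specMap_gammaAff {S : Scheme.{u}} {A B : QCAlg S} (φ : A ⟶ B) (U : S.Opens) (hU : IsAffineOpen U) :
    (QCAlg.specMap φ).appLE (A.π ⁻¹ᵁ U) (B.π ⁻¹ᵁ U) (by rw [← QCAlg.specMap_π φ]; rfl) ≫ B.gammaAff U hU =
      A.gammaAff U hU ≫ φ.hom.app (op U) := by
  have h := QCAlg.ι_specMap U hU φ
  have le0 : B.π ⁻¹ᵁ U ≤ QCAlg.specMap φ ⁻¹ᵁ (A.π ⁻¹ᵁ U) := by rw [← QCAlg.specMap_π φ]; rfl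
  have e1 : ⊤ ≤ (B.ι U hU ≫ QCAlg.specMap φ) ⁻¹ᵁ (A.π ⁻¹ᵁ U) :=
    le_trans (B.top_le_preimage U hU) ((B.ι U hU).preimage_mono le0)
  have e2 : ⊤ ≤ (Spec.map (φ.hom.app (op U)) ≫ A.ι U hU) ⁻¹ᵁ (A.π ⁻¹ᵁ U) :=
    le_trans le_top (Scheme.Hom.preimage_mono _ (A.top_le_preimage U hU))
  have key : (B.ι U hU ≫ QCAlg.specMap φ).appLE (A.π ⁻¹ᵁ U) ⊤ e1 =
      (Spec.map (φ.hom.app (op U)) ≫ A.ι U hU).appLE (A.π ⁻¹ᵁ U) ⊤ e2 := by
    revert e1 e2
    rw [h]
    exact fun _ _ => rfl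
  rw [← Scheme.Hom.appLE_comp_appLE _ _ _ (B.π ⁻¹ᵁ U) _ le0 (B.top_le_preimage U hU),
    ← Scheme.Hom.appLE_comp_appLE _ _ _ ⊤ _ (A.top_le_preimage U hU) le_top] at key
  rw [← appLE_ι_eq_gammaAff B U hU, ← appLE_ι_eq_gammaAff A U hU, reassoc_of% key, Category.assoc]
  congr 1
  simp only [Scheme.Hom.appLE, Category.assoc]
  erw [CategoryTheory.Functor.map_id, Category.id_comp]
  exact Scheme.ΓSpecIso_naturality _

theorem exists_ft_subalgebra_forall_mem {Y : Scheme.{u}} [CompactSpace Y] [QuasiSeparatedSpace Y]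
    (B : QCAlg Y) {ι : Type u} [Finite ι] (U : ι → Y.Opens) (hU : ∀ i, IsAffineOpen (U i))
    (T : ∀ i, Set (B.presheaf.obj (op (U i)))) (hT : ∀ i, (T i).Finite) :
    ∃ (B' : QCAlg Y) (φ : B' ⟶ B), (∀ V : Y.Opens, Function.Injective (φ.hom.app (op V))) ∧
      (∀ V : Y.affineOpens, (B'.str.app (op V.1)).hom.FiniteType) ∧
      ∀ i, T i ⊆ Set.range (φ.hom.app (op (U i))) := by
  classical
  have := GrothLib.QCAlgFT9.isQuasicoherent_toModule B
  cases nonempty_fintype ι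
  obtain ⟨Q, hQ, hmem⟩ := GrothLib.RLpsi8.exists_locGen_forall_mem (F := B.toModule) Finset.univ U hU
    (fun i => (T i : Set Γ(B.toModule, U i))) hT
  obtain ⟨B', φ, h1, h2, h3⟩ := GrothLib.QCAlgFT9.exists_subalgebra B hQ
  exact ⟨B', φ, h1, h2, fun i b hb => h3 (U i) (hU i) (hmem i (Finset.mem_univ i) hb)⟩

theorem exists_immersion_subalgebra {X Y : Scheme.{u}} [CompactSpace Y] [QuasiSeparatedSpace Y]
    (f : X ⟶ Y) [LocallyOfFiniteType f] [QuasiCompact f]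
    (C : QCAlg Y) (g : X ⟶ C.spec) (hg : g ≫ C.π = f) [IsImmersion g] :
    ∃ (C' : QCAlg Y) (φ : C' ⟶ C),
        (∀ U : Y.Opens, Function.Injective (φ.hom.app (op U))) ∧
        (∀ U : Y.affineOpens, (C'.str.app (op (U : Y.Opens))).hom.FiniteType) ∧
        IsImmersion (g ≫ QCAlg.specMap φ) := by
  classical
  subst hg
  have : CompactSpace X := QuasiCompact.compactSpace_of_compactSpace (g ≫ C.π)
  have hloc : ∀ x : X, ∃ (U : Y.Opens) (_ : IsAffineOpen U) (s : Γ(C.spec, C.π ⁻¹ᵁ U)),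
      g x ∈ C.spec.basicOpen s ∧ IsClosedImmersion (g ∣_ C.spec.basicOpen s) := by
    intro x
    obtain ⟨U, hU, hxU, -⟩ := exists_isAffineOpen_mem_and_subset (x := C.π (g x)) (U := ⊤) trivial
    exact ⟨U, hU, exists_basicOpen_closedImmersion g (hU.preimage C.π) x hxU⟩
  choose U hU s hs hc using hloc
  obtain ⟨F, hF⟩ := isCompact_univ.elim_finite_subcover (fun x : X => ((g ⁻¹ᵁ C.spec.basicOpen (s x) : X.Opens) : Set X))
    (fun x => (g ⁻¹ᵁ C.spec.basicOpen (s x)).isOpen) (fun x _ => Set.mem_iUnion.2 ⟨x, hs x⟩)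
  choose T hTf hTs hT using fun x : X =>
    haveI := hc x
    exists_gens g C.π (hU x) ((hU x).preimage C.π) (s x)
  obtain ⟨C', φ, h1, h2, h3⟩ := exists_ft_subalgebra_forall_mem C (ι := F) (fun i => U i.1) (fun i => hU i.1)
    (fun i => (C.gammaAff (U i.1) (hU i.1)) '' T i.1) (fun i => (hTf i.1).image _)
  refine ⟨C', φ, h1, h2, ?_⟩
  have hW : ∀ i : F, ∃ W : C'.spec.Opens, QCAlg.specMap φ ⁻¹ᵁ W = C.spec.basicOpen (s i.1) ∧
      IsClosedImmersion ((g ≫ QCAlg.specMap φ) ∣_ W) := by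
    intro i
    refine hT i.1 (QCAlg.specMap φ) C'.π (QCAlg.specMap_π φ) ((hU i.1).preimage C'.π) fun t ht => ?_
    obtain ⟨b, hb⟩ := h3 i ⟨t, ht, rfl⟩
    have hA := isIso_gammaAff C' (U i.1) (hU i.1)
    have hB := isIso_gammaAff C (U i.1) (hU i.1)
    obtain ⟨w, hw⟩ := (ConcreteCategory.bijective_of_isIso (C'.gammaAff (U i.1) (hU i.1))).2 b
    refine ⟨w, (ConcreteCategory.bijective_of_isIso (C.gammaAff (U i.1) (hU i.1))).1 ?_⟩
    rw [← ConcreteCategory.comp_apply, appLE_specMap_gammaAff, ConcreteCategory.comp_apply, hw, hb]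
  choose W hW1 hW2 using hW
  refine isImmersion_of_closedImmersion_restrict _ W (fun x => ?_) hW2
  obtain ⟨y, hy, hxy⟩ := Set.mem_iUnion₂.1 (hF (Set.mem_univ x))
  refine ⟨⟨y, hy⟩, ?_⟩
  have : g x ∈ QCAlg.specMap φ ⁻¹ᵁ W ⟨y, hy⟩ := by rw [hW1]; exact hxy
  exact this

theorem S5877 {X Y : Scheme.{u}} [CompactSpace Y] [QuasiSeparatedSpace Y]
    (f : X ⟶ Y) [LocallyOfFiniteType f] [QuasiCompact f]
    (C : RelSpec.QCAlg Y) (g : X ⟶ C.spec) (hg : g ≫ C.π = f) :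
    IsImmersion g ↔
      ∃ (C' : RelSpec.QCAlg Y) (φ : C' ⟶ C),
        (∀ U : Y.Opens, Function.Injective (φ.hom.app (op U))) ∧
        (∀ U : Y.affineOpens, (C'.str.app (op (U : Y.Opens))).hom.FiniteType) ∧
        IsImmersion (g ≫ RelSpec.QCAlg.specMap φ) :=
  ⟨fun _ => exists_immersion_subalgebra f C g hg, fun ⟨_, φ, _, _, _⟩ => IsImmersion.of_comp g (QCAlg.specMap φ)⟩

theorem S4410 {X Y : Scheme.{u}} [CompactSpace Y] [Y.IsSeparated]
    (f : X ⟶ Y) (hf : Mor2.IsQuasiAffine f) [LocallyOfFiniteType f] :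
    ∃ (X'' : Scheme.{u}) (g : X'' ⟶ Y) (j : X ⟶ X''), IsAffineHom g ∧ LocallyOfFiniteType g ∧ IsImmersion j ∧ j ≫ g = f := by
  have : QuasiCompact f := hf.1
  have : QuasiSeparated f := by
    rw [IsZariskiLocalAtTarget.iff_of_iSup_eq_top (P := @QuasiSeparated) _ (iSup_affineOpens_eq_top Y)]
    intro V
    have := hf.2 V.1 V.2
    have : IsAffine V.1.toScheme := V.2
    infer_instance
  obtain ⟨c, e, h⟩ := exists_toSpecDirectImage f
  have := isOpenImmersion_toSpecDirectImage f hf c e h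
  obtain ⟨C', φ, -, h2, h3⟩ := exists_immersion_subalgebra f _ c e
  exact ⟨C'.spec, C'.π, c ≫ QCAlg.specMap φ, inferInstance, locallyOfFiniteType_π_of_finiteType C' h2, h3,
    by rw [Category.assoc, QCAlg.specMap_π, e]⟩

theorem S8269 {X Y : Scheme.{u}}
    (hY : (CompactSpace Y ∧ Y.IsSeparated) ∨ NoetherianSpace Y) (f : X ⟶ Y) [IsAffineHom f]
    [LocallyOfFiniteType f] :
    ∃ (E : Y.Modules) (_ : Coh.IsCoh E) (A : RelSpec.QCAlg Y) (j : E ⟶ A.toModule)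
      (_ : RelSpec.IsSymAlg E A j) (i : X ⟶ A.spec), IsClosedImmersion i ∧ i ≫ A.π = f := by
  obtain ⟨_, _⟩ : CompactSpace Y ∧ QuasiSeparatedSpace Y := by
    rcases hY with ⟨h1, h2⟩ | h
    · exact ⟨h1, inferInstance⟩
    · exact ⟨inferInstance, ⟨fun U V _ _ _ _ => NoetherianSpace.isCompact _⟩⟩
  let B := QCAlg.directImage f
  have hB : ∀ U : Y.affineOpens, (B.str.app (op U.1)).hom.FiniteType := fun U => by
    show (f.app U.1).hom.FiniteType
    rw [Scheme.Hom.app_eq_appLE]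
    exact f.finiteType_appLE U.2 (U.2.preimage f) le_rfl
  have := GrothLib.QCAlgFT9.isQuasicoherent_toModule B
  obtain ⟨E, j₀, -, hE, hEft, hgen⟩ := GrothLib.QCAlgFT9.exists_generating B
    (fun hU _ hS => GrothLib.RLpsi8.exists_locGen_mem hU _ hS) hB
  obtain ⟨A, j, hA⟩ := GrothLib.SymAlgX.exists_isSymAlg (E := E) hE
  obtain ⟨ψ, hψ, -⟩ := hA B j₀
  have hψs : ∀ U : Y.affineOpens, Function.Surjective (ψ.hom.app (op U.1)) := by
    intro U
    show Function.Surjective (ψ.hom.app (op U.1)).hom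
    rw [← RingHom.range_eq_top, eq_top_iff, ← hgen U, Subring.closure_le]
    rintro b (⟨r, rfl⟩ | ⟨x, rfl⟩)
    · exact ⟨(A.str.app (op U.1)).hom r, ConcreteCategory.congr_hom (NatTrans.congr_app ψ.comm (op U.1)) r⟩
    · exact ⟨j.app U.1 x, congrArg (fun k : E ⟶ B.toModule => (show B.presheaf.obj (op U.1) from k.app U.1 x)) hψ⟩
  obtain ⟨c, e, h⟩ := exists_toSpecDirectImage f
  have hc : IsClosedImmersion c := by
    refine (IsZariskiLocalAtTarget.iff_of_iSup_eq_top (P := @IsClosedImmersion) (fun U : Y.affineOpens => B.π ⁻¹ᵁ U.1) ?_).mpr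
      fun U => ?_
    · rw [← Scheme.Hom.preimage_iSup, iSup_affineOpens_eq_top, Scheme.Hom.preimage_top]
    · have hpre : c ⁻¹ᵁ B.π ⁻¹ᵁ U.1 = f ⁻¹ᵁ U.1 := congrArg (fun k => k ⁻¹ᵁ U.1) e
      have : IsAffine (B.π ⁻¹ᵁ U.1).toScheme := U.2.preimage B.π
      have : IsAffine (c ⁻¹ᵁ B.π ⁻¹ᵁ U.1).toScheme := by rw [hpre]; exact U.2.preimage f
      have hi : IsIso (B.gammaMap.app (op U.1)) := by
        have := isIso_gammaMap B; infer_instance
      rw [h, GrothLib.AffAlg8.algHom_app] at hi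
      refine IsClosedImmersion.of_surjective_of_isAffine _ ?_
      have h2 : IsIso (c.app (B.π ⁻¹ᵁ U.1)) := by
        have hl : f ⁻¹ᵁ U.1 ≤ c ⁻¹ᵁ B.π ⁻¹ᵁ U.1 := hpre.ge
        have hm : IsIso (homOfLE hl) := ⟨homOfLE hpre.le, Subsingleton.elim _ _, Subsingleton.elim _ _⟩
        have : IsIso (c.app (B.π ⁻¹ᵁ U.1) ≫ X.presheaf.map (homOfLE hl).op) := hi
        exact IsIso.of_isIso_comp_right _ (X.presheaf.map (homOfLE hl).op)
      rw [Scheme.Hom.appTop, morphismRestrict_app]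
      have : IsIso (c.app ((B.π ⁻¹ᵁ U.1).ι ''ᵁ ⊤)) := by rw [Scheme.Opens.ι_image_top]; exact h2
      exact (ConcreteCategory.bijective_of_isIso _).2
  have := isClosedImmersion_specMap_of_surjective ψ hψs
  exact ⟨E, ⟨hE, hEft⟩, A, j, hA, c ≫ QCAlg.specMap ψ, inferInstance, by rw [Category.assoc, QCAlg.specMap_π, e]⟩

end RLpsi8
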