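import Groth.Prelude.Def_RelSpec
import Groth.Prelude.Def_Coh
import Groth.Agent.Lib.RLpsi8.AffPushout
import Groth.Agent.Lib.RLpsi8.ImmSpec
universe u
open CategoryTheory CategoryTheory.Limits AlgebraicGeometry TopologicalSpace Opposite
set_option backward.isDefEq.respectTransparency false
namespace RLpsi8
open RelSpec GrothLib.AffAlg8

theorem ofHom_specMap {S : Scheme.{u}} {A B : QCAlg S} (φ : A ⟶ B) :
    ofHom A.π (QCAlg.specMap φ) (QCAlg.specMap_π φ) = A.gammaHom ≫ φ := by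
  refine GrothLib.RelSpec.algHom_ext fun U hU => ?_
  show (AffAlg.algHom A.π B.π (QCAlg.specMap φ) _).app (op U) ≫ B.gammaMap.app (op U) =
    A.gammaMap.app (op U) ≫ φ.hom.app (op U)
  rw [algHom_app, A.gammaMap_app U hU, B.gammaMap_app U hU]
  exact appLE_specMap_gammaAff φ U hU

theorem diMap_injective {X Y S : Scheme.{u}} (g : Y ⟶ S) (h : X ⟶ S) [IsAffineHom g] [QuasiCompact h] [QuasiSeparated h]
    {x₁ x₂ : X ⟶ Y} (w₁ : x₁ ≫ g = h) (w₂ : x₂ ≫ g = h) (e : diMap g h x₁ w₁ = diMap g h x₂ w₂) : x₁ = x₂ :=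
  hom_ext g h w₁ w₂ (congrArg QCAlg.Hom.hom e)

theorem isPullback_vectorBundle_biprod {S : Scheme.{u}} (E F : S.Modules)
    (AE AF A : RelSpec.QCAlg S) (jE : E ⟶ AE.toModule) (jF : F ⟶ AF.toModule) (j : E ⊞ F ⟶ A.toModule)
    (hAE : RelSpec.IsSymAlg E AE jE) (hAF : RelSpec.IsSymAlg F AF jF) (hA : RelSpec.IsSymAlg (E ⊞ F) A j)
    (ψE : AE ⟶ A) (ψF : AF ⟶ A)
    (hψE : jE ≫ RelSpec.QCAlg.Hom.toModuleMap ψE = biprod.inl ≫ j)
    (hψF : jF ≫ RelSpec.QCAlg.Hom.toModuleMap ψF = biprod.inr ≫ j) :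
    IsPullback (RelSpec.QCAlg.specMap ψE) (RelSpec.QCAlg.specMap ψF) AE.π AF.π := by
  have hc : ∀ {P Q R : QCAlg S} (f : P ⟶ Q) (g : Q ⟶ R),
      QCAlg.Hom.toModuleMap (f ≫ g) = QCAlg.Hom.toModuleMap f ≫ QCAlg.Hom.toModuleMap g :=
    fun f g => GrothLib.RelSpec.modHom_ext fun _ _ _ => rfl
  have cop : ∀ {B : QCAlg S} (a : AE ⟶ B) (b : AF ⟶ B), ∃! c : A ⟶ B, ψE ≫ c = a ∧ ψF ≫ c = b := by
    intro B a b
    obtain ⟨c, hc1, hc2⟩ := hA B (biprod.desc (jE ≫ QCAlg.Hom.toModuleMap a) (jF ≫ QCAlg.Hom.toModuleMap b))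
    refine ⟨c, ⟨(hAE B (jE ≫ QCAlg.Hom.toModuleMap a)).unique ?_ rfl,
      (hAF B (jF ≫ QCAlg.Hom.toModuleMap b)).unique ?_ rfl⟩, fun c' ⟨e1, e2⟩ => hc2 c' ?_⟩
    · simp only [hc, reassoc_of% hψE, hc1, biprod.inl_desc]
    · simp only [hc, reassoc_of% hψF, hc1, biprod.inr_desc]
    · apply biprod.hom_ext'
      · rw [biprod.inl_desc, ← reassoc_of% hψE, ← hc, e1]
      · rw [biprod.inr_desc, ← reassoc_of% hψF, ← hc, e2]
  have hw : QCAlg.specMap ψE ≫ AE.π = QCAlg.specMap ψF ≫ AF.π := by rw [QCAlg.specMap_π, QCAlg.specMap_π]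
  let πP := pullback.fst AE.π AF.π ≫ AE.π
  have wP : pullback.snd AE.π AF.π ≫ AF.π = πP := pullback.condition.symm
  have hγ : ∀ C : QCAlg S, IsIso C.gammaHom := fun C => by
    haveI := isIso_gammaMap C
    refine ⟨⟨inv C.gammaMap, by rw [IsIso.comp_inv_eq]; exact C.π_c_gammaMap.symm⟩, ?_, ?_⟩
    · exact QCAlg.hom_ext (IsIso.hom_inv_id C.gammaMap)
    · exact QCAlg.hom_ext (IsIso.inv_hom_id C.gammaMap)
  haveI := hγ AE
  haveI := hγ AF
  haveI := hγ A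
  let aE : AE ⟶ QCAlg.directImage πP := inv AE.gammaHom ≫ diMap AE.π πP (pullback.fst _ _) rfl
  let aF : AF ⟶ QCAlg.directImage πP := inv AF.gammaHom ≫ diMap AF.π πP (pullback.snd _ _) wP
  obtain ⟨a, ⟨ha1, ha2⟩, -⟩ := cop aE aF
  obtain ⟨u, wu, hu⟩ := exists_hom A.π πP (A.gammaMap ≫ a.hom) (by
    rw [← Category.assoc, QCAlg.π_c_gammaMap]; exact a.comm)
  let v : A.spec ⟶ pullback AE.π AF.π := pullback.lift (QCAlg.specMap ψE) (QCAlg.specMap ψF) hw
  have wv : v ≫ πP = A.π := by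
    show v ≫ pullback.fst _ _ ≫ AE.π = _
    rw [pullback.lift_fst_assoc, QCAlg.specMap_π]
  have hu' : diMap A.π πP u wu = A.gammaHom ≫ a := QCAlg.hom_ext hu
  have side : ∀ {C : QCAlg S} (ψ : C ⟶ A), diMap C.π A.π (QCAlg.specMap ψ) (QCAlg.specMap_π ψ) =
      C.gammaHom ≫ ψ ≫ inv A.gammaHom := fun {C} ψ => by
    rw [← cancel_mono A.gammaHom, Category.assoc, Category.assoc, IsIso.inv_hom_id, Category.comp_id]
    exact ofHom_specMap ψ
  have h1 : u ≫ v = 𝟙 _ := by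
    apply pullback.hom_ext
    · rw [Category.assoc, pullback.lift_fst, Category.id_comp]
      refine diMap_injective AE.π πP (by rw [Category.assoc, QCAlg.specMap_π, wu]) rfl ?_
      rw [← diMap_comp_eq AE.π A.π πP (QCAlg.specMap ψE) (QCAlg.specMap_π ψE) u wu, side, hu']
      simp [ha1, aE]
    · rw [Category.assoc, pullback.lift_snd, Category.id_comp]
      refine diMap_injective AF.π πP (by rw [Category.assoc, QCAlg.specMap_π, wu]) wP ?_
      rw [← diMap_comp_eq AF.π A.π πP (QCAlg.specMap ψF) (QCAlg.specMap_π ψF) u wu, side, hu']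
      simp [ha2, aF]
  have h2 : v ≫ u = 𝟙 _ := by
    refine diMap_injective A.π A.π (by rw [Category.assoc, wu, wv]) (Category.id_comp _) ?_
    have hid : diMap A.π A.π (𝟙 _) (Category.id_comp _) = 𝟙 _ :=
      GrothLib.RelSpec.algHom_ext fun U hU => by
        show (AffAlg.algHom A.π A.π (𝟙 A.spec) (Category.id_comp A.π)).app (op U) = _
        rw [algHom_app, Scheme.Hom.appLE, Scheme.Hom.id_app]
        exact (Category.id_comp _).trans (A.spec.presheaf.map_id _)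
    rw [hid, ← diMap_comp_eq A.π πP A.π u wu v wv, hu', Category.assoc]
    suffices e : a ≫ diMap πP A.π v wv = inv A.gammaHom by rw [e, IsIso.hom_inv_id]
    refine (cop (ψE ≫ inv A.gammaHom) (ψF ≫ inv A.gammaHom)).unique ⟨?_, ?_⟩ ⟨rfl, rfl⟩
    · rw [← Category.assoc, ha1]
      simp only [aE, Category.assoc, diMap_comp_eq, IsIso.inv_comp_eq, ← side]
      simp [v]
    · rw [← Category.assoc, ha2]
      simp only [aF, Category.assoc, diMap_comp_eq, IsIso.inv_comp_eq, ← side]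
      simp [v]
  exact IsPullback.of_iso_pullback ⟨hw⟩ ⟨v, u, h2, h1⟩ (pullback.lift_fst _ _ _) (pullback.lift_snd _ _ _)

end RLpsi8
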