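import Mathlib.AlgebraicGeometry.AffineScheme
import Mathlib.Topology.Sheaves.SheafCondition.UniqueGluing

/-!
# Sheaves from presheaves on the affine opens satisfying gluing for pairs of standard opens
-/

set_option autoImplicit false

universe u

open CategoryTheory CategoryTheory.Limits Opposite TopologicalSpace AlgebraicGeometry

namespace GrothLib.RLpsi8.AffBasis

variable {X : Scheme.{u}} (F : (X.affineOpens)ᵒᵖ ⥤ Type u)

/-- restriction -/
abbrev res {U V : X.affineOpens} (h : V ≤ U) (s : F.obj (op U)) : F.obj (op V) :=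
  F.map (homOfLE h).op s

theorem res_res {U V W : X.affineOpens} (h : V ≤ U) (h' : W ≤ V) (s : F.obj (op U)) :
    res F h' (res F h s) = res F (h'.trans h) s := by
  rw [res, res, res, ← Functor.map_comp_apply, ← op_comp, homOfLE_comp]

theorem res_self {U : X.affineOpens} (h : U ≤ U) (s : F.obj (op U)) : res F h s = s := by
  rw [res, show (homOfLE h).op = 𝟙 (op U) from rfl, Functor.map_id_apply]

/-- `V` is a standard open of `U`. -/
def IsStd (U V : X.affineOpens) : Prop := ∃ f : Γ(X, (U : X.Opens)), (V : X.Opens) = X.basicOpen f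

theorem IsStd.le {U V : X.affineOpens} (h : IsStd U V) : V ≤ U := by
  obtain ⟨f, hf⟩ := h
  show (V : X.Opens) ≤ U
  rw [hf]
  exact X.basicOpen_le f

/-- the intersection with a standard open -/
theorem exists_inter {U V A : X.affineOpens} (hAU : A ≤ U) (hV : IsStd U V) :
    ∃ B : X.affineOpens, (B : X.Opens) = (A : X.Opens) ⊓ V ∧ IsStd A B ∧ B ≤ A ∧ B ≤ V := by
  obtain ⟨f, hf⟩ := hV
  let f' := X.presheaf.map (homOfLE (show (A : X.Opens) ≤ U from hAU)).op f
  have h : X.basicOpen f' = (A : X.Opens) ⊓ V := by rw [X.basicOpen_res, hf]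
  refine ⟨⟨X.basicOpen f', A.2.basicOpen f'⟩, h, ⟨f', rfl⟩, X.basicOpen_le f', ?_⟩
  show X.basicOpen f' ≤ (V : X.Opens)
  rw [h]
  exact inf_le_right

/-- the two conditions of the criterion -/
structure PairGlue : Prop where
  nonempty : ∀ E : X.affineOpens, (E : X.Opens) = ⊥ → Nonempty (F.obj (op E))
  subsingleton : ∀ E : X.affineOpens, (E : X.Opens) = ⊥ → Subsingleton (F.obj (op E))
  glue : ∀ (U V W VW : X.affineOpens) (f g : Γ(X, (U : X.Opens))),
        (V : X.Opens) = X.basicOpen f → (W : X.Opens) = X.basicOpen g →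
        (VW : X.Opens) = X.basicOpen (f * g) → (U : X.Opens) = (V : X.Opens) ⊔ (W : X.Opens) →
        ∀ (hV : V ≤ U) (hW : W ≤ U) (h1 : VW ≤ V) (h2 : VW ≤ W),
        Function.Injective (fun s : F.obj (op U) => (F.map (homOfLE hV).op s, F.map (homOfLE hW).op s)) ∧
        Set.range (fun s : F.obj (op U) => (F.map (homOfLE hV).op s, F.map (homOfLE hW).op s)) =
          {p | F.map (homOfLE h1).op p.1 = F.map (homOfLE h2).op p.2}

variable {F}

theorem PairGlue.pair (hF : PairGlue F) {U V W : X.affineOpens} (hV : IsStd U V) (hW : IsStd U W)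
    (hcov : (U : X.Opens) = (V : X.Opens) ⊔ (W : X.Opens)) :
    (∀ s t : F.obj (op U), res F hV.le s = res F hV.le t → res F hW.le s = res F hW.le t → s = t) ∧
    (∀ (a : F.obj (op V)) (b : F.obj (op W)),
      (∀ (T : X.affineOpens) (h1 : T ≤ V) (h2 : T ≤ W), res F h1 a = res F h2 b) →
      ∃ s, res F hV.le s = a ∧ res F hW.le s = b) := by
  obtain ⟨f, hf⟩ := id hV
  obtain ⟨g, hg⟩ := id hW
  let VW : X.affineOpens := ⟨X.basicOpen (f * g), U.2.basicOpen _⟩
  have h1 : VW ≤ V := by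
    show X.basicOpen (f * g) ≤ (V : X.Opens)
    rw [hf, X.basicOpen_mul]
    exact inf_le_left
  have h2 : VW ≤ W := by
    show X.basicOpen (f * g) ≤ (W : X.Opens)
    rw [hg, X.basicOpen_mul]
    exact inf_le_right
  obtain ⟨hinj, hrange⟩ := hF.glue U V W VW f g hf hg rfl hcov hV.le hW.le h1 h2
  refine ⟨fun s t e1 e2 => hinj (Prod.ext e1 e2), fun a b hab => ?_⟩
  obtain ⟨s, hs⟩ := hrange.ge (show (a, b) ∈ {p : F.obj (op V) × F.obj (op W) |
    F.map (homOfLE h1).op p.1 = F.map (homOfLE h2).op p.2} from hab VW h1 h2)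
  exact ⟨s, congrArg Prod.fst hs, congrArg Prod.snd hs⟩

/-- splitting off the first member of a standard covering -/
theorem exists_split {U : X.affineOpens} {n : ℕ} (V : Fin (n + 1) → X.affineOpens)
    (hV : ∀ i, IsStd U (V i)) (hcov : (U : X.Opens) ≤ ⨆ i, (V i : X.Opens)) :
    ∃ A B : X.affineOpens, IsStd U A ∧ IsStd U B ∧ (U : X.Opens) = (A : X.Opens) ⊔ B ∧
      A ≤ V 0 ∧ (B : X.Opens) ≤ ⨆ i : Fin n, (V i.succ : X.Opens) := by
  choose f hf using hV
  have hspan : Ideal.span (Set.range f) = ⊤ := by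
    rw [← U.2.self_le_iSup_basicOpen_iff]
    refine hcov.trans (iSup_le fun i => ?_)
    rw [hf i]
    exact le_iSup_of_le (⟨f i, i, rfl⟩ : Set.range f) le_rfl
  obtain ⟨a, ha⟩ := (Ideal.mem_span_range_iff_exists_fun).1 ((Ideal.eq_top_iff_one _).1 hspan)
  let g : Γ(X, (U : X.Opens)) := ∑ i : Fin n, a i.succ * f i.succ
  have hsum : a 0 * f 0 + g = 1 := by rw [← ha, Fin.sum_univ_succ]
  let A : X.affineOpens := ⟨X.basicOpen (a 0 * f 0), U.2.basicOpen _⟩
  let B : X.affineOpens := ⟨X.basicOpen g, U.2.basicOpen g⟩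
  refine ⟨A, B, ⟨_, rfl⟩, ⟨_, rfl⟩, le_antisymm (fun x hx => ?_) (sup_le (X.basicOpen_le _) (X.basicOpen_le _)),
    ?_, fun x hx => ?_⟩
  · by_contra hc
    obtain ⟨hA, hB⟩ := not_or.1 hc
    have hA' : X.presheaf.germ U x hx (a 0 * f 0) ∈ IsLocalRing.maximalIdeal (X.presheaf.stalk x) :=
      fun h => hA ((X.mem_basicOpen _ x hx).2 h)
    have hB' : X.presheaf.germ U x hx g ∈ IsLocalRing.maximalIdeal (X.presheaf.stalk x) :=
      fun h => hB ((X.mem_basicOpen _ x hx).2 h)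
    have h1 := add_mem hA' hB'
    rw [← map_add, hsum, map_one] at h1
    exact h1 isUnit_one
  · show X.basicOpen (a 0 * f 0) ≤ (V 0 : X.Opens)
    rw [hf 0, X.basicOpen_mul]
    exact inf_le_right
  · have hxU : x ∈ (U : X.Opens) := X.basicOpen_le _ hx
    by_contra hc
    have : X.presheaf.germ U x hxU g ∈ IsLocalRing.maximalIdeal (X.presheaf.stalk x) := by
      rw [map_sum]
      refine sum_mem fun i _ => ?_
      rw [map_mul]
      refine Ideal.mul_mem_left _ _ fun h => hc (Opens.mem_iSup.2 ⟨i, ?_⟩)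
      rw [hf i.succ]
      exact (X.mem_basicOpen _ x hxU).2 h
    exact this ((X.mem_basicOpen _ x hxU).1 hx)

theorem PairGlue.sep (hF : PairGlue F) {n : ℕ} {U : X.affineOpens} (V : Fin n → X.affineOpens)
    (hV : ∀ i, IsStd U (V i)) (hcov : (U : X.Opens) ≤ ⨆ i, (V i : X.Opens))
    (s t : F.obj (op U)) (h : ∀ i, res F (hV i).le s = res F (hV i).le t) : s = t := by
  induction n generalizing U with
  | zero =>
    haveI := hF.subsingleton U (le_bot_iff.1 (hcov.trans (iSup_le fun i => i.elim0)))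
    exact Subsingleton.elim _ _
  | succ n ih =>
    obtain ⟨A, B, hA, hB, hAB, hA0, hBc⟩ := exists_split V hV hcov
    refine (hF.pair hA hB hAB).1 s t ?_ ?_
    · rw [← res_res F (hV 0).le hA0, h 0, res_res]
    · choose W hW using fun i : Fin n => exists_inter hB.le (hV i.succ)
      refine ih W (fun i => (hW i).2.1) (fun x hx => ?_) _ _ fun i => ?_
      · obtain ⟨i, hi⟩ := Opens.mem_iSup.1 (hBc hx)
        refine Opens.mem_iSup.2 ⟨i, ?_⟩
        rw [(hW i).1]
        exact ⟨hx, hi⟩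
      · rw [res_res, res_res, ← res_res F (hV i.succ).le (hW i).2.2.2, h i.succ, res_res]

theorem PairGlue.glueFin (hF : PairGlue F) {n : ℕ} {U : X.affineOpens} (V : Fin n → X.affineOpens)
    (hV : ∀ i, IsStd U (V i)) (hcov : (U : X.Opens) ≤ ⨆ i, (V i : X.Opens))
    (s : ∀ i, F.obj (op (V i)))
    (hs : ∀ i j (T : X.affineOpens) (h1 : T ≤ V i) (h2 : T ≤ V j), res F h1 (s i) = res F h2 (s j)) :
    ∃ u : F.obj (op U), ∀ i, res F (hV i).le u = s i := by
  induction n generalizing U with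
  | zero =>
    obtain ⟨u⟩ := hF.nonempty U (le_bot_iff.1 (hcov.trans (iSup_le fun i => i.elim0)))
    exact ⟨u, fun i => i.elim0⟩
  | succ n ih =>
    obtain ⟨A, B, hA, hB, hAB, hA0, hBc⟩ := exists_split V hV hcov
    choose W hW using fun i : Fin n => exists_inter hB.le (hV i.succ)
    obtain ⟨t, ht⟩ := ih W (fun i => (hW i).2.1) (fun x hx => by
      obtain ⟨i, hi⟩ := Opens.mem_iSup.1 (hBc hx)
      refine Opens.mem_iSup.2 ⟨i, ?_⟩
      rw [(hW i).1]
      exact ⟨hx, hi⟩) (fun i => res F (hW i).2.2.2 (s i.succ)) (fun i j T h1 h2 => by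
        rw [res_res, res_res]
        exact hs _ _ T _ _)
    -- agreement on overlaps
    have hov : ∀ (T : X.affineOpens) (h1 : T ≤ A) (h2 : T ≤ B),
        res F h1 (res F hA0 (s 0)) = res F h2 t := by
      intro T h1 h2
      choose Z hZ using fun i : Fin n => exists_inter (h2.trans hB.le) (hV i.succ)
      refine hF.sep Z (fun i => (hZ i).2.1) (fun x hx => ?_) _ _ fun i => ?_
      · obtain ⟨i, hi⟩ := Opens.mem_iSup.1 (hBc (show x ∈ (B : X.Opens) from h2 hx))
        refine Opens.mem_iSup.2 ⟨i, ?_⟩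
        rw [(hZ i).1]
        exact ⟨hx, hi⟩
      · have hZW : Z i ≤ W i := by
          show (Z i : X.Opens) ≤ (W i : X.Opens)
          rw [(hZ i).1, (hW i).1]
          exact inf_le_inf (show (T : X.Opens) ≤ B from h2) le_rfl
        rw [res_res, res_res, res_res, ← res_res F (hW i).2.1.le hZW, ht i, res_res]
        exact hs _ _ _ _ _
    obtain ⟨u, huA, huB⟩ := (hF.pair hA hB hAB).2 (res F hA0 (s 0)) t hov
    refine ⟨u, fun j => ?_⟩
    obtain ⟨C, hC, hCs, hCV, hCA⟩ := exists_inter (hV j).le hA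
    obtain ⟨D, hD, hDs, hDV, hDB⟩ := exists_inter (hV j).le hB
    have hcov' : (V j : X.Opens) = (C : X.Opens) ⊔ D := by
      rw [hC, hD, ← inf_sup_left, ← hAB, inf_eq_left.2]
      exact (hV j).le
    refine (hF.pair hCs hDs hcov').1 _ _ ?_ ?_
    · rw [res_res, ← res_res F hA.le hCA, huA, res_res]
      exact hs _ _ _ _ _
    · rw [res_res, ← res_res F hB.le hDB, huB]
      choose Z hZ using fun i : Fin n => exists_inter (hDB.trans hB.le) (hV i.succ)
      refine hF.sep Z (fun i => (hZ i).2.1) (fun x hx => ?_) _ _ fun i => ?_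
      · obtain ⟨i, hi⟩ := Opens.mem_iSup.1 (hBc (show x ∈ (B : X.Opens) from hDB hx))
        refine Opens.mem_iSup.2 ⟨i, ?_⟩
        rw [(hZ i).1]
        exact ⟨hx, hi⟩
      · have hZW : Z i ≤ W i := by
          show (Z i : X.Opens) ≤ (W i : X.Opens)
          rw [(hZ i).1, (hW i).1]
          exact inf_le_inf (show (D : X.Opens) ≤ B from hDB) le_rfl
        rw [res_res, ← res_res F (hW i).2.1.le hZW, ht i, res_res, res_res]
        exact hs _ _ _ _ _

/-- a standard covering subordinate to an open covering -/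
theorem exists_subordinate {ι : Type u} (W : ι → X.Opens) (V : X.affineOpens)
    (h : (V : X.Opens) ≤ iSup W) :
    ∃ (n : ℕ) (D : Fin n → X.affineOpens) (k : Fin n → ι),
      (∀ i, IsStd V (D i)) ∧ (V : X.Opens) ≤ ⨆ i, (D i : X.Opens) ∧ ∀ i, (D i : X.Opens) ≤ W (k i) := by
  have key : ∀ x : (V : X.Opens), ∃ (f : Γ(X, (V : X.Opens))) (k : ι),
      (x : X) ∈ X.basicOpen f ∧ X.basicOpen f ≤ W k := fun x => by
    obtain ⟨k, hk⟩ := Opens.mem_iSup.1 (h x.2)
    obtain ⟨f, hfW, hxf⟩ := V.2.exists_basicOpen_le ⟨x.1, hk⟩ x.2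
    exact ⟨f, k, hxf, hfW⟩
  choose f k hxf hfk using key
  obtain ⟨t, ht⟩ := V.2.isCompact.elim_finite_subcover (fun x => (X.basicOpen (f x) : Set X))
    (fun x => (X.basicOpen (f x)).isOpen) (fun x hx => Set.mem_iUnion.mpr ⟨⟨x, hx⟩, hxf _⟩)
  let x : Fin t.card → (V : X.Opens) := fun i => (t.equivFin.symm i).1
  refine ⟨t.card, fun i => ⟨X.basicOpen (f (x i)), V.2.basicOpen _⟩, fun i => k (x i),
    fun i => ⟨_, rfl⟩, fun z hz => ?_, fun i => hfk _⟩
  obtain ⟨y, hy, hzy⟩ := Set.mem_iUnion₂.mp (ht hz)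
  refine Opens.mem_iSup.2 ⟨t.equivFin ⟨y, hy⟩, ?_⟩
  show z ∈ X.basicOpen (f (x (t.equivFin ⟨y, hy⟩)))
  simpa only [x, Equiv.symm_apply_apply, SetLike.mem_coe] using hzy

/-! ## The sheaf -/

variable (F)

/-- compatible families over the affines inside an open -/
def Fam (W : X.Opens) : Type u :=
  {s : ∀ V : {V : X.affineOpens // (V : X.Opens) ≤ W}, F.obj (op V.1) //
    ∀ V V' (h : V'.1 ≤ V.1), res F h (s V) = s V'}

/-- the extension of `F` to all opens -/
def extPresheaf : TopCat.Presheaf (Type u) X.carrier where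
  obj W := Fam F W.unop
  map h := TypeCat.ofHom fun s => ⟨fun V => s.1 ⟨V.1, V.2.trans h.unop.le⟩,
    fun V V' hle => s.2 ⟨V.1, V.2.trans h.unop.le⟩ ⟨V'.1, V'.2.trans h.unop.le⟩ hle⟩
  map_id _ := rfl
  map_comp _ _ := rfl

theorem PairGlue.isSheaf_extPresheaf (hF : PairGlue F) : (extPresheaf F).IsSheaf := by
  apply TopCat.Presheaf.isSheaf_of_isSheafUniqueGluing_types
  intro ι W sf hsf
  have comp : ∀ (k l : ι) (T : X.affineOpens) (hk : (T : X.Opens) ≤ W k) (hl : (T : X.Opens) ≤ W l),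
      (sf k).1 ⟨T, hk⟩ = (sf l).1 ⟨T, hl⟩ := fun k l T hk hl =>
    congrFun (congrArg Subtype.val (hsf k l)) ⟨T, le_inf hk hl⟩
  have main : ∀ V : {V : X.affineOpens // (V : X.Opens) ≤ iSup W}, ∃ u : F.obj (op V.1),
      ∀ (k : ι) (T : X.affineOpens) (h1 : T ≤ V.1) (h2 : (T : X.Opens) ≤ W k),
        res F h1 u = (sf k).1 ⟨T, h2⟩ := by
    rintro ⟨V, hV⟩
    obtain ⟨n, D, k, hD, hcov, hDk⟩ := exists_subordinate W V hV
    obtain ⟨u, hu⟩ := hF.glueFin D hD hcov (fun i => (sf (k i)).1 ⟨D i, hDk i⟩) fun i j T h1 h2 => by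
      rw [(sf (k i)).2 ⟨D i, hDk i⟩ ⟨T, le_trans (show (T : X.Opens) ≤ D i from h1) (hDk i)⟩ h1,
        (sf (k j)).2 ⟨D j, hDk j⟩ ⟨T, le_trans (show (T : X.Opens) ≤ D j from h2) (hDk j)⟩ h2]
      exact comp _ _ _ _ _
    refine ⟨u, fun l T h1 h2 => ?_⟩
    choose Z hZ using fun i : Fin n => exists_inter h1 (hD i)
    refine hF.sep Z (fun i => (hZ i).2.1) (fun x hx => ?_) _ _ fun i => ?_
    · obtain ⟨i, hi⟩ := Opens.mem_iSup.1 (hcov (show x ∈ (V : X.Opens) from h1 hx))
      refine Opens.mem_iSup.2 ⟨i, ?_⟩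
      rw [(hZ i).1]
      exact ⟨hx, hi⟩
    · rw [res_res, ← res_res F (hD i).le (hZ i).2.2.2, hu i,
        (sf (k i)).2 ⟨D i, hDk i⟩ ⟨Z i, le_trans (show (Z i : X.Opens) ≤ D i from (hZ i).2.2.2) (hDk i)⟩ (hZ i).2.2.2,
        (sf l).2 ⟨T, h2⟩ ⟨Z i, le_trans (show (Z i : X.Opens) ≤ T from (hZ i).2.2.1) h2⟩ (hZ i).2.2.1]
      exact comp _ _ _ _ _
  choose u hu using main
  have huniq : ∀ (V : {V : X.affineOpens // (V : X.Opens) ≤ iSup W}) (v : F.obj (op V.1)),
      (∀ (k : ι) (T : X.affineOpens) (h1 : T ≤ V.1) (h2 : (T : X.Opens) ≤ W k),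
        res F h1 v = (sf k).1 ⟨T, h2⟩) → v = u V := by
    intro V v hv
    obtain ⟨n, D, k, hD, hcov, hDk⟩ := exists_subordinate W V.1 V.2
    refine hF.sep D hD hcov _ _ fun i => ?_
    rw [hv (k i) (D i) _ (hDk i), hu V (k i) (D i) _ (hDk i)]
  refine ⟨⟨u, fun V V' h => huniq V' _ fun k T h1 h2 => ?_⟩, fun k => ?_, fun s hs => ?_⟩
  · rw [res_res]
    exact hu V k T _ h2
  · refine Subtype.ext (funext fun V => ?_)
    show u ⟨V.1, _⟩ = (sf k).1 V
    have := hu ⟨V.1, V.2.trans (le_iSup W k)⟩ k V.1 le_rfl V.2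
    rwa [res_self] at this
  · refine Subtype.ext (funext fun V => huniq V _ fun k T h1 h2 => ?_)
    rw [s.2 V ⟨T, le_trans (show (T : X.Opens) ≤ V.1 from h1) V.2⟩ h1]
    exact congrFun (congrArg Subtype.val (hs k)) ⟨T, h2⟩

/-- the extension restricts to `F` -/
noncomputable def extIso :
    (Monotone.functor (f := fun U : X.affineOpens => (U : X.Opens)) (fun _ _ h => h)).op ⋙ extPresheaf F ≅ F :=
  NatIso.ofComponents
    (fun V =>
      { hom := TypeCat.ofHom fun s => s.1 ⟨V.unop, le_rfl⟩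
        inv := TypeCat.ofHom fun x => ⟨fun V' => res F (show V'.1 ≤ V.unop from V'.2) x,
          fun A B h => res_res F _ h x⟩
        hom_inv_id := by
          ext s
          exact Subtype.ext (funext fun V' => s.2 ⟨V.unop, le_rfl⟩ V' V'.2)
        inv_hom_id := by
          ext x
          exact res_self F _ x })
    (fun {V V'} h => by
      ext s
      exact ((s.2 ⟨V.unop, le_rfl⟩ ⟨V'.unop, h.unop.le⟩ h.unop.le)).symm)

end GrothLib.RLpsi8.AffBasis
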