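import Groth.Agent.Lib.Cohom.Serre
import Mathlib.AlgebraicGeometry.Morphisms.QuasiSeparated

/-!
# Affineness from liftability of functions on reduced closed subschemes
-/

set_option autoImplicit false
set_option backward.isDefEq.respectTransparency false

universe u

open CategoryTheory CategoryTheory.Limits Opposite TopologicalSpace AlgebraicGeometry

noncomputable section

namespace GrothLib.RLpsi8

variable {X : Scheme.{u}}

/-- Functions on every reduced closed subscheme lift to global functions. -/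
def LiftsClosed (X : Scheme.{u}) : Prop :=
  ∀ Z : Closeds X, ∃ (W : Scheme.{u}) (ι : W ⟶ X) (_ : IsClosedImmersion ι),
    Set.range ι = (Z : Set X) ∧ Function.Surjective (ι.app ⊤).hom

theorem exists_pow_eq_mul {W : Scheme.{u}} [CompactSpace W] [QuasiSeparatedSpace W] {V : W.Opens} (hV : V = ⊤)
    (e f : Γ(W, V)) (hle : W.basicOpen e ≤ W.basicOpen f) : ∃ (m : ℕ) (c : Γ(W, V)), e ^ m = c * f := by
  subst hV
  let r : Γ(W, ⊤) →+* Γ(W, W.basicOpen e) := (W.presheaf.map (homOfLE (W.basicOpen_le e)).op).hom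
  letI := r.toAlgebra
  haveI : IsLocalization.Away e Γ(W, W.basicOpen e) := isLocalization_basicOpen_of_qcqs isCompact_univ isQuasiSeparated_univ e
  have hf : IsUnit (r f) := by
    refine W.toRingedSpace.isUnit_of_isUnit_germ (W.basicOpen e) _ fun x hx => ?_
    show IsUnit (W.presheaf.germ (W.basicOpen e) x hx (W.presheaf.map (homOfLE (W.basicOpen_le e)).op f))
    rw [TopCat.Presheaf.germ_res_apply]
    exact (W.mem_basicOpen f x trivial).mp (hle hx)
  obtain ⟨v, hv⟩ := hf.exists_right_inv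
  obtain ⟨k, b, hb⟩ := IsLocalization.Away.surj e v
  have h1 : r (f * b) = r (e ^ k) := by
    rw [map_mul, map_pow, show r b = v * r e ^ k from hb.symm, ← mul_assoc, hv, one_mul]
  obtain ⟨l, hl⟩ := IsLocalization.Away.exists_of_eq (S := Γ(W, W.basicOpen e)) e h1
  exact ⟨l + k, e ^ l * b, by rw [pow_add, ← hl]; ring⟩

variable (h : LiftsClosed X)

include h in
/-- A closed point in an affine open `U` has an affine neighbourhood `X_f` with `f` global. -/
theorem exists_affine_basicOpen {x : X} (hx : IsClosed ({x} : Set X)) {U : X.Opens}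
    (hU : IsAffineOpen U) (hxU : x ∈ U) :
    ∃ f : Γ(X, ⊤), x ∈ X.basicOpen f ∧ IsAffineOpen (X.basicOpen f) := by
  let Z : Closeds X := ⟨(U : Set X)ᶜ ∪ {x}, U.isOpen.isClosed_compl.union hx⟩
  obtain ⟨S, ι, _, hr, hsur⟩ := h Z

  have hrange : ∀ z, ι z ∈ U → ι z = x := fun z hz ↦ by
    have : ι z ∈ (Z : Set X) := by
      rw [← hr]

      exact ⟨z, rfl⟩
    exact this.resolve_left (fun h ↦ h hz)
  let V₀ : X.Opens := ⟨{x}ᶜ, hx.isOpen_compl⟩
  let W : ULift.{u} Bool → X.Opens := fun b ↦ if b.down then U else V₀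
  let c : ∀ b, Γ(S, ι ⁻¹ᵁ W b) := fun b ↦ if b.down then 1 else 0
  have hcov : ⊤ ≤ ⨆ b, ι ⁻¹ᵁ W b := fun z _ ↦ Opens.mem_iSup.2 <| by
    by_cases hz : ι z ∈ U
    · exact ⟨⟨true⟩, hz⟩
    · exact ⟨⟨false⟩, fun h ↦ hz (h ▸ hxU)⟩
  obtain ⟨e, he, -⟩ := TopCat.Sheaf.existsUnique_gluing' S.sheaf (fun b ↦ ι ⁻¹ᵁ W b) ⊤
    (fun b ↦ homOfLE le_top) hcov c (fun a b ↦ by
      rcases a with ⟨⟨⟩⟩ <;> rcases b with ⟨⟨⟩⟩
      case false.false => rfl
      case true.true => rfl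
      all_goals
        refine @Subsingleton.elim _ ?_ _ _
        have hbot : ι ⁻¹ᵁ U ⊓ ι ⁻¹ᵁ V₀ = ⊥ :=
          le_antisymm (fun z hz ↦ (hz.2 (hrange z hz.1)).elim) bot_le
        have h₁ : Subsingleton Γ(S, ι ⁻¹ᵁ U ⊓ ι ⁻¹ᵁ V₀) := by rw [hbot]; infer_instance
        have h₂ : Subsingleton Γ(S, ι ⁻¹ᵁ V₀ ⊓ ι ⁻¹ᵁ U) := by
          rw [inf_comm, hbot]; infer_instance
        first | exact h₁ | exact h₂)
  obtain ⟨f, hf⟩ := hsur e
  replace hf : ι.app ⊤ f = e := hf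
  have hbo : ι ⁻¹ᵁ X.basicOpen f = S.basicOpen e := by
    rw [Scheme.preimage_basicOpen]
    exact congrArg S.basicOpen hf
  have hpt : ∀ y, y ∈ (Z : Set X) → ∃ z, ι z = y := fun y hy ↦ by
    rw [← hr] at hy

    exact hy
  have hle : X.basicOpen f ≤ U := fun y hy ↦ by
    by_contra hyU
    obtain ⟨z, rfl⟩ := hpt y (Or.inl hyU)
    have hz : z ∈ S.basicOpen e := hbo ▸ hy
    have hzV : z ∈ ι ⁻¹ᵁ W ⟨false⟩ := fun h ↦ hyU (h ▸ hxU)
    have : z ∈ S.basicOpen (c ⟨false⟩) := by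
      rw [← he ⟨false⟩]
      erw [Scheme.basicOpen_res]
      exact ⟨hzV, hz⟩
    exact (Scheme.basicOpen_zero S _).le this
  refine ⟨f, ?_, ?_⟩
  · obtain ⟨z, hzx⟩ := hpt x (Or.inr rfl)
    have hz : z ∈ S.basicOpen (c ⟨true⟩) := by
      rw [show c ⟨true⟩ = 1 from rfl, Scheme.basicOpen_of_isUnit _ isUnit_one]
      exact (show ι z ∈ U from hzx.symm ▸ hxU)
    refine hzx ▸ (?_ : ι z ∈ X.basicOpen f)
    rw [← he ⟨true⟩] at hz
    erw [Scheme.basicOpen_res] at hz
    exact hbo.ge hz.2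
  · have := hU.basicOpen (X.presheaf.map (homOfLE (le_top (a := U))).op f)
    rwa [Scheme.basicOpen_res, inf_eq_right.2 hle] at this

include h in
theorem exists_span_disjoint [CompactSpace X] [QuasiSeparatedSpace X] (s : Finset Γ(X, ⊤)) :
    ∀ Z : Closeds X, (∀ z ∈ (Z : Set X), ∃ f ∈ s, z ∈ X.basicOpen f) →
      ∃ a ∈ Ideal.span (s : Set Γ(X, ⊤)), ∀ z ∈ (Z : Set X), z ∉ X.basicOpen (1 - a) := by
  classical
  induction s using Finset.induction with
  | empty => exact fun Z hZ => ⟨0, zero_mem _, fun z hz => by obtain ⟨f, hf, -⟩ := hZ z hz; simp at hf⟩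
  | @insert f s _ ih =>
    intro Z hZ
    obtain ⟨a, ha, had⟩ := ih (Z ⊓ ⟨(X.basicOpen f : Set X)ᶜ, (X.basicOpen f).isOpen.isClosed_compl⟩) fun z hz => by
      obtain ⟨g, hg, hzg⟩ := hZ z hz.1
      rcases Finset.mem_insert.mp hg with rfl | hg
      · exact absurd hzg hz.2
      · exact ⟨g, hg, hzg⟩
    obtain ⟨S, ι, _, hr, hsur⟩ := h Z

    have hpt : ∀ z, z ∈ (Z : Set X) ↔ ∃ w, ι w = z := fun z => by
      rw [← hr]

      rfl
    haveI : CompactSpace S := QuasiCompact.compactSpace_of_compactSpace ι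
    haveI : QuasiSeparatedSpace S := quasiSeparatedSpace_of_quasiSeparated ι
    obtain ⟨m, c, hmc⟩ := exists_pow_eq_mul ι.preimage_top ((ι.app ⊤).hom (1 - a)) ((ι.app ⊤).hom f) (by
      rw [← Scheme.preimage_basicOpen, ← Scheme.preimage_basicOpen]
      intro w hw
      by_contra hwf
      exact had (ι w) ⟨(hpt _).mpr ⟨w, rfl⟩, hwf⟩ hw)
    obtain ⟨C, hC⟩ := hsur c
    have hpow : ∀ k : ℕ, 1 - (1 - a) ^ k ∈ Ideal.span (insert f s : Finset Γ(X, ⊤)) := by
      intro k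
      induction k with
      | zero => simp
      | succ k ihk =>
        rw [show (1 : Γ(X, ⊤)) - (1 - a) ^ (k + 1) = 1 - (1 - a) ^ k + (1 - a) ^ k * a by ring]
        exact add_mem ihk (Ideal.mul_mem_left _ _ (Ideal.span_mono (by simp) ha))
    refine ⟨1 - (1 - a) ^ m + C * f, add_mem (hpow m) (Ideal.mul_mem_left _ _ (Ideal.subset_span (by simp))), ?_⟩
    intro z hz hzd
    obtain ⟨w, rfl⟩ := (hpt z).mp hz
    have h0 : (ι.app ⊤).hom (1 - (1 - (1 - a) ^ m + C * f)) = 0 := by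
      rw [show (1 : Γ(X, ⊤)) - (1 - (1 - a) ^ m + C * f) = (1 - a) ^ m - C * f by ring,
        map_sub, map_pow, map_mul, hC, hmc, sub_self]
    have hw : w ∈ S.basicOpen ((ι.app ⊤).hom (1 - (1 - (1 - a) ^ m + C * f))) := by
      rw [← Scheme.preimage_basicOpen]
      exact hzd
    rw [h0, Scheme.basicOpen_zero] at hw
    exact hw

include h in
/-- The criterion of affineness. -/
theorem isAffine_of_liftsClosed [CompactSpace X] [QuasiSeparatedSpace X] : IsAffine X := by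
  classical
  have hcov : ∀ x : X, ∃ f : Γ(X, ⊤), IsAffineOpen (X.basicOpen f) ∧ x ∈ X.basicOpen f := by
    intro x
    obtain ⟨y, hy, hyc⟩ := IsClosed.exists_closed_singleton (isClosed_closure (s := ({x} : Set X)))
      ⟨x, subset_closure rfl⟩
    obtain ⟨U, hU, hyU, -⟩ := Opens.isBasis_iff_nbhd.1 X.isBasis_affineOpens (Opens.mem_top y)
    obtain ⟨f, hyf, hf⟩ := exists_affine_basicOpen h hyc hU hyU
    exact ⟨f, hf, (specializes_iff_mem_closure.2 hy).mem_open (X.basicOpen f).isOpen hyf⟩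
  choose f hfS hxf using hcov
  obtain ⟨t, ht⟩ := isCompact_univ.elim_finite_subcover (fun x : X ↦ (X.basicOpen (f x) : Set X))
    (fun x ↦ (X.basicOpen (f x)).isOpen) fun x _ ↦ Set.mem_iUnion.2 ⟨x, hxf x⟩
  obtain ⟨a, ha, had⟩ := exists_span_disjoint h (t.image f) ⊤ fun z _ => by
    obtain ⟨x, hxt, hx⟩ := Set.mem_iUnion₂.1 (ht (Set.mem_univ z))
    exact ⟨f x, Finset.mem_image_of_mem f hxt, hx⟩
  refine isAffine_of_isAffineOpen_basicOpen (↑(t.image f)) ?_ fun i hi ↦ ?_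
  swap
  · obtain ⟨x, -, rfl⟩ := Finset.mem_image.1 (Finset.mem_coe.1 hi)
    exact hfS x
  refine Ideal.eq_top_of_isUnit_mem _ ha (X.toRingedSpace.isUnit_of_isUnit_germ ⊤ a fun z hz => ?_)
  have h1 := had z trivial
  rw [X.mem_basicOpen (U := ⊤) (1 - a) z trivial, map_sub, map_one] at h1
  have h2 : X.presheaf.germ ⊤ z trivial a = 1 - (1 - X.presheaf.germ ⊤ z trivial a) := by ring
  show IsUnit (X.presheaf.germ ⊤ z trivial a)
  rw [h2]
  exact IsLocalRing.isUnit_one_sub_self_of_mem_nonunits _ h1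

end GrothLib.RLpsi8
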