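import Groth.Agent.Lib.RLpsi8.AffineCrit
import Groth.Agent.Lib.Cohom.AffineCriterion
import Groth.Agent.Lib.OmegaAff.Basic
import Groth.Agent.Lib.Euler.Divisor
import Groth.Agent.Lib.ModDesc.Basic

/-!
# Affine morphisms from liftability of functions on closed subschemes
-/

set_option autoImplicit false
set_option backward.isDefEq.respectTransparency false

universe u

open CategoryTheory CategoryTheory.Limits Opposite TopologicalSpace AlgebraicGeometry

noncomputable section

namespace GrothLib.RLpsi8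

variable {X Y : Scheme.{u}}

theorem isAffineOpen_of_surjective {U : X.Opens} (hc : IsCompact (U : Set X)) (hqs : IsQuasiSeparated (U : Set X))
    (h : ∀ Z : Closeds X, Function.Surjective ((Scheme.IdealSheafData.vanishingIdeal Z).subschemeι.app U).hom) :
    IsAffineOpen U := by
  haveI : CompactSpace (U : Scheme.{u}) := isCompact_iff_compactSpace.mp hc
  haveI : QuasiSeparatedSpace (U : Scheme.{u}) :=
    (isQuasiSeparated_iff_quasiSeparatedSpace (U : Set X) U.2).mp hqs
  refine isAffine_of_liftsClosed (X := (U : Scheme.{u})) fun Z' => ?_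
  let Z : Closeds X := Closeds.closure (U.ι '' (Z' : Set U))
  let I := Scheme.IdealSheafData.vanishingIdeal Z
  let ι := I.subschemeι
  have hrange : Set.range ι = (Z : Set X) := by
    rw [Scheme.IdealSheafData.range_subschemeι, Scheme.IdealSheafData.coe_support_vanishingIdeal]
  refine ⟨(ι ⁻¹ᵁ U : I.subscheme.Opens), ι ∣_ U, IsZariskiLocalAtTarget.restrict (P := @IsClosedImmersion) inferInstance U, ?_, ?_⟩
  · ext y
    have hZ : U.ι ⁻¹' (Z : Set X) = (Z' : Set U) := by
      show U.ι ⁻¹' closure (U.ι '' (Z' : Set U)) = (Z' : Set U)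
      rw [← U.ι.isOpenEmbedding.isInducing.closure_eq_preimage_closure_image]
      exact Z'.isClosed.closure_eq
    rw [← hZ, Set.mem_preimage, ← hrange]
    constructor
    · rintro ⟨w, rfl⟩
      exact ⟨(ι ⁻¹ᵁ U).ι w, ConcreteCategory.congr_hom (congrArg (fun k => k.base) (morphismRestrict_ι ι U)).symm w⟩
    · rintro ⟨w, hw⟩
      let w' : ((ι ⁻¹ᵁ U : I.subscheme.Opens) : Scheme.{u}) := ⟨w, show ι w ∈ U from hw ▸ y.2⟩
      refine ⟨w', U.ι.isOpenEmbedding.injective ?_⟩
      refine Eq.trans (ConcreteCategory.congr_hom (congrArg (fun k => k.base) (morphismRestrict_ι ι U)) w') ?_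
      exact hw
  · have key : ∀ V : X.Opens, V = U → Function.Surjective (ι.app V).hom := by
      rintro V rfl; exact h Z
    rw [morphismRestrict_app]
    intro z
    obtain ⟨b, rfl⟩ : ∃ b, ((I.subscheme).presheaf.map (eqToHom (image_morphismRestrict_preimage ι U ⊤)).op).hom b = z :=
      ((ConcreteCategory.isIso_iff_bijective _).mp inferInstance).2 z
    obtain ⟨a, rfl⟩ := key (U.ι ''ᵁ ⊤) (Scheme.Opens.ι_image_top U) b
    exact ⟨a, rfl⟩

/-- Affine morphisms. -/
theorem isAffineHom_of_surjective (f : X ⟶ Y) [QuasiCompact f] [QuasiSeparated f]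
    (h : ∀ (V : Y.Opens), IsAffineOpen V → ∀ Z : Closeds X,
      Function.Surjective ((Scheme.IdealSheafData.vanishingIdeal Z).subschemeι.app (f ⁻¹ᵁ V)).hom) :
    IsAffineHom f :=
  ⟨fun V hV => isAffineOpen_of_surjective (f.isCompact_preimage hV.isCompact)
    (f.isQuasiSeparated_preimage hV.isQuasiSeparated) (h V hV)⟩

/-- Vanishing of `R¹f_*` on quasi-coherent ideals gives the lifting. -/
theorem surjective_of_R1 (f : X ⟶ Y) [QuasiCompact f] [QuasiSeparated f]
    (h : ∀ (J : X.Modules) (i : J ⟶ Coh.structureModule X), Mono i → Coh.IsQCoh J →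
      Limits.IsZero ((Coh.RpushAb f 1).obj (Coh.toAb J)))
    {V : Y.Opens} (hV : IsAffineOpen V) (Z : Closeds X) :
    Function.Surjective ((Scheme.IdealSheafData.vanishingIdeal Z).subschemeι.app (f ⁻¹ᵁ V)).hom := by
  let I := Scheme.IdealSheafData.vanishingIdeal Z
  haveI hq : (ClSub.idealMod I).IsQuasicoherent := OmegaAff.isQuasicoherent_idealMod I
  haveI := QCoh.isQuasicoherent_pushforward f (ClSub.idealMod I)
  have hmono : Mono (ClSub.idealModι I) := by unfold ClSub.idealModι; infer_instance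
  have h₁ := Cohom.subsingleton_ext_of_isZero_RpushAb_one f (Coh.toAb (ClSub.idealMod I))
    (h _ (ClSub.idealModι I) hmono hq) V
    (Cohom.subsingleton_ext_freeFun_of_isAffineOpen hV ((Scheme.Modules.pushforward f).obj (ClSub.idealMod I)) 0)
  intro e
  refine Cohom.exists_lift_of_locally (ClSub.toSubscheme I) (f ⁻¹ᵁ V) h₁ e fun p hp => ?_
  obtain ⟨W, hW, hpW, hWV⟩ := exists_isAffineOpen_mem_and_subset (U := f ⁻¹ᵁ V) hp
  obtain ⟨r, hr⟩ := I.subschemeι.app_surjective W hW
    ((ClSub.quotMod I).presheaf.map (homOfLE (show W ≤ f ⁻¹ᵁ V from hWV)).op e)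
  exact ⟨W, hWV, hpW, r, hr⟩

/-- Exactness of `f_*` gives the lifting. -/
theorem surjective_of_push_epi (f : X ⟶ Y) [QuasiCompact f] [QuasiSeparated f]
    (h : ∀ (F F'' : X.Modules) (p : F ⟶ F''), Coh.IsQCoh F → Coh.IsQCoh F'' → Epi p → Epi ((Coh.push f).map p))
    {V : Y.Opens} (hV : IsAffineOpen V) (Z : Closeds X) :
    Function.Surjective ((Scheme.IdealSheafData.vanishingIdeal Z).subschemeι.app (f ⁻¹ᵁ V)).hom := by
  let I := Scheme.IdealSheafData.vanishingIdeal Z
  haveI h1 := Cohom.isQuasicoherent_structureModule X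
  haveI := Cohom.isQuasicoherent_structureModule I.subscheme
  haveI h2 : (ClSub.quotMod I).IsQuasicoherent := QCoh.isQuasicoherent_pushforward _ _
  haveI := h _ _ (ClSub.toSubscheme I) h1 h2 (Euler.epi_toSubscheme I)
  haveI := QCoh.isQuasicoherent_pushforward f (Coh.structureModule X)
  haveI := QCoh.isQuasicoherent_pushforward f (ClSub.quotMod I)
  exact ModDesc.app_surjective_of_epi ((Coh.push f).map (ClSub.toSubscheme I)) hV

end GrothLib.RLpsi8
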