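import Groth.Agent.Lib.Ample.Product
import Mathlib.RingTheory.MvPolynomial.Homogeneous
import Mathlib.RingTheory.Artinian.Ring
import Mathlib.RingTheory.IntegralClosure.IntegrallyClosed
import Mathlib.AlgebraicGeometry.ResidueField
/-!
# A section with affine locus through the points of an integral algebra over a field
-/
universe u
open CategoryTheory CategoryTheory.Limits AlgebraicGeometry TopologicalSpace Opposite
set_option backward.isDefEq.respectTransparency false
noncomputable section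
namespace RLpsi8
open GrothLib GrothLib.Ample

/-- Homogeneous prime avoidance in a polynomial ring. -/
theorem exists_homogeneous_avoid {ι : Type*} [Nonempty ι] (S : Finset (Ideal (MvPolynomial ι ℤ)))
    (hp : ∀ p ∈ S, p.IsPrime) (hX : ∀ p ∈ S, ∃ i, MvPolynomial.X i ∉ p) :
    ∃ (e : ℕ) (F : MvPolynomial ι ℤ), 0 < e ∧ F.IsHomogeneous e ∧ ∀ p ∈ S, F ∉ p := by
  classical
  induction S using Finset.strongInductionOn with
  | _ S ih =>
    rcases S.eq_empty_or_nonempty with rfl | ⟨p₀, hp₀⟩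
    · exact ⟨1, MvPolynomial.X (Classical.arbitrary ι), one_pos, MvPolynomial.isHomogeneous_X _ _, by simp⟩
    by_cases hone : S = {p₀}
    · obtain ⟨i, hi⟩ := hX p₀ hp₀
      exact ⟨1, MvPolynomial.X i, one_pos, MvPolynomial.isHomogeneous_X _ _, by simpa [hone] using hi⟩
    choose e F he hF hav using fun p : S => ih (S.erase p.1) (Finset.erase_ssubset p.2)
      (fun q hq => hp q (Finset.mem_of_mem_erase hq)) (fun q hq => hX q (Finset.mem_of_mem_erase hq))
    by_cases hgood : ∃ p : S, F p ∉ p.1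
    · obtain ⟨p, hp'⟩ := hgood
      refine ⟨e p, F p, he p, hF p, fun q hq => ?_⟩
      by_cases h : q = p.1
      · exact h ▸ hp'
      · exact hav p q (Finset.mem_erase.2 ⟨h, hq⟩)
    push_neg at hgood
    -- products over the others
    let G : S → MvPolynomial ι ℤ := fun p => ∏ q ∈ Finset.univ.erase p, F q
    let d : S → ℕ := fun p => ∑ q ∈ Finset.univ.erase p, e q
    have hG : ∀ p, (G p).IsHomogeneous (d p) := fun p => MvPolynomial.IsHomogeneous.prod _ _ _ fun q _ => hF q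
    have hd : ∀ p, 0 < d p := fun p => by
      obtain ⟨q, hq, hqp⟩ : ∃ q ∈ S, q ≠ p.1 := by
        by_contra hcon
        push_neg at hcon
        exact hone (Finset.eq_singleton_iff_unique_mem.2 ⟨hp₀, fun q hq => (hcon q hq).trans (hcon p₀ hp₀).symm⟩)
      exact Finset.sum_pos (fun q _ => he q) ⟨⟨q, hq⟩, Finset.mem_erase.2 ⟨fun h => hqp (congrArg Subtype.val h), Finset.mem_univ _⟩⟩
    have hGp : ∀ p : S, G p ∉ p.1 := fun p h => by
      obtain ⟨q, hq, hqm⟩ := ((hp p.1 p.2).prod_mem_iff).1 h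
      exact hav q p.1 (Finset.mem_erase.2 ⟨fun h' => (Finset.mem_erase.1 hq).1 (Subtype.ext h'.symm), p.2⟩) hqm
    have hGq : ∀ p q : S, q ≠ p → G p ∈ q.1 := fun p q hqp =>
      Ideal.prod_mem _ (Finset.mem_erase.2 ⟨hqp, Finset.mem_univ _⟩) (hgood q)
    let E := ∏ p : S, d p
    have hE : 0 < E := Finset.prod_pos fun p _ => hd p
    have hdiv : ∀ p, ∃ k, E = d p * k := fun p => Finset.dvd_prod_of_mem d (Finset.mem_univ p)
    choose k hk using hdiv
    refine ⟨E, ∑ p : S, G p ^ k p, hE, MvPolynomial.IsHomogeneous.sum _ _ _ fun p _ => ?_, fun q hq h => ?_⟩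
    · rw [hk p]; exact (hG p).pow _
    · rw [← Finset.add_sum_erase _ _ (Finset.mem_univ (⟨q, hq⟩ : S))] at h
      have hrest : ∑ p ∈ Finset.univ.erase (⟨q, hq⟩ : S), G p ^ k p ∈ q :=
        Ideal.sum_mem _ fun p hp' => Ideal.pow_mem_of_mem _ (hGq p ⟨q, hq⟩ (Finset.mem_erase.1 hp').1.symm) _
          (Nat.pos_of_ne_zero fun h0 => hE.ne' (by rw [hk p, h0, mul_zero]))
      exact hGp ⟨q, hq⟩ ((hp q hq).mem_of_pow_mem _ ((Submodule.add_mem_iff_left _ hrest).1 h))

variable {X : Scheme.{u}} (c : Cocycle X)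

/-- The section given by a monomial in sections of the same degree. -/
def monSect {ι : Type} {N : ℕ} (s : ι → c.sect N ⊤) (a : ℤ) (d : ι →₀ ℕ) {e : ℕ} (hd : d.degree = e) :
    c.sect (N * e) ⊤ :=
  ⟨fun i => (a : Γ(X, ⊤ ⊓ c.D i)) * d.prod fun l k => (s l).1 i ^ k, fun i j W hi hj => by
    subst hd
    simp only [map_mul, map_intCast, map_finsuppProd, map_pow]
    rw [mul_left_comm]
    congr 1
    simp only [Finsupp.prod, Finsupp.degree_apply]
    rw [pow_mul, ← Finset.prod_pow_eq_pow_sum, ← Finset.prod_mul_distrib]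
    refine Finset.prod_congr rfl fun l _ => ?_
    rw [c.sect_spec (s l) i j hi hj, mul_pow]⟩

theorem locus_monSect_le {ι : Type} {N : ℕ} (s : ι → c.sect N ⊤) (a : ℤ) (d : ι →₀ ℕ) {e : ℕ} (hd : d.degree = e)
    {l : ι} (hl : l ∈ d.support) : c.locus (monSect c s a d hd) ≤ c.locus (s l) := by
  refine iSup_le fun i => le_trans ?_ (le_iSup (fun i => X.basicOpen ((s l).1 i)) i)
  show X.basicOpen ((a : Γ(X, ⊤ ⊓ c.D i)) * d.prod fun l k => (s l).1 i ^ k) ≤ _
  classical
  rw [Scheme.basicOpen_mul, Finsupp.prod, ← Finset.mul_prod_erase _ _ hl, Scheme.basicOpen_mul,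
    X.basicOpen_pow _ (Nat.pos_of_ne_zero (Finsupp.mem_support_iff.1 hl))]
  exact inf_le_right.trans inf_le_left

/-- A combination of sections with affine loci has affine locus. -/
theorem exists_combination {ι : Type} {N : ℕ} (s : ι → c.sect N ⊤) (hs : ∀ l, IsAffineOpen (c.locus (s l)))
    (F : MvPolynomial ι ℤ) {e : ℕ} (he : 0 < e) (hF : F.IsHomogeneous e) :
    ∃ σ : c.sect (N * e) ⊤, (∀ i, σ.1 i = MvPolynomial.aeval (fun l => (s l).1 i) F) ∧
      IsAffineOpen (c.locus σ) ∧ c.locus σ ≤ ⨆ l, c.locus (s l) := by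
  classical
  have hdeg : ∀ d : F.support, d.1.degree = e := fun d => by
    have := hF (MvPolynomial.mem_support_iff.1 d.2)
    rw [← this, Finsupp.degree_eq_weight_one]
    rfl
  let t : F.support → c.sect (N * e) ⊤ := fun d => monSect c s (MvPolynomial.coeff d.1 F) d.1 (hdeg d)
  let σ := ∑ d, t d
  have hσ : ∀ i, σ.1 i = MvPolynomial.aeval (fun l => (s l).1 i) F := fun i => by
    conv_rhs => rw [F.as_sum, map_sum, ← Finset.sum_coe_sort]
    rw [show σ.1 i = ∑ d, (t d).1 i by simp only [σ, AddSubgroup.val_finsetSum, Finset.sum_apply]]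
    refine Finset.sum_congr rfl fun d _ => ?_
    rw [MvPolynomial.aeval_monomial]
    rfl
  choose f hf hfopen using fun d => c.exists_ratio σ (t d)
  have hsum : ∑ d, f d = 1 := by
    refine (c.bijective_hom_app σ le_rfl).1 ?_
    refine (c.hom_app_apply σ _ _).trans (Eq.trans ?_ (c.hom_app_apply σ _ _).symm)
    rw [one_smul, Finset.sum_smul]
    simp only [← hf, ← map_sum]
    rfl
  refine ⟨σ, hσ, isAffineOpen_of_isAffineOpen_basicOpen _ (Set.range f) ?_ ?_, ?_⟩
  · rw [Ideal.eq_top_iff_one, ← hsum]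
    exact Ideal.sum_mem _ fun d _ => Ideal.subset_span ⟨d, rfl⟩
  · rintro _ ⟨d, rfl⟩
    obtain ⟨l, hl⟩ := Finsupp.support_nonempty_iff.2 (fun h0 : d.1 = 0 => by
      have := hdeg d; rw [h0] at this; simp at this; omega)
    have hle : c.locus (t d) ≤ c.locus (s l) := locus_monSect_le c s _ _ _ hl
    rw [hfopen, ← inf_eq_left.2 hle]
    exact c.isAffineOpen_locus_inf σ (c.isAffineOpen_locus_inf (t d) (hs l))
  · intro p hp
    obtain ⟨i, hi⟩ := c.exists_mem p
    by_contra hcon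
    rw [Opens.mem_iSup] at hcon
    push_neg at hcon
    have hall : ∀ d, p ∉ c.locus (t d) := fun d hd => by
      obtain ⟨l, hl⟩ := Finsupp.support_nonempty_iff.2 (fun h0 : d.1 = 0 => by
        have := hdeg d; rw [h0] at this; simp at this; omega)
      exact hcon l (locus_monSect_le c s _ _ _ hl hd)
    have hpi : p ∈ (⊤ : X.Opens) ⊓ c.D i := ⟨trivial, hi⟩
    have h0 : X.evaluation _ p hpi (σ.1 i) = 0 := by
      rw [show σ.1 i = ∑ d, (t d).1 i by simp only [σ, AddSubgroup.val_finsetSum, Finset.sum_apply], map_sum]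
      exact Finset.sum_eq_zero fun d _ => not_not.1 fun h =>
        hall d ((c.mem_locus_iff (t d) hi).2 ((X.evaluation_ne_zero_iff_mem_basicOpen p hpi _).1 h))
    exact (X.evaluation_ne_zero_iff_mem_basicOpen p hpi (σ.1 i)).2 ((c.mem_locus_iff σ hi).1 hp) h0

theorem surjective_away_of_isIntegral {k A B : Type*} [Field k] [CommRing A] [CommRing B] [Algebra k A]
    [Algebra.IsIntegral k A] [Algebra A B] (h : A) [IsLocalization.Away h B] :
    Function.Surjective (algebraMap A B) := by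
  let h' : Algebra.adjoin k {h} := ⟨h, Algebra.subset_adjoin rfl⟩
  have : Module.Finite k (Algebra.adjoin k {h}) :=
    ⟨(Submodule.fg_top _).2 (IsIntegral.fg_adjoin_singleton (Algebra.IsIntegral.isIntegral h))⟩
  have : IsArtinianRing (Algebra.adjoin k {h}) := IsArtinianRing.of_finite k _
  obtain ⟨n, y, hy⟩ := IsArtinian.exists_pow_succ_smul_dvd h' (1 : Algebra.adjoin k {h})
  have hy' : h ^ (n + 1) * y.1 = h ^ n := by
    have := congrArg Subtype.val hy
    simpa [h'] using this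
  have hu := IsLocalization.Away.algebraMap_isUnit (S := B) h
  have hinv : algebraMap A B h * algebraMap A B y.1 = 1 := by
    refine (hu.pow n).mul_left_cancel ?_
    rw [← map_pow, ← map_mul, ← map_mul, ← mul_assoc, ← pow_succ, hy', mul_one]
  intro b
  obtain ⟨m, a, ha⟩ := IsLocalization.Away.surj h b
  refine ⟨a * y.1 ^ m, ?_⟩
  rw [map_mul, map_pow, ← ha, mul_assoc, ← mul_pow, hinv, one_pow, mul_one]

theorem exists_sect_affine_through (hc : c.IsAmp) [CompactSpace X] (k A : Type u) [Field k] [CommRing A]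
    [Algebra k A] [Algebra.IsIntegral k A]
    (W : X.Opens) (g : Spec (CommRingCat.of A) ⟶ X) (hg : Set.range g ⊆ (W : Set X)) :
    ∃ (n : ℕ) (σ : c.sect (n + 1) ⊤),
      IsAffineOpen (c.locus σ) ∧ c.locus σ ≤ W ∧ Set.range g ⊆ (c.locus σ : Set X) := by
  classical
  choose n s hzs hsW hs using fun z => c.exists_affine_locus_le hc (O := W) (p := g z) (hg ⟨z, rfl⟩)
  obtain ⟨T, hT⟩ := isCompact_univ.elim_finite_subcover
    (fun z => ((g ⁻¹ᵁ c.locus (s z) : (Spec (CommRingCat.of A)).Opens) : Set (Spec (CommRingCat.of A) : Scheme.{u})))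
    (fun z => (g ⁻¹ᵁ c.locus (s z)).2) (fun z _ => Set.mem_iUnion.2 ⟨z, hzs z⟩)
  rcases isEmpty_or_nonempty (Spec (CommRingCat.of A) : Scheme.{u}) with hemp | hne
  · refine ⟨0, 0, ?_, ?_, by simp [Set.range_eq_empty]⟩
    · have : c.locus (0 : c.sect 1 ⊤) = ⊥ := eq_bot_iff.2 (iSup_le fun i => by
        rw [show ((0 : c.sect 1 ⊤).1 i) = 0 from rfl, Scheme.basicOpen_zero])
      rw [this]; exact isAffineOpen_bot X
    · exact iSup_le fun i => by rw [show ((0 : c.sect 1 ⊤).1 i) = 0 from rfl, Scheme.basicOpen_zero]; exact bot_le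
  let ι := Fin T.card
  let zi : ι → _ := fun l => (T.equivFin.symm l).1
  have hcov : ∀ z, ∃ l, g z ∈ c.locus (s (zi l)) := fun z => by
    obtain ⟨w, hw, hzw⟩ := Set.mem_iUnion₂.1 (hT (Set.mem_univ z))
    exact ⟨T.equivFin ⟨w, hw⟩, by simp only [zi]; rw [Equiv.symm_apply_apply]; exact hzw⟩
  have : Nonempty ι := ⟨(hcov (Classical.arbitrary _)).choose⟩
  let N := ∏ l, (n (zi l) + 1)
  have hN : 0 < N := Finset.prod_pos fun l _ => Nat.succ_pos _
  have hNdiv : ∀ l, ∃ m, (n (zi l) + 1) * m = N := fun l =>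
    (Finset.dvd_prod_of_mem (fun l => n (zi l) + 1) (Finset.mem_univ l)).imp fun _ h => h.symm
  choose mp hmp using hNdiv
  let t : ι → c.sect N ⊤ := fun l => c.sectCast (hmp l) (c.sectPow (s (zi l)) (mp l))
  have hloc : ∀ l, c.locus (t l) = c.locus (s (zi l)) := fun l => by
    rw [c.locus_sectCast, c.locus_sectPow _ (Nat.pos_of_ne_zero fun h0 => hN.ne' (by rw [← hmp l, h0, mul_zero]))]
  -- a finite cover of the spectrum adapted to the cocycle
  choose ic hic using fun z => c.exists_mem (g z)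
  choose hh hhD hzh using fun z => (isAffineOpen_top (Spec (CommRingCat.of A))).exists_basicOpen_le
    (V := g ⁻¹ᵁ c.D (ic z)) ⟨z, hic z⟩ trivial
  obtain ⟨J, hJ⟩ := isCompact_univ.elim_finite_subcover
    (fun z => (((Spec (CommRingCat.of A)).basicOpen (hh z) : (Spec (CommRingCat.of A)).Opens) : Set (Spec (CommRingCat.of A) : Scheme.{u})))
    (fun z => ((Spec (CommRingCat.of A)).basicOpen (hh z)).2) (fun z _ => Set.mem_iUnion.2 ⟨z, hzh z⟩)
  let B : (Spec (CommRingCat.of A) : Scheme.{u}) → CommRingCat.{u} := fun z => Γ(Spec (CommRingCat.of A), (Spec (CommRingCat.of A)).basicOpen (hh z))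
  let ψA : A →+* Γ(Spec (CommRingCat.of A), ⊤) := (Scheme.ΓSpecIso (CommRingCat.of A)).inv.hom
  let ρ : ∀ z, Γ(Spec (CommRingCat.of A), ⊤) ⟶ B z := fun z =>
    (Spec (CommRingCat.of A)).presheaf.map (homOfLE ((Spec (CommRingCat.of A)).basicOpen_le (hh z))).op
  letI algTop : Algebra k Γ(Spec (CommRingCat.of A), ⊤) := (ψA.comp (algebraMap k A)).toAlgebra
  have hintTop : Algebra.IsIntegral k Γ(Spec (CommRingCat.of A), ⊤) := ⟨fun x => by
    obtain ⟨a, rfl⟩ := (ConcreteCategory.bijective_of_isIso (Scheme.ΓSpecIso (CommRingCat.of A)).inv).2 x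
    exact (Algebra.IsIntegral.isIntegral (R := k) a).map ({ toRingHom := ψA, commutes' := fun _ => rfl } : A →ₐ[k] _)⟩
  letI algB : ∀ z, Algebra k (B z) := fun z => ((ρ z).hom.comp (algebraMap k _)).toAlgebra
  have hint : ∀ z, Algebra.IsIntegral k (B z) := fun z => ⟨fun b => by
    letI := (ρ z).hom.toAlgebra
    haveI : IsLocalization.Away (hh z) (B z) := (isAffineOpen_top (Spec (CommRingCat.of A))).isLocalization_basicOpen (hh z)
    obtain ⟨a, rfl⟩ := surjective_away_of_isIntegral (k := k) (B := B z) (hh z) b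
    exact (Algebra.IsIntegral.isIntegral (R := k) a).map ({ toRingHom := (ρ z).hom, commutes' := fun _ => rfl } : _ →ₐ[k] B z)⟩
  let u : ∀ z, ι → B z := fun z l => g.appLE (⊤ ⊓ c.D (ic z)) _ (le_inf le_top (hhD z)) ((t l).1 (ic z))
  let A₀ : ∀ z, Subalgebra k (B z) := fun z => Algebra.adjoin k (Set.range (u z))
  have hfin : ∀ z, IsArtinianRing (A₀ z) := fun z => by
    have : Module.Finite k (A₀ z) :=
      ⟨(Submodule.fg_top _).2 (fg_adjoin_of_finite (Set.finite_range _) fun x _ => (hint z).isIntegral x)⟩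
    exact IsArtinianRing.of_finite k _
  let ψ : ∀ z, MvPolynomial ι ℤ →ₐ[ℤ] A₀ z := fun z =>
    MvPolynomial.aeval fun l => (⟨u z l, Algebra.subset_adjoin ⟨l, rfl⟩⟩ : A₀ z)
  let P : Finset (Ideal (MvPolynomial ι ℤ)) :=
    (J.biUnion fun z => haveI := hfin z
      (Set.finite_range fun q : PrimeSpectrum (A₀ z) => q.asIdeal.comap (ψ z)).toFinset).filter
      fun p => p.IsPrime ∧ ∃ l, MvPolynomial.X l ∉ p
  obtain ⟨e, F, he, hF, hav⟩ := exists_homogeneous_avoid P (fun p hp => (Finset.mem_filter.1 hp).2.1)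
    (fun p hp => (Finset.mem_filter.1 hp).2.2)
  obtain ⟨σ, hσ, hσaff, hσle⟩ := exists_combination c t (fun l => by rw [hloc]; exact hs _) F he hF
  obtain ⟨M, hM⟩ : ∃ M, N * e = M + 1 :=
    ⟨N * e - 1, by have : 0 < N * e := Nat.mul_pos hN he; omega⟩
  refine ⟨M, c.sectCast hM σ, by rw [c.locus_sectCast]; exact hσaff,
    (c.locus_sectCast hM σ).le.trans (hσle.trans (iSup_le fun l => (hloc l).le.trans (hsW _))), ?_⟩
  rintro _ ⟨y, rfl⟩
  rw [c.locus_sectCast]
  obtain ⟨z, hzJ, hyz⟩ := Set.mem_iUnion₂.1 (hJ (Set.mem_univ y))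
  let ev : B z →+* _ := ((Spec (CommRingCat.of A)).evaluation _ y hyz).hom
  let ev₀ : A₀ z →+* _ := ev.comp (A₀ z).val.toRingHom
  let q : PrimeSpectrum (A₀ z) := ⟨RingHom.ker ev₀, RingHom.ker_isPrime _⟩
  have hy0 : y ∈ g ⁻¹ᵁ c.D (ic z) := hhD z hyz
  have key : ∀ w : Γ(X, ⊤ ⊓ c.D (ic z)),
      ev (g.appLE (⊤ ⊓ c.D (ic z)) _ (le_inf le_top (hhD z)) w) ≠ 0 ↔ g y ∈ X.basicOpen w := fun w => by
    show (Spec (CommRingCat.of A)).evaluation _ y hyz _ ≠ 0 ↔ _
    rw [Scheme.evaluation_ne_zero_iff_mem_basicOpen (X := Spec (CommRingCat.of A)) y hyz, Scheme.basicOpen_appLE]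
    exact ⟨fun h => h.2, fun h => ⟨hyz, h⟩⟩
  have hψv : ∀ G : MvPolynomial ι ℤ, ((ψ z G : A₀ z) : B z) =
      g.appLE (⊤ ⊓ c.D (ic z)) _ (le_inf le_top (hhD z)) (MvPolynomial.aeval (fun l => (t l).1 (ic z)) G) := by
    intro G
    refine (RingHom.congr_fun (f := (A₀ z).val.toRingHom.comp (ψ z).toRingHom)
      (g := (g.appLE (⊤ ⊓ c.D (ic z)) _ (le_inf le_top (hhD z))).hom.comp
        (MvPolynomial.aeval fun l => (t l).1 (ic z)).toRingHom) ?_ G)
    refine MvPolynomial.ringHom_ext (fun a => ?_) fun l => ?_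
    · simp
    · show ((ψ z (MvPolynomial.X l) : A₀ z) : B z) = g.appLE _ _ _ (MvPolynomial.aeval _ (MvPolynomial.X l))
      simp only [ψ, MvPolynomial.aeval_X]
      rfl
  have hmem : q.asIdeal.comap (ψ z) ∈ P := by
    refine Finset.mem_filter.2 ⟨Finset.mem_biUnion.2 ⟨z, hzJ, by simp⟩, q.2.comap _, ?_⟩
    obtain ⟨l, hl⟩ := hcov y
    refine ⟨l, fun h => ?_⟩
    have hl' : g y ∈ X.basicOpen ((t l).1 (ic z)) :=
      (c.mem_locus_iff (t l) hy0).1 (by rw [hloc]; exact hl)
    have h0 : ev ((ψ z (MvPolynomial.X l) : A₀ z) : B z) = 0 := h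
    rw [hψv, MvPolynomial.aeval_X] at h0
    exact (key _).2 hl' h0
  have := hav _ hmem
  rw [Ideal.mem_comap] at this
  rw [SetLike.mem_coe, c.mem_locus_iff σ hy0, hσ, ← key, ← hψv]
  exact this

end RLpsi8
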