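import Groth.Agent.Lib.RLpsi8.Locus
import Groth.Agent.Lib.RelTilde8.Graded

/-!
# When `r_{L,ψ}` is dominant; behaviour of the loci under composition and colimits
-/

set_option autoImplicit false
set_option backward.isDefEq.respectTransparency false
set_option maxHeartbeats 400000

universe u

open CategoryTheory CategoryTheory.Limits AlgebraicGeometry TopologicalSpace Opposite
open GrothLib.RelProjK (dg rs em mem_opensRange_em)
open GrothLib.RelCone8 (Pair gu Gu IsQ)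
open scoped HomogeneousIdeal

noncomputable section

namespace GrothLib.RLpsi8

section proj

variable {A σ : Type u} [CommRing A] [SetLike σ A] [AddSubgroupClass σ A] {𝒜 : ℕ → σ} [GradedRing 𝒜]

/-- The basic opens of homogeneous elements of positive degree form a basis. -/
theorem exists_pos_basicOpen_le {O : (Proj 𝒜).Opens} {y : Proj 𝒜} (hy : y ∈ O) :
    ∃ (n : ℕ) (s : A), 0 < n ∧ s ∈ 𝒜 n ∧ y ∈ Proj.basicOpen 𝒜 s ∧ Proj.basicOpen 𝒜 s ≤ O := by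
  classical
  obtain ⟨_, ⟨r, rfl⟩, hyr, hrO⟩ :=
    (ProjectiveSpectrum.isTopologicalBasis_basic_opens 𝒜).exists_subset_of_mem_open hy O.isOpen
  obtain ⟨i, hi⟩ := Opens.mem_iSup.mp ((Proj.basicOpen_eq_iSup_proj 𝒜 r).le hyr)
  obtain ⟨⟨⟨d, hd⟩, g, hg⟩, hyg⟩ :=
    Opens.mem_iSup.mp ((RelTilde8.iSup_basicOpen_pos (𝒜 := 𝒜)).ge (Opens.mem_top y))
  refine ⟨i + d, GradedRing.proj 𝒜 i r * g, Nat.add_pos_right i hd,
    SetLike.mul_mem_graded (SetLike.coe_mem (DirectSum.decompose 𝒜 r i)) hg, ?_, ?_⟩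
  · rw [Proj.basicOpen_mul]; exact ⟨hi, hyg⟩
  · rw [Proj.basicOpen_mul]
    exact fun z hz => hrO ((Proj.basicOpen_eq_iSup_proj 𝒜 r).ge (Opens.mem_iSup.mpr ⟨i, hz.1⟩))

theorem basicOpen_eq_bot_iff {n : ℕ} (hn : 0 < n) {s : A} (hs : s ∈ 𝒜 n) :
    Proj.basicOpen 𝒜 s = ⊥ ↔ IsNilpotent s := by
  constructor
  · intro h
    obtain ⟨N, hN⟩ := RelTilde8.pow_mem_of_forall_prime 𝒜 (Ideal.IsHomogeneous.bot 𝒜) hs hn fun p hp =>
      absurd (show (p : Proj 𝒜) ∈ Proj.basicOpen 𝒜 s from hp) (by rw [h]; exact id)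
    exact ⟨N, hN⟩
  · rintro ⟨N, hN⟩
    refine eq_bot_iff.mpr fun p hp => ?_
    exact hp (p.isPrime.mem_of_pow_mem N (by rw [hN]; exact Ideal.zero_mem _))

end proj

variable {Y X P PL : Scheme.{u}} {q : X ⟶ Y} {L : X.Modules} {𝒮 : RelProj.QCGrAlg Y} {𝒮L : RelProj.QCGrAlg X}
  {j : L ⟶ 𝒮L.toModule} (hL : PicF.IsInvertible L) (hLq : Coh.IsQCoh L) (hj : RelProj.IsGrSymAlg L 𝒮L j)
  (u : RelProj.QGrHom q 𝒮 𝒮L)
  {p : P ⟶ Y} {chart : ∀ (U : Y.Opens) (hU : IsAffineOpen U), (((p ⁻¹ᵁ U : P.Opens) : Scheme.{u}) ≅ Proj (𝒮.deg U hU))}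
  {pL : PL ⟶ X}
  {chartL : ∀ (U : X.Opens) (hU : IsAffineOpen U), (((pL ⁻¹ᵁ U : PL.Opens) : Scheme.{u}) ≅ Proj (𝒮L.deg U hU))}
  (hP : RelProj.IsRelProj 𝒮 p chart) (hPL : RelProj.IsRelProj 𝒮L pL chartL)
  {r : ((RelProj.domQ u pL chartL : PL.Opens) : Scheme.{u}) ⟶ P}
  (hr : RelProj.IsProjQMapOn u p chart pL chartL (RelProj.domQ u pL chartL) r)

include hL hLq hj hP hPL hr in
/-- Dominance, tested on any family of affine opens covering the base. -/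
theorem isDominant_iff {ι : Type*} (Uf : ι → Y.AffineZariskiSite) (hcov : ∀ y : Y, ∃ i, y ∈ (Uf i).1) :
    IsDominant r ↔ ∀ (i : ι) (n : ℕ), 0 < n → ∀ s ∈ dg 𝒮 (Uf i) n, XS u (Uf i) n s = ⊥ → IsNilpotent s := by
  haveI := isIso_relProj hLq hj hPL hL
  constructor
  · intro hdom i n hn s hs hbot
    rw [← basicOpen_eq_bot_iff hn hs]
    refine eq_bot_iff.mpr fun y hy => ?_
    obtain ⟨z, hz⟩ := hdom.denseRange.exists_mem_open (em p chart (Uf i) ''ᵁ Proj.basicOpen (dg 𝒮 (Uf i)) s).isOpen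
      ⟨_, y, hy, rfl⟩
    have := (mem_iff_mem_XS hL hLq hj u hP hPL hr (Uf i) hn hs z).mp hz
    rw [hbot] at this
    exact this
  · intro h
    refine ⟨dense_iff_inter_open.mpr fun O hO hne => ?_⟩
    obtain ⟨x, hx⟩ := hne
    obtain ⟨i, hi⟩ := hcov (p x)
    obtain ⟨y, rfl⟩ := (mem_opensRange_em (chart := chart) (Uf i)).mpr hi
    obtain ⟨n, s, hn, hs, hys, hsO⟩ := exists_pos_basicOpen_le (O := em p chart (Uf i) ⁻¹ᵁ ⟨O, hO⟩) (y := y) hx
    have hne : XS u (Uf i) n s ≠ ⊥ := fun hb => by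
      have h0 := (basicOpen_eq_bot_iff hn hs).mpr (h i n hn s hs hb)
      rw [h0] at hys
      exact hys
    obtain ⟨x', hx'⟩ := (Opens.ne_bot_iff_nonempty _).mp hne
    obtain ⟨z, rfl⟩ := pL.surjective x'
    have hz : z ∈ RelProj.domQ u pL chartL := preimage_XS_le hL hLq hj u hPL (Uf i) hn hs hx'
    obtain ⟨y', hy', e⟩ := (mem_iff_mem_XS hL hLq hj u hP hPL hr (Uf i) hn hs ⟨z, hz⟩).mpr hx'
    exact ⟨r ⟨z, hz⟩, e ▸ (show em p chart (Uf i) y' ∈ (⟨O, hO⟩ : P.Opens) from hsO hy'), ⟨⟨z, hz⟩, rfl⟩⟩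

include hL hLq hj in
/-- The locus is empty when `u s` is locally nilpotent. -/
theorem XS_eq_bot_iff (U : Y.AffineZariskiSite) {n : ℕ} {s : 𝒮.presheaf.obj (op U.1)} (hs : s ∈ dg 𝒮 U n) :
    XS u U n s = ⊥ ↔ ∀ x ∈ q ⁻¹ᵁ U.1, ∃ (V : X.Opens) (_ : IsAffineOpen V) (h : V ≤ q ⁻¹ᵁ U.1),
      x ∈ V ∧ IsNilpotent ((u.appLE U.1 V h).hom s) := by
  constructor
  · intro hb x hx
    obtain ⟨t, hxt, hle⟩ := exists_triv_le hL hx
    refine ⟨t.V.1, t.V.2, hle, hxt, ?_⟩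
    have hnil : IsNilpotent (psi hLq hj u U t hle s) :=
      (X.isNilpotent_iff_basicOpen_eq_bot_of_isCompact t.V.2.isCompact _).mpr (eq_bot_iff.mpr fun z hz => by
        have := (mem_XS_iff hL hLq hj u U t hle hs (X.basicOpen_le _ hz)).mpr hz
        rw [hb] at this
        exact this)
    rw [show (u.appLE U.1 t.V.1 hle).hom s = gu u (tp U t hle) s from rfl, gu_eq hLq hj u U t hle hs]
    exact (Commute.all _ _).isNilpotent_mul_right (hnil.map _)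
  · intro h
    refine eq_bot_iff.mpr fun x hx => ?_
    obtain ⟨V, hV, hle, hxV, hnil⟩ := h x (XS_le u U n s hx)
    obtain ⟨t, hxt, htV⟩ := exists_triv_le hL (x := x) (W := V) hxV
    have e : (u.appLE U.1 t.V.1 (htV.trans hle)).hom s = (𝒮L.presheaf.map (homOfLE htV).op).hom ((u.appLE U.1 V hle).hom s) := by
      rw [← CommRingCat.comp_apply, u.appLE_map]
    have h2 : IsNilpotent (psi hLq hj u U t (htV.trans hle) s) := by
      rw [psi_apply, e]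
      exact (hnil.map _).map _
    have h3 := (mem_XS_iff hL hLq hj u U t (htV.trans hle) hs hxt).mp hx
    exact (X.basicOpen_eq_bot_of_isNilpotent _ _ h2).le h3

include hL hLq hj in
/-- The locus of a power. -/
theorem XS_pow (U : Y.AffineZariskiSite) {n : ℕ} {s : 𝒮.presheaf.obj (op U.1)} (hs : s ∈ dg 𝒮 U n) {k : ℕ}
    (hk : 0 < k) : XS u U (k * n) (s ^ k) = XS u U n s := by
  have hsk : s ^ k ∈ dg 𝒮 U (k * n) := by simpa [smul_eq_mul] using SetLike.pow_mem_graded k hs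
  ext x
  by_cases hx : x ∈ q ⁻¹ᵁ U.1
  · obtain ⟨t, hxt, hle⟩ := exists_triv_le hL hx
    show x ∈ XS u U (k * n) (s ^ k) ↔ x ∈ XS u U n s
    rw [mem_XS_iff hL hLq hj u U t hle hsk hxt, mem_XS_iff hL hLq hj u U t hle hs hxt, map_pow,
      X.basicOpen_pow _ hk]
  · exact iff_of_false (fun h => hx (XS_le u U _ _ h)) (fun h => hx (XS_le u U _ _ h))

section comp

variable {𝒯 : RelProj.QCGrAlg Y} (v : 𝒯.toQCAlg ⟶ 𝒮.toQCAlg) (u' : RelProj.QGrHom q 𝒯 𝒮L)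
  (hu' : ∀ U : Y.Opens, u'.app U = v.hom.app (op U) ≫ u.app U)

include hu' in
theorem appLE_comp (U : Y.Opens) (V : X.Opens) (h : V ≤ q ⁻¹ᵁ U) (x : 𝒯.presheaf.obj (op U)) :
    (u'.appLE U V h).hom x = (u.appLE U V h).hom ((v.hom.app (op U)).hom x) := by
  show (u'.app U ≫ _).hom x = _
  rw [hu' U]
  rfl

include hu' in
theorem XS_comp (U : Y.AffineZariskiSite) (n : ℕ) (x : 𝒯.presheaf.obj (op U.1)) :
    XS u' U n x = XS u U n ((v.hom.app (op U.1)).hom x) := by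
  refine le_antisymm (iSup_le fun V => le_iSup_of_le ⟨V.1, V.2.choose, ?_⟩ le_rfl)
    (iSup_le fun V => le_iSup_of_le ⟨V.1, V.2.choose, ?_⟩ le_rfl)
  · rw [← appLE_comp u v u' hu']; exact V.2.choose_spec
  · rw [appLE_comp u v u' hu']; exact V.2.choose_spec

variable {P' : Scheme.{u}} {p' : P' ⟶ Y}
  {chart' : ∀ (U : Y.Opens) (hU : IsAffineOpen U), (((p' ⁻¹ᵁ U : P'.Opens) : Scheme.{u}) ≅ Proj (𝒯.deg U hU))}
  (hP' : RelProj.IsRelProj 𝒯 p' chart')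
  {r' : ((RelProj.domQ u' pL chartL : PL.Opens) : Scheme.{u}) ⟶ P'}
  (hr' : RelProj.IsProjQMapOn u' p' chart' pL chartL (RelProj.domQ u' pL chartL) r')

include hL hLq hj hP hPL hr hu' hP' hr' in
theorem isDominant_of_comp
    (hTN : ∃ n : ℕ, ∀ k, n ≤ k → ∀ (U : Y.Opens) (hU : IsAffineOpen U), ∀ y ∈ 𝒮.deg U hU k,
      ∃ x ∈ 𝒯.deg U hU k, (v.hom.app (op U)).hom x = y) (hdom : IsDominant r') : IsDominant r := by
  obtain ⟨n₀, hn₀⟩ := hTN
  refine (isDominant_iff hL hLq hj u hP hPL hr id fun y => ?_).mpr fun U n hn s hs hb => ?_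
  · obtain ⟨U, hU, hy, -⟩ := exists_isAffineOpen_mem_and_subset (Opens.mem_top y)
    exact ⟨⟨U, hU⟩, hy⟩
  have hsk : s ^ (n₀ + 1) ∈ dg 𝒮 U ((n₀ + 1) * n) := by simpa [smul_eq_mul] using SetLike.pow_mem_graded (n₀ + 1) hs
  obtain ⟨x, hx, hxs⟩ := hn₀ ((n₀ + 1) * n) ((Nat.le_succ n₀).trans (Nat.le_mul_of_pos_right _ hn)) U.1 U.2 _ hsk
  have hbx : XS u' U ((n₀ + 1) * n) x = ⊥ := by
    rw [XS_comp u v u' hu', hxs, XS_pow hL hLq hj u U hs (Nat.succ_pos n₀)]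
    exact hb
  have hnil := ((isDominant_iff hL hLq hj u' hP' hPL hr' id fun y => by
    obtain ⟨U, hU, hy, -⟩ := exists_isAffineOpen_mem_and_subset (Opens.mem_top y)
    exact ⟨⟨U, hU⟩, hy⟩).mp hdom) U _ (Nat.mul_pos (Nat.succ_pos n₀) hn) x hx hbx
  have := hnil.map (v.hom.app (op U.1)).hom
  exact ((congrArg IsNilpotent hxs).mp this).of_pow

include hL hLq hj hP hPL hr hu' hP' hr' in
theorem comp_isDominant (hv : RelProj.IsGradedHom v)
    (hTN : ∃ n : ℕ, ∀ k, n ≤ k → ∀ (U : Y.Opens) (hU : IsAffineOpen U), ∀ x ∈ 𝒯.deg U hU k,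
      (v.hom.app (op U)).hom x = 0 → x = 0) (hdom : IsDominant r) : IsDominant r' := by
  obtain ⟨n₀, hn₀⟩ := hTN
  have hcov : ∀ y : Y, ∃ U : Y.AffineZariskiSite, y ∈ U.1 := fun y => by
    obtain ⟨U, hU, hy, -⟩ := exists_isAffineOpen_mem_and_subset (Opens.mem_top y)
    exact ⟨⟨U, hU⟩, hy⟩
  refine (isDominant_iff hL hLq hj u' hP' hPL hr' id hcov).mpr fun U n hn x hx hb => ?_
  rw [XS_comp u v u' hu'] at hb
  obtain ⟨k, hk⟩ := (isDominant_iff hL hLq hj u hP hPL hr id hcov).mp hdom U n hn _ (hv U.1 U.2 n x hx) hb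
  refine ⟨k + n₀, hn₀ ((k + n₀) * n) ((Nat.le_add_left n₀ k).trans (Nat.le_mul_of_pos_right _ hn)) U.1 U.2 _
    (by simpa [smul_eq_mul] using SetLike.pow_mem_graded (k + n₀) hx) ?_⟩
  rw [map_pow, pow_add, hk, zero_mul]

end comp

end GrothLib.RLpsi8
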