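import Groth.Agent.Lib.RLpsi8.Theta
import Groth.Agent.Lib.RLpsi8.Dominant
import Mathlib.AlgebraicGeometry.Morphisms.Immersion
import Mathlib.AlgebraicGeometry.Morphisms.IsIso

/-!
# When `r_{L,ψ}` is an immersion
-/

set_option autoImplicit false
set_option backward.isDefEq.respectTransparency false
set_option maxHeartbeats 400000

universe u

open CategoryTheory CategoryTheory.Limits AlgebraicGeometry TopologicalSpace Opposite HomogeneousLocalization
open GrothLib.RelProjK (dg rs em mem_opensRange_em)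
open GrothLib.RelCone8 (Pair gu Gu IsQ)
open scoped HomogeneousIdeal

noncomputable section

namespace GrothLib.RLpsi8

section general

variable {A B : Scheme.{u}} (f : A ⟶ B)

theorem preimage_ι_isIso {W : B.Opens} (hW : f ⁻¹ᵁ W = ⊤) : IsIso (f ⁻¹ᵁ W).ι := by
  rw [hW, ← Scheme.topIso_hom]; infer_instance

theorem image_preimage_ι {W O : B.Opens} (h : O ≤ W) : W.ι ''ᵁ (W.ι ⁻¹ᵁ O) = O := by
  rw [Scheme.Hom.image_preimage_eq_opensRange_inf, Scheme.Opens.opensRange_ι]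
  exact inf_eq_right.mpr h

/-- Gluing a property over opens whose preimages cover the source. -/
theorem property_of_cover (Q : MorphismProperty Scheme.{u}) [IsZariskiLocalAtTarget Q] {ι : Type*} (O : ι → B.Opens)
    (hcov : ⨆ i, f ⁻¹ᵁ O i = ⊤) (h : ∀ i, Q (f ∣_ O i)) :
    f ⁻¹ᵁ (⨆ i, O i) = ⊤ ∧ Q (f ∣_ (⨆ i, O i)) := by
  let W : B.Opens := ⨆ i, O i
  refine ⟨by rw [Scheme.Hom.preimage_iSup, hcov], ?_⟩
  refine IsZariskiLocalAtTarget.of_iSup_eq_top (P := Q) (fun i => W.ι ⁻¹ᵁ O i) ?_ fun i => ?_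
  · rw [← Scheme.Hom.preimage_iSup]
    exact W.ι_preimage_self
  · refine (MorphismProperty.arrow_mk_iso_iff Q (morphismRestrictRestrict f W (W.ι ⁻¹ᵁ O i))).mpr ?_
    rw [image_preimage_ι (le_iSup O i)]
    exact h i

theorem isImmersion_of_restrict {W : B.Opens} (hW : f ⁻¹ᵁ W = ⊤) (h : IsClosedImmersion (f ∣_ W)) : IsImmersion f := by
  have h1 : IsImmersion ((f ∣_ W) ≫ W.ι) := inferInstance
  rw [morphismRestrict_ι] at h1
  haveI := preimage_ι_isIso f hW
  exact (MorphismProperty.cancel_left_of_respectsIso @IsImmersion (f ⁻¹ᵁ W).ι _).mp h1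

theorem isOpenImmersion_of_restrict {W : B.Opens} (hW : f ⁻¹ᵁ W = ⊤) (h : IsOpenImmersion (f ∣_ W)) :
    IsOpenImmersion f := by
  have h1 : IsOpenImmersion ((f ∣_ W) ≫ W.ι) := inferInstance
  rw [morphismRestrict_ι] at h1
  haveI := preimage_ι_isIso f hW
  exact (MorphismProperty.cancel_left_of_respectsIso @IsOpenImmersion (f ⁻¹ᵁ W).ι _).mp h1

/-- An immersion is closed over every open inside its coborder range. -/
theorem isClosedImmersion_restrict [IsImmersion f] {O : B.Opens} (hO : O ≤ f.coborderRange) :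
    IsClosedImmersion (f ∣_ O) := by
  have hW : f ⁻¹ᵁ f.coborderRange = ⊤ := top_le_iff.mp fun x _ => subset_coborder ⟨x, rfl⟩
  haveI := preimage_ι_isIso f hW
  have h1 : f ∣_ f.coborderRange = (f ⁻¹ᵁ f.coborderRange).ι ≫ f.liftCoborder := by
    rw [← cancel_mono f.coborderRange.ι, morphismRestrict_ι, Category.assoc, f.liftCoborder_ι]
  haveI h2 : IsClosedImmersion (f ∣_ f.coborderRange) := h1 ▸ inferInstance
  have h3 := IsZariskiLocalAtTarget.restrict (P := @IsClosedImmersion) h2 (f.coborderRange.ι ⁻¹ᵁ O)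
  rw [MorphismProperty.arrow_mk_iso_iff @IsClosedImmersion
    (morphismRestrictRestrict f f.coborderRange (f.coborderRange.ι ⁻¹ᵁ O)), image_preimage_ι hO] at h3
  exact h3

/-- An open immersion is an isomorphism over every open inside its range. -/
theorem isIso_restrict [IsOpenImmersion f] {O : B.Opens} (hO : O ≤ f.opensRange) : IsIso (f ∣_ O) := by
  refine isIso_of_isOpenImmersion_of_opensRange_eq_top _ (top_le_iff.mp fun y _ => ?_)
  obtain ⟨x, hx⟩ := hO y.2
  exact ⟨⟨x, show f x ∈ O from hx ▸ y.2⟩, O.ι.isOpenEmbedding.injective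
    ((ConcreteCategory.congr_hom (congrArg (fun k => k.base) (morphismRestrict_ι f O)) _).trans hx)⟩

end general

variable {Y X P PL : Scheme.{u}} {q : X ⟶ Y} {L : X.Modules} {𝒮 : RelProj.QCGrAlg Y} {𝒮L : RelProj.QCGrAlg X}
  {j : L ⟶ 𝒮L.toModule} (hL : PicF.IsInvertible L) (hLq : Coh.IsQCoh L) (hj : RelProj.IsGrSymAlg L 𝒮L j)
  (u : RelProj.QGrHom q 𝒮 𝒮L)
  {p : P ⟶ Y} {chart : ∀ (U : Y.Opens) (hU : IsAffineOpen U), (((p ⁻¹ᵁ U : P.Opens) : Scheme.{u}) ≅ Proj (𝒮.deg U hU))}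
  {pL : PL ⟶ X}
  {chartL : ∀ (U : X.Opens) (hU : IsAffineOpen U), (((pL ⁻¹ᵁ U : PL.Opens) : Scheme.{u}) ≅ Proj (𝒮L.deg U hU))}
  (hP : RelProj.IsRelProj 𝒮 p chart) (hPL : RelProj.IsRelProj 𝒮L pL chartL)
  (htop : RelProj.domQ u pL chartL = ⊤) {g : X ⟶ P}
  (hg : RelProj.IsProjQMapOn u p chart pL chartL (RelProj.domQ u pL chartL) ((RelProj.domQ u pL chartL).ι ≫ pL ≫ g))

/-- The locus is affine and every function on it is a quotient `u a / (u s) ^ m`. -/
def IsGood (U : Y.AffineZariskiSite) (n : ℕ) (s : 𝒮.presheaf.obj (op U.1)) : Prop :=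
  IsAffineOpen (XS u U n s) ∧ ∀ b : Γ(X, XS u U n s), ∃ (m : ℕ) (_ : 0 < m) (a : 𝒮.presheaf.obj (op U.1))
    (_ : a ∈ 𝒮.deg U.1 U.2 (m * n)), (𝒮L.str.app (op (XS u U n s))).hom b *
      (u.appLE U.1 (XS u U n s) (XS_le u U n s)).hom s ^ m = (u.appLE U.1 (XS u U n s) (XS_le u U n s)).hom a

/-- Numerators vanishing on the locus are killed by a power of `s`. -/
def IsInj (U : Y.AffineZariskiSite) (n : ℕ) (s : 𝒮.presheaf.obj (op U.1)) : Prop :=
  ∀ m : ℕ, 0 < m → ∀ a ∈ 𝒮.deg U.1 U.2 (m * n), (u.appLE U.1 (XS u U n s) (XS_le u U n s)).hom a = 0 →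
    ∃ k : ℕ, 0 < k ∧ s ^ k * a = 0

section
variable {U : Y.AffineZariskiSite} {n : ℕ} (hn : 0 < n) {s : 𝒮.presheaf.obj (op U.1)} (hs : s ∈ dg 𝒮 U n)

include hn in
theorem away_mk_eq_succ {m : ℕ} {a : 𝒮.presheaf.obj (op U.1)} (ha : a ∈ dg 𝒮 U (m • n))
    (ha' : a * s ∈ dg 𝒮 U ((m + 1) • n)) :
    Away.mk (dg 𝒮 U) hs (m + 1) (a * s) ha' = Away.mk (dg 𝒮 U) hs m a ha := by
  apply val_injective
  simp only [Away.val_mk, Localization.mk_eq_mk_iff, Localization.r_iff_exists]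
  exact ⟨1, by simp [pow_succ]; ring⟩

theorem away_mk_eq_zero_iff {m : ℕ} {a : 𝒮.presheaf.obj (op U.1)} (ha : a ∈ dg 𝒮 U (m • n)) :
    Away.mk (dg 𝒮 U) hs m a ha = 0 ↔ ∃ k : ℕ, s ^ k * a = 0 := by
  rw [← (HomogeneousLocalization.val_injective _).eq_iff, HomogeneousLocalization.val_zero, Away.val_mk, Localization.mk_eq_mk',
    IsLocalization.mk'_eq_zero_iff]
  exact ⟨fun ⟨⟨_, k, rfl⟩, h⟩ => ⟨k, h⟩, fun ⟨k, h⟩ => ⟨⟨_, k, rfl⟩, h⟩⟩

include hL hLq hj hg hPL in
theorem good_iff_surjective {hW : IsAffineOpen (XS u U n s)} {θ : Away (dg 𝒮 U) s →+* Γ(X, XS u U n s)}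
    (hθ : IsTheta (p := p) (chart := chart) g U hn hs hW θ) : IsGood u U n s ↔ Function.Surjective θ := by
  refine ⟨fun ⟨_, h⟩ b => ?_, fun h => ⟨hW, fun b => ?_⟩⟩
  · obtain ⟨m, hm, a, ha, e⟩ := h b
    exact ⟨_, (isTheta_mk_iff hL hLq hj u hg hθ le_rfl (XS_le u U n s) ha b hPL).mp e⟩
  · obtain ⟨z, rfl⟩ := h b
    obtain ⟨m, a, ha, rfl⟩ := Away.mk_surjective (dg 𝒮 U) hs z
    have ha' : a * s ∈ dg 𝒮 U ((m + 1) • n) := by
      rw [succ_nsmul]; exact SetLike.mul_mem_graded ha hs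
    refine ⟨m + 1, m.succ_pos, a * s, by simpa using ha', ?_⟩
    refine (isTheta_mk_iff hL hLq hj u hg hθ le_rfl (XS_le u U n s) (by simpa using ha') _ hPL).mpr ?_
    rw [away_mk_eq_succ hn hs ha ha']

include hL hLq hj hg hPL in
theorem inj_iff_injective {hW : IsAffineOpen (XS u U n s)} {θ : Away (dg 𝒮 U) s →+* Γ(X, XS u U n s)}
    (hθ : IsTheta (p := p) (chart := chart) g U hn hs hW θ) : IsInj u U n s ↔ Function.Injective θ := by
  have key : ∀ (m : ℕ) (a : 𝒮.presheaf.obj (op U.1)) (ha : a ∈ dg 𝒮 U (m • n)),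
      (u.appLE U.1 (XS u U n s) (XS_le u U n s)).hom a = 0 ↔ θ (Away.mk (dg 𝒮 U) hs m a ha) = 0 := by
    intro m a ha
    refine Iff.trans ?_ (isTheta_mk_iff hL hLq hj u hg hθ le_rfl (XS_le u U n s) (m := m) (by simpa using ha) 0 hPL)
    rw [map_zero, zero_mul, eq_comm]
  rw [injective_iff_map_eq_zero]
  refine ⟨fun h z hz => ?_, fun h m hm a ha e => ?_⟩
  · obtain ⟨m, a, ha, rfl⟩ := Away.mk_surjective (dg 𝒮 U) hs z
    have ha' : a * s ∈ dg 𝒮 U ((m + 1) • n) := by
      rw [succ_nsmul]; exact SetLike.mul_mem_graded ha hs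
    rw [← away_mk_eq_succ hn hs ha ha'] at hz ⊢
    obtain ⟨k, _, hk⟩ := h (m + 1) m.succ_pos _ (by simpa using ha') ((key (m + 1) _ ha').mpr hz)
    exact (away_mk_eq_zero_iff hs ha').mpr ⟨k, hk⟩
  · obtain ⟨k, hk⟩ := (away_mk_eq_zero_iff hs (by simpa using ha)).mp (h _ ((key m a (by simpa using ha)).mp e))
    exact ⟨k + 1, k.succ_pos, by rw [pow_succ', mul_assoc, hk, mul_zero]⟩

include hL hLq hj hP hPL hg htop in
/-- Comparison of the restriction of `g` over `D₊(s)` with `Spec θ`. -/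
theorem exists_theta_restrict (hW : IsAffineOpen (XS u U n s)) :
    ∃ θ, IsTheta (p := p) (chart := chart) g U hn hs hW θ ∧
      ∀ (Q : MorphismProperty Scheme.{u}) [Q.RespectsIso],
        Q (g ∣_ (sEmb p chart U hn hs).opensRange) ↔ Q (Spec.map (CommRingCat.ofHom θ)) := by
  obtain ⟨θ, hθ⟩ := exists_isTheta hL hLq hj u hP hPL hg htop U hn hs hW le_rfl
  refine ⟨θ, hθ, fun Q _ => ?_⟩
  let e1 := hW.isoSpec.symm ≪≫ X.isoOfEq (preimage_sEmb hL hLq hj u hP hPL hg htop U hn hs).symm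
  have e : Spec.map (CommRingCat.ofHom θ) =
      e1.hom ≫ g ∣_ (sEmb p chart U hn hs).opensRange ≫ (sEmb p chart U hn hs).isoOpensRange.inv := by
    rw [← cancel_mono (sEmb p chart U hn hs), ← hθ]
    simp only [e1, Iso.trans_hom, Iso.symm_hom, Category.assoc, Scheme.Hom.isoOpensRange_inv_comp,
      morphismRestrict_ι, Scheme.isoOfEq_hom_ι_assoc]
    rw [← Category.assoc, IsAffineOpen.isoSpec_inv_ι]
  rw [e, Q.cancel_left_of_respectsIso, Q.cancel_right_of_respectsIso]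

include hL hLq hj hP hPL hg htop in
theorem good_of_restrict (h : IsClosedImmersion (g ∣_ (sEmb p chart U hn hs).opensRange)) : IsGood u U n s := by
  have hD : IsAffineOpen (sEmb p chart U hn hs).opensRange := isAffineOpen_opensRange _
  have hW : IsAffineOpen (XS u U n s) := by
    rw [← preimage_sEmb hL hLq hj u hP hPL hg htop U hn hs]
    haveI : IsAffine _ := hD
    exact (IsClosedImmersion.isAffine_surjective_of_isAffine (g ∣_ (sEmb p chart U hn hs).opensRange)).1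
  obtain ⟨θ, hθ, hQ⟩ := exists_theta_restrict hL hLq hj u hP hPL htop hg hn hs hW
  haveI := (hQ @IsClosedImmersion).mp h
  refine (good_iff_surjective hL hLq hj u hPL hg hn hs hθ).mpr ?_
  have h2 := (IsClosedImmersion.isAffine_surjective_of_isAffine (Spec.map (CommRingCat.ofHom θ))).2
  intro b
  obtain ⟨z, hz⟩ := h2 ((Scheme.ΓSpecIso _).inv.hom b)
  refine ⟨(Scheme.ΓSpecIso _).hom.hom z, ?_⟩
  have h3 := ConcreteCategory.congr_hom (Scheme.ΓSpecIso_naturality (CommRingCat.ofHom θ)) z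
  simp only [CommRingCat.comp_apply] at h3
  refine h3.symm.trans ?_
  rw [hz, ← CommRingCat.comp_apply, Iso.inv_hom_id, CommRingCat.id_apply]

include hL hLq hj hP hPL hg htop in
theorem good_inj_of_restrict (h : IsIso (g ∣_ (sEmb p chart U hn hs).opensRange)) :
    IsGood u U n s ∧ IsInj u U n s := by
  have hgood := good_of_restrict hL hLq hj u hP hPL htop hg hn hs inferInstance
  obtain ⟨θ, hθ, hQ⟩ := exists_theta_restrict hL hLq hj u hP hPL htop hg hn hs hgood.1
  haveI : IsIso (Spec.map (CommRingCat.ofHom θ)) :=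
    (hQ (MorphismProperty.isomorphisms Scheme.{u})).mp h
  haveI : IsIso (CommRingCat.ofHom θ) := (ConcreteCategory.isIso_iff_bijective _).mpr (isIso_SpecMap_iff.mp this)
  exact ⟨hgood, (inj_iff_injective hL hLq hj u hPL hg hn hs hθ).mpr
    (ConcreteCategory.bijective_of_isIso (CommRingCat.ofHom θ)).1⟩

include hL hLq hj hP hPL hg htop in
theorem isClosedImmersion_restrict_of_good (h : IsGood u U n s) :
    IsClosedImmersion (g ∣_ (sEmb p chart U hn hs).opensRange) := by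
  obtain ⟨θ, hθ, hQ⟩ := exists_theta_restrict hL hLq hj u hP hPL htop hg hn hs h.1
  exact (hQ @IsClosedImmersion).mpr (IsClosedImmersion.spec_of_surjective _
    ((good_iff_surjective hL hLq hj u hPL hg hn hs hθ).mp h))

include hL hLq hj hP hPL hg htop in
theorem isIso_restrict_of_good (h : IsGood u U n s) (h' : IsInj u U n s) :
    IsIso (g ∣_ (sEmb p chart U hn hs).opensRange) := by
  obtain ⟨θ, hθ, hQ⟩ := exists_theta_restrict hL hLq hj u hP hPL htop hg hn hs h.1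
  haveI : IsIso (CommRingCat.ofHom θ) := (ConcreteCategory.isIso_iff_bijective _).mpr
    ⟨(inj_iff_injective hL hLq hj u hPL hg hn hs hθ).mp h', (good_iff_surjective hL hLq hj u hPL hg hn hs hθ).mp h⟩
  exact (hQ (MorphismProperty.isomorphisms Scheme.{u})).mpr (MorphismProperty.isomorphisms.infer_property _)

end

/-- A piece of positive degree. -/
structure Piece (𝒮 : RelProj.QCGrAlg Y) where
  U : Y.AffineZariskiSite
  n : ℕ
  hn : 0 < n
  s : 𝒮.presheaf.obj (op U.1)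
  hs : s ∈ dg 𝒮 U n

/-- The locus of a piece. -/
abbrev Piece.locus (c : Piece 𝒮) : X.Opens := XS u c.U c.n c.s

variable (p chart) in
/-- The basic open of a piece. -/
abbrev Piece.dPlus (c : Piece 𝒮) : P.Opens := (sEmb p chart c.U c.hn c.hs).opensRange

include hL hLq hj hP hPL hg htop in
theorem base_apply (x : X) : p (g x) = q x := by
  haveI := isIso_relProj hLq hj hPL hL
  obtain ⟨z, rfl⟩ := pL.surjective x
  exact r_base u hP hPL hg ⟨z, by rw [htop]; trivial⟩

include hL hLq hj hP hPL hg htop in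
/-- Every point lies in pieces inside a given open. -/
theorem exists_piece_le {O : P.Opens} {x : X} (hx : g x ∈ O) (U : Y.AffineZariskiSite) (hU : q x ∈ U.1) :
    ∃ c : Piece 𝒮, c.U = U ∧ x ∈ c.locus u ∧ c.dPlus p chart ≤ O := by
  obtain ⟨y, hy⟩ := (mem_opensRange_em (chart := chart) U).mpr
    (show p (g x) ∈ U.1 by rw [base_apply hL hLq hj u hP hPL htop hg x]; exact hU)
  obtain ⟨n, s, hn, hs, hys, hsO⟩ :=
    exists_pos_basicOpen_le (O := em p chart U ⁻¹ᵁ O) (y := y) (show em p chart U y ∈ O from hy ▸ hx)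
  refine ⟨⟨U, n, hn, s, hs⟩, rfl, ?_, ?_⟩
  · rw [Piece.locus, ← preimage_sEmb hL hLq hj u hP hPL hg htop U hn hs, opensRange_sEmb]
    exact ⟨y, hys, hy⟩
  · rw [Piece.dPlus, opensRange_sEmb]
    rintro _ ⟨w, hw, rfl⟩
    exact hsO hw

include hL hLq hj hP hPL hg htop in
theorem iSup_preimage_eq_top {ι : Type*} (c : ι → Piece 𝒮) (hcov : ⨆ i, (c i).locus u = ⊤) :
    ⨆ i, g ⁻¹ᵁ (c i).dPlus p chart = ⊤ :=
  (iSup_congr fun i => preimage_sEmb hL hLq hj u hP hPL hg htop (c i).U (c i).hn (c i).hs).trans hcov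

include hL hLq hj hP hPL hg htop in
theorem isImmersion_of_good {ι : Type*} (c : ι → Piece 𝒮) (hcov : ⨆ i, (c i).locus u = ⊤)
    (h : ∀ i, IsGood u (c i).U (c i).n (c i).s) : IsImmersion g := by
  obtain ⟨h1, h2⟩ := property_of_cover g @IsClosedImmersion (fun i => (c i).dPlus p chart)
    (iSup_preimage_eq_top hL hLq hj u hP hPL htop hg c hcov)
    fun i => isClosedImmersion_restrict_of_good hL hLq hj u hP hPL htop hg (c i).hn (c i).hs (h i)
  exact isImmersion_of_restrict g h1 h2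

include hL hLq hj hP hPL hg htop in
theorem isOpenImmersion_of_good {ι : Type*} (c : ι → Piece 𝒮) (hcov : ⨆ i, (c i).locus u = ⊤)
    (h : ∀ i, IsGood u (c i).U (c i).n (c i).s ∧ IsInj u (c i).U (c i).n (c i).s) : IsOpenImmersion g := by
  obtain ⟨h1, h2⟩ := property_of_cover g @IsOpenImmersion (fun i => (c i).dPlus p chart)
    (iSup_preimage_eq_top hL hLq hj u hP hPL htop hg c hcov)
    fun i => haveI := isIso_restrict_of_good hL hLq hj u hP hPL htop hg (c i).hn (c i).hs (h i).1 (h i).2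
      inferInstance
  exact isOpenImmersion_of_restrict g h1 h2

include hL hLq hj hP hPL hg htop in
theorem isClosedImmersion_of_good {ι : Type*} (c : ι → Piece 𝒮) (hcov : ⨆ i, (c i).dPlus p chart = ⊤)
    (h : ∀ i, IsGood u (c i).U (c i).n (c i).s) : IsClosedImmersion g :=
  IsZariskiLocalAtTarget.of_iSup_eq_top (P := @IsClosedImmersion) _ hcov
    fun i => isClosedImmersion_restrict_of_good hL hLq hj u hP hPL htop hg (c i).hn (c i).hs (h i)

include hL hLq hj hP hPL hg htop in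
theorem exists_good [IsImmersion g] (x : X) (U : Y.AffineZariskiSite) (hU : q x ∈ U.1) :
    ∃ c : Piece 𝒮, c.U = U ∧ x ∈ c.locus u ∧ IsGood u c.U c.n c.s := by
  obtain ⟨c, e, hx, hle⟩ := exists_piece_le hL hLq hj u hP hPL htop hg (O := g.coborderRange)
    (subset_coborder ⟨x, rfl⟩) U hU
  exact ⟨c, e, hx, good_of_restrict hL hLq hj u hP hPL htop hg c.hn c.hs (isClosedImmersion_restrict g hle)⟩

include hL hLq hj hP hPL hg htop in
theorem exists_good_inj [IsOpenImmersion g] (x : X) (U : Y.AffineZariskiSite) (hU : q x ∈ U.1) :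
    ∃ c : Piece 𝒮, c.U = U ∧ x ∈ c.locus u ∧ IsGood u c.U c.n c.s ∧ IsInj u c.U c.n c.s := by
  obtain ⟨c, e, hx, hle⟩ := exists_piece_le hL hLq hj u hP hPL htop hg (O := g.opensRange) ⟨x, rfl⟩ U hU
  exact ⟨c, e, hx, good_inj_of_restrict hL hLq hj u hP hPL htop hg c.hn c.hs (isIso_restrict g hle)⟩

include hL hLq hj hP hPL hg htop in
theorem good_of_isClosedImmersion [IsClosedImmersion g] (c : Piece 𝒮) : IsGood u c.U c.n c.s :=
  good_of_restrict hL hLq hj u hP hPL htop hg c.hn c.hs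
    (IsZariskiLocalAtTarget.restrict (P := @IsClosedImmersion) inferInstance _)

variable {r : ((RelProj.domQ u pL chartL : PL.Opens) : Scheme.{u}) ⟶ P}
  (hr : RelProj.IsProjQMapOn u p chart pL chartL (RelProj.domQ u pL chartL) r)

include hL hLq hj hPL in
theorem domQ_eq_top_of_cover {ι : Type*} (c : ι → Piece 𝒮) (hcov : ⨆ i, (c i).locus u = ⊤) :
    RelProj.domQ u pL chartL = ⊤ := by
  rw [← top_le_iff, ← Scheme.Hom.preimage_top pL, ← hcov, Scheme.Hom.preimage_iSup]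
  exact iSup_le fun i => preimage_XS_le hL hLq hj u hPL (c i).U (c i).hn (c i).hs

include hL hLq hj hPL hr htop in
/-- On an everywhere defined `r_{L,ψ}`, the morphism from `X`. -/
theorem exists_g : ∃ g : X ⟶ P,
    RelProj.IsProjQMapOn u p chart pL chartL (RelProj.domQ u pL chartL) ((RelProj.domQ u pL chartL).ι ≫ pL ≫ g) ∧
      ∀ (Q : MorphismProperty Scheme.{u}) [Q.RespectsIso], Q r ↔ Q g := by
  haveI := isIso_relProj hLq hj hPL hL
  haveI : IsIso (RelProj.domQ u pL chartL).ι := by rw [htop, ← Scheme.topIso_hom]; infer_instance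
  have e : (RelProj.domQ u pL chartL).ι ≫ pL ≫ inv pL ≫ inv (RelProj.domQ u pL chartL).ι ≫ r = r := by simp
  refine ⟨inv pL ≫ inv (RelProj.domQ u pL chartL).ι ≫ r, e.symm ▸ hr, fun Q _ => ?_⟩
  rw [Q.cancel_left_of_respectsIso, Q.cancel_left_of_respectsIso]

end GrothLib.RLpsi8
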