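import Groth.Agent.Lib.RLpsi8.SectDict
import Groth.Agent.Lib.RLpsi8.Immersion
import Groth.Agent.Lib.Ample.CocPullback
import Groth.Prelude.Def_LCI2

/-!
# Loci of homogeneous sections and relative ampleness
-/

set_option autoImplicit false
set_option backward.isDefEq.respectTransparency false
set_option maxHeartbeats 400000

universe u

open CategoryTheory CategoryTheory.Limits AlgebraicGeometry TopologicalSpace Opposite
open GrothLib.RelProjK (dg rs em)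
open GrothLib.RelCone8 (Pair gu)
open GrothLib.InvExt (IsGen mres)
open GrothLib.Ample (res res_res res_self Cocycle)

noncomputable section

namespace GrothLib.RLpsi8

variable {X : Scheme.{u}} {L : X.Modules} {c : Cocycle X}

/-- The locus of a family on an open, read on the open subscheme. -/
theorem mem_image_locus_iff {N : ℕ} (W : X.Opens) (β : c.sect N (W.ι ''ᵁ ⊤)) {y : X} (hy : y ∈ W) {i : c.ι}
    (hi : y ∈ c.D i) :
    y ∈ W.ι ''ᵁ (c.comap W.ι).locus (c.pullSect W.ι (Ample.LineData.le_preimage_image W.ι ⊤) β) ↔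
      y ∈ X.basicOpen (β.1 i) := by
  constructor
  · rintro ⟨z, hz, rfl⟩
    have hzi : z ∈ (c.comap W.ι).D i := hi
    have := ((c.comap W.ι).mem_locus_iff _ hzi).mp hz
    erw [Scheme.basicOpen_appLE] at this
    exact this.2
  · intro hyb
    refine ⟨⟨y, hy⟩, ?_, rfl⟩
    have hzi : (⟨y, hy⟩ : W) ∈ (c.comap W.ι).D i := hi
    refine ((c.comap W.ι).mem_locus_iff _ hzi).mpr ?_
    erw [Scheme.basicOpen_appLE]
    exact ⟨⟨trivial, hzi⟩, hyb⟩

variable {Y P PL : Scheme.{u}} {q : X ⟶ Y} {𝒮 : RelProj.QCGrAlg Y} {𝒮L : RelProj.QCGrAlg X}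
  {j : L ⟶ 𝒮L.toModule} (hL : PicF.IsInvertible L) (hLq : Coh.IsQCoh L) (hj : RelProj.IsGrSymAlg L 𝒮L j)
  (u : RelProj.QGrHom q 𝒮 𝒮L) (φ : L ≅ c.twist 1)

include hLq hj hL in
/-- The locus of `s` over `U` is the locus of the associated family. -/
theorem XS_eq_image_locus (U : Y.AffineZariskiSite) {N : ℕ} (hle : (q ⁻¹ᵁ U.1).ι ''ᵁ ⊤ ≤ q ⁻¹ᵁ U.1)
    {s : 𝒮.presheaf.obj (op U.1)} (hs : s ∈ dg 𝒮 U N) {β : c.sect N ((q ⁻¹ᵁ U.1).ι ''ᵁ ⊤)}
    (hr : Rel j φ ((u.appLE U.1 ((q ⁻¹ᵁ U.1).ι ''ᵁ ⊤) hle).hom s) β) :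
    (q ⁻¹ᵁ U.1).ι ''ᵁ (c.comap (q ⁻¹ᵁ U.1).ι).locus
        (c.pullSect (q ⁻¹ᵁ U.1).ι (Ample.LineData.le_preimage_image _ ⊤) β) = XS u U N s := by
  ext y
  by_cases hy : y ∈ q ⁻¹ᵁ U.1
  · obtain ⟨i, hi⟩ := c.exists_mem y
    refine (mem_image_locus_iff _ β hy hi).trans ?_
    exact (mem_XS_iff_of_rel φ hLq hj hL u U hle hs hr
      (show y ∈ (q ⁻¹ᵁ U.1).ι ''ᵁ ⊤ by rw [Scheme.Opens.ι_image_top]; exact hy) hi).symm
  · refine iff_of_false (fun h => hy ?_) (fun h => hy (XS_le u U N s h))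
    obtain ⟨z, -, rfl⟩ := h
    exact z.2

variable {p : P ⟶ Y} {chart : ∀ (U : Y.Opens) (hU : IsAffineOpen U), (((p ⁻¹ᵁ U : P.Opens) : Scheme.{u}) ≅ Proj (𝒮.deg U hU))}
  {pL : PL ⟶ X}
  {chartL : ∀ (U : X.Opens) (hU : IsAffineOpen U), (((pL ⁻¹ᵁ U : PL.Opens) : Scheme.{u}) ≅ Proj (𝒮L.deg U hU))}
  (hP : RelProj.IsRelProj 𝒮 p chart) (hPL : RelProj.IsRelProj 𝒮L pL chartL)
  {r : ((RelProj.domQ u pL chartL : PL.Opens) : Scheme.{u}) ⟶ P}
  (hr : RelProj.IsProjQMapOn u p chart pL chartL (RelProj.domQ u pL chartL) r)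

include hL hLq hj hP hPL hr in
/-- An everywhere defined embedding gives relative ampleness. -/
theorem isRelAmple_of_isEmbedding [QuasiCompact q] (htop : RelProj.domQ u pL chartL = ⊤)
    (hemb : Topology.IsEmbedding r.base) : RelAmple.IsRelAmple q L := by
  refine ⟨inferInstance, fun V => ?_⟩
  let U : Y.AffineZariskiSite := ⟨V.1, V.2⟩
  let W : X.Opens := q ⁻¹ᵁ U.1
  obtain ⟨g, hg, hQ⟩ := exists_g hL hLq hj u hPL htop hr
  let E : MorphismProperty Scheme.{u} := fun _ _ f => Topology.IsEmbedding f.base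
  haveI : E.RespectsIso := by
    refine MorphismProperty.RespectsIso.mk _ (fun e f hf => ?_) fun e f hf => ?_
    · exact (show Topology.IsEmbedding f.base from hf).comp (TopCat.homeoOfIso (Scheme.forgetToTop.mapIso e)).isEmbedding
    · exact (TopCat.homeoOfIso (Scheme.forgetToTop.mapIso e)).isEmbedding.comp (show Topology.IsEmbedding f.base from hf)
  have hge : Topology.IsEmbedding g.base := (hQ E).mp hemb
  obtain ⟨c, ⟨φ⟩⟩ := Ample.exists_cocycle hL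
  obtain ⟨d⟩ := c.nonempty_restrict_iso W.ι φ
  haveI : CompactSpace (W : Scheme.{u}) := isCompact_iff_compactSpace.mp (q.isCompact_preimage V.2.isCompact)
  refine ((c.comap W.ι).isAmple_iff d).mpr ⟨inferInstance, fun x => ?_⟩
  obtain ⟨U₀, hU₀, hxU₀, hU₀W⟩ := exists_isAffineOpen_mem_and_subset (x := x.1) (U := W) x.2
  obtain ⟨T, hT, hTU⟩ := hge.isOpen_iff.mp U₀.isOpen
  obtain ⟨⟨U', N, hN, s, hs⟩, rfl, hxs, hle⟩ := exists_piece_le hL hLq hj u hP hPL htop hg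
    (O := ⟨T, hT⟩) (x := x.1) (by show x.1 ∈ g.base ⁻¹' T; rw [hTU]; exact hxU₀) U x.2
  have hXS : XS u U N s ≤ U₀ := by
    rw [← preimage_sEmb hL hLq hj u hP hPL hg htop U hN hs]
    intro y hy
    exact hTU.le (show g.base y ∈ T from hle hy)
  have hW0 : W.ι ''ᵁ ⊤ ≤ W := by rw [Scheme.Opens.ι_image_top]
  obtain ⟨β, hβ⟩ := exists_sect_of_hom φ hLq hj (N := N) ((u.appLE U.1 (W.ι ''ᵁ ⊤) hW0).hom s) fun V' hV' h => by
    rw [ares, ← CommRingCat.comp_apply, u.appLE_map]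
    exact (gu u (⟨U, ⟨V', hV'⟩, h.trans hW0⟩ : Pair q)).map_mem hs
  have e := XS_eq_image_locus hL hLq hj u φ U hW0 hs hβ
  obtain ⟨n, rfl⟩ : ∃ n, N = n + 1 := ⟨N - 1, by omega⟩
  refine ⟨n, c.pullSect W.ι (Ample.LineData.le_preimage_image W.ι ⊤) β, ?_, ?_⟩
  · replace hxs : x.1 ∈ XS u U (n + 1) s := hxs
    rw [← e] at hxs
    obtain ⟨z, hz, hzx⟩ := hxs
    exact W.ι.isOpenEmbedding.injective hzx ▸ hz
  · refine (c.comap W.ι).isAffineOpen_locus_of_le _ (W := W.ι ⁻¹ᵁ U₀) ?_ ?_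
    · refine (Scheme.Hom.isAffineOpen_iff_of_isOpenImmersion W.ι).mp ?_
      rw [image_preimage_ι hU₀W]
      exact hU₀
    · intro z hz
      exact hXS (e.le ⟨z, hz, rfl⟩)

end GrothLib.RLpsi8
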