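import Groth.Agent.Lib.Ample.Product
import Groth.Agent.Lib.Affine25.General
import Mathlib.RingTheory.Localization.Away.Basic
/-!
# Ampleness is insensitive to closed immersions which are homeomorphisms
-/
universe u
open CategoryTheory CategoryTheory.Limits AlgebraicGeometry TopologicalSpace Opposite
set_option backward.isDefEq.respectTransparency false
noncomputable section
namespace RLpsi8
open GrothLib GrothLib.Ample

/-- A power of a function on `D(f)` differing from `f` by a nilpotent extends. -/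
theorem exists_extend_pow {A B : Type*} [CommRing A] [CommRing B] [Algebra A B] (f : A)
    [IsLocalization.Away f B] (h : B) (he : IsNilpotent (h - algebraMap A B f)) :
    ∃ (m : ℕ) (g : A), 0 < m ∧ algebraMap A B g = h ^ m ∧ IsNilpotent (g - f ^ m) := by
  obtain ⟨R, hR⟩ := he
  obtain ⟨q, y, hy⟩ := IsLocalization.Away.surj f (h - algebraMap A B f)
  obtain ⟨t, ht⟩ := IsLocalization.Away.exists_of_eq (S := B) f (a := y ^ (R + 1)) (b := 0) (by
    rw [map_zero, map_pow, ← hy, mul_pow, pow_succ _ R, hR]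
    simp)
  rw [mul_zero] at ht
  let y' := y * f ^ t
  have hy'nil : y' ^ (R + 1) = 0 := by
    show (y * f ^ t) ^ (R + 1) = 0
    rw [mul_pow, show y ^ (R + 1) * (f ^ t) ^ (R + 1) = f ^ t * y ^ (R + 1) * (f ^ t) ^ R by ring, ht, zero_mul]
  set N := q + t with hN
  set m := (N + 1) * (R + 1) with hm
  have hy' : algebraMap A B y' = (h - algebraMap A B f) * algebraMap A B f ^ N := by
    show algebraMap A B (y * f ^ t) = _
    rw [map_mul, ← hy, map_pow, hN, pow_add, mul_assoc]
  refine ⟨m, ∑ j ∈ Finset.range (R + 1), (m.choose j : A) * f ^ (m - j - N * j) * y' ^ j,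
    Nat.mul_pos N.succ_pos R.succ_pos, ?_, ?_⟩
  · have e : h ^ m = ((h - algebraMap A B f) + algebraMap A B f) ^ m := by rw [sub_add_cancel]
    rw [e, add_pow, map_sum]
    rw [← Finset.sum_subset (s₁ := Finset.range (R + 1)) (s₂ := Finset.range (m + 1)) (Finset.range_subset_range.2 (by
      have : R + 1 ≤ m := Nat.le_mul_of_pos_left _ N.succ_pos
      omega)) (fun j _ hj => by
      rw [Finset.mem_range, not_lt] at hj
      rw [pow_eq_zero_of_le (show R ≤ j by omega) hR]
      simp)]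
    refine Finset.sum_congr rfl fun j hj => ?_
    rw [Finset.mem_range] at hj
    have hle : j + N * j ≤ m := by
      have : (N + 1) * j ≤ m := Nat.mul_le_mul le_rfl (by omega)
      rw [add_mul, one_mul] at this
      omega
    have hp : algebraMap A B f ^ (m - j) = algebraMap A B f ^ (m - j - N * j) * algebraMap A B f ^ (N * j) := by
      rw [← pow_add]; congr 1; omega
    rw [map_mul, map_mul, map_natCast, map_pow, map_pow, hy', mul_pow, hp, ← pow_mul]
    ring
  · rw [Finset.sum_range_succ']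
    simp only [Nat.choose_zero_right, Nat.cast_one, one_mul, pow_zero, mul_one, Nat.mul_zero, Nat.sub_zero,
      add_sub_cancel_right]
    exact (mem_nilradical.mp (Ideal.sum_mem _ fun j _ => Ideal.mul_mem_left _ _
      (Ideal.pow_mem_of_mem _ (mem_nilradical.mpr ⟨R + 1, hy'nil⟩) _ (Nat.succ_pos j))) : IsNilpotent _)

variable {Z X : Scheme.{u}} (i : Z ⟶ X)

theorem basicOpen_eq_of_isNilpotent_sub {W : X.Opens} {x y : Γ(X, W)} (h : IsNilpotent (x - y)) :
    X.basicOpen x = X.basicOpen y := by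
  ext p
  simp only [SetLike.mem_coe]
  by_cases hp : p ∈ W
  · rw [X.mem_basicOpen x p hp, X.mem_basicOpen y p hp]
    have h' := h.map (X.presheaf.germ W p hp).hom
    rw [map_sub] at h'
    exact ⟨fun hx => by
      have := h'.neg.isUnit_add_left_of_commute hx (Commute.all _ _)
      rwa [neg_sub, add_sub_cancel] at this,
    fun hy => by
      have := h'.isUnit_add_left_of_commute hy (Commute.all _ _)
      rwa [add_sub_cancel] at this⟩
  · exact ⟨fun hx => absurd (X.basicOpen_le _ hx) hp, fun hy => absurd (X.basicOpen_le _ hy) hp⟩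

theorem isNilpotent_of_app_eq_zero (hs : Function.Surjective i) {W : X.Opens} (hW : IsCompact (W : Set X))
    {x : Γ(X, W)} (h : i.app W x = 0) : IsNilpotent x := by
  rw [Scheme.isNilpotent_iff_basicOpen_eq_bot_of_isCompact hW]
  refine eq_bot_iff.2 fun p hp => ?_
  obtain ⟨z, rfl⟩ := hs p
  have hz : z ∈ i ⁻¹ᵁ X.basicOpen x := hp
  rw [Scheme.Hom.preimage_basicOpen, h, Scheme.basicOpen_zero] at hz
  exact hz.elim

theorem opens_ext_of_preimage (hs : Function.Surjective i) {U V : X.Opens} (h : i ⁻¹ᵁ U = i ⁻¹ᵁ V) : U = V := by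
  ext p
  obtain ⟨z, rfl⟩ := hs p
  exact (show z ∈ i ⁻¹ᵁ U ↔ z ∈ i ⁻¹ᵁ V by rw [h])

theorem app_res {U V : X.Opens} (h : V ≤ U) (x : Γ(X, U)) :
    i.app V (res h x) = res (i.preimage_mono h) (i.app U x) :=
  ConcreteCategory.congr_hom (i.naturality (homOfLE h).op) x

theorem app_G (c : Cocycle X) (k l : c.ι) {W : X.Opens} (hk : W ≤ c.D k) (hl : W ≤ c.D l) :
    i.app W (c.G k l hk hl) = (c.comap i).G k l (i.preimage_mono hk) (i.preimage_mono hl) := by
  rw [Cocycle.comap_G, Cocycle.G, app_res]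
  show _ = res _ _
  rfl

theorem isAmp_of_comap [IsClosedImmersion i] (hi : IsHomeomorph i.base) [CompactSpace X] (c : Cocycle X)
    (h : (c.comap i).IsAmp) : c.IsAmp := by
  classical
  have hs : Function.Surjective i := hi.surjective
  have : Surjective i := ⟨hs⟩
  have : CompactSpace Z := (hi.homeomorph).symm.compactSpace
  have : QuasiSeparatedSpace Z := (c.comap i).quasiSeparatedSpace_of_isAmp h
  have : QuasiSeparatedSpace X := ⟨fun A B hA hA' hB hB' => by
    have e := hi.homeomorph.isCompact_preimage (s := A ∩ B)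
    rw [← e, Set.preimage_inter]
    exact QuasiSeparatedSpace.inter_isCompact _ _ (hA.preimage hi.homeomorph.continuous)
      (hi.homeomorph.isCompact_preimage.2 hA') (hB.preimage hi.homeomorph.continuous)
      (hi.homeomorph.isCompact_preimage.2 hB')⟩
  intro p
  obtain ⟨j₀, hpj⟩ := c.exists_mem p
  obtain ⟨z, rfl⟩ := hs p
  obtain ⟨n, a, hza, haO, ha⟩ := (c.comap i).exists_affine_locus_le h (O := i ⁻¹ᵁ c.D j₀) (p := z) hpj
  let U : X.Opens := ⟨i '' ((c.comap i).locus a : Set Z), hi.isOpenMap _ ((c.comap i).locus a).2⟩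
  have hiU : i ⁻¹ᵁ U = (c.comap i).locus a := Opens.ext (Set.preimage_image_eq _ hi.injective)
  have hUD : U ≤ c.D j₀ := by
    rintro _ ⟨w, hw, rfl⟩
    exact haO hw
  have hU : IsAffineOpen U := by
    have : IsAffine (i ⁻¹ᵁ U).toScheme := by rw [hiU]; exact ha
    have : Surjective (i ∣_ U) := IsZariskiLocalAtTarget.restrict ‹Surjective i› U
    exact GrothLib.Affine25.isAffine_of_surjective_universallyClosed (i ∣_ U)
  obtain ⟨h₀, hh₀⟩ := i.app_surjective U hU (res (le_inf le_top (i.preimage_mono hUD)) (a.1 j₀))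
  -- a finite affine cover adapted to the cocycle
  choose ic hic using fun x => c.exists_mem x
  choose V hV hxV hVD using fun x => exists_isAffineOpen_mem_and_subset (x := x) (U := c.D (ic x)) (hic x)
  obtain ⟨F, hF⟩ := isCompact_univ.elim_finite_subcover (fun x => (V x : Set X)) (fun x => (V x).2)
    (fun x _ => Set.mem_iUnion.2 ⟨x, hxV x⟩)
  choose f hf using fun x => i.app_surjective (V x) (hV x)
    (res (le_inf le_top (i.preimage_mono (hVD x))) (a.1 (ic x)))
  have hDf : ∀ x, X.basicOpen (f x) = U ⊓ V x := fun x => by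
    refine opens_ext_of_preimage i hs ?_
    rw [Scheme.Hom.preimage_basicOpen, hf, Scheme.Hom.preimage_inf, hiU,
      (c.comap i).locus_inf_eq_basicOpen a (i := ic x) (i.preimage_mono (hVD x))]
    rfl
  have hDU : ∀ x, X.basicOpen (f x) ≤ U := fun x => (hDf x).le.trans inf_le_left
  let hh : ∀ x, Γ(X, X.basicOpen (f x)) := fun x =>
    c.G (ic x) j₀ ((X.basicOpen_le _).trans (hVD x)) ((hDU x).trans hUD) ^ (n + 1) * res (hDU x) h₀
  have hnil : ∀ x, IsNilpotent (hh x - res (X.basicOpen_le (f x)) (f x)) := by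
    intro x
    refine isNilpotent_of_app_eq_zero i hs ((hV x).basicOpen (f x)).isCompact ?_
    rw [map_sub, sub_eq_zero, map_mul, map_pow, app_G, app_res, app_res, hh₀, hf, res_res, res_res]
    exact ((c.comap i).sect_spec a (ic x) j₀ _ _).symm
  have hex : ∀ x, ∃ (m : ℕ) (g : Γ(X, V x)), 0 < m ∧ res (X.basicOpen_le (f x)) g = hh x ^ m ∧
      IsNilpotent (g - f x ^ m) := fun x =>
    haveI := (hV x).isLocalization_basicOpen (f x)
    exists_extend_pow (f x) (hh x) (hnil x)
  choose m₀ g₀ hm₀ hg₀ hgn₀ using hex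
  let m := ∏ x ∈ F, m₀ x
  have hmpos : 0 < m := Finset.prod_pos fun x _ => hm₀ x
  have hg : ∀ x : F, ∃ g : Γ(X, V x), res (X.basicOpen_le (f x)) g = hh x ^ m ∧
      IsNilpotent (g - f x ^ m) := fun ⟨x, hx⟩ => by
    obtain ⟨d, hd⟩ : m₀ x ∣ m := Finset.dvd_prod_of_mem _ hx
    refine ⟨g₀ x ^ d, by rw [map_pow, hg₀, ← pow_mul, ← hd], ?_⟩
    rw [hd, pow_mul]
    obtain ⟨w, hw⟩ := sub_dvd_pow_sub_pow (g₀ x) (f x ^ m₀ x) d
    rw [hw]
    exact (Commute.all _ _).isNilpotent_mul_right (hgn₀ x)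
  choose g hg hgn using hg
  have hDg : ∀ x : F, X.basicOpen (g x) = U ⊓ V x := fun x => by
    rw [basicOpen_eq_of_isNilpotent_sub (hgn x), X.basicOpen_pow _ hmpos, hDf]
  let K := (n + 1) * m
  have key : ∀ k l : F, ∃ M : ℕ,
      res (inf_le_left : V k ⊓ V l ≤ V k) (g k) ^ M *
          (res inf_le_left (g k) - c.G (ic k) (ic l) (inf_le_left.trans (hVD k)) (inf_le_right.trans (hVD l)) ^ K *
            res inf_le_right (g l)) = 0 ∧
        (c.G (ic k) (ic l) (inf_le_left.trans (hVD k)) (inf_le_right.trans (hVD l)) ^ K * res inf_le_right (g l)) ^ M *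
          (res inf_le_left (g k) - c.G (ic k) (ic l) (inf_le_left.trans (hVD k)) (inf_le_right.trans (hVD l)) ^ K *
            res inf_le_right (g l)) = 0 := by
    intro k l
    set x := res (inf_le_left : V k ⊓ V l ≤ V k) (g k)
    set y := c.G (ic k) (ic l) (inf_le_left.trans (hVD k)) (inf_le_right.trans (hVD l)) ^ K *
      res (inf_le_right : V k ⊓ V l ≤ V l) (g l)
    have hc : IsCompact (V k ⊓ V l : X.Opens).1 :=
      QuasiSeparatedSpace.inter_isCompact _ _ (V k).2 (hV k).isCompact (V l).2 (hV l).isCompact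
    let T := (V k ⊓ V l) ⊓ U
    have hTk : T ≤ X.basicOpen (f k) := (hDf k).ge.trans' (le_inf inf_le_right (inf_le_left.trans inf_le_left))
    have hTl : T ≤ X.basicOpen (f l) := (hDf l).ge.trans' (le_inf inf_le_right (inf_le_left.trans inf_le_right))
    have h0 : res (inf_le_left : T ≤ V k ⊓ V l) (x - y) = 0 := by
      have ek : res (inf_le_left.trans inf_le_left : T ≤ V k) (g k) = res hTk (hh k ^ m) := by
        rw [← hg k, res_res]
      have el : res (inf_le_left.trans inf_le_right : T ≤ V l) (g l) = res hTl (hh l ^ m) := by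
        rw [← hg l, res_res]
      rw [map_sub, sub_eq_zero, map_mul, map_pow, Cocycle.res_G, res_res, res_res, ek, el]
      simp only [hh, map_pow, map_mul, Cocycle.res_G, res_res, K, pow_mul, ← mul_pow]
      rw [← mul_assoc, ← mul_pow, ← c.G_trans]
    have hzero : ∀ w : Γ(X, V k ⊓ V l), X.basicOpen w ≤ U →
        (x - y) |_ (X.basicOpen w) = 0 := fun w hw => by
      have := congrArg (res (le_inf (X.basicOpen_le w) hw : X.basicOpen w ≤ T)) h0
      rw [res_res, map_zero] at this
      exact this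
    have hx : X.basicOpen x ≤ U := by
      rw [Scheme.basicOpen_res, hDg]; exact inf_le_right.trans inf_le_left
    have hy : X.basicOpen y ≤ U := by
      rw [Scheme.basicOpen_mul, Scheme.basicOpen_res, hDg]
      exact inf_le_right.trans (inf_le_right.trans inf_le_left)
    obtain ⟨M₁, h₁⟩ := exists_pow_mul_eq_zero_of_res_basicOpen_eq_zero_of_isCompact X hc (x - y) x (hzero x hx)
    obtain ⟨M₂, h₂⟩ := exists_pow_mul_eq_zero_of_res_basicOpen_eq_zero_of_isCompact X hc (x - y) y (hzero y hy)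
    exact ⟨M₁ + M₂, by rw [pow_add, mul_comm (x ^ M₁), mul_assoc, h₁, mul_zero],
      by rw [pow_add, mul_assoc, h₂, mul_zero]⟩
  choose M hMx hMy using key
  let M' := ∑ k : F, ∑ l : F, M k l
  let t := 2 * M' + 1
  have hcomp : ∀ k l : F, res (inf_le_left : V k ⊓ V l ≤ V k) (g k) ^ t =
      c.G (ic k) (ic l) (inf_le_left.trans (hVD k)) (inf_le_right.trans (hVD l)) ^ (K * t) *
        res inf_le_right (g l) ^ t := by
    intro k l
    rw [pow_mul, ← mul_pow, ← sub_eq_zero, ← geom_sum₂_mul, Finset.sum_mul]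
    refine Finset.sum_eq_zero fun j hj => ?_
    rw [Finset.mem_range] at hj
    have hM : M k l ≤ M' := (Finset.single_le_sum (fun _ _ => Nat.zero_le _) (Finset.mem_univ l)).trans
      (Finset.single_le_sum (f := fun k : F => ∑ l : F, M k l) (fun _ _ => Nat.zero_le _) (Finset.mem_univ k))
    rcases Nat.lt_or_ge j (M k l) with hj' | hj'
    · obtain ⟨d, hd⟩ := Nat.exists_eq_add_of_le (show M k l ≤ t - 1 - j by omega)
      rw [hd]
      linear_combination (res (inf_le_left : V k ⊓ V l ≤ V k) (g k) ^ j *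
        (c.G (ic k) (ic l) (inf_le_left.trans (hVD k)) (inf_le_right.trans (hVD l)) ^ K *
          res (inf_le_right : V k ⊓ V l ≤ V l) (g l)) ^ d) * hMy k l
    · obtain ⟨d, hd⟩ := Nat.exists_eq_add_of_le hj'
      rw [hd]
      linear_combination (res (inf_le_left : V k ⊓ V l ≤ V k) (g k) ^ d *
        (c.G (ic k) (ic l) (inf_le_left.trans (hVD k)) (inf_le_right.trans (hVD l)) ^ K *
          res (inf_le_right : V k ⊓ V l ≤ V l) (g l)) ^ (t - 1 - (M k l + d))) * hMx k l
  -- glue
  have hcov : (⊤ : X.Opens) ≤ ⨆ k : F, V k := fun q _ => by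
    obtain ⟨x, hx, hq⟩ := Set.mem_iUnion₂.1 (hF (Set.mem_univ q))
    exact Opens.mem_iSup.2 ⟨⟨x, hx⟩, hq⟩
  let sf : ∀ k : F, c.sect (K * t) (V k) := fun k => g k ^ t • c.base (K * t) (ic k) (hVD k)
  obtain ⟨b, hb, -⟩ := TopCat.Sheaf.existsUnique_gluing'
    (⟨c.sectAb (K * t), c.isSheaf_sectAb⟩ : TopCat.Sheaf AddCommGrpCat.{u} X.carrier) (fun k : F => V k) ⊤
    (fun k => homOfLE le_top) hcov sf (fun k l => by
      show c.sectRes (inf_le_left : V k ⊓ V l ≤ V k) (sf k) = c.sectRes (inf_le_right : V k ⊓ V l ≤ V l) (sf l)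
      simp only [sf, Cocycle.sectRes_smul, Cocycle.sectRes_base, map_pow]
      rw [hcomp k l, mul_comm (c.G _ _ _ _ ^ (K * t)), mul_smul, ← c.base_eq_smul_base])
  have hloc : c.locus b = U := by
    refine le_antisymm (fun q hq => ?_) (fun q hq => ?_)
    all_goals
      obtain ⟨k, hk⟩ := Opens.mem_iSup.1 (hcov (Opens.mem_top q))
      have e : res (inf_le_inf_right _ le_top : V k ⊓ c.D (ic k) ≤ ⊤ ⊓ c.D (ic k)) (b.1 (ic k)) =
          res inf_le_left (g k ^ t) := by
        have h1 := congrArg (fun s : c.sect (K * t) (V k) => s.1 (ic k)) (hb k)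
        refine h1.trans ?_
        show res inf_le_left (g k ^ t) * (c.base (K * t) (ic k) (hVD k)).1 (ic k) = _
        rw [c.base_self, mul_one]
      have e2 := congrArg X.basicOpen e
      rw [Scheme.basicOpen_res, Scheme.basicOpen_res, X.basicOpen_pow _ (Nat.succ_pos _), hDg] at e2
      have hkD : q ∈ c.D (ic k) := hVD k hk
    · rw [c.mem_locus_iff b hkD] at hq
      have : q ∈ (V k ⊓ c.D (ic k)) ⊓ (U ⊓ V k) := e2 ▸ ⟨⟨hk, hkD⟩, hq⟩
      exact this.2.1
    · rw [c.mem_locus_iff b hkD]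
      have : q ∈ (V k ⊓ c.D (ic k)) ⊓ X.basicOpen (b.1 (ic k)) := e2.ge ⟨⟨hk, hkD⟩, hq, hk⟩
      exact this.2
  obtain ⟨N, hN⟩ : ∃ N, K * t = N + 1 :=
    ⟨K * t - 1, by
      have hp : 0 < K * t := Nat.mul_pos (Nat.mul_pos n.succ_pos hmpos) (show 0 < t by omega)
      omega⟩
  refine ⟨N, c.sectCast hN b, ?_⟩
  rw [c.locus_sectCast, hloc]
  exact ⟨⟨z, hza, rfl⟩, hU⟩

end RLpsi8
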