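import Groth.Agent.Lib.RLpsi8.AmpleNil
universe u
open CategoryTheory CategoryTheory.Limits AlgebraicGeometry TopologicalSpace Opposite
set_option backward.isDefEq.respectTransparency false
namespace RLpsi8
open GrothLib GrothLib.Ample

theorem isAmple_pullback_homeomorph_iff {Z X : Scheme.{u}} (i : Z ⟶ X) [IsClosedImmersion i]
    (hi : IsHomeomorph i.base) (L : X.Modules) (hL : PicF.IsInvertible L) :
    CohB1.IsAmple ((Scheme.Modules.pullback i).obj L) ↔ CohB1.IsAmple L := by
  refine ⟨fun h => ?_, fun h => isAmple_pullback_of_isAffineHom i h⟩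
  obtain ⟨c, ⟨e⟩⟩ := exists_cocycle hL
  obtain ⟨d⟩ := c.nonempty_pullback_iso i e
  have := h.2.1
  haveI : CompactSpace X := hi.surjective.compactSpace hi.continuous
  exact (c.isAmple_iff e).mpr ⟨inferInstance, isAmp_of_comap i hi c (((c.comap i).isAmple_iff d).mp h).2⟩

theorem isQuasiAffine_homeomorph_iff {Z X : Scheme.{u}} (i : Z ⟶ X) [IsClosedImmersion i]
    (hi : IsHomeomorph i.base) : X.IsQuasiAffine ↔ Z.IsQuasiAffine := by
  obtain ⟨e⟩ := nonempty_pullback_structureModule i
  have hinv : PicF.IsInvertible (Coh.structureModule X) := by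
    obtain ⟨e⟩ := Cocycle.nonempty_structureModule_iso_triv (X := X)
    exact (Cocycle.triv X).isInvertible_of_iso e
  rw [isQuasiAffine_iff, isQuasiAffine_iff, ← isAmple_pullback_homeomorph_iff i hi _ hinv, isAmple_iff_of_iso e]

end RLpsi8
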