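import Groth.Prelude.Def_MoreMor
import Groth.Prelude.Def_LCI2
import Groth.Agent.Lib.RLpsi8.AmpleNilIff
import Groth.Agent.Lib.Ample.RelAmple
universe u
open CategoryTheory CategoryTheory.Limits AlgebraicGeometry TopologicalSpace Opposite
set_option backward.isDefEq.respectTransparency false
namespace RLpsi8
open GrothLib GrothLib.Ample

theorem isHomeomorph_of_thickening {X X' : Scheme.{u}} (i : X ⟶ X') [IsClosedImmersion i] [Surjective i] :
    IsHomeomorph i.base :=
  (isHomeomorph_iff_isEmbedding_surjective).2 ⟨i.isClosedEmbedding.isEmbedding, i.surjective⟩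

theorem isRelAmple_thickening_iff {X X' S S' : Scheme.{u}} (iX : X ⟶ X') (iS : S ⟶ S') (f : X ⟶ S) (f' : X' ⟶ S')
    [IsClosedImmersion iX] [Surjective iX] [IsClosedImmersion iS] [Surjective iS] (w : iX ≫ f' = f ≫ iS)
    (L' : X'.Modules) (hL' : PicF.IsInvertible L') :
    RelAmple.IsRelAmple f' L' ↔ RelAmple.IsRelAmple f ((Scheme.Modules.pullback iX).obj L') := by
  have key : ∀ O : S'.Opens, CohB1.IsAmple (((Scheme.Modules.pullback iX).obj L').restrict (f ⁻¹ᵁ iS ⁻¹ᵁ O).ι) ↔
      CohB1.IsAmple (L'.restrict (f' ⁻¹ᵁ O).ι) := fun O => by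
    have e : f ⁻¹ᵁ iS ⁻¹ᵁ O = iX ⁻¹ᵁ f' ⁻¹ᵁ O := by
      rw [← Scheme.Hom.comp_preimage, ← w]; rfl
    rw [e, isAmple_restrict_iff, isAmple_restrict_iff, isAmple_pullback_comp_iff, ← morphismRestrict_ι,
      ← isAmple_pullback_comp_iff]
    have : Surjective (iX ∣_ f' ⁻¹ᵁ O) := IsZariskiLocalAtTarget.restrict ‹Surjective iX› _
    exact isAmple_pullback_homeomorph_iff _ (isHomeomorph_of_thickening _) _ (isInvertible_pullback _ hL')
  constructor
  · intro h
    have := h.1
    have : QuasiCompact f := by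
      have : QuasiCompact (f ≫ iS) := w ▸ inferInstance
      exact QuasiCompact.of_comp f iS
    refine isRelAmple_of_cover fun s => ?_
    obtain ⟨O, hO, hsO, -⟩ := exists_isAffineOpen_mem_and_subset (Opens.mem_top (iS s))
    exact ⟨iS ⁻¹ᵁ O, hsO, hO.preimage iS, (key O).mpr (h.2 ⟨O, hO⟩)⟩
  · intro h
    have := h.1
    have : QuasiCompact f' := by
      have : QuasiCompact (iX ≫ f') := w ▸ inferInstance
      refine ⟨fun U hU hU' => ?_⟩
      rw [← Set.image_preimage_eq (f' ⁻¹' U) iX.surjective]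
      exact ((iX ≫ f').isCompact_preimage (U := ⟨U, hU⟩) hU').image iX.continuous
    exact ⟨inferInstance, fun V => (key V.1).mp (h.2 ⟨iS ⁻¹ᵁ V.1, V.2.preimage iS⟩)⟩

end RLpsi8
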