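import Groth.Agent.Lib.Altitude.Chains
import Groth.Agent.Lib.DivPts.Local
import Groth.Prelude.Def_BlowUp2

/-!
# Heights along a covering relation in a catenary ring with a unique minimal prime
-/

set_option autoImplicit false
universe u

open CategoryTheory AlgebraicGeometry TopologicalSpace

namespace GrothLib.RLpsi8

open GrothLib.Altitude

theorem height_eq_succ_of_covBy {A : Type u} [CommRing A] [IsNoetherianRing A] (hA : CAlg.IsCatenary A)
    (g : PrimeSpectrum A) (hg : ∀ q : PrimeSpectrum A, g ≤ q) {p m : PrimeSpectrum A} (h : p ⋖ m) :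
    m.asIdeal.height = p.asIdeal.height + 1 := by
  letI : OrderBot (PrimeSpectrum A) := { bot := g, bot_le := hg }
  obtain ⟨a, ha⟩ := ENat.ne_top_iff_exists.1 (Ideal.height_ne_top (I := p.asIdeal) p.isPrime.ne_top)
  obtain ⟨c, hc⟩ := ENat.ne_top_iff_exists.1 (Ideal.height_ne_top (I := m.asIdeal) m.isPrime.ne_top)
  obtain ⟨s, s1, s2, s3⟩ := exists_saturated a p (by rw [← PrimeSpectrum.height_eq_orderHeight]; exact ha.symm)
  obtain ⟨w, w1, w2, w3⟩ := exists_saturated c m (by rw [← PrimeSpectrum.height_eq_orderHeight]; exact hc.symm)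
  let s' := s.snoc m (by show s.last ⋖ m; rw [s2]; exact h)
  have h0 : s'.head = w.head := by
    show (s.snoc m _).head = w.head
    rw [RelSeries.head_snoc, s1, w1]
  have h1 : s'.last = w.last := by
    show (s.snoc m _).last = w.last
    rw [RelSeries.last_snoc, w2]
  have := hA.2 (CovSeries.toLT s') (CovSeries.toLT w) h0 h1 (fun i => s'.step i) (fun i => w.step i)
  have hl : (CovSeries.toLT s').length = a + 1 := by simp [CovSeries.toLT, s', s3]
  rw [hl, show (CovSeries.toLT w).length = c from w3] at this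
  rw [← ha, ← hc, ← this]
  rfl

variable {X Z : Scheme.{u}}

/-- No point of an effective Cartier divisor is a generic point of an integral scheme. -/
theorem genericPoint_not_mem_support [IsIntegral Z] (J : Z.IdealSheafData) (hJ : BlowUp.IsEffCartierIdeal J) :
    genericPoint Z ∉ J.support := by
  intro hmem
  obtain ⟨U, hxU, f, hf, hI⟩ := hJ (genericPoint Z)
  have hle := (GrothLib.DivPts.mem_support_iff U.2 hxU J).mp hmem
  rw [hI] at hle
  have h1 := GrothLib.DivPts.one_le_ringKrullDim_stalk U.2 hxU hf (hle (Ideal.subset_span rfl))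
  have h2 : IsField (Z.presheaf.stalk (genericPoint Z)) := Field.toIsField Z.functionField
  rw [ringKrullDim_eq_zero_of_isField h2] at h1
  exact absurd h1 (by decide)

/-- The dimensions at a component of a proper intersection with an effective Cartier divisor. -/
theorem intersect_dim [IsLocallyNoetherian X] [IrreducibleSpace X]
    (hcat : ∀ x : X, CAlg.IsCatenary (X.presheaf.stalk x)) (𝓘 : X.IdealSheafData) (hY : BlowUp.IsEffCartierIdeal 𝓘)
    (z ζ : X) (hz : z ∉ 𝓘.support) (hζI : ζ ∈ 𝓘.support) (hzζ : z ⤳ ζ)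
    (hmin : ∀ y : X, y ∈ 𝓘.support → z ⤳ y → y ⤳ ζ → y = ζ) :
    ringKrullDim (X.presheaf.stalk ζ) =
      (⨅ y : (𝓘.support : Set X), ringKrullDim (X.presheaf.stalk y.1)) + ringKrullDim (X.presheaf.stalk z) := by
  obtain ⟨⟨U, hU⟩, hζU, f, hf, hI⟩ := hY ζ
  have hgen : ∀ {y : X}, y ⤳ ζ → y ∈ U := fun h => h.mem_open U.2 hζU
  have hzU : z ∈ U := hgen hzζ
  let A := Γ(X, U)
  haveI : IsNoetherianRing A := IsLocallyNoetherian.component_noetherian ⟨U, hU⟩
  set P := hU.primeIdealOf ⟨ζ, hζU⟩
  set Q := hU.primeIdealOf ⟨z, hzU⟩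
  have hfr : ∀ q : PrimeSpectrum A, hU.fromSpec q ∈ U := fun q =>
    hU.range_fromSpec.le ⟨q, rfl⟩
  have hle_iff : ∀ q r : PrimeSpectrum A, q ≤ r ↔ hU.fromSpec q ⤳ hU.fromSpec r := fun q r => by
    rw [PrimeSpectrum.le_iff_specializes, hU.fromSpec.isOpenEmbedding.isInducing.specializes_iff]
    exact Iff.rfl
  have hPe : hU.fromSpec P = ζ := hU.fromSpec_primeIdealOf ⟨ζ, hζU⟩
  have hQe : hU.fromSpec Q = z := hU.fromSpec_primeIdealOf ⟨z, hzU⟩
  have hQP : Q ≤ P := (hle_iff Q P).mpr (by rw [hPe, hQe]; exact hzζ)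
  have hsupp : ∀ q : PrimeSpectrum A, hU.fromSpec q ∈ 𝓘.support ↔ f ∈ q.asIdeal := by
    intro q
    have h := GrothLib.DivPts.mem_support_iff hU (hfr q) 𝓘
    rw [h, hI, Ideal.span_singleton_le_iff_mem]
    have e : hU.primeIdealOf ⟨hU.fromSpec q, hfr q⟩ = q :=
      hU.fromSpec.isOpenEmbedding.injective (hU.fromSpec_primeIdealOf _)
    rw [e]
  have hfP : f ∈ P.asIdeal := (hsupp P).mp (by rw [hPe]; exact hζI)
  have hfQ : f ∉ Q.asIdeal := fun h => hz (hQe ▸ (hsupp Q).mpr h)
  have hmin' : P.asIdeal ∈ (Q.asIdeal ⊔ Ideal.span {f}).minimalPrimes := by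
    refine ⟨⟨P.isPrime, sup_le hQP ((Ideal.span_singleton_le_iff_mem _).mpr hfP)⟩, fun q hq hle => ?_⟩
    have h1 := hmin (hU.fromSpec ⟨q, hq.1⟩) ((hsupp _).mpr (hq.2 (Ideal.mem_sup_right (Ideal.subset_span rfl))))
      (by rw [← hQe]; exact (hle_iff _ _).mp (le_sup_left.trans hq.2))
      (by rw [← hPe]; exact (hle_iff _ _).mp hle)
    rw [← hPe] at h1
    have := hU.fromSpec.isOpenEmbedding.injective h1
    rw [← this]
  -- the infimum is one
  have hinf : (⨅ y : (𝓘.support : Set X), ringKrullDim (X.presheaf.stalk y.1)) = 1 := by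
    apply le_antisymm
    · obtain ⟨q, hq, hqP⟩ := Ideal.exists_minimalPrimes_le (show Ideal.span {f} ≤ P.asIdeal from
        (Ideal.span_singleton_le_iff_mem _).mpr hfP)
      let q' : PrimeSpectrum A := ⟨q, hq.1.1⟩
      refine iInf_le_of_le ⟨hU.fromSpec q', (hsupp q').mpr (hq.1.2 (Ideal.subset_span rfl))⟩ ?_
      rw [GrothLib.DivPts.ringKrullDim_stalk_eq_height hU (hfr q'),
        show hU.primeIdealOf ⟨hU.fromSpec q', hfr q'⟩ = q' from
          hU.fromSpec.isOpenEmbedding.injective (hU.fromSpec_primeIdealOf _)]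
      exact_mod_cast Ideal.height_le_one_of_isPrincipal_of_mem_minimalPrimes (Ideal.span {f}) q hq
    · refine le_iInf fun ⟨y, hy⟩ => ?_
      obtain ⟨⟨V, hV⟩, hyV, f', hf', hI'⟩ := hY y
      refine GrothLib.DivPts.one_le_ringKrullDim_stalk hV hyV hf' ?_
      have := (GrothLib.DivPts.mem_support_iff hV hyV 𝓘).mp hy
      rw [hI'] at this
      exact this (Ideal.subset_span rfl)
  rw [hinf, GrothLib.DivPts.ringKrullDim_stalk_eq_height hU hzU]
  -- the local ring
  letI := TopCat.Presheaf.algebra_section_stalk X.presheaf (U := U) ⟨ζ, hζU⟩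
  haveI := hU.isLocalization_stalk ⟨ζ, hζU⟩
  let S := X.presheaf.stalk ζ
  haveI : IsLocalization P.asIdeal.primeCompl S := hU.isLocalization_stalk ⟨ζ, hζU⟩
  haveI : IsNoetherianRing S := IsLocalization.isNoetherianRing P.asIdeal.primeCompl S inferInstance
  let c : PrimeSpectrum S → PrimeSpectrum A := PrimeSpectrum.comap (algebraMap A S)
  have hc : Function.Injective c := PrimeSpectrum.localization_comap_injective S P.asIdeal.primeCompl
  have hcP : ∀ q, c q ≤ P := fun q x hx => by
    by_contra hxP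
    exact q.isPrime.ne_top (Ideal.eq_top_of_isUnit_mem _ hx (IsLocalization.map_units S (⟨x, hxP⟩ : P.asIdeal.primeCompl)))
  have hex : ∀ r : PrimeSpectrum A, r ≤ P → ∃ q, c q = r := by
    intro r hr
    have h : r ∈ Set.range c := by
      rw [PrimeSpectrum.localization_comap_range S P.asIdeal.primeCompl]
      exact Set.disjoint_left.mpr fun x hx hxr => hx (hr hxr)
    exact h
  have hcle : ∀ a b, c a ≤ c b ↔ a ≤ b := by
    intro a b
    refine ⟨fun h => ?_, fun h => Ideal.comap_mono h⟩
    show a.asIdeal ≤ b.asIdeal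
    rw [← IsLocalization.map_comap P.asIdeal.primeCompl S a.asIdeal, ← IsLocalization.map_comap P.asIdeal.primeCompl S b.asIdeal]
    exact Ideal.map_mono h
  -- the least prime
  have hgU : genericPoint X ∈ U := hgen (genericPoint_specializes ζ)
  set G := hU.primeIdealOf ⟨genericPoint X, hgU⟩
  have hG : ∀ r : PrimeSpectrum A, G ≤ r := fun r => (hle_iff _ _).mpr (by
    rw [show hU.fromSpec G = genericPoint X from hU.fromSpec_primeIdealOf _]
    exact genericPoint_specializes _)
  obtain ⟨g, hg⟩ := hex G (hG P)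
  obtain ⟨p, hp⟩ := hex Q hQP
  obtain ⟨m, hm⟩ := hex P le_rfl
  have hcov : p ⋖ m := by
    refine ⟨lt_of_le_not_ge ((hcle _ _).mp (by rw [hp, hm]; exact hQP)) fun h => hfQ (?_), fun r h1 h2 => ?_⟩
    · have h' := (hcle _ _).mpr h
      rw [hp, hm] at h'
      exact h' hfP
    · have hr1 : Q ≤ c r := hp ▸ (hcle _ _).mpr h1.le
      have hr2 : c r ≤ P := hcP r
      have hne : c r ≠ P := fun e => h2.ne (hc (e.trans hm.symm))
      have hne' : c r ≠ Q := fun e => h1.ne' (hc (e.trans hp.symm))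
      let π := Ideal.Quotient.mk Q.asIdeal
      have hkerle : ∀ J : Ideal A, Q.asIdeal ≤ J → (J.map π).comap π = J := fun J hJ => by
        rw [Ideal.comap_map_of_surjective _ Ideal.Quotient.mk_surjective, ← RingHom.ker_eq_comap_bot,
          Ideal.mk_ker, sup_eq_left.mpr hJ]
      haveI hP' : (P.asIdeal.map π).IsPrime := Ideal.isPrime_map_quotientMk_of_isPrime hQP
      haveI hR' : ((c r).asIdeal.map π).IsPrime := Ideal.isPrime_map_quotientMk_of_isPrime hr1
      have hminq : P.asIdeal.map π ∈ (Ideal.span {π f}).minimalPrimes := by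
        refine ⟨⟨hP', (Ideal.span_singleton_le_iff_mem _).mpr (Ideal.mem_map_of_mem π hfP)⟩, fun q hq hle => ?_⟩
        have hQq : Q.asIdeal ≤ q.comap π := fun x hx => by
          show π x ∈ q
          rw [Ideal.Quotient.eq_zero_iff_mem.mpr hx]; exact q.zero_mem
        haveI := hq.1
        have h3 := hmin'.2 (y := q.comap π) ⟨Ideal.comap_isPrime π q, sup_le hQq
          ((Ideal.span_singleton_le_iff_mem _).mpr (hq.2 (Ideal.subset_span rfl)))⟩
          ((Ideal.comap_mono hle).trans (hkerle _ hQP).le)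
        exact (Ideal.map_mono h3).trans Ideal.map_comap_le
      have h4 := Ideal.height_le_one_of_isPrincipal_of_mem_minimalPrimes (Ideal.span {π f}) _ hminq
      have h5 : (⊥ : Ideal (A ⧸ Q.asIdeal)) < (c r).asIdeal.map π := by
        refine bot_lt_iff_ne_bot.mpr fun e => hne' (PrimeSpectrum.ext ?_)
        rw [← hkerle _ hr1, e, ← RingHom.ker_eq_comap_bot, Ideal.mk_ker]
      have h6 : (c r).asIdeal.map π < P.asIdeal.map π := by
        refine lt_of_le_of_ne (Ideal.map_mono hr2) fun e => hne (PrimeSpectrum.ext ?_)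
        rw [← hkerle _ hr1, e, hkerle _ hQP]
      have h7 := Ideal.height_strict_mono_of_isPrime h6
      have h8 := Ideal.height_strict_mono_of_isPrime h5
      rw [Ideal.height_bot] at h8
      have h9 : ((c r).asIdeal.map π).height < 1 := h7.trans_le h4
      rw [ENat.lt_one_iff_eq_zero] at h9
      exact absurd h9 h8.ne'
  have key := height_eq_succ_of_covBy (hcat ζ) g
    (fun q => (hcle _ _).mp (by rw [hg]; exact hG _)) hcov
  have hh : ∀ q, (c q).asIdeal.height = q.asIdeal.height := fun q => IsLocalization.height_under P.asIdeal.primeCompl q.asIdeal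
  rw [← hh, ← hh, hp, hm] at key
  rw [GrothLib.DivPts.ringKrullDim_stalk_eq_height hU hζU, key, WithBot.coe_add, WithBot.coe_one, add_comm]

end GrothLib.RLpsi8
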