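import Groth.Agent.Lib.RLpsi8.Dominant

/-!
# `r_{L,ψ}` and filtered colimits of graded algebras
-/

set_option autoImplicit false
set_option backward.isDefEq.respectTransparency false
set_option maxHeartbeats 400000

universe u

open CategoryTheory CategoryTheory.Limits AlgebraicGeometry TopologicalSpace Opposite
open GrothLib.RelProjK (dg rs em mem_opensRange_em)
open GrothLib.RelCone8 (Pair gu Gu IsQ)
open scoped HomogeneousIdeal

noncomputable section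

namespace GrothLib.RLpsi8

variable {Y X P PL : Scheme.{u}} {q : X ⟶ Y} {L : X.Modules} {𝒮 : RelProj.QCGrAlg Y} {𝒮L : RelProj.QCGrAlg X}
  {j : L ⟶ 𝒮L.toModule} (hL : PicF.IsInvertible L) (hLq : Coh.IsQCoh L) (hj : RelProj.IsGrSymAlg L 𝒮L j)
  (u : RelProj.QGrHom q 𝒮 𝒮L)
  {p : P ⟶ Y} {chart : ∀ (U : Y.Opens) (hU : IsAffineOpen U), (((p ⁻¹ᵁ U : P.Opens) : Scheme.{u}) ≅ Proj (𝒮.deg U hU))}
  {pL : PL ⟶ X}
  {chartL : ∀ (U : X.Opens) (hU : IsAffineOpen U), (((pL ⁻¹ᵁ U : PL.Opens) : Scheme.{u}) ≅ Proj (𝒮L.deg U hU))}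
  (hP : RelProj.IsRelProj 𝒮 p chart) (hPL : RelProj.IsRelProj 𝒮L pL chartL)

theorem exists_affine_mem (y : Y) : ∃ U : Y.AffineZariskiSite, y ∈ U.1 := by
  obtain ⟨U, hU, hy, -⟩ := exists_isAffineOpen_mem_and_subset (Opens.mem_top y)
  exact ⟨⟨U, hU⟩, hy⟩

/-- A homogeneous lift of a homogeneous element. -/
theorem exists_homogeneous_lift {𝒯 : RelProj.QCGrAlg Y} (v : 𝒯.toQCAlg ⟶ 𝒮.toQCAlg) (hv : RelProj.IsGradedHom v)
    (U : Y.AffineZariskiSite) {n : ℕ} {s : 𝒮.presheaf.obj (op U.1)} (hs : s ∈ dg 𝒮 U n)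
    {y : 𝒯.presheaf.obj (op U.1)} (hy : (v.hom.app (op U.1)).hom y = s) :
    ∃ y' ∈ dg 𝒯 U n, (v.hom.app (op U.1)).hom y' = s := by
  classical
  refine ⟨DirectSum.decompose (dg 𝒯 U) y n, SetLike.coe_mem _, ?_⟩
  show RelProj.gradedHomAt v hv U.1 U.2 _ = s
  rw [GradedRingHom.map_directSumDecompose]
  show (DirectSum.decompose (dg 𝒮 U) ((v.hom.app (op U.1)).hom y) n : 𝒮.presheaf.obj (op U.1)) = s
  rw [hy, DirectSum.decompose_of_mem_same (dg 𝒮 U) hs]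

variable {Λ : Type u} [Preorder Λ] [IsDirected Λ (· ≤ ·)] [Nonempty Λ]
    (𝒮i : Λ → RelProj.QCGrAlg Y) (φ : ∀ i, (𝒮i i).toQCAlg ⟶ 𝒮.toQCAlg) (hφ : ∀ i, RelProj.IsGradedHom (φ i))
    (t : ∀ i j, i ≤ j → ((𝒮i i).toQCAlg ⟶ (𝒮i j).toQCAlg)) (ht : ∀ i j (h : i ≤ j), RelProj.IsGradedHom (t i j h))
    (hφt : ∀ i j (h : i ≤ j), t i j h ≫ φ j = φ i)
    (hsurj : ∀ (U : Y.Opens), IsAffineOpen U → ∀ x : 𝒮.presheaf.obj (op U),
      ∃ (i : Λ) (y : (𝒮i i).presheaf.obj (op U)), ((φ i).hom.app (op U)).hom y = x)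
    (ui : ∀ i, RelProj.QGrHom q (𝒮i i) 𝒮L) (hui : ∀ i (U : Y.Opens), (ui i).app U = (φ i).hom.app (op U) ≫ u.app U)

include hφ hui in
theorem domQ_ui_le (i : Λ) : RelProj.domQ (ui i) pL chartL ≤ RelProj.domQ u pL chartL := by
  refine iSup_le fun V => ?_
  obtain ⟨⟨U, U'⟩, hle⟩ := V
  rintro _ ⟨y, hy, rfl⟩
  refine RelCone8.emb_mem_Gu_of_mem u pL chartL (i := ⟨⟨U.1, U.2⟩, ⟨U'.1, U'.2⟩, hle⟩) ?_
  obtain ⟨⟨n, a⟩, ha⟩ := (RelCone8.mem_domOpen_iff _ y).1 hy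
  refine (RelCone8.mem_domOpen_iff _ y).2 ⟨⟨n, ⟨((φ i).hom.app (op U.1)).hom a.1, hφ i U.1 U.2 _ _ a.2⟩⟩, ?_⟩
  have e := appLE_comp u (φ i) (ui i) (hui i) U.1 U'.1 hle a.1
  exact e ▸ ha

include hφt hui in
theorem ui_eq {i j : Λ} (h : i ≤ j) (U : Y.Opens) : (ui i).app U = (t i j h).hom.app (op U) ≫ (ui j).app U := by
  rw [hui i U, hui j U, ← Category.assoc, ← hφt i j h]
  rfl

include ht hφt hui in
theorem domQ_ui_mono {i j : Λ} (h : i ≤ j) : RelProj.domQ (ui i) pL chartL ≤ RelProj.domQ (ui j) pL chartL := by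
  refine iSup_le fun V => ?_
  obtain ⟨⟨U, U'⟩, hle⟩ := V
  rintro _ ⟨y, hy, rfl⟩
  refine RelCone8.emb_mem_Gu_of_mem (ui j) pL chartL (i := ⟨⟨U.1, U.2⟩, ⟨U'.1, U'.2⟩, hle⟩) ?_
  obtain ⟨⟨n, a⟩, ha⟩ := (RelCone8.mem_domOpen_iff _ y).1 hy
  refine (RelCone8.mem_domOpen_iff _ y).2 ⟨⟨n, ⟨((t i j h).hom.app (op U.1)).hom a.1, ht i j h U.1 U.2 _ _ a.2⟩⟩, ?_⟩
  have e := appLE_comp (ui j) (t i j h) (ui i) (ui_eq u 𝒮i φ t hφt ui hui h) U.1 U'.1 hle a.1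
  exact e ▸ ha

include hL hLq hj hP hPL hφ ht hφt hsurj hui in
theorem exists_domQ_ui_eq_top [CompactSpace Y] [QuasiCompact q] (htop : RelProj.domQ u pL chartL = ⊤) :
    ∃ i, RelProj.domQ (ui i) pL chartL = ⊤ := by
  classical
  haveI := isIso_relProj hLq hj hPL hL
  haveI : CompactSpace X := QuasiCompact.compactSpace_of_compactSpace q
  obtain ⟨r, hr, -⟩ := RelCone8.existsUnique_isQ (p' := pL) (chart' := chartL) u hPL (chart := chart) hP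
  have hx : ∀ x : X, ∃ (i : Λ) (U : Y.AffineZariskiSite) (n : ℕ) (y : (𝒮i i).presheaf.obj (op U.1)),
      0 < n ∧ y ∈ dg (𝒮i i) U n ∧ x ∈ XS (ui i) U n y := by
    intro x
    obtain ⟨z, rfl⟩ := pL.surjective x
    obtain ⟨U, hU⟩ := exists_affine_mem (q (pL z))
    obtain ⟨n, s, hn, hs, hxs⟩ := exists_mem_XS hL hLq hj u hP hPL ((RelCone8.isQ_iff u r).mp hr)
      ⟨z, by show z ∈ RelProj.domQ u pL chartL; rw [htop]; trivial⟩ U hU
    obtain ⟨i, y, hy⟩ := hsurj U.1 U.2 s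
    obtain ⟨y', hy', hys⟩ := exists_homogeneous_lift (φ i) (hφ i) U hs hy
    refine ⟨i, U, n, y', hn, hy', ?_⟩
    rw [XS_comp u (φ i) (ui i) (hui i), hys]
    exact hxs
  choose i U n y hn hy hxy using hx
  obtain ⟨F, hF⟩ := isCompact_univ.elim_finite_subcover (fun x => (XS (ui (i x)) (U x) (n x) (y x) : Set X))
    (fun x => (XS (ui (i x)) (U x) (n x) (y x)).isOpen) fun x _ => Set.mem_iUnion.mpr ⟨x, hxy x⟩
  obtain ⟨k, hk⟩ := (F.image i).exists_le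
  refine ⟨k, top_le_iff.mp fun z _ => ?_⟩
  obtain ⟨x, hxF, hz⟩ := Set.mem_iUnion₂.mp (hF (Set.mem_univ (pL z)))
  exact domQ_ui_mono u 𝒮i φ t ht hφt ui hui (hk _ (Finset.mem_image_of_mem i hxF))
    (preimage_XS_le hL hLq hj (ui (i x)) hPL (U x) (hn x) (hy x) hz)

variable {r : ((RelProj.domQ u pL chartL : PL.Opens) : Scheme.{u}) ⟶ P}
  (hr : RelProj.IsProjQMapOn u p chart pL chartL (RelProj.domQ u pL chartL) r)
    {Pi : Λ → Scheme.{u}} {pi : ∀ i, Pi i ⟶ Y}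
    {charti : ∀ i (U : Y.Opens) (hU : IsAffineOpen U), ((((pi i) ⁻¹ᵁ U : (Pi i).Opens) : Scheme.{u}) ≅ Proj ((𝒮i i).deg U hU))}
    (hPi : ∀ i, RelProj.IsRelProj (𝒮i i) (pi i) (charti i))
    {ri : ∀ i, ((RelProj.domQ (ui i) pL chartL : PL.Opens) : Scheme.{u}) ⟶ Pi i}
    (hri : ∀ i, RelProj.IsProjQMapOn (ui i) (pi i) (charti i) pL chartL (RelProj.domQ (ui i) pL chartL) (ri i))

include hL hLq hj hP hPL hr hφ hsurj hui hPi hri in
theorem isDominant_of_colimit (hd : ∀ i, IsDominant (ri i)) : IsDominant r := by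
  refine (isDominant_iff hL hLq hj u hP hPL hr id exists_affine_mem).mpr fun U n hn s hs hb => ?_
  obtain ⟨i, y, hy⟩ := hsurj U.1 U.2 s
  obtain ⟨y', hy', hys⟩ := exists_homogeneous_lift (φ i) (hφ i) U hs hy
  replace hb : XS u U n s = ⊥ := hb
  rw [← hys, ← XS_comp u (φ i) (ui i) (hui i)] at hb
  have := ((isDominant_iff hL hLq hj (ui i) (hPi i) hPL (hri i) id exists_affine_mem).mp (hd i) U n hn y' hy' hb).map
    ((φ i).hom.app (op U.1)).hom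
  exact (congrArg IsNilpotent hys).mp this

include hL hLq hj hP hPL hr hφ hui hPi hri in
theorem isDominant_ri (hinj : ∀ i (U : Y.Opens), IsAffineOpen U → Function.Injective ((φ i).hom.app (op U)).hom)
    (hd : IsDominant r) (i : Λ) : IsDominant (ri i) := by
  refine (isDominant_iff hL hLq hj (ui i) (hPi i) hPL (hri i) id exists_affine_mem).mpr fun U n hn y hy hb => ?_
  replace hb : XS (ui i) U n y = ⊥ := hb
  rw [XS_comp u (φ i) (ui i) (hui i)] at hb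
  obtain ⟨k, hk⟩ := (isDominant_iff hL hLq hj u hP hPL hr id exists_affine_mem).mp hd U n hn _ (hφ i U.1 U.2 n y hy) hb
  exact ⟨k, hinj i U.1 U.2 (by rw [map_pow, hk, map_zero])⟩

end GrothLib.RLpsi8
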