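import Groth.Agent.Lib.RLpsi8.ConeExpand
import Groth.Agent.Lib.RLpsi8.AmpleDict
import Groth.Agent.Lib.Ample.RelAmple

/-!
# A contraction of the vertex section implies relative ampleness
-/

set_option autoImplicit false
set_option backward.isDefEq.respectTransparency false
set_option maxHeartbeats 400000

universe u

open CategoryTheory CategoryTheory.Limits AlgebraicGeometry TopologicalSpace Opposite
open GrothLib.RelProjK (dg rs em)
open GrothLib.InvExt (IsGen mres)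
open GrothLib.Ample (res res_res res_self Cocycle)

noncomputable section

namespace GrothLib.RLpsi8.ConeSeries

variable {X : Scheme.{u}} {L : X.Modules} {𝒜 : RelProj.QCGrAlg X} {j : L ⟶ 𝒜.toModule}
  {aug : 𝒜.toQCAlg ⟶ RelSpec.QCAlg.unit X} {j0 : X ⟶ 𝒜.toQCAlg.spec} {C : Scheme.{u}} {W : C.Opens}
  {O : X.Opens} (D : Data L 𝒜 j aug j0 C W O) {c : Cocycle X} (φ : L ≅ c.twist 1)

theorem Data.exists_sect (f : Γ(C, W)) (N : ℕ) {O' : X.Opens} (hO' : O' ≤ O) :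
    ∃ a : c.sect N O', ∀ (i : c.ι) (V : X.Opens) (hV : IsAffineOpen V) (hVO : V ≤ O') (hVi : V ≤ c.D i),
      res (le_inf hVO hVi) (a.1 i) = D.coeff f N (ctriv φ i hVi hV) (hVO.trans hO') := by
  let B := {Vf : X.Opens // IsAffineOpen Vf}
  have hres : ∀ (i : c.ι) (V V' : B) (h : V'.1 ≤ V.1) (hVO : V.1 ≤ O') (hVi : V.1 ≤ c.D i),
      res h (D.coeff f N (ctriv φ i hVi V.2) (hVO.trans hO')) =
        D.coeff f N (ctriv φ i (h.trans hVi) V'.2) ((h.trans hVO).trans hO') := by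
    intro i V V' h hVO hVi
    have := D.coeff_res f N (ctriv φ i hVi V.2) (ctriv φ i (h.trans hVi) V'.2) h (hVO.trans hO') 1
      (by rw [map_one, one_mul, T_ctriv, T_ctriv]; exact ares_Tg φ i hVi h)
    rwa [one_pow, one_mul] at this
  have hglue : ∀ i, ∃ a : Γ(X, O' ⊓ c.D i), ∀ (V : B) (hV : V.1 ≤ O' ⊓ c.D i),
      res hV a = D.coeff f N (ctriv φ i (hV.trans inf_le_right) V.2) ((hV.trans inf_le_left).trans hO') := by
    intro i
    let κ := {V : B // V.1 ≤ O' ⊓ c.D i}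
    have hcov : O' ⊓ c.D i ≤ ⨆ V : κ, V.1.1 := fun x hx => by
      obtain ⟨V, hV, hxV, hle⟩ := exists_isAffineOpen_mem_and_subset hx
      exact Opens.mem_iSup.mpr ⟨⟨⟨V, hV⟩, hle⟩, hxV⟩
    obtain ⟨a, ha, -⟩ := X.sheaf.existsUnique_gluing' (fun V : κ => V.1.1) (O' ⊓ c.D i)
      (fun V => homOfLE V.2) hcov
      (fun V => D.coeff f N (ctriv φ i (V.2.trans inf_le_right) V.1.2) ((V.2.trans inf_le_left).trans hO'))
      fun V V' => by
        show res inf_le_left _ = res inf_le_right _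
        refine Ample.eq_of_cover (fun T : {T : B // T.1 ≤ V.1.1 ⊓ V'.1.1} => T.1.1) (fun T => T.2) (fun x hx => ?_)
          fun T => ?_
        · obtain ⟨U, hU, hxU, hle⟩ := exists_isAffineOpen_mem_and_subset hx
          exact Opens.mem_iSup.mpr ⟨⟨⟨U, hU⟩, hle⟩, hxU⟩
        · rw [res_res, res_res]
          exact (hres i V.1 T.1 _ (V.2.trans inf_le_left) _).trans (hres i V'.1 T.1 _ (V'.2.trans inf_le_left) _).symm
    exact ⟨a, fun V hV => ha ⟨V, hV⟩⟩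
  choose a ha using hglue
  have hmem : a ∈ c.sect N O' := by
    intro i k V hi hk
    refine Ample.eq_of_cover (fun T : {T : B // T.1 ≤ V} => T.1.1) (fun T => T.2) (fun x hx => ?_) fun T => ?_
    · obtain ⟨U, hU, hxU, hle⟩ := exists_isAffineOpen_mem_and_subset hx
      exact Opens.mem_iSup.mpr ⟨⟨⟨U, hU⟩, hle⟩, hxU⟩
    · have hii : T.1.1 ≤ c.D i := (T.2.trans hi).trans inf_le_right
      have hkk : T.1.1 ≤ c.D k := (T.2.trans hk).trans inf_le_right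
      rw [map_mul, map_pow, c.res_G, res_res, res_res, ha i T.1, ha k T.1]
      have := D.coeff_res f N (ctriv φ k hkk T.1.2) (ctriv φ i hii T.1.2) le_rfl
        (((T.2.trans hi).trans inf_le_left).trans hO') (c.G i k hii hkk) (by
          rw [T_ctriv, T_ctriv]
          exact (ares_Tg φ k hkk le_rfl).trans (Tg_change φ i k hii hkk))
      rw [← this]; exact congrArg _ (res_self _ _)
  exact ⟨⟨a, hmem⟩, fun i V hV hVO hVi => ha i ⟨V, hV⟩ (le_inf hVO hVi)⟩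

variable {Y : Scheme.{u}}

/-- A morphism contracting exactly the vertex section shows that the bundle is relatively ample. -/
theorem isRelAmple_of_contraction (p : X ⟶ Y) [QuasiCompact p] (hL : PicF.IsInvertible L) (hLq : Coh.IsQCoh L)
    (hj : RelProj.IsGrSymAlg L 𝒜 j) (h0 : RelCone.StrZeroBij 𝒜) (haug : RelCone.IsAugmentation 𝒜 aug)
    (hj0 : RelCone.IsVertex 𝒜 aug j0) (V0 : 𝒜.toQCAlg.spec.Opens)
    (hV0 : (V0 : Set 𝒜.toQCAlg.spec) = (Set.range j0.base)ᶜ) {C : Scheme.{u}} (ε : Y ⟶ C)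
    (q : 𝒜.toQCAlg.spec ⟶ C) (hjq : j0 ≫ q = p ≫ ε) (hoi : IsOpenImmersion (V0.ι ≫ q))
    (hdisj : Set.range (V0.ι ≫ q).base ∩ Set.range ε.base = ∅) : RelAmple.IsRelAmple p L := by
  haveI := hoi
  refine Ample.isRelAmple_of_cover fun y => ?_
  obtain ⟨W, hW, hyW, -⟩ := exists_isAffineOpen_mem_and_subset (x := ε y) (U := (⊤ : C.Opens)) trivial
  obtain ⟨U, hU, hyU, hUW⟩ := exists_isAffineOpen_mem_and_subset (x := y) (U := ε ⁻¹ᵁ W) hyW
  refine ⟨U, hyU, hU, ?_⟩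
  let O : X.Opens := p ⁻¹ᵁ U
  have hjx : ∀ x : X, q (j0 x) = ε (p x) := fun x => by
    rw [← Scheme.Hom.comp_apply, hjq]; rfl
  let D : Data L 𝒜 j aug j0 C W O := ⟨hLq, hj, haug, hj0, q, fun x hx => by rw [hjx]; exact hUW hx⟩
  obtain ⟨c, ⟨φ⟩⟩ := Ample.exists_cocycle hL
  obtain ⟨d⟩ := c.nonempty_restrict_iso O.ι φ
  haveI : CompactSpace (O : Scheme.{u}) := isCompact_iff_compactSpace.mp (p.isCompact_preimage hU.isCompact)
  refine ((c.comap O.ι).isAmple_iff d).mpr ⟨inferInstance, fun x => ?_⟩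
  obtain ⟨U₀, hU₀, hxU₀, hU₀O⟩ := exists_isAffineOpen_mem_and_subset (x := x.1) (U := O) x.2
  obtain ⟨i, V, hV, hVi, hVU₀, hxV⟩ := exists_ctriv (c := c) (W := U₀) hxU₀
  let t := ctriv φ i hVi hV
  have htO : t.V.1 ≤ O := fun z hz => hU₀O (hVU₀ hz)
  obtain ⟨𝔭, h𝔭⟩ : x.1 ∈ Set.range t.V.2.fromSpec := by rw [t.V.2.range_fromSpec]; exact hxV
  let z := D.linePt t 𝔭
  have hzV0 : z ∈ V0 := by
    show z ∈ (V0 : Set 𝒜.toQCAlg.spec)
    rw [hV0]; exact D.linePt_notMem_range h0 t 𝔭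
  let Ω : C.Opens := (V0.ι ≫ q) ''ᵁ (V0.ι ⁻¹ᵁ (𝒜.toQCAlg.π ⁻¹ᵁ U₀))
  have hzΩ : q z ∈ Ω := by
    refine ⟨⟨z, hzV0⟩, ?_, rfl⟩
    show 𝒜.toQCAlg.π z ∈ U₀
    rw [D.π_linePt, h𝔭]; exact hxU₀
  obtain ⟨f, hfΩ, hzf⟩ := hW.exists_basicOpen_le (V := Ω) ⟨q z, hzΩ⟩ (D.top_le t htO (x := genPt t 𝔭) trivial)
  have hε : ∀ y' : Y, ε y' ∉ C.basicOpen f := fun y' hy' => by
    obtain ⟨w, -, hw⟩ := hfΩ hy'
    exact Set.eq_empty_iff_forall_notMem.1 hdisj (ε y') ⟨⟨w, hw⟩, y', rfl⟩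
  obtain ⟨n, hn⟩ := D.line_nonvanish f t htO 𝔭 hzf (by rw [show D.q = q from rfl, hjx]; exact hε _)
  have hO' : O.ι ''ᵁ ⊤ ≤ O := by rw [Scheme.Opens.ι_image_top]
  obtain ⟨β, hβ⟩ := D.exists_sect φ f (n + 1) hO'
  have hmem : ∀ {y' : X} (i : c.ι) (V : X.Opens) (hV : IsAffineOpen V) (hVO : V ≤ O.ι ''ᵁ ⊤) (hVi : V ≤ c.D i),
      y' ∈ V → (y' ∈ X.basicOpen (β.1 i) ↔
        y' ∈ X.basicOpen (D.coeff f (n + 1) (ctriv φ i hVi hV) (hVO.trans hO'))) := by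
    intro y' i V hV hVO hVi hy'
    rw [← hβ i V hV hVO hVi]
    show _ ↔ y' ∈ X.basicOpen ((X.presheaf.map (homOfLE (le_inf hVO hVi)).op).hom (β.1 i))
    rw [Scheme.basicOpen_res]
    exact ⟨fun h => ⟨hy', h⟩, fun h => h.2⟩
  refine ⟨n, c.pullSect O.ι (Ample.LineData.le_preimage_image O.ι ⊤) β, ?_, ?_⟩
  · have hxO : x.1 ∈ O := x.2
    obtain ⟨w, hw, hwx⟩ : x.1 ∈ O.ι ''ᵁ (c.comap O.ι).locus (c.pullSect O.ι (Ample.LineData.le_preimage_image O.ι ⊤) β) := by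
      refine (mem_image_locus_iff O β hxO (hVi hxV)).2 ?_
      refine (hmem i V hV (by rw [Scheme.Opens.ι_image_top]; exact htO) hVi hxV).2 ?_
      rw [← h𝔭]; exact hn
    exact O.ι.isOpenEmbedding.injective hwx ▸ hw
  · refine (c.comap O.ι).isAffineOpen_locus_of_le _ (W := O.ι ⁻¹ᵁ U₀) ?_ ?_
    · refine (Scheme.Hom.isAffineOpen_iff_of_isOpenImmersion O.ι).mp ?_
      rw [image_preimage_ι hU₀O]
      exact hU₀
    · intro w hw
      show w.1 ∈ U₀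
      by_contra hw'
      obtain ⟨i', V', hV', hVi', hVO', hwV'⟩ := exists_ctriv (c := c) (W := O) (x := w.1) w.2
      have hVO'' : V' ≤ O.ι ''ᵁ ⊤ := by rw [Scheme.Opens.ι_image_top]; exact hVO'
      have h1 := (hmem i' V' hV' hVO'' hVi' hwV').1 ((mem_image_locus_iff O β w.2 (hVi' hwV')).1 ⟨w, hw, rfl⟩)
      let t' := ctriv φ i' hVi' hV'
      obtain ⟨𝔮, h𝔮⟩ : w.1 ∈ Set.range t'.V.2.fromSpec := by rw [t'.V.2.range_fromSpec]; exact hwV'
      rw [← h𝔮] at h1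
      refine D.line_vanish f t' (hVO''.trans hO') 𝔮 ?_ _ h1
      intro hq
      obtain ⟨v, hv, hvq⟩ := hfΩ hq
      have hz' : D.linePt t' 𝔮 ∈ V0 := by
        show _ ∈ (V0 : Set 𝒜.toQCAlg.spec)
        rw [hV0]; exact D.linePt_notMem_range h0 t' 𝔮
      have : v = ⟨D.linePt t' 𝔮, hz'⟩ := (V0.ι ≫ q).isOpenEmbedding.injective hvq
      subst this
      apply hw'
      rw [← h𝔮, ← D.π_linePt]
      exact hv

end GrothLib.RLpsi8.ConeSeries
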