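import Groth.Agent.Lib.RLpsi8.ContractOpen
import Groth.Agent.Lib.RLpsi8.ConeAmple

/-!
# The contraction of the vertex section of a relatively ample bundle
-/

set_option autoImplicit false
set_option backward.isDefEq.respectTransparency false
set_option maxHeartbeats 400000

universe u

open CategoryTheory CategoryTheory.Limits AlgebraicGeometry TopologicalSpace Opposite
open GrothLib.RelProjK (dg rs em)
open GrothLib.InvExt (IsGen mres)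
open GrothLib.Ample (res res_res res_self Cocycle)

noncomputable section

namespace GrothLib.RLpsi8.ConeSeries

open GrothLib.RLpsi8.Contract (Setup)

variable {X Y : Scheme.{u}} {L : X.Modules} {𝒜 : RelProj.QCGrAlg X} {j : L ⟶ 𝒜.toModule}
  {aug : 𝒜.toQCAlg ⟶ RelSpec.QCAlg.unit X} {j0 : X ⟶ 𝒜.toQCAlg.spec}

/-- The contraction data of the vertex section. -/
def coneSetup (p : X ⟶ Y) [QuasiCompact p] [QuasiSeparated p] (hj0 : RelCone.IsVertex 𝒜 aug j0) : Setup.{u} where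
  p := p
  h := 𝒜.toQCAlg.π ≫ p
  j := j0
  hjh := by rw [← Category.assoc, hj0.comp_π, Category.id_comp]

theorem top_le_ι {O : X.Opens} (V : X.AffineZariskiSite) (hV : V.1 ≤ O) :
    ⊤ ≤ 𝒜.toQCAlg.ι V.1 V.2 ⁻¹ᵁ (𝒜.toQCAlg.π ⁻¹ᵁ O) :=
  le_trans (𝒜.toQCAlg.top_le_preimage V.1 V.2) (Scheme.Hom.preimage_mono _ (𝒜.toQCAlg.π.preimage_mono hV))

theorem val_ι {O : X.Opens} (f : Γ(𝒜.toQCAlg.spec, 𝒜.toQCAlg.π ⁻¹ᵁ O)) (V : X.AffineZariskiSite) (hV : V.1 ≤ O) :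
    val f (𝒜.toQCAlg.ι V.1 V.2) (top_le_ι V hV) =
      ares 𝒜 hV ((𝒜.toQCAlg.gammaMap.app (op O)).hom f) := by
  have e : (𝒜.toQCAlg.ι V.1 V.2).appLE (𝒜.toQCAlg.π ⁻¹ᵁ O) ⊤ (top_le_ι V hV) ≫
      (Scheme.ΓSpecIso (𝒜.presheaf.obj (op V.1))).hom =
        𝒜.toQCAlg.gammaMap.app (op O) ≫ 𝒜.presheaf.map (homOfLE hV).op := by
    rw [← 𝒜.toQCAlg.gammaMap.naturality (homOfLE hV).op, 𝒜.toQCAlg.gammaMap_app V.1 V.2,
      ← _root_.RLpsi8.appLE_ι_eq_gammaAff]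
    show _ = 𝒜.toQCAlg.spec.presheaf.map (homOfLE (𝒜.toQCAlg.π.preimage_mono hV)).op ≫ _
    rw [Scheme.Hom.map_appLE_assoc]
  exact ConcreteCategory.congr_hom e f

variable (hLq : Coh.IsQCoh L) (hj : RelProj.IsGrSymAlg L 𝒜 j) (h0 : RelCone.StrZeroBij 𝒜)
  (haug : RelCone.IsAugmentation 𝒜 aug) (hj0 : RelCone.IsVertex 𝒜 aug j0)

include hLq hj h0 haug hj0 in
theorem T_notMem_of_notMem_range (t : Triv L) {P : Spec (𝒜.presheaf.obj (op t.V.1))}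
    (hz : 𝒜.toQCAlg.ι t.V.1 t.V.2 P ∉ Set.range j0) : T j t ∉ P.asIdeal := by
  intro hT
  refine hz ((RelCone8.ι_mem_range_vertex_iff h0 haug hj0 t.V.1 t.V.2 P).2 ?_)
  rw [HomogeneousIdeal.toIdeal_irrelevant_le]
  intro d hd a ha
  obtain ⟨k, rfl⟩ := Nat.exists_eq_succ_of_ne_zero hd.ne'
  rw [eq_str_coef_mul hLq hj t ha, pow_succ]
  exact Ideal.mul_mem_left _ _ (Ideal.mul_mem_left _ _ hT)

/-- A function on the bundle given by a section of a positive power over the preimage of an affine open. -/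
theorem exists_good {p : X ⟶ Y} [QuasiCompact p] [QuasiSeparated p] (hLq : Coh.IsQCoh L)
    (hj : RelProj.IsGrSymAlg L 𝒜 j) (h0 : RelCone.StrZeroBij 𝒜) (haug : RelCone.IsAugmentation 𝒜 aug)
    (hj0 : RelCone.IsVertex 𝒜 aug j0) {c : Cocycle X} (φ : L ≅ c.twist 1) (U : Y.Opens) (hU : IsAffineOpen U)
    {n : ℕ} {O : X.Opens} (hO : O = p ⁻¹ᵁ U) (a : c.sect (n + 1) O) (S : X.Opens) (hS : IsAffineOpen S)
    (hSO : S ≤ O) (hloc : ∀ (i : c.ι) (y : X), y ∈ O ⊓ c.D i → (y ∈ S ↔ y ∈ X.basicOpen (a.1 i))) :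
    ∃ g : (coneSetup p hj0).Good, g.U = U ∧ (∀ v : 𝒜.toQCAlg.spec, v ∉ Set.range j0 →
      𝒜.toQCAlg.π v ∈ S → v ∈ 𝒜.toQCAlg.spec.basicOpen g.f) ∧
      ∀ (i : c.ι) (V : X.AffineZariskiSite) (hV : V.1 ≤ O) (hVi : V.1 ≤ c.D i) (hm), val g.f (𝒜.toQCAlg.ι V.1 V.2) hm =
        (𝒜.str.app (op V.1)).hom (res (le_inf hV hVi) (a.1 i)) * Tg j φ i hVi ^ (n + 1) := by
  subst hO
  let O := p ⁻¹ᵁ U
  obtain ⟨z, hz⟩ := exists_rel_of_sect (j := j) φ a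
  haveI := _root_.RLpsi8.isIso_gammaMap 𝒜.toQCAlg
  obtain ⟨f, hf⟩ : ∃ f : Γ(𝒜.toQCAlg.spec, 𝒜.toQCAlg.π ⁻¹ᵁ O), (𝒜.toQCAlg.gammaMap.app (op O)).hom f = z :=
    (ConcreteCategory.bijective_of_isIso (𝒜.toQCAlg.gammaMap.app (op O))).2 _
  have hval : ∀ (i : c.ι) (V : X.AffineZariskiSite) (hV : V.1 ≤ O) (hVi : V.1 ≤ c.D i),
      val f (𝒜.toQCAlg.ι V.1 V.2) (top_le_ι V hV) =
        (𝒜.str.app (op V.1)).hom (res (le_inf hV hVi) (a.1 i)) * Tg j φ i hVi ^ (n + 1) := fun i V hV hVi => by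
    rw [val_ι f V hV, hf, hz i V.1 hV hVi]
  have hmem : ∀ (i : c.ι) (V : X.AffineZariskiSite) (hV : V.1 ≤ O) (hVi : V.1 ≤ c.D i)
      (P : Spec (𝒜.presheaf.obj (op V.1))), 𝒜.toQCAlg.ι V.1 V.2 P ∈ 𝒜.toQCAlg.spec.basicOpen f ↔
        (𝒜.toQCAlg.π (𝒜.toQCAlg.ι V.1 V.2 P) ∈ S ∧ Tg j φ i hVi ∉ P.asIdeal) := by
    intro i V hV hVi P
    rw [mem_basicOpen_iff_val f (𝒜.toQCAlg.ι V.1 V.2) (top_le_ι V hV) P, hval i V hV hVi]
    have e : 𝒜.toQCAlg.π (𝒜.toQCAlg.ι V.1 V.2 P) = V.2.fromSpec (Spec.map (𝒜.str.app (op V.1)) P) := by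
      rw [← Scheme.Hom.comp_apply, 𝒜.toQCAlg.ι_π]; rfl
    have hVy : V.2.fromSpec (Spec.map (𝒜.str.app (op V.1)) P) ∈ V.1 := V.2.range_fromSpec.le ⟨_, rfl⟩
    rw [e, hloc i _ ⟨hV hVy, hVi hVy⟩]
    have hb : V.2.fromSpec (Spec.map (𝒜.str.app (op V.1)) P) ∈ X.basicOpen (a.1 i) ↔
        (𝒜.str.app (op V.1)).hom (res (le_inf hV hVi) (a.1 i)) ∉ P.asIdeal := by
      have h2 := SetLike.ext_iff.mp (V.2.fromSpec_preimage_basicOpen (res (le_inf hV hVi) (a.1 i)))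
        (Spec.map (𝒜.str.app (op V.1)) P)
      refine Iff.trans ?_ h2
      show _ ↔ V.2.fromSpec _ ∈ X.basicOpen ((X.presheaf.map _).hom (a.1 i))
      rw [Scheme.basicOpen_res]
      exact ⟨fun h => ⟨hVy, h⟩, fun h => h.2⟩
    rw [hb]
    constructor
    · intro h
      exact ⟨fun h' => h (P.asIdeal.mul_mem_right _ h'),
        fun h' => h (P.asIdeal.mul_mem_left _ (Ideal.pow_mem_of_mem _ h' _ n.succ_pos))⟩
    · rintro ⟨h1, h2⟩ h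
      rcases P.isPrime.mem_or_mem h with h | h
      · exact h1 h
      · exact h2 (P.isPrime.mem_of_pow_mem _ h)
  have hle : 𝒜.toQCAlg.spec.basicOpen f ≤ 𝒜.toQCAlg.π ⁻¹ᵁ S := by
    intro v hv
    have hvO : 𝒜.toQCAlg.π v ∈ O := 𝒜.toQCAlg.spec.basicOpen_le f hv
    obtain ⟨i, V, hV, hVi, hVO, hxV⟩ := exists_ctriv (c := c) hvO
    obtain ⟨P, rfl⟩ := RelCone8.exists_ι_eq 𝒜.toQCAlg V hV v hxV
    exact ((hmem i ⟨V, hV⟩ hVO hVi P).1 hv).1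
  refine ⟨⟨U, hU, f, ?_, ?_⟩, rfl, fun v hv hvS => ?_, fun i V hV hVi _ => hval i V hV hVi⟩
  · refine Ample.eq_of_cover (fun T : {Vi : X.affineOpens × c.ι // Vi.1.1 ≤ O ∧ Vi.1.1 ≤ c.D Vi.2} => T.1.1.1)
      (fun T => T.2.1) (fun x hx => ?_) fun T => ?_
    · obtain ⟨i, V, hV, hVi, hVO, hxV⟩ := exists_ctriv (c := c) (W := O) hx
      exact Opens.mem_iSup.mpr ⟨⟨(⟨V, hV⟩, i), hVO, hVi⟩, hxV⟩
    · obtain ⟨⟨⟨V, hV⟩, i⟩, hVO, hVi⟩ := T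
      rw [map_zero]
      show (X.presheaf.map (homOfLE hVO).op).hom ((j0.appLE _ O _).hom f) = 0
      let Vz : X.AffineZariskiSite := ⟨V, hV⟩
      have hm : ⊤ ≤ (hV.fromSpec ≫ j0) ⁻¹ᵁ (𝒜.toQCAlg.π ⁻¹ᵁ O) := by
        intro P _
        show 𝒜.toQCAlg.π (j0 (hV.fromSpec P)) ∈ O
        rw [← Scheme.Hom.comp_apply j0, hj0.comp_π]
        exact hVO (hV.range_fromSpec.le ⟨P, rfl⟩)
      have h1 : val f (hV.fromSpec ≫ j0) hm = (X.presheaf.map (homOfLE hVO).op).hom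
          ((j0.appLE (𝒜.toQCAlg.π ⁻¹ᵁ O) O ((coneSetup p hj0).le U)).hom f) := by
        have e : (hV.fromSpec ≫ j0).appLE (𝒜.toQCAlg.π ⁻¹ᵁ O) ⊤ hm ≫ (Scheme.ΓSpecIso Γ(X, V)).hom =
            j0.appLE (𝒜.toQCAlg.π ⁻¹ᵁ O) O ((coneSetup p hj0).le U) ≫ X.presheaf.map (homOfLE hVO).op := by
          rw [← Scheme.Hom.appLE_comp_appLE hV.fromSpec j0 (𝒜.toQCAlg.π ⁻¹ᵁ O) V ⊤
            (fun y hy => (coneSetup p hj0).le U (hVO hy)) hV.fromSpec_preimage_self.ge, Scheme.Hom.appLE_map,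
            Category.assoc]
          have e1 : hV.fromSpec.appLE V ⊤ hV.fromSpec_preimage_self.ge ≫ (Scheme.ΓSpecIso Γ(X, V)).hom = 𝟙 _ := by
            simp only [Scheme.Hom.appLE, IsAffineOpen.fromSpec_app_self, Category.assoc, ← Functor.map_comp_assoc]
            rw [Subsingleton.elim (_ ≫ _ : op (⊤ : (Spec Γ(X, V)).Opens) ⟶ _) (𝟙 _)]
            erw [CategoryTheory.Functor.map_id, Category.id_comp]
            exact Iso.inv_hom_id _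
          erw [e1, Category.comp_id]
        exact ConcreteCategory.congr_hom e f
      refine h1.symm.trans ?_
      rw [val_congr f (hj0.chart V hV) hm (top_le_comp _ (top_le_ι Vz hVO)), val_comp f _ _ (top_le_ι Vz hVO),
        hval i Vz hVO hVi, map_mul, map_pow]
      have hT : (aug.hom.app (op V)).hom (Tg j φ i hVi) = 0 :=
        haug V hV 0 _ (T_mem hj (ctriv φ i hVi hV))
      show _ * (aug.hom.app (op V)).hom (Tg j φ i hVi) ^ (n + 1) = 0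
      rw [hT, zero_pow n.succ_ne_zero, mul_zero]
  · have : IsAffineOpen (𝒜.toQCAlg.π ⁻¹ᵁ S) := hS.preimage 𝒜.toQCAlg.π
    have e := 𝒜.toQCAlg.spec.basicOpen_res f (homOfLE (𝒜.toQCAlg.π.preimage_mono hSO)).op
    rw [inf_eq_right.mpr hle] at e
    show IsAffineOpen (𝒜.toQCAlg.spec.basicOpen f)
    rw [← e]
    exact this.basicOpen _
  · obtain ⟨i, V, hV, hVi, hVS, hxV⟩ := exists_ctriv (c := c) hvS
    obtain ⟨P, rfl⟩ := RelCone8.exists_ι_eq 𝒜.toQCAlg V hV v hxV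
    exact (hmem i ⟨V, hV⟩ (fun y hy => hSO (hVS hy)) hVi P).2
      ⟨hvS, T_notMem_of_notMem_range hLq hj h0 haug hj0 (ctriv φ i hVi hV) hv⟩

/-- Relative ampleness gives the contraction. -/
theorem exists_contraction_good {p : X ⟶ Y} [QuasiCompact p] [QuasiSeparated p] (hL : PicF.IsInvertible L)
    (hLq : Coh.IsQCoh L) (hj : RelProj.IsGrSymAlg L 𝒜 j) (h0 : RelCone.StrZeroBij 𝒜)
    (haug : RelCone.IsAugmentation 𝒜 aug) (hj0 : RelCone.IsVertex 𝒜 aug j0)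
    (hamp : RelAmple.IsRelAmple p L) (v : 𝒜.toQCAlg.spec) (hv : v ∉ Set.range j0) :
    ∃ g : (coneSetup p hj0).Good, v ∈ 𝒜.toQCAlg.spec.basicOpen g.f := by
  obtain ⟨U, hU, hxU, -⟩ := exists_isAffineOpen_mem_and_subset (x := p (𝒜.toQCAlg.π v)) (U := (⊤ : Y.Opens)) trivial
  let O : X.Opens := p ⁻¹ᵁ U
  obtain ⟨c, ⟨φ⟩⟩ := Ample.exists_cocycle hL
  obtain ⟨d⟩ := c.nonempty_restrict_iso O.ι φ
  obtain ⟨n, a, hxa, haff⟩ := (((c.comap O.ι).isAmple_iff d).mp (hamp.2 ⟨U, hU⟩)).2 ⟨_, hxU⟩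
  obtain ⟨β, rfl⟩ := (c.bijective_pullSect O.ι ⊤).2 a
  let S : X.Opens := O.ι ''ᵁ (c.comap O.ι).locus (c.pullSect O.ι (Ample.LineData.le_preimage_image O.ι ⊤) β)
  have hO' : O ≤ O.ι ''ᵁ ⊤ := by rw [Scheme.Opens.ι_image_top]
  have hSO : S ≤ O := by rintro _ ⟨w, -, rfl⟩; exact w.2
  obtain ⟨g, -, hg, -⟩ := exists_good hLq hj h0 haug hj0 φ U hU (O := O) rfl (c.sectRes hO' β) S
    (haff.image_of_isOpenImmersion O.ι) hSO fun i y hy => by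
      refine (mem_image_locus_iff O β hy.1 hy.2).trans ?_
      show _ ↔ y ∈ X.basicOpen ((X.presheaf.map (homOfLE (inf_le_inf_right _ hO')).op).hom (β.1 i))
      rw [Scheme.basicOpen_res]
      exact ⟨fun h => ⟨hy, h⟩, fun h => h.2⟩
  exact ⟨g, hg v hv ⟨⟨_, hxU⟩, hxa, rfl⟩⟩

end GrothLib.RLpsi8.ConeSeries
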