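import Groth.Agent.Lib.RLpsi8.ConeSeries
import Mathlib.RingTheory.LocalRing.ResidueField.Ideal

/-!
# Functions near the vertex give sections of powers of the bundle
-/

set_option autoImplicit false
set_option backward.isDefEq.respectTransparency false
set_option maxHeartbeats 400000

universe u

open CategoryTheory CategoryTheory.Limits AlgebraicGeometry TopologicalSpace Opposite
open GrothLib.RelProjK (dg rs em)
open GrothLib.InvExt (IsGen mres)
open GrothLib.Ample (res res_res res_self Cocycle)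

noncomputable section

namespace GrothLib.RLpsi8.ConeSeries

variable {C : Scheme.{u}} {W : C.Opens}

/-- Pullback of a function along a morphism from a spectrum landing in `W`. -/
def val (φ : Γ(C, W)) {R : CommRingCat.{u}} (h : Spec R ⟶ C) (hW : ⊤ ≤ h ⁻¹ᵁ W) : R :=
  (Scheme.ΓSpecIso R).hom ((h.appLE W ⊤ hW).hom φ)

theorem val_congr (φ : Γ(C, W)) {R : CommRingCat.{u}} {h h' : Spec R ⟶ C} (e : h = h') (hW : ⊤ ≤ h ⁻¹ᵁ W)
    (hW' : ⊤ ≤ h' ⁻¹ᵁ W) : val φ h hW = val φ h' hW' := by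
  subst e; rfl

theorem top_le_comp {R R' : CommRingCat.{u}} (α : R ⟶ R') {h : Spec R ⟶ C} (hW : ⊤ ≤ h ⁻¹ᵁ W) :
    ⊤ ≤ (Spec.map α ≫ h) ⁻¹ᵁ W := fun _ _ => hW trivial

theorem val_comp (φ : Γ(C, W)) {R R' : CommRingCat.{u}} (α : R ⟶ R') (h : Spec R ⟶ C) (hW : ⊤ ≤ h ⁻¹ᵁ W) :
    val φ (Spec.map α ≫ h) (top_le_comp α hW) = α.hom (val φ h hW) := by
  have e : (Spec.map α ≫ h).appLE W ⊤ (top_le_comp α hW) ≫ (Scheme.ΓSpecIso R').hom =
      (h.appLE W ⊤ hW ≫ (Scheme.ΓSpecIso R).hom) ≫ α := by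
    rw [← Scheme.Hom.appLE_comp_appLE (Spec.map α) h W ⊤ ⊤ hW le_rfl, Category.assoc, Category.assoc,
      ← Scheme.ΓSpecIso_naturality α]
    rw [Scheme.Hom.appTop, Scheme.Hom.app_eq_appLE]
    rfl
  exact ConcreteCategory.congr_hom e φ

theorem mem_basicOpen_iff_val (φ : Γ(C, W)) {R : CommRingCat.{u}} (h : Spec R ⟶ C) (hW : ⊤ ≤ h ⁻¹ᵁ W)
    (p : Spec R) : h p ∈ C.basicOpen φ ↔ val φ h hW ∉ p.asIdeal := by
  have e : (h ⁻¹ᵁ C.basicOpen φ) = PrimeSpectrum.basicOpen (val φ h hW) := by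
    rw [← basicOpen_eq_of_affine (val φ h hW)]
    have : (Spec R).basicOpen ((Scheme.ΓSpecIso R).inv (val φ h hW)) = (Spec R).basicOpen ((h.appLE W ⊤ hW).hom φ) := by
      congr 1
      exact ConcreteCategory.congr_hom (Scheme.ΓSpecIso R).hom_inv_id _
    rw [this, Scheme.basicOpen_appLE]
    exact (top_inf_eq _).symm
  exact (SetLike.ext_iff.mp e p)

variable {X : Scheme.{u}} {L : X.Modules} {𝒜 : RelProj.QCGrAlg X} {j : L ⟶ 𝒜.toModule}
  {aug : 𝒜.toQCAlg ⟶ RelSpec.QCAlg.unit X} {j0 : X ⟶ 𝒜.toQCAlg.spec}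

/-- The standing data: the algebra of a line bundle with its vertex, and a map to `C` sending the vertex over `O` into `W`. -/
structure Data (L : X.Modules) (𝒜 : RelProj.QCGrAlg X) (j : L ⟶ 𝒜.toModule)
    (aug : 𝒜.toQCAlg ⟶ RelSpec.QCAlg.unit X) (j0 : X ⟶ 𝒜.toQCAlg.spec) (C : Scheme.{u}) (W : C.Opens)
    (O : X.Opens) where
  hLq : Coh.IsQCoh L
  hj : RelProj.IsGrSymAlg L 𝒜 j
  haug : RelCone.IsAugmentation 𝒜 aug
  hj0 : RelCone.IsVertex 𝒜 aug j0
  q : 𝒜.toQCAlg.spec ⟶ C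
  hO : ∀ x ∈ O, q (j0 x) ∈ W

variable {O : X.Opens} (D : Data L 𝒜 j aug j0 C W O)

/-- The formal neighbourhood of the vertex over a trivialisation. -/
def Data.nbhd (t : Triv L) : Spec (CommRingCat.of (PowerSeries Γ(X, t.V.1))) ⟶ C :=
  Spec.map (CommRingCat.ofHom (series D.hLq D.hj t)) ≫ 𝒜.toQCAlg.ι t.V.1 t.V.2 ≫ D.q

theorem Data.specMap_constantCoeff_nbhd (t : Triv L) :
    Spec.map (CommRingCat.ofHom (PowerSeries.constantCoeff (R := Γ(X, t.V.1)))) ≫ D.nbhd t =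
      t.V.2.fromSpec ≫ j0 ≫ D.q := by
  rw [Data.nbhd, ← Category.assoc, ← Spec.map_comp, ← CommRingCat.ofHom_comp,
    constantCoeff_series D.hLq D.hj D.haug t, ← Category.assoc, ← Category.assoc]
  congr 1
  exact (D.hj0.chart t.V.1 t.V.2).symm

theorem Data.top_le (t : Triv L) (ht : t.V.1 ≤ O) : ⊤ ≤ D.nbhd t ⁻¹ᵁ W := by
  intro P _
  let B := Γ(X, t.V.1)
  obtain ⟨M, hM, hPM⟩ := Ideal.exists_le_maximal P.asIdeal P.isPrime.ne_top
  have hX : (PowerSeries.X : PowerSeries B) ∈ M := by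
    by_contra hX
    obtain ⟨a, m, hm, e⟩ := hM.exists_inv hX
    have hu : IsUnit m := by
      rw [PowerSeries.isUnit_iff_constantCoeff]
      have := congrArg PowerSeries.constantCoeff e
      rw [map_add, map_mul, PowerSeries.constantCoeff_X, mul_zero, zero_add, map_one] at this
      rw [this]; exact isUnit_one
    exact hM.ne_top (Ideal.eq_top_of_isUnit_mem _ hm hu)
  haveI := hM.isPrime
  let PM : Spec (CommRingCat.of (PowerSeries B)) := ⟨M, hM.isPrime⟩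
  have hr : PM ∈ Set.range (Spec.map (CommRingCat.ofHom (PowerSeries.constantCoeff (R := B)))) := by
    refine (Set.ext_iff.1 (range_comap_of_surjective _ _ PowerSeries.constantCoeff_surj) PM).2 ?_
    intro f hf
    obtain ⟨g, rfl⟩ := PowerSeries.X_dvd_iff.2 (RingHom.mem_ker.1 hf)
    exact M.mul_mem_right g hX
  obtain ⟨b, hb⟩ := hr
  have hmem : D.nbhd t PM ∈ W := by
    rw [← hb, ← Scheme.Hom.comp_apply, D.specMap_constantCoeff_nbhd]
    exact D.hO _ (ht (t.V.2.range_fromSpec.le ⟨b, rfl⟩))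
  have hsp : (P : Spec (CommRingCat.of (PowerSeries B))) ⤳ PM := (PrimeSpectrum.le_iff_specializes P PM).1 hPM
  exact (hsp.map (D.nbhd t).continuous).mem_open W.2 hmem

/-- The expansion of a function near the vertex. -/
def Data.expand (φ : Γ(C, W)) (t : Triv L) (ht : t.V.1 ≤ O) : PowerSeries Γ(X, t.V.1) :=
  val φ (D.nbhd t) (D.top_le t ht)

/-- Its coefficients. -/
def Data.coeff (φ : Γ(C, W)) (n : ℕ) (t : Triv L) (ht : t.V.1 ≤ O) : Γ(X, t.V.1) :=
  PowerSeries.coeff n (D.expand φ t ht)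

theorem Data.coeff_res (φ : Γ(C, W)) (n : ℕ) (t t' : Triv L) (h : t'.V.1 ≤ t.V.1) (ht : t.V.1 ≤ O)
    (g : Γ(X, t'.V.1)) (hg : ares 𝒜 h (T j t) = (𝒜.str.app (op t'.V.1)).hom g * T j t') :
    g ^ n * res h (D.coeff φ n t ht) = D.coeff φ n t' (h.trans ht) := by
  let α := CommRingCat.ofHom ((PowerSeries.rescale g).comp (PowerSeries.map (res h)))
  have e : Spec.map α ≫ D.nbhd t = D.nbhd t' := by
    rw [Data.nbhd, Data.nbhd, ← Category.assoc, ← Spec.map_comp, ← CommRingCat.ofHom_comp,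
      series_res D.hLq D.hj t t' h g hg, CommRingCat.ofHom_comp, Spec.map_comp, Category.assoc,
      ← Category.assoc (Spec.map _) (𝒜.toQCAlg.ι _ _) D.q]
    congr 2
    exact map_ι_of_le 𝒜.toQCAlg (V := t.V) (V' := t'.V) h
  have e2 : D.expand φ t' (h.trans ht) = α.hom (D.expand φ t ht) :=
    (val_congr φ e.symm _ _).trans (val_comp φ α (D.nbhd t) (D.top_le t ht))
  rw [Data.coeff, Data.coeff, e2]
  show _ = PowerSeries.coeff n (PowerSeries.rescale g (PowerSeries.map (res h) (D.expand φ t ht)))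
  rw [PowerSeries.coeff_rescale, PowerSeries.coeff_map]

/-- The generic point of the line over a point of a trivialisation. -/
def genPt (t : Triv L) (𝔭 : PrimeSpectrum Γ(X, t.V.1)) : PrimeSpectrum (PowerSeries Γ(X, t.V.1)) :=
  PrimeSpectrum.comap (PowerSeries.map (algebraMap Γ(X, t.V.1) 𝔭.asIdeal.ResidueField))
    ⟨⊥, Ideal.isPrime_bot⟩

/-- The generic point of the line, in the bundle. -/
def Data.linePt (t : Triv L) (𝔭 : PrimeSpectrum Γ(X, t.V.1)) : 𝒜.toQCAlg.spec :=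
  (Spec.map (CommRingCat.ofHom (series D.hLq D.hj t)) ≫ 𝒜.toQCAlg.ι t.V.1 t.V.2) (genPt t 𝔭)

theorem Data.π_linePt (t : Triv L) (𝔭 : PrimeSpectrum Γ(X, t.V.1)) :
    𝒜.toQCAlg.π (D.linePt t 𝔭) = t.V.2.fromSpec 𝔭 := by
  rw [Data.linePt, ← Scheme.Hom.comp_apply, Category.assoc, 𝒜.toQCAlg.ι_π, ← Category.assoc, ← Spec.map_comp,
    Scheme.Hom.comp_apply]
  congr 1
  refine PrimeSpectrum.ext (Ideal.ext fun r => ?_)
  show PowerSeries.map (algebraMap Γ(X, t.V.1) 𝔭.asIdeal.ResidueField)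
    (series D.hLq D.hj t ((𝒜.str.app (op t.V.1)).hom r)) ∈ (⊥ : Ideal _) ↔ r ∈ 𝔭.asIdeal
  rw [series_str, PowerSeries.map_C, Ideal.mem_bot, map_eq_zero_iff _ PowerSeries.C_injective,
    Ideal.algebraMap_residueField_eq_zero]

theorem Data.linePt_notMem_range (h0 : RelCone.StrZeroBij 𝒜) (t : Triv L) (𝔭 : PrimeSpectrum Γ(X, t.V.1)) :
    D.linePt t 𝔭 ∉ Set.range j0 := by
  intro hz
  have h1 := (RelCone8.ι_mem_range_vertex_iff h0 D.haug D.hj0 t.V.1 t.V.2 _).1 hz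
    (HomogeneousIdeal.mem_irrelevant_of_mem _ Nat.one_pos (T_mem D.hj t))
  change PowerSeries.map _ (series D.hLq D.hj t (T j t)) ∈ (⊥ : Ideal _) at h1
  rw [series_T, PowerSeries.map_X, Ideal.mem_bot] at h1
  exact PowerSeries.X_ne_zero h1

theorem Data.line_vanish (φ : Γ(C, W)) (t : Triv L) (ht : t.V.1 ≤ O) (𝔭 : PrimeSpectrum Γ(X, t.V.1))
    (h : D.q (D.linePt t 𝔭) ∉ C.basicOpen φ) (n : ℕ) : t.V.2.fromSpec 𝔭 ∉ X.basicOpen (D.coeff φ n t ht) := by
  have hz : D.q (D.linePt t 𝔭) = D.nbhd t (genPt t 𝔭) := rfl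
  rw [hz, mem_basicOpen_iff_val φ (D.nbhd t) (D.top_le t ht), not_not] at h
  change PowerSeries.map _ (D.expand φ t ht) = 0 at h
  intro hx
  have hp : 𝔭 ∈ PrimeSpectrum.basicOpen (D.coeff φ n t ht) :=
    (SetLike.ext_iff.mp (t.V.2.fromSpec_preimage_basicOpen (D.coeff φ n t ht)) 𝔭).1 hx
  refine hp ((Ideal.algebraMap_residueField_eq_zero).1 ?_)
  rw [Data.coeff, ← PowerSeries.coeff_map, h, map_zero]

theorem Data.line_nonvanish (φ : Γ(C, W)) (t : Triv L) (ht : t.V.1 ≤ O) (𝔭 : PrimeSpectrum Γ(X, t.V.1))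
    (h : D.q (D.linePt t 𝔭) ∈ C.basicOpen φ) (h' : D.q (j0 (t.V.2.fromSpec 𝔭)) ∉ C.basicOpen φ) :
    ∃ n, t.V.2.fromSpec 𝔭 ∈ X.basicOpen (D.coeff φ (n + 1) t ht) := by
  have hz : D.q (D.linePt t 𝔭) = D.nbhd t (genPt t 𝔭) := rfl
  rw [hz, mem_basicOpen_iff_val φ (D.nbhd t) (D.top_le t ht)] at h
  have hne : PowerSeries.map (algebraMap _ 𝔭.asIdeal.ResidueField) (D.expand φ t ht) ≠ 0 := h
  obtain ⟨m, hm⟩ : ∃ m, algebraMap _ 𝔭.asIdeal.ResidueField (PowerSeries.coeff m (D.expand φ t ht)) ≠ 0 := by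
    by_contra hh
    push Not at hh
    exact hne (PowerSeries.ext fun m => by rw [PowerSeries.coeff_map, hh m, map_zero])
  have e0 : D.q (j0 (t.V.2.fromSpec 𝔭)) = D.nbhd t
      (Spec.map (CommRingCat.ofHom (PowerSeries.constantCoeff (R := Γ(X, t.V.1)))) 𝔭) := by
    rw [← Scheme.Hom.comp_apply, ← Scheme.Hom.comp_apply, ← Scheme.Hom.comp_apply,
      D.specMap_constantCoeff_nbhd]
    rfl
  rw [e0, mem_basicOpen_iff_val φ (D.nbhd t) (D.top_le t ht), not_not] at h'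
  change PowerSeries.constantCoeff (D.expand φ t ht) ∈ 𝔭.asIdeal at h'
  rcases m with _ | n
  · exact absurd (Ideal.algebraMap_residueField_eq_zero.2 (by rwa [PowerSeries.coeff_zero_eq_constantCoeff_apply])) hm
  · exact ⟨n, (SetLike.ext_iff.mp (t.V.2.fromSpec_preimage_basicOpen (D.coeff φ (n + 1) t ht)) 𝔭).2
      fun hp => hm (Ideal.algebraMap_residueField_eq_zero.2 hp)⟩

end GrothLib.RLpsi8.ConeSeries
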