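import Groth.Agent.Lib.RLpsi8.ConeMain
import Groth.Agent.Lib.ProperDesc13.Factor
import Groth.Prelude.Def_AffAlg
import Groth.Prelude.Def_Pi1
import Mathlib.AlgebraicGeometry.Morphisms.UniversallyInjective
import Mathlib.AlgebraicGeometry.Morphisms.Proper

/-!
# The contraction to the affine scheme of the direct image algebra
-/

set_option autoImplicit false
set_option backward.isDefEq.respectTransparency false
set_option maxHeartbeats 400000

universe u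

open CategoryTheory CategoryTheory.Limits AlgebraicGeometry TopologicalSpace Opposite

noncomputable section

namespace GrothLib.RLpsi8.Contract

theorem chart_of_algHom {Y T : Scheme.{u}} (A : RelSpec.QCAlg Y) (h : T ⟶ Y) (v : T ⟶ A.spec) (hv : v ≫ A.π = h)
    (ω : A.presheaf ⟶ AffAlg.alg h) (hvω : AffAlg.algHom A.π h v hv = A.gammaMap ≫ ω)
    (U : Y.Opens) (hU : IsAffineOpen U) (R : CommRingCat.{u}) (m : Spec R ⟶ T) (hm : ⊤ ≤ m ⁻¹ᵁ (h ⁻¹ᵁ U)) :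
    m ≫ v = Spec.map (ω.app (op U) ≫ m.appLE (h ⁻¹ᵁ U) ⊤ hm ≫ (Scheme.ΓSpecIso R).hom) ≫ A.ι U hU := by
  have hω : A.str ≫ ω = h.c := by
    rw [← A.π_c_gammaMap, Category.assoc, ← hvω]; exact AffAlg.algHom_comm _ _ _ _
  obtain ⟨v', hv', hch⟩ := exists_hom_of_nat A h ω hω
  suffices v = v' by rw [this]; exact hch U hU R m hm
  choose U' hU' hxU hle using fun x : T => exists_isAffineOpen_mem_and_subset (x := h x) (U := (⊤ : Y.Opens)) trivial
  choose W hW hxW hWle using fun x : T => exists_isAffineOpen_mem_and_subset (x := x) (U := h ⁻¹ᵁ U' x) (hxU x)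
  refine (T.openCoverOfIsOpenCover W (top_unique fun x _ => Opens.mem_iSup.mpr ⟨x, hxW x⟩)).hom_ext _ _ fun x => ?_
  show (W x).ι ≫ _ = (W x).ι ≫ _
  rw [← cancel_epi (hW x).isoSpec.inv, IsAffineOpen.isoSpec_inv_ι_assoc, IsAffineOpen.isoSpec_inv_ι_assoc]
  have hm' : ⊤ ≤ (hW x).fromSpec ⁻¹ᵁ (h ⁻¹ᵁ U' x) :=
    le_trans (hW x).fromSpec_preimage_self.ge ((hW x).fromSpec.preimage_mono (fun y hy => hWle x hy))
  rw [hch (U' x) (hU' x) _ _ hm']
  have le0 : h ⁻¹ᵁ U' x ≤ v ⁻¹ᵁ (A.π ⁻¹ᵁ U' x) := by rw [← Scheme.Hom.comp_preimage, hv]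
  have e₁ : ⊤ ≤ ((hW x).fromSpec ≫ v) ⁻¹ᵁ (A.π ⁻¹ᵁ U' x) := le_trans hm' ((hW x).fromSpec.preimage_mono le0)
  refine _root_.RLpsi8.ext_of_appLE_affine _ _ _ ((hU' x).preimage A.π) e₁
    (le_trans le_top (Scheme.Hom.preimage_mono _ (A.top_le_preimage (U' x) (hU' x)))) ?_
  have key : v.appLE (A.π ⁻¹ᵁ U' x) (h ⁻¹ᵁ U' x) le0 = A.gammaAff (U' x) (hU' x) ≫ ω.app (op (U' x)) := by
    have h1 := congr(($hvω).app (op (U' x)))
    rw [GrothLib.AffAlg8.algHom_app] at h1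
    rw [← A.gammaMap_app (U' x) (hU' x)]
    exact h1
  rw [← cancel_mono (Scheme.ΓSpecIso _).hom,
    ← Scheme.Hom.appLE_comp_appLE (hW x).fromSpec v (A.π ⁻¹ᵁ U' x) (h ⁻¹ᵁ U' x) ⊤ le0 hm',
    ← Scheme.Hom.appLE_comp_appLE _ (A.ι (U' x) (hU' x)) (A.π ⁻¹ᵁ U' x) ⊤ ⊤ (A.top_le_preimage _ (hU' x)) le_top,
    Category.assoc, Category.assoc, key, ← _root_.RLpsi8.appLE_ι_eq_gammaAff A (U' x) (hU' x), Category.assoc,
    Category.assoc]
  congr 1
  simp only [Scheme.Hom.appLE, Category.assoc]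
  erw [CategoryTheory.Functor.map_id, Category.id_comp]
  exact (Scheme.ΓSpecIso_naturality (ω.app (op (U' x)) ≫ (hW x).fromSpec.app (h ⁻¹ᵁ U' x) ≫
    (Spec _).presheaf.map (homOfLE hm').op ≫ (Scheme.ΓSpecIso _).hom)).symm

theorem specMap_comp_id {Y : Scheme.{u}} {A B : RelSpec.QCAlg Y} (φ : A ⟶ B) (ψ : B ⟶ A) (h : φ ≫ ψ = 𝟙 A) :
    RelSpec.QCAlg.specMap ψ ≫ RelSpec.QCAlg.specMap φ = 𝟙 A.spec := by
  refine RelCone8.hom_ext_charts A fun U hU => ?_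
  rw [← Category.assoc, RelSpec.QCAlg.ι_specMap, Category.assoc, RelSpec.QCAlg.ι_specMap, ← Spec.map_comp_assoc,
    Category.comp_id]
  have e : φ.hom.app (op U) ≫ ψ.hom.app (op U) = 𝟙 _ := congr(($h).hom.app (op U))
  rw [e, Spec.map_id, Category.id_comp]

/-- With `O_Y = p_* O_X` the algebra of pairs is the direct image algebra. -/
theorem exists_iso_directImage (S : Setup.{u}) (hp : ∀ U, IsIso (S.p.app U))
    (q' : S.V ⟶ (RelSpec.QCAlg.directImage S.h).spec) (hπ : q' ≫ (RelSpec.QCAlg.directImage S.h).π = S.h)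
    (hq' : AffAlg.algHom (RelSpec.QCAlg.directImage S.h).π S.h q' hπ = (RelSpec.QCAlg.directImage S.h).gammaMap) :
    ∃ e : (RelSpec.QCAlg.directImage S.h).spec ≅ S.alg.spec,
      q' ≫ e.hom = S.q ∧ e.hom ≫ S.alg.π = (RelSpec.QCAlg.directImage S.h).π := by
  let ψ : S.alg ⟶ RelSpec.QCAlg.directImage S.h := ⟨S.fstNat, S.str_fst⟩
  haveI : ∀ U, IsIso (S.fstNat.app U) := fun U => by
    haveI := hp U.unop
    have hb := ConcreteCategory.bijective_of_isIso (S.p.app U.unop)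
    refine (ConcreteCategory.isIso_iff_bijective _).mpr ⟨fun a b hab => ?_, fun f => ?_⟩
    · refine Subtype.ext (Prod.ext hab (hb.1 ?_))
      exact a.2.symm.trans ((congrArg (S.res U.unop) hab).trans b.2)
    · obtain ⟨r, hr⟩ := hb.2 (S.res U.unop f)
      exact ⟨⟨(f, r), hr.symm⟩, rfl⟩
  haveI : IsIso S.fstNat := NatIso.isIso_of_isIso_app _
  let χ : RelSpec.QCAlg.directImage S.h ⟶ S.alg := ⟨inv S.fstNat, by
    rw [IsIso.comp_inv_eq]; exact S.str_fst.symm⟩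
  refine ⟨⟨RelSpec.QCAlg.specMap ψ, RelSpec.QCAlg.specMap χ, specMap_comp_id χ ψ ?_, specMap_comp_id ψ χ ?_⟩, ?_,
    RelSpec.QCAlg.specMap_π ψ⟩
  · exact RelSpec.QCAlg.hom_ext (IsIso.inv_hom_id S.fstNat)
  · exact RelSpec.QCAlg.hom_ext (IsIso.hom_inv_id S.fstNat)
  · choose U hU hxU hle using fun x : S.V => exists_isAffineOpen_mem_and_subset (x := S.h x) (U := (⊤ : S.Y.Opens)) trivial
    choose W hW hxW hWle using fun x : S.V => exists_isAffineOpen_mem_and_subset (x := x) (U := S.h ⁻¹ᵁ U x) (hxU x)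
    refine (S.V.openCoverOfIsOpenCover W (top_unique fun x _ => Opens.mem_iSup.mpr ⟨x, hxW x⟩)).hom_ext _ _ fun x => ?_
    show (W x).ι ≫ q' ≫ RelSpec.QCAlg.specMap ψ = (W x).ι ≫ S.q
    rw [← cancel_epi (hW x).isoSpec.inv, IsAffineOpen.isoSpec_inv_ι_assoc, IsAffineOpen.isoSpec_inv_ι_assoc]
    have hm : ⊤ ≤ (hW x).fromSpec ⁻¹ᵁ (S.h ⁻¹ᵁ U x) :=
      le_trans (hW x).fromSpec_preimage_self.ge ((hW x).fromSpec.preimage_mono (fun y hy => hWle x hy))
    rw [reassoc_of% chart_of_algHom (RelSpec.QCAlg.directImage S.h) S.h q' hπ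
      (𝟙 _) (by rw [Category.comp_id]; exact hq') (U x) (hU x) _ _ hm, RelSpec.QCAlg.ι_specMap,
      S.q_chart (U x) (hU x) _ _ hm, ← Spec.map_comp_assoc]
    rfl

theorem oconn_of_algHom {Y V : Scheme.{u}} (h : V ⟶ Y) [QuasiCompact h] [QuasiSeparated h]
    (q' : V ⟶ (RelSpec.QCAlg.directImage h).spec) (hπ : q' ≫ (RelSpec.QCAlg.directImage h).π = h)
    (hq' : AffAlg.algHom (RelSpec.QCAlg.directImage h).π h q' hπ = (RelSpec.QCAlg.directImage h).gammaMap) :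
    ProperDesc13.OConn q' := by
  let A := RelSpec.QCAlg.directImage h
  intro W y hy
  obtain ⟨U, hU, hyU, -⟩ := exists_isAffineOpen_mem_and_subset (x := A.π y) (U := (⊤ : Y.Opens)) trivial
  have hO : IsAffineOpen (A.π ⁻¹ᵁ U) := hU.preimage A.π
  obtain ⟨g, hgW, hyg⟩ := hO.exists_basicOpen_le (V := W) ⟨y, hy⟩ hyU
  refine ⟨_, hO.basicOpen g, hyg, hgW, ?_⟩
  haveI := _root_.RLpsi8.isIso_gammaMap A
  haveI hiso : IsIso (q'.app (A.π ⁻¹ᵁ U)) := by
    have h1 := congr(($hq').app (op U))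
    rw [GrothLib.AffAlg8.algHom_app] at h1
    have e : h ⁻¹ᵁ U = q' ⁻¹ᵁ (A.π ⁻¹ᵁ U) := by rw [← Scheme.Hom.comp_preimage, hπ]
    haveI : IsIso (q'.appLE (A.π ⁻¹ᵁ U) (h ⁻¹ᵁ U) e.le) := by
      rw [show q'.appLE (A.π ⁻¹ᵁ U) (h ⁻¹ᵁ U) e.le = A.gammaMap.app (op U) from h1]; infer_instance
    rw [Scheme.Hom.app_eq_appLE]
    convert ‹IsIso (q'.appLE (A.π ⁻¹ᵁ U) (h ⁻¹ᵁ U) e.le)› using 3 <;> exact e.symm
  let D := (RelSpec.QCAlg.directImage h).spec.basicOpen g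
  have hpre : q' ⁻¹ᵁ D = V.basicOpen ((q'.app (A.π ⁻¹ᵁ U)).hom g) := Scheme.preimage_basicOpen q' g
  have hqh : q' ⁻¹ᵁ (A.π ⁻¹ᵁ U) = h ⁻¹ᵁ U := by rw [← Scheme.Hom.comp_preimage, hπ]
  have hc : IsCompact ((q' ⁻¹ᵁ (A.π ⁻¹ᵁ U) : V.Opens) : Set V) := by
    rw [hqh]; exact h.isCompact_preimage hU.isCompact
  have hqs : IsQuasiSeparated ((q' ⁻¹ᵁ (A.π ⁻¹ᵁ U) : V.Opens) : Set V) := by
    rw [hqh]; exact h.isQuasiSeparated_preimage hU.isQuasiSeparated
  let ρC := (A.spec.presheaf.map (homOfLE (A.spec.basicOpen_le g)).op).hom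
  let f := (q'.app (A.π ⁻¹ᵁ U)).hom g
  let ρV := (V.presheaf.map (homOfLE (V.basicOpen_le f)).op).hom
  letI : Algebra Γ(A.spec, A.π ⁻¹ᵁ U) Γ(A.spec, D) := ρC.toAlgebra
  letI : Algebra Γ(V, q' ⁻¹ᵁ (A.π ⁻¹ᵁ U)) Γ(V, V.basicOpen f) := ρV.toAlgebra
  haveI : IsLocalization.Away g Γ(A.spec, D) := hO.isLocalization_basicOpen g
  haveI : IsLocalization.Away f Γ(V, V.basicOpen f) := isLocalization_basicOpen_of_qcqs hc hqs f
  have key : Function.Bijective (q'.appLE D (V.basicOpen f) hpre.ge).hom := by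
    have e1 : IsLocalization.map (M := Submonoid.powers g) (T := Submonoid.powers f) (S := Γ(A.spec, D))
        (Γ(V, V.basicOpen f)) (q'.app (A.π ⁻¹ᵁ U)).hom (Submonoid.powers_le.mpr (Submonoid.mem_powers f)) =
        (q'.appLE D (V.basicOpen f) hpre.ge).hom := by
      refine IsLocalization.ringHom_ext (Submonoid.powers g) ?_
      rw [IsLocalization.map_comp]
      have e : q'.app (A.π ⁻¹ᵁ U) ≫ V.presheaf.map (homOfLE (V.basicOpen_le f)).op =
          A.spec.presheaf.map (homOfLE (A.spec.basicOpen_le g)).op ≫ q'.appLE D (V.basicOpen f) hpre.ge := by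
        rw [Scheme.Hom.map_appLE]
        rfl
      exact congrArg CommRingCat.Hom.hom e
    rw [← e1]
    exact IsLocalization.map_injective_of_injective _ _ _ (ConcreteCategory.bijective_of_isIso _).1 |> fun hi =>
      ⟨hi, IsLocalization.map_surjective_of_surjective _ _ _ (ConcreteCategory.bijective_of_isIso _).2⟩
  show IsIso (q'.app D)
  haveI : IsIso (q'.appLE D (V.basicOpen f) hpre.ge) := (ConcreteCategory.isIso_iff_bijective _).mpr key
  rw [Scheme.Hom.app_eq_appLE]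
  convert ‹IsIso (q'.appLE D (V.basicOpen f) hpre.ge)› using 3

end GrothLib.RLpsi8.Contract
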