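import Groth.Agent.Lib.RLpsi8.ConeFactor

/-!
# Factorization of contractions
-/

set_option autoImplicit false
set_option backward.isDefEq.respectTransparency false
set_option maxHeartbeats 400000

universe u

open CategoryTheory CategoryTheory.Limits AlgebraicGeometry TopologicalSpace Opposite

noncomputable section

namespace GrothLib.RLpsi8.Contract

/-- A contraction of `j(X)` onto a section. -/
structure IsContr {X Y V C : Scheme.{u}} (p : X ⟶ Y) (j : X ⟶ V) (V0 : V.Opens) (ε : Y ⟶ C) (q : V ⟶ C) : Prop where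
  mono : Mono ε
  sq : j ≫ q = p ≫ ε
  oi : IsOpenImmersion (V0.ι ≫ q)
  range_eq : Set.range (V0.ι ≫ q).base = (Set.range ε.base)ᶜ

variable {X Y V C C' : Scheme.{u}} {p : X ⟶ Y} {j : X ⟶ V} {V0 : V.Opens}
  {ε : Y ⟶ C} {q : V ⟶ C} {ε' : Y ⟶ C'} {q' : V ⟶ C'}

theorem mem_V0_or (hV0 : (V0 : Set V) = (Set.range j.base)ᶜ) (a : V) : a ∈ V0 ∨ ∃ x, j x = a := by
  by_cases h : a ∈ Set.range j.base
  · exact Or.inr h
  · exact Or.inl ((Set.ext_iff.1 hV0 a).2 h)

theorem IsContr.const_fibres (h' : IsContr p j V0 ε' q') (hV0 : (V0 : Set V) = (Set.range j.base)ᶜ)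
    (ε : Y ⟶ C) (q : V ⟶ C) (hsq : j ≫ q = p ≫ ε) (a b : V) (hab : q' a = q' b) : q a = q b := by
  haveI := h'.mono
  haveI := h'.oi
  have key : ∀ (a : V) (x : X), a ∈ V0 → q' a ≠ q' (j x) := fun a x ha e => by
    have h1 : q' a ∈ Set.range (V0.ι ≫ q').base := ⟨⟨a, ha⟩, rfl⟩
    rw [h'.range_eq] at h1
    refine h1 ⟨p x, ?_⟩
    rw [e, ← Scheme.Hom.comp_apply, ← Scheme.Hom.comp_apply, h'.sq]
  rcases mem_V0_or hV0 a with ha | ⟨x, rfl⟩ <;> rcases mem_V0_or hV0 b with hb | ⟨x', rfl⟩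
  · have := (V0.ι ≫ q').isOpenEmbedding.injective (show (V0.ι ≫ q') ⟨a, ha⟩ = (V0.ι ≫ q') ⟨b, hb⟩ from hab)
    rw [Subtype.mk.injEq] at this
    rw [this]
  · exact (key a x' ha hab).elim
  · exact (key b x hb hab.symm).elim
  · rw [← Scheme.Hom.comp_apply, ← Scheme.Hom.comp_apply, h'.sq, Scheme.Hom.comp_apply, Scheme.Hom.comp_apply] at hab
    rw [← Scheme.Hom.comp_apply, ← Scheme.Hom.comp_apply, hsq, Scheme.Hom.comp_apply, Scheme.Hom.comp_apply,
      ε'.injective hab]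

/-- Existence and uniqueness of the comparison morphism. -/
theorem IsContr.existsUnique_desc (h' : IsContr p j V0 ε' q') (hV0 : (V0 : Set V) = (Set.range j.base)ᶜ)
    (ho : ProperDesc13.OConn q') [UniversallyClosed q'] (ε : Y ⟶ C) (q : V ⟶ C) (hsq : j ≫ q = p ≫ ε) :
    ∃! u : C' ⟶ C, q' ≫ u = q := by
  obtain ⟨u, hu⟩ := ho.exists_desc q (h'.const_fibres hV0 ε q hsq)
  exact ⟨u, hu, fun v hv => ho.hom_ext (hv.trans hu.symm)⟩

variable (h' : IsContr p j V0 ε' q') (h : IsContr p j V0 ε q)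
  (hp : ProperDesc13.OConn p) [UniversallyClosed p] {u : C' ⟶ C} (hu : q' ≫ u = q)

include h' h hp hu in
theorem IsContr.section_comp : ε' ≫ u = ε :=
  hp.hom_ext (by rw [← Category.assoc, ← h'.sq, Category.assoc, hu, h.sq])

include h' h hp hu in
theorem IsContr.factor_surjective : Function.Surjective u.base := by
  intro c
  by_cases hc : c ∈ Set.range ε.base
  · obtain ⟨y, rfl⟩ := hc
    exact ⟨ε' y, by rw [← Scheme.Hom.comp_apply, h'.section_comp h hp hu]⟩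
  · have h1 : c ∈ Set.range (V0.ι ≫ q).base := by rw [h.range_eq]; exact hc
    obtain ⟨z, rfl⟩ := h1
    exact ⟨(V0.ι ≫ q') z, by rw [← Scheme.Hom.comp_apply, Category.assoc, hu]⟩

include h' h hu in
theorem IsContr.openImmersion_on (W : C'.Opens) (hW : (W : Set C') = (Set.range ε'.base)ᶜ) :
    IsOpenImmersion (W.ι ≫ u) ∧ Set.range (W.ι ≫ u).base = (Set.range ε.base)ᶜ := by
  haveI := h'.oi
  haveI := h.oi
  let i := IsOpenImmersion.isoOfRangeEq W.ι (V0.ι ≫ q') (by rw [Scheme.Opens.range_ι, hW, h'.range_eq])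
  have e : W.ι ≫ u = i.hom ≫ V0.ι ≫ q := by
    rw [← hu, ← Category.assoc V0.ι, ← Category.assoc, IsOpenImmersion.isoOfRangeEq_hom_fac]
  rw [e]
  refine ⟨inferInstance, ?_⟩
  rw [Scheme.Hom.comp_base, TopCat.coe_comp, Set.range_comp,
    show Set.range i.hom.base = Set.univ from Set.range_eq_univ.mpr i.hom.homeomorph.surjective, Set.image_univ,
    h.range_eq]

include h' h hp hu in
theorem IsContr.universallyInjective : UniversallyInjective u := by
  haveI := h'.oi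
  haveI := h.oi
  haveI := h.mono
  haveI : Mono (ε' ≫ u) := by rw [h'.section_comp h hp hu]; exact h.mono
  haveI : Mono ((V0.ι ≫ q') ≫ u) := by rw [Category.assoc, hu]; infer_instance
  have hs := h'.section_comp h hp hu
  refine (UniversallyInjective.iff_diagonal u).mpr ⟨fun z => ?_⟩
  have piece : ∀ {P : Scheme.{u}} (i : P ⟶ C') [Mono (i ≫ u)], pullback.fst u u z ∈ Set.range i →
      pullback.snd u u z ∈ Set.range i → ∃ w, pullback.diagonal u w = z := by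
    intro P i _ h1 h2
    have hz : z ∈ Set.range (pullback.map (i ≫ u) (i ≫ u) u u i i (𝟙 C) (Category.comp_id _) (Category.comp_id _)) := by
      rw [Scheme.Pullback.range_map]
      exact ⟨h1, h2⟩
    obtain ⟨w, hw⟩ := hz
    refine ⟨i (pullback.fst (i ≫ u) (i ≫ u) w), ?_⟩
    have e : pullback.fst (i ≫ u) (i ≫ u) ≫ i ≫ pullback.diagonal u =
        pullback.map (i ≫ u) (i ≫ u) u u i i (𝟙 C) (Category.comp_id _) (Category.comp_id _) := by
      apply pullback.hom_ext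
      · simp
      · have hfs : pullback.fst (i ≫ u) (i ≫ u) = pullback.snd (i ≫ u) (i ≫ u) := by
          rw [← cancel_mono (i ≫ u), pullback.condition]
        simp [hfs]
    rw [← hw, ← e]
    rfl
  have hc : u (pullback.fst u u z) = u (pullback.snd u u z) := by
    rw [← Scheme.Hom.comp_apply, pullback.condition, Scheme.Hom.comp_apply]
  have hcase : ∀ a : C', (a ∈ Set.range ε'.base ∧ u a ∈ Set.range ε.base) ∨
      (a ∈ Set.range (V0.ι ≫ q').base ∧ u a ∉ Set.range ε.base) := by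
    intro a
    by_cases ha : a ∈ Set.range ε'.base
    · obtain ⟨y, rfl⟩ := ha
      exact Or.inl ⟨⟨y, rfl⟩, ⟨y, by rw [← hs]; rfl⟩⟩
    · have ha' : a ∈ Set.range (V0.ι ≫ q').base := by rw [h'.range_eq]; exact ha
      refine Or.inr ⟨ha', ?_⟩
      obtain ⟨w, rfl⟩ := ha'
      have : (V0.ι ≫ q) w ∈ Set.range (V0.ι ≫ q).base := ⟨w, rfl⟩
      rw [h.range_eq] at this
      rw [← Scheme.Hom.comp_apply, Category.assoc, hu]
      exact this
  rcases hcase (pullback.fst u u z) with ⟨h1, h1'⟩ | ⟨h1, h1'⟩ <;>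
    rcases hcase (pullback.snd u u z) with ⟨h2, h2'⟩ | ⟨h2, h2'⟩
  · exact piece ε' h1 h2
  · rw [hc] at h1'; exact (h2' h1').elim
  · rw [hc] at h1'; exact (h1' h2').elim
  · exact piece (V0.ι ≫ q') h1 h2

/-- Facts about the canonical contraction. -/
theorem exists_isContr_directImage {X Y : Scheme.{u}} {L : X.Modules} {𝒜 : RelProj.QCGrAlg X} {jL : L ⟶ 𝒜.toModule}
    {aug : 𝒜.toQCAlg ⟶ RelSpec.QCAlg.unit X} {j0 : X ⟶ 𝒜.toQCAlg.spec} (p : X ⟶ Y) [IsProper p] (hθ : IsIso p.c)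
    (hL : PicF.IsInvertible L) (hLq : Coh.IsQCoh L) (hamp : RelAmple.IsRelAmple p L)
    (hA : RelProj.IsGrSymAlg L 𝒜 jL) (h0 : RelCone.StrZeroBij 𝒜)
    (haug : RelCone.IsAugmentation 𝒜 aug) (hj0 : RelCone.IsVertex 𝒜 aug j0)
    (V0 : 𝒜.toQCAlg.spec.Opens) (hV0 : (V0 : Set 𝒜.toQCAlg.spec) = (Set.range j0.base)ᶜ)
    (q' : 𝒜.toQCAlg.spec ⟶ (RelSpec.QCAlg.directImage (𝒜.toQCAlg.π ≫ p)).spec)
    (hq'π : q' ≫ (RelSpec.QCAlg.directImage (𝒜.toQCAlg.π ≫ p)).π = 𝒜.toQCAlg.π ≫ p)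
    (hq' : AffAlg.algHom (RelSpec.QCAlg.directImage (𝒜.toQCAlg.π ≫ p)).π (𝒜.toQCAlg.π ≫ p) q' hq'π =
      (RelSpec.QCAlg.directImage (𝒜.toQCAlg.π ≫ p)).gammaMap) :
    ProperDesc13.OConn q' ∧ IsProper q' ∧ ProperDesc13.OConn p ∧
      ∃ ε' : Y ⟶ (RelSpec.QCAlg.directImage (𝒜.toQCAlg.π ≫ p)).spec,
        ε' ≫ (RelSpec.QCAlg.directImage (𝒜.toQCAlg.π ≫ p)).π = 𝟙 Y ∧ IsContr p j0 V0 ε' q' := by
  have hp : ∀ U, IsIso (p.app U) := fun U => inferInstanceAs (IsIso (p.c.app (op U)))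
  obtain ⟨hoi, -, -, hprop⟩ := ConeSeries.exists_contraction p hL hLq hA h0 haug hj0 V0 hV0 hamp
  obtain ⟨hpr, hr⟩ := hprop inferInstance
  let S := ConeSeries.coneSetup p hj0
  obtain ⟨e, he, heπ⟩ := exists_iso_directImage S hp q' hq'π hq'
  have hq : q' = S.q ≫ e.inv := by rw [← he, Category.assoc, Iso.hom_inv_id, Category.comp_id]
  haveI := hpr
  have hε : (S.ε ≫ e.inv) ≫ (RelSpec.QCAlg.directImage S.h).π = 𝟙 Y := by
    rw [← heπ, Category.assoc, Iso.inv_hom_id_assoc, S.ε_π]; rfl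
  refine ⟨oconn_of_algHom (𝒜.toQCAlg.π ≫ p) q' hq'π hq', ?_, ProperDesc13.OConn.of_isIso_app hp,
    S.ε ≫ e.inv, hε, ⟨?_, ?_, ?_, ?_⟩⟩
  · rw [hq]; infer_instance
  · haveI : IsSplitMono (S.ε ≫ e.inv) := IsSplitMono.mk' ⟨_, hε⟩
    infer_instance
  · rw [hq, ← Category.assoc, ← Category.assoc]; exact congrArg (· ≫ e.inv) S.j_q
  · haveI := hoi
    rw [hq, ← Category.assoc]
    infer_instance
  · rw [hq, ← Category.assoc, Scheme.Hom.comp_base _ e.inv, Scheme.Hom.comp_base _ e.inv, TopCat.coe_comp,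
      TopCat.coe_comp, Set.range_comp, Set.range_comp, hr]
    exact Set.image_compl_eq e.inv.homeomorph.bijective

end GrothLib.RLpsi8.Contract
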