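import Groth.Agent.Lib.RLpsi8.ConeFactorMain

/-!
# Integrality of line bundles, and contractions onto normal schemes
-/

set_option autoImplicit false
set_option backward.isDefEq.respectTransparency false
set_option maxHeartbeats 400000

universe u

open CategoryTheory CategoryTheory.Limits AlgebraicGeometry TopologicalSpace Opposite
open GrothLib.InvExt (IsGen mres)
open GrothLib.Ample (res res_res res_self Cocycle)

noncomputable section

namespace GrothLib.RLpsi8.ConeSeries

variable {X : Scheme.{u}} {L : X.Modules} {𝒜 : RelProj.QCGrAlg X} {j : L ⟶ 𝒜.toModule}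

theorem series_injective (hLq : Coh.IsQCoh L) (hj : RelProj.IsGrSymAlg L 𝒜 j) (t : Triv L) :
    Function.Injective (series hLq hj t) := by
  let Φ : Polynomial Γ(X, t.V.1) →+* 𝒜.presheaf.obj (op t.V.1) :=
    Polynomial.eval₂RingHom (𝒜.str.app (op t.V.1)).hom (T j t)
  have hcomp : (series hLq hj t).comp Φ = Polynomial.coeToPowerSeries.ringHom := by
    refine Polynomial.ringHom_ext (fun r => ?_) ?_
    · show series hLq hj t (Polynomial.eval₂ _ _ (Polynomial.C r)) = ((Polynomial.C r : Polynomial _) : PowerSeries _)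
      rw [Polynomial.eval₂_C, series_str, Polynomial.coe_C]
    · show series hLq hj t (Polynomial.eval₂ _ _ Polynomial.X) = Polynomial.coeToPowerSeries.ringHom Polynomial.X
      rw [Polynomial.eval₂_X, series_T]
      simp
  have hsurj : Function.Surjective Φ := fun x => by
    have h : x ∈ Subring.closure (Set.range (𝒜.str.app (op t.V.1)).hom ∪ Set.range (VA.ev j t.V)) :=
      (VA.closure_str_ev hLq hj t.V).ge trivial
    refine Subring.closure_le (t := Φ.range) |>.mpr ?_ h
    rintro y (⟨r, rfl⟩ | ⟨e, rfl⟩)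
    · exact ⟨Polynomial.C r, Polynomial.eval₂_C _ _⟩
    · obtain ⟨c, hc⟩ := t.isGen.exists_smul_eq le_rfl e
      rw [show mres L (le_refl t.V.1) t.e = t.e from InvExt.mres_self L t.e] at hc
      refine ⟨Polynomial.C c * Polynomial.X, ?_⟩
      show Polynomial.eval₂ _ _ (Polynomial.C c * Polynomial.X) = _
      rw [Polynomial.eval₂_mul, Polynomial.eval₂_C, Polynomial.eval₂_X, hc]
      exact (Scheme.Modules.Hom.app_smul j c t.e).symm
  intro x y hxy
  obtain ⟨a, rfl⟩ := hsurj x
  obtain ⟨b, rfl⟩ := hsurj y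
  exact congrArg Φ (Polynomial.coe_injective _ ((RingHom.congr_fun hcomp a).symm.trans
    (hxy.trans (RingHom.congr_fun hcomp b))))

theorem isIntegral_spec [IsIntegral X] (hL : PicF.IsInvertible L) (hLq : Coh.IsQCoh L)
    (hj : RelProj.IsGrSymAlg L 𝒜 j) : IsIntegral 𝒜.toQCAlg.spec := by
  have hdom : ∀ t : Triv L, Nonempty t.V.1 → IsDomain (𝒜.presheaf.obj (op t.V.1)) := fun t ht => by
    haveI : Nonempty t.V.1 := ht
    haveI : IsDomain Γ(X, t.V.1) := inferInstance
    exact (series_injective hLq hj t).isDomain (series hLq hj t)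
  haveI hred : IsReduced 𝒜.toQCAlg.spec := by
    haveI : ∀ v : 𝒜.toQCAlg.spec, _root_.IsReduced (𝒜.toQCAlg.spec.presheaf.stalk v) := fun v => by
      obtain ⟨t, ht, -⟩ := exists_triv_le hL (W := (⊤ : X.Opens)) (x := 𝒜.toQCAlg.π v) trivial
      haveI := hdom t ⟨⟨_, ht⟩⟩
      obtain ⟨P, rfl⟩ := RelCone8.exists_ι_eq 𝒜.toQCAlg t.V.1 t.V.2 v ht
      haveI := isOpenImmersion_ι 𝒜.toQCAlg t.V.1 t.V.2
      haveI : IsReduced (Spec (𝒜.presheaf.obj (op t.V.1))) := inferInstance
      haveI : IsIso ((𝒜.toQCAlg.ι t.V.1 t.V.2).stalkMap P) := inferInstance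
      exact isReduced_of_injective _
        ((asIso ((𝒜.toQCAlg.ι t.V.1 t.V.2).stalkMap P)).commRingCatIsoToRingEquiv.injective)
    exact isReduced_of_isReduced_stalk _
  obtain ⟨x0⟩ : Nonempty X := inferInstance
  obtain ⟨t0, ht0, -⟩ := exists_triv_le hL (W := (⊤ : X.Opens)) (x := x0) trivial
  haveI := hdom t0 ⟨⟨_, ht0⟩⟩
  let ξ : 𝒜.toQCAlg.spec := 𝒜.toQCAlg.ι t0.V.1 t0.V.2 ⟨⊥, Ideal.isPrime_bot⟩
  have hξ : ∀ v, ξ ⤳ v := by
    intro v
    obtain ⟨t, ht, -⟩ := exists_triv_le hL (W := (⊤ : X.Opens)) (x := 𝒜.toQCAlg.π v) trivial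
    haveI := hdom t ⟨⟨_, ht⟩⟩
    obtain ⟨P, rfl⟩ := RelCone8.exists_ι_eq 𝒜.toQCAlg t.V.1 t.V.2 v ht
    suffices e : ξ = 𝒜.toQCAlg.ι t.V.1 t.V.2 ⟨⊥, Ideal.isPrime_bot⟩ by
      rw [e]
      exact ((PrimeSpectrum.le_iff_specializes (⟨⊥, Ideal.isPrime_bot⟩ : PrimeSpectrum _) P).1 bot_le).map
        (𝒜.toQCAlg.ι t.V.1 t.V.2).continuous
    obtain ⟨x, hx0, hxt⟩ := nonempty_preirreducible_inter t0.V.1.2 t.V.1.2 ⟨_, ht0⟩ ⟨_, ht⟩
    obtain ⟨W, hW, hxW, hle⟩ := exists_isAffineOpen_mem_and_subset (x := x) (U := t0.V.1 ⊓ t.V.1) ⟨hx0, hxt⟩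
    have key : ∀ (s : Triv L) (hWs : W ≤ s.V.1) (_ : IsDomain (𝒜.presheaf.obj (op s.V.1))),
        ∃ (w : Spec (𝒜.presheaf.obj (op W))), w.asIdeal = ⊥ ∧
          𝒜.toQCAlg.ι W hW w = 𝒜.toQCAlg.ι s.V.1 s.V.2 ⟨⊥, Ideal.isPrime_bot⟩ := by
      intro s hWs _
      let t' : Triv L := ⟨⟨W, hW⟩, mres L hWs s.e, s.isGen.restrict _⟩
      haveI := hdom t' ⟨⟨x, hxW⟩⟩
      have hinj : Function.Injective (ares 𝒜 hWs) := by
        have h1 := series_res hLq hj s t' hWs 1 (by
          rw [map_one, one_mul]; exact ares_app j hWs s.e)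
        intro a b hab
        refine series_injective hLq hj s ?_
        have h2 := congrArg (series hLq hj t') hab
        rw [← RingHom.comp_apply, ← RingHom.comp_apply, ← h1] at h2
        simp only [RingHom.comp_apply, PowerSeries.rescale_one, RingHom.id_apply] at h2
        exact PowerSeries.map_injective _ (by
          haveI : Nonempty W := ⟨⟨x, hxW⟩⟩
          exact map_injective_of_isIntegral X (homOfLE hWs)) h2
      refine ⟨⟨⊥, Ideal.isPrime_bot⟩, rfl, ?_⟩
      rw [← map_ι_of_le 𝒜.toQCAlg (V := s.V) (V' := ⟨W, hW⟩) hWs, Scheme.Hom.comp_apply]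
      congr 1
      refine PrimeSpectrum.ext ?_
      show Ideal.comap (ares 𝒜 hWs) ⊥ = ⊥
      exact Ideal.comap_bot_of_injective _ hinj
    obtain ⟨w, hw, e1⟩ := key t0 (fun y hy => (hle hy).1) (hdom t0 ⟨⟨_, ht0⟩⟩)
    obtain ⟨w', hw', e2⟩ := key t (fun y hy => (hle hy).2) (hdom t ⟨⟨_, ht⟩⟩)
    show 𝒜.toQCAlg.ι t0.V.1 t0.V.2 _ = _
    rw [← e1, ← e2, show w = w' from PrimeSpectrum.ext (hw.trans hw'.symm)]
  haveI : IrreducibleSpace 𝒜.toQCAlg.spec := by
    rw [irreducibleSpace_def, Set.top_eq_univ]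
    have : (Set.univ : Set 𝒜.toQCAlg.spec) = closure {ξ} :=
      (Set.eq_univ_of_forall fun v => specializes_iff_mem_closure.1 (hξ v)).symm
    rw [this]
    exact isIrreducible_singleton.closure
  exact isIntegral_of_irreducibleSpace_of_isReduced _

end GrothLib.RLpsi8.ConeSeries

namespace GrothLib.RLpsi8.Contract

theorem isIntegrallyClosed_of_normal {C : Scheme.{u}} (hC : Pi1.IsNormalScheme C) [IsIntegral C]
    {W : C.Opens} (hW : IsAffineOpen W) [Nonempty W] : IsIntegrallyClosed Γ(C, W) := by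
  refine IsIntegrallyClosed.of_localization_maximal fun P _ hP => ?_
  let x : PrimeSpectrum Γ(C, W) := ⟨P, hP.isPrime⟩
  letI := TopCat.Presheaf.algebra_section_stalk C.presheaf
    (⟨hW.fromSpec x, hW.range_fromSpec.le ⟨x, rfl⟩⟩ : W)
  haveI := hW.isLocalization_stalk' x (hW.range_fromSpec.le ⟨x, rfl⟩)
  haveI := (hC (hW.fromSpec x)).2
  exact IsIntegrallyClosed.of_equiv (IsLocalization.algEquiv P.primeCompl (C.presheaf.stalk (hW.fromSpec x))
    (Localization.AtPrime P)).toRingEquiv

/-- A universally closed morphism from an integral scheme which is an open immersion somewhere, onto a normal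
scheme, identifies functions. -/
theorem oconn_of_normal {V C : Scheme.{u}} [IsIntegral V] (q : V ⟶ C) [UniversallyClosed q] [IsDominant q]
    (hC : Pi1.IsNormalScheme C) (V0 : V.Opens) (hne : (V0 : Set V).Nonempty) (hoi : IsOpenImmersion (V0.ι ≫ q)) :
    ProperDesc13.OConn q := by
  haveI : IrreducibleSpace C := by
    rw [irreducibleSpace_def, Set.top_eq_univ, ← q.denseRange.closure_range, ← Set.image_univ]
    exact ((irreducibleSpace_def V).1 inferInstance).image _ q.continuous.continuousOn |>.closure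
  haveI : ∀ x : C, _root_.IsReduced (C.presheaf.stalk x) := fun x => by haveI := (hC x).1; infer_instance
  haveI : IsReduced C := isReduced_of_isReduced_stalk _
  haveI : IsIntegral C := isIntegral_of_irreducibleSpace_of_isReduced _
  let η := genericPoint V
  have hη : η ∈ V0 := ((genericPoint_spec V).mem_open_set_iff V0.2).mpr (by simpa using hne)
  haveI hst : IsIso (q.stalkMap η) := by
    haveI := hoi
    have h1 : IsIso ((V0.ι ≫ q).stalkMap ⟨η, hη⟩) := inferInstance
    rw [Scheme.Hom.stalkMap_comp] at h1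
    exact @IsIso.of_isIso_comp_right _ _ _ _ _ (q.stalkMap η) (V0.ι.stalkMap ⟨η, hη⟩) inferInstance h1
  have hqη : q η = genericPoint C :=
    ((genericPoint_spec V).image q.continuous).eq (by
      simpa [Set.image_univ, q.denseRange.closure_range] using genericPoint_spec C)
  intro W y hy
  obtain ⟨W', hW', hy', hle⟩ := exists_isAffineOpen_mem_and_subset hy
  refine ⟨W', hW', hy', hle, ?_⟩
  haveI : Nonempty W' := ⟨⟨y, hy'⟩⟩
  have hqW : q η ∈ W' := by
    rw [hqη]; exact ((genericPoint_spec C).mem_open_set_iff W'.2).mpr (by simpa using ⟨y, hy'⟩)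
  haveI : Nonempty ↥(q ⁻¹ᵁ W') := ⟨⟨η, hqW⟩⟩
  haveI := isIntegrallyClosed_of_normal hC hW'
  refine (ConcreteCategory.isIso_iff_bijective _).mpr ⟨?_, ?_⟩
  · intro a b hab
    refine germ_injective_of_isIntegral C (q η) hqW ((asIso (q.stalkMap η)).commRingCatIsoToRingEquiv.injective ?_)
    show q.stalkMap η (C.presheaf.germ W' (q η) hqW a) = q.stalkMap η (C.presheaf.germ W' (q η) hqW b)
    rw [Scheme.Hom.germ_stalkMap_apply, Scheme.Hom.germ_stalkMap_apply]
    exact congrArg _ hab
  · intro f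
    obtain ⟨k, hk⟩ := (asIso (q.stalkMap η)).commRingCatIsoToRingEquiv.surjective (V.presheaf.germ (q ⁻¹ᵁ W') η hqW f)
    change q.stalkMap η k = _ at hk
    have hint : (q.app W').hom.IsIntegralElem f := by
      have h1 : (q ∣_ W').appTop.hom.IsIntegral := by
        haveI : IsAffine W'.toScheme := hW'
        haveI : UniversallyClosed (q ∣_ W') := inferInstance
        exact isIntegral_appTop_of_universallyClosed (q ∣_ W')
      have e : q.app W' = W'.topIso.inv ≫ (q ∣_ W').appTop ≫ (q ⁻¹ᵁ W').topIso.hom := by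
        simp [morphismRestrict_appLE, Scheme.Hom.app_eq_appLE, Scheme.Hom.appLE_map, Scheme.Hom.map_appLE]
      have h2 : (q.app W').hom.IsIntegral := by
        rw [e]
        exact RingHom.IsIntegral.trans _ _ (RingHom.isIntegral_of_surjective _
          W'.topIso.commRingCatIsoToRingEquiv.symm.surjective)
          (RingHom.IsIntegral.trans _ _ h1 (RingHom.isIntegral_of_surjective _
            (q ⁻¹ᵁ W').topIso.commRingCatIsoToRingEquiv.surjective))
      exact h2 f
    have hg : ∀ a, q.stalkMap η (C.presheaf.germ W' (q η) hqW a) = V.presheaf.germ (q ⁻¹ᵁ W') η hqW (q.app W' a) :=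
      fun a => Scheme.Hom.germ_stalkMap_apply q W' η hqW a
    have hgen : q η = genericPoint C := hqη
    letI := TopCat.Presheaf.algebra_section_stalk C.presheaf (⟨q η, hqW⟩ : W')
    haveI : IsFractionRing Γ(C, W') (C.presheaf.stalk (q η)) := by
      haveI := hW'.isLocalization_stalk ⟨q η, hqW⟩
      have e0 : (hW'.primeIdealOf ⟨q η, hqW⟩).asIdeal.primeCompl = nonZeroDivisors Γ(C, W') := by
        have e1 : hW'.primeIdealOf ⟨q η, hqW⟩ = genericPoint (Spec Γ(C, W')) := by
          have := genericPoint_eq_bot_of_affine Γ(C, W')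
          refine hW'.fromSpec.isOpenEmbedding.injective ?_
          rw [hW'.fromSpec_primeIdealOf]
          exact hgen.trans (genericPoint_eq_of_isOpenImmersion hW'.fromSpec).symm
        rw [e1, genericPoint_eq_bot_of_affine Γ(C, W')]
        ext a
        show a ∉ (⊥ : Ideal _) ↔ _
        rw [Ideal.mem_bot, mem_nonZeroDivisors_iff_ne_zero]
      show IsLocalization (nonZeroDivisors Γ(C, W')) _
      rw [← e0]
      infer_instance
    obtain ⟨P, hP, hPf⟩ := hint
    have hk' : IsIntegral Γ(C, W') k := by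
      refine ⟨P, hP, (asIso (q.stalkMap η)).commRingCatIsoToRingEquiv.injective ?_⟩
      show q.stalkMap η (Polynomial.eval₂ _ k P) = q.stalkMap η 0
      rw [map_zero, Polynomial.hom_eval₂, hk]
      have : (q.stalkMap η).hom.comp (algebraMap Γ(C, W') (C.presheaf.stalk (q η))) =
          (V.presheaf.germ (q ⁻¹ᵁ W') η hqW).hom.comp (q.app W').hom := RingHom.ext fun a => hg a
      rw [this, ← Polynomial.hom_eval₂, hPf, map_zero]
    obtain ⟨a, ha⟩ := IsIntegrallyClosed.isIntegral_iff.mp hk'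
    refine ⟨a, germ_injective_of_isIntegral V η hqW ?_⟩
    rw [← hg a, ← hk, ← ha]
    rfl

end GrothLib.RLpsi8.Contract
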