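import Groth.Agent.Lib.RLpsi8.ConeContract
import Groth.Agent.Lib.RLpsi8.VBundle
import Mathlib.AlgebraicGeometry.ValuativeCriterion

/-!
# Relative ampleness and contractions of the vertex section
-/

set_option autoImplicit false
set_option backward.isDefEq.respectTransparency false
set_option maxHeartbeats 400000

universe u

open CategoryTheory CategoryTheory.Limits AlgebraicGeometry TopologicalSpace Opposite
open GrothLib.RelProjK (dg rs em)
open GrothLib.InvExt (IsGen mres)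
open GrothLib.Ample (res res_res res_self Cocycle)

noncomputable section

namespace GrothLib.RLpsi8.ConeSeries

open GrothLib.RLpsi8.Contract (Setup)

variable {X Y : Scheme.{u}} {L : X.Modules} {𝒜 : RelProj.QCGrAlg X} {j : L ⟶ 𝒜.toModule}
  {aug : 𝒜.toQCAlg ⟶ RelSpec.QCAlg.unit X} {j0 : X ⟶ 𝒜.toQCAlg.spec}

theorem isOpenImmersion_ι (A : RelSpec.QCAlg X) (U : X.Opens) (hU : IsAffineOpen U) : IsOpenImmersion (A.ι U hU) :=
  inferInstanceAs (IsOpenImmersion (A.glueData.cover.f _))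

theorem isSeparated_π {Z : Scheme.{u}} (A : RelSpec.QCAlg Z) : IsSeparated A.π := inferInstance

theorem exists_eval_at (hLq : Coh.IsQCoh L) (hj : RelProj.IsGrSymAlg L 𝒜 j) (t : Triv L) {R : Type u} [CommRing R]
    (ρ : Γ(X, t.V.1) →+* R) (l : R) : ∃ e : 𝒜.presheaf.obj (op t.V.1) →+* R,
    (∀ r, e ((𝒜.str.app (op t.V.1)).hom r) = ρ r) ∧ e (T j t) = l := by
  letI : Algebra Γ(X, t.V.1) R := ρ.toAlgebra
  obtain ⟨q, hqs, hqj⟩ := SymAlgX.isAffSym_of_isSymAlg hLq hj.1 t.V.1 t.V.2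
  have hb : Function.Bijective (LinearMap.toSpanSingleton Γ(X, t.V.1) Γ(L, t.V.1) t.e) := by
    have h := t.isGen t.V.1 le_rfl
    rw [show mres L (le_refl t.V.1) t.e = t.e from InvExt.mres_self L t.e] at h
    exact h
  let le := LinearEquiv.ofBijective _ hb
  let f : Γ(L, t.V.1) →ₗ[Γ(X, t.V.1)] R := (LinearMap.toSpanSingleton Γ(X, t.V.1) _ l).comp le.symm.toLinearMap
  let lf := SymmetricAlgebra.lift (R := Γ(X, t.V.1)) (A := R) (M := Γ(L, t.V.1)) f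
  refine ⟨lf.toRingHom.comp q.symm.toRingHom, fun r => ?_, ?_⟩
  · show lf (q.symm _) = _
    rw [← hqs r, q.symm_apply_apply]
    exact lf.commutes r
  · show lf (q.symm (T j t)) = _
    rw [show T j t = q (SymAlgX.gen _ _ t.e) from (hqj t.e).symm, q.symm_apply_apply]
    refine (SymmetricAlgebra.lift_ι_apply f t.e).trans ?_
    show le.symm t.e • l = _
    rw [show le.symm t.e = (1 : Γ(X, t.V.1)) from le.symm_apply_eq.mpr (one_smul _ _).symm, one_smul]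

theorem locallyOfFiniteType_π (hL : PicF.IsInvertible L) (hLq : Coh.IsQCoh L) (hj : RelProj.IsGrSymAlg L 𝒜 j) :
    LocallyOfFiniteType 𝒜.toQCAlg.π := by
  have hcov : TopologicalSpace.IsOpenCover (fun t : Triv L => 𝒜.toQCAlg.π ⁻¹ᵁ t.V.1) := top_unique fun v _ => by
    obtain ⟨t, ht, -⟩ := exists_triv_le hL (W := (⊤ : X.Opens)) (x := 𝒜.toQCAlg.π v) trivial
    exact Opens.mem_iSup.mpr ⟨t, ht⟩
  refine (IsZariskiLocalAtSource.iff_of_openCover (P := @LocallyOfFiniteType)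
    (𝒜.toQCAlg.spec.openCoverOfIsOpenCover _ hcov)).mpr fun (t : Triv L) => ?_
  show LocallyOfFiniteType ((𝒜.toQCAlg.π ⁻¹ᵁ t.V.1).ι ≫ 𝒜.toQCAlg.π)
  haveI := isOpenImmersion_ι 𝒜.toQCAlg t.V.1 t.V.2
  rw [← IsOpenImmersion.isoOfRangeEq_hom_fac (𝒜.toQCAlg.π ⁻¹ᵁ t.V.1).ι (𝒜.toQCAlg.ι t.V.1 t.V.2)
    (by rw [Scheme.Opens.range_ι, 𝒜.toQCAlg.π_preimage t.V.1 t.V.2]; rfl), Category.assoc, 𝒜.toQCAlg.ι_π]
  haveI : LocallyOfFiniteType (Spec.map (𝒜.str.app (op t.V.1))) := by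
    refine (HasRingHomProperty.Spec_iff (P := @LocallyOfFiniteType)).mpr ?_
    letI := (𝒜.str.app (op t.V.1)).hom.toAlgebra
    refine RingHom.finiteType_algebraMap.mpr (Algebra.FiniteType.of_surjective
      (Polynomial.aeval (R := Γ(X, t.V.1)) (T j t : 𝒜.presheaf.obj (op t.V.1))) fun x => ?_)
    have h : x ∈ Subring.closure (Set.range (𝒜.str.app (op t.V.1)).hom ∪ Set.range (VA.ev j t.V)) :=
      (VA.closure_str_ev hLq hj t.V).ge trivial
    refine Subring.closure_le (t := (Polynomial.aeval (R := Γ(X, t.V.1))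
      (T j t : 𝒜.presheaf.obj (op t.V.1))).toRingHom.range) |>.mpr ?_ h
    rintro y (⟨r, rfl⟩ | ⟨e, rfl⟩)
    · exact ⟨Polynomial.C r, Polynomial.aeval_C _ _⟩
    · obtain ⟨c, hc⟩ := t.isGen.exists_smul_eq le_rfl e
      rw [show mres L (le_refl t.V.1) t.e = t.e from InvExt.mres_self L t.e] at hc
      refine ⟨Polynomial.C c * Polynomial.X, ?_⟩
      show Polynomial.aeval _ (Polynomial.C c * Polynomial.X) = _
      rw [map_mul, Polynomial.aeval_C, Polynomial.aeval_X, hc]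
      exact (Scheme.Modules.Hom.app_smul j c t.e).symm
  infer_instance

theorem isAffineHom_ι_compl (hL : PicF.IsInvertible L) (hLq : Coh.IsQCoh L) (hj : RelProj.IsGrSymAlg L 𝒜 j)
    (h0 : RelCone.StrZeroBij 𝒜) (haug : RelCone.IsAugmentation 𝒜 aug) (hj0 : RelCone.IsVertex 𝒜 aug j0)
    (V0 : 𝒜.toQCAlg.spec.Opens) (hV0 : (V0 : Set 𝒜.toQCAlg.spec) = (Set.range j0.base)ᶜ) : IsAffineHom V0.ι := by
  refine IsZariskiLocalAtTarget.of_iSup_eq_top (P := @IsAffineHom)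
    (fun t : Triv L => 𝒜.toQCAlg.π ⁻¹ᵁ t.V.1) (top_unique fun v _ => by
      obtain ⟨t, ht, -⟩ := exists_triv_le hL (W := (⊤ : X.Opens)) (x := 𝒜.toQCAlg.π v) trivial
      exact Opens.mem_iSup.mpr ⟨t, ht⟩) fun t => ?_
  haveI := isOpenImmersion_ι 𝒜.toQCAlg t.V.1 t.V.2
  haveI : IsAffine (𝒜.toQCAlg.π ⁻¹ᵁ t.V.1).toScheme := t.V.2.preimage 𝒜.toQCAlg.π
  have he : V0.ι ''ᵁ (V0.ι ⁻¹ᵁ (𝒜.toQCAlg.π ⁻¹ᵁ t.V.1)) =
      𝒜.toQCAlg.ι t.V.1 t.V.2 ''ᵁ PrimeSpectrum.basicOpen (T j t) := by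
    ext v
    rw [Scheme.Hom.image_preimage_eq_opensRange_inf, Scheme.Opens.opensRange_ι]
    constructor
    · rintro ⟨hv, hvt⟩
      obtain ⟨P, rfl⟩ := RelCone8.exists_ι_eq 𝒜.toQCAlg t.V.1 t.V.2 v hvt
      refine ⟨P, T_notMem_of_notMem_range hLq hj h0 haug hj0 t ?_, rfl⟩
      exact (Set.ext_iff.1 hV0 _).1 hv
    · rintro ⟨P, hP, rfl⟩
      refine ⟨(Set.ext_iff.1 hV0 _).2 fun hr => hP ?_, RelCone8.π_ι_mem 𝒜.toQCAlg t.V.1 t.V.2 P⟩
      exact (RelCone8.ι_mem_range_vertex_iff h0 haug hj0 t.V.1 t.V.2 P).1 hr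
        (HomogeneousIdeal.mem_irrelevant_of_mem _ Nat.one_pos (T_mem hj t))
  haveI : IsAffine (V0.ι ⁻¹ᵁ (𝒜.toQCAlg.π ⁻¹ᵁ t.V.1)).toScheme := by
    refine (Scheme.Hom.isAffineOpen_iff_of_isOpenImmersion V0.ι).mp ?_
    rw [he]
    exact (AlgebraicGeometry.IsAffineOpen.Spec_basicOpen (T j t)).image_of_isOpenImmersion _
  infer_instance

/-- A separated morphism with an ample bundle gives a contraction of the vertex. -/
theorem exists_contraction (p : X ⟶ Y) [IsSeparated p] [QuasiCompact p] (hL : PicF.IsInvertible L)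
    (hLq : Coh.IsQCoh L) (hj : RelProj.IsGrSymAlg L 𝒜 j) (h0 : RelCone.StrZeroBij 𝒜)
    (haug : RelCone.IsAugmentation 𝒜 aug) (hj0 : RelCone.IsVertex 𝒜 aug j0) (V0 : 𝒜.toQCAlg.spec.Opens)
    (hV0 : (V0 : Set 𝒜.toQCAlg.spec) = (Set.range j0.base)ᶜ) (hamp : RelAmple.IsRelAmple p L) :
    let S := coneSetup p hj0
    IsOpenImmersion (V0.ι ≫ S.q) ∧ QuasiCompact (V0.ι ≫ S.q) ∧
      Set.range (V0.ι ≫ S.q).base ∩ Set.range S.ε.base = ∅ ∧
      (IsProper p → IsProper S.q ∧ Set.range (V0.ι ≫ S.q).base = (Set.range S.ε.base)ᶜ) := by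
  intro S
  obtain ⟨hoi, hdisj⟩ := GrothLib.RLpsi8.Contract.isOpenImmersion_and_disjoint (S := S) V0 hV0 fun z hz =>
    exists_contraction_good hL hLq hj h0 haug hj0 hamp z ((Set.ext_iff.1 hV0 z).1 hz)
  haveI : QuasiCompact (S.q ≫ S.alg.π) := by rw [S.q_π]; exact S.hqc
  haveI hqc : QuasiCompact S.q := QuasiCompact.of_comp S.q S.alg.π
  haveI := isAffineHom_ι_compl hL hLq hj h0 haug hj0 V0 hV0
  refine ⟨hoi, MorphismProperty.comp_mem _ _ _ (inferInstanceAs (QuasiCompact V0.ι)) hqc, hdisj, fun hp => ?_⟩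
  haveI := locallyOfFiniteType_π hL hLq hj
  haveI : LocallyOfFiniteType (S.q ≫ S.alg.π) := by
    rw [S.q_π]; exact inferInstanceAs (LocallyOfFiniteType (𝒜.toQCAlg.π ≫ p))
  haveI : LocallyOfFiniteType S.q := locallyOfFiniteType_of_comp S.q S.alg.π
  haveI : IsSeparated (S.q ≫ S.alg.π) := by rw [S.q_π]; exact inferInstanceAs (IsSeparated (𝒜.toQCAlg.π ≫ p))
  haveI : IsSeparated S.q := IsSeparated.of_comp S.q S.alg.π
  haveI : UniversallyClosed S.q := UniversallyClosed.of_valuativeCriterion _ (by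
    rintro ⟨R, K, i₁, i₂, ⟨w⟩⟩
    obtain ⟨⟨⟨xR, hx1, hx2⟩⟩⟩ := (IsProper.eq_valuativeCriterion ▸ hp : _).1.1.1.existence
      ⟨R, K, i₁ ≫ 𝒜.toQCAlg.π, i₂ ≫ S.alg.π, ⟨by
        rw [← reassoc_of% w, Category.assoc, S.q_π]; rfl⟩⟩
    dsimp only at hx1 hx2
    let x0 := xR (IsLocalRing.closedPoint R)
    obtain ⟨U, hU, hxU, -⟩ := exists_isAffineOpen_mem_and_subset (x := p x0) (U := (⊤ : Y.Opens)) trivial
    let O : X.Opens := p ⁻¹ᵁ U
    obtain ⟨c, ⟨φ⟩⟩ := Ample.exists_cocycle hL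
    obtain ⟨d⟩ := c.nonempty_restrict_iso O.ι φ
    obtain ⟨n, a, hxa, haff⟩ := (((c.comap O.ι).isAmple_iff d).mp (hamp.2 ⟨U, hU⟩)).2 ⟨_, hxU⟩
    obtain ⟨β, rfl⟩ := (c.bijective_pullSect O.ι ⊤).2 a
    let Z : X.Opens := O.ι ''ᵁ (c.comap O.ι).locus (c.pullSect O.ι (Ample.LineData.le_preimage_image O.ι ⊤) β)
    have hO' : O ≤ O.ι ''ᵁ ⊤ := by rw [Scheme.Opens.ι_image_top]
    have hZO : Z ≤ O := by rintro _ ⟨w', -, rfl⟩; exact w'.2
    have hloc : ∀ (i : c.ι) (y : X), y ∈ O ⊓ c.D i → (y ∈ Z ↔ y ∈ X.basicOpen ((c.sectRes hO' β).1 i)) := by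
      intro i y hy
      refine (mem_image_locus_iff O β hy.1 hy.2).trans ?_
      show _ ↔ y ∈ X.basicOpen ((X.presheaf.map (homOfLE (inf_le_inf_right _ hO')).op).hom (β.1 i))
      rw [Scheme.basicOpen_res]
      exact ⟨fun h => ⟨hy, h⟩, fun h => h.2⟩
    obtain ⟨g, hgU, -, hgval⟩ := exists_good hLq hj h0 haug hj0 φ U hU (O := O) rfl (c.sectRes hO' β) Z
      (haff.image_of_isOpenImmersion O.ι) hZO hloc
    subst hgU
    have hxZ : x0 ∈ Z := ⟨_, hxa, rfl⟩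
    obtain ⟨i, V, hV, hVi, hVZ, hxV⟩ := exists_ctriv (c := c) hxZ
    have hVO : V ≤ O := fun y hy => hZO (hVZ hy)
    haveI := isOpenImmersion_ι 𝒜.toQCAlg V hV
    haveI := isOpenImmersion_ι S.alg g.U g.hU
    have hall : ∀ z, xR z ∈ V := fun z =>
      ((IsLocalRing.specializes_closedPoint z).map xR.continuous).mem_open V.2 hxV
    obtain ⟨ρ, hρ⟩ : ∃ ρ, Spec.map ρ ≫ hV.fromSpec = xR :=
      ⟨Spec.preimage (IsOpenImmersion.lift hV.fromSpec xR
        (by rw [hV.range_fromSpec]; rintro _ ⟨z, rfl⟩; exact hall z)),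
        by rw [Spec.map_preimage]; exact IsOpenImmersion.lift_fac _ _ _⟩
    obtain ⟨α, hα⟩ : ∃ α, Spec.map α ≫ 𝒜.toQCAlg.ι V hV = i₁ :=
      ⟨Spec.preimage (IsOpenImmersion.lift (𝒜.toQCAlg.ι V hV) i₁ (by
        rintro _ ⟨z, rfl⟩
        refine RelCone8.exists_ι_eq 𝒜.toQCAlg V hV _ ?_
        rw [← Scheme.Hom.comp_apply, ← hx1, Scheme.Hom.comp_apply]
        exact hall _)), by rw [Spec.map_preimage]; exact IsOpenImmersion.lift_fac _ _ _⟩
    obtain ⟨b', hb'⟩ : ∃ b', Spec.map b' ≫ S.alg.ι g.U g.hU = i₂ :=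
      ⟨Spec.preimage (IsOpenImmersion.lift (S.alg.ι g.U g.hU) i₂ (by
        rintro _ ⟨z, rfl⟩
        refine RelCone8.exists_ι_eq S.alg g.U g.hU _ ?_
        rw [← Scheme.Hom.comp_apply, ← hx2, Scheme.Hom.comp_apply]
        exact hVO (hall z))), by rw [Spec.map_preimage]; exact IsOpenImmersion.lift_fac _ _ _⟩
    have hstr : 𝒜.str.app (op V) ≫ α = ρ ≫ CommRingCat.ofHom (algebraMap R K) := by
      apply Spec.map_injective
      rw [← cancel_mono hV.fromSpec, Spec.map_comp, Spec.map_comp, Category.assoc, Category.assoc, hρ,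
        ← 𝒜.toQCAlg.ι_π, reassoc_of% hα, hx1]
    let Vz : X.AffineZariskiSite := ⟨V, hV⟩
    have hm1 : ⊤ ≤ (Spec.map α ≫ 𝒜.toQCAlg.ι V hV) ⁻¹ᵁ (S.h ⁻¹ᵁ g.U) := top_le_comp α (top_le_ι Vz hVO)
    have hR : ∀ b : S.sub g.U,
        algebraMap R K (b'.hom b) = α.hom (val b.1.1 (𝒜.toQCAlg.ι V hV) (top_le_ι Vz hVO)) := by
      intro b
      have e := (congrArg (· ≫ S.q) hα).symm.trans (S.q_chart g.U g.hU _ (Spec.map α ≫ 𝒜.toQCAlg.ι V hV) hm1)
      rw [w, ← hb', ← Spec.map_comp_assoc] at e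
      have e2 := Spec.map_injective ((cancel_mono (S.alg.ι g.U g.hU)).1 e)
      refine (ConcreteCategory.congr_hom e2 b).trans ?_
      exact val_comp _ α _ (top_le_ι Vz hVO)
    have hl := hR (S.elem g.U g.f g.hf)
    change _ = α.hom (val g.f _ _) at hl
    rw [hgval i Vz hVO hVi, map_mul, map_pow] at hl
    let lam : K := α.hom (Tg j φ i hVi)
    let u0 := res (le_inf hVO hVi) ((c.sectRes hO' β).1 i)
    have hu : IsUnit (ρ.hom u0) := by
      by_contra hnu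
      have hmem : ρ.hom u0 ∈ IsLocalRing.maximalIdeal R := hnu
      have hx : hV.fromSpec (Spec.map ρ (IsLocalRing.closedPoint R)) ∈ X.basicOpen u0 := by
        rw [← Scheme.Hom.comp_apply, hρ]
        show x0 ∈ X.basicOpen ((X.presheaf.map (homOfLE (le_inf hVO hVi)).op).hom _)
        rw [Scheme.basicOpen_res]
        exact ⟨hxV, (hloc i x0 ⟨hVO hxV, hVi hxV⟩).1 hxZ⟩
      exact ((SetLike.ext_iff.mp (hV.fromSpec_preimage_basicOpen u0) _).1 hx) hmem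
    obtain ⟨v, hv⟩ := hu.exists_left_inv
    have hlam : lam ^ (n + 1) = algebraMap R K (v * b'.hom (S.elem g.U g.f g.hf)) := by
      rw [map_mul, hl, show α.hom ((𝒜.str.app (op V)).hom u0) = algebraMap R K (ρ.hom u0) from
        ConcreteCategory.congr_hom hstr u0, ← mul_assoc, ← map_mul, hv, map_one, one_mul]
    obtain ⟨l, hl'⟩ := IsIntegrallyClosed.isIntegral_iff.mp (IsIntegral.of_pow n.succ_pos
      (show IsIntegral R (lam ^ (n + 1)) by rw [hlam]; exact isIntegral_algebraMap) : IsIntegral R lam)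
    obtain ⟨e, hes, heT⟩ := exists_eval_at hLq hj (ctriv φ i hVi hV) ρ.hom l
    let m : Spec (CommRingCat.of R) ⟶ 𝒜.toQCAlg.spec := Spec.map (CommRingCat.ofHom e) ≫ 𝒜.toQCAlg.ι V hV
    have he1 : CommRingCat.ofHom e ≫ CommRingCat.ofHom (algebraMap R K) = α := by
      refine CommRingCat.hom_ext (hom_ext hLq hj (ctriv φ i hVi hV) (fun r => ?_) ?_)
      · show algebraMap R K (e _) = _
        rw [hes]; exact (ConcreteCategory.congr_hom hstr r).symm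
      · show algebraMap R K (e _) = _
        rw [heT, hl']; rfl
    refine ⟨⟨⟨m, ?_, ?_⟩⟩⟩
    · refine Eq.trans ?_ hα
      show Spec.map (CommRingCat.ofHom (algebraMap R K)) ≫ m = _
      rw [← Category.assoc, ← Spec.map_comp, he1]
    · show m ≫ S.q = i₂
      have hm2 : ⊤ ≤ m ⁻¹ᵁ (S.h ⁻¹ᵁ g.U) := top_le_comp _ (top_le_ι Vz hVO)
      rw [S.q_chart g.U g.hU _ m hm2, ← hb']
      refine congrArg (fun k => Spec.map k ≫ S.alg.ι g.U g.hU) (CommRingCat.hom_ext (RingHom.ext fun b => ?_))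
      refine (IsFractionRing.injective R K) ?_
      rw [hR b]
      refine Eq.trans ?_ (congrArg (fun k : _ ⟶ CommRingCat.of K => k.hom (val b.1.1 (𝒜.toQCAlg.ι V hV) _)) he1)
      exact congrArg (algebraMap R K) (val_comp b.1.1 (CommRingCat.ofHom e) _ (top_le_ι Vz hVO)))
  haveI hpr : IsProper S.q := {}
  refine ⟨hpr, Set.Subset.antisymm (fun y hy hy' => Set.eq_empty_iff_forall_notMem.1 hdisj y ⟨hy, hy'⟩) fun y hy => ?_⟩
  obtain ⟨v, rfl⟩ := GrothLib.RLpsi8.Contract.mem_range_q S.q.isClosedMap.isClosed_range hy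
  by_cases hv : v ∈ V0
  · exact ⟨⟨v, hv⟩, rfl⟩
  · exfalso
    obtain ⟨x, rfl⟩ : v ∈ Set.range j0 := by
      by_contra h; exact hv ((Set.ext_iff.1 hV0 v).2 h)
    exact hy ⟨p x, (ConcreteCategory.congr_hom (congrArg (fun k => k.base) S.j_q) x).symm⟩

end GrothLib.RLpsi8.ConeSeries
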