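import Groth.Agent.Lib.RLpsi8.SectDict
import Groth.Agent.Lib.RelCone8.Vertex
import Mathlib.RingTheory.PowerSeries.Substitution
import Mathlib.RingTheory.PowerSeries.Inverse

/-!
# Power series expansion of functions near the zero section of a line bundle
-/

set_option autoImplicit false
set_option backward.isDefEq.respectTransparency false
set_option maxHeartbeats 400000

universe u

open CategoryTheory CategoryTheory.Limits AlgebraicGeometry TopologicalSpace Opposite
open GrothLib.RelProjK (dg rs em)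
open GrothLib.InvExt (IsGen mres)
open GrothLib.Ample (res res_res res_self Cocycle)

noncomputable section

namespace GrothLib.RLpsi8.ConeSeries

variable {X : Scheme.{u}}

/-- Charts of a relative spectrum over nested affine opens. -/
theorem map_ι_of_le (A : RelSpec.QCAlg X) {V V' : X.AffineZariskiSite} (h : V'.1 ≤ V.1) :
    Spec.map (A.presheaf.map (homOfLE h).op) ≫ A.ι V.1 V.2 = A.ι V'.1 V'.2 := by
  choose g g' hgg hpg using fun p : V'.1 => exists_basicOpen_le_affine_inter V.2 V'.2 p.1 ⟨h p.2, p.2⟩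
  let W : V'.1 → X.AffineZariskiSite := fun p => ⟨X.basicOpen (g' p), V'.2.basicOpen _⟩
  have hWV : ∀ p, W p ≤ V := fun p => ⟨g p, hgg p⟩
  have hWV' : ∀ p, W p ≤ V' := fun p => ⟨g' p, rfl⟩
  let f : ∀ p, Spec (A.presheaf.obj (op (W p).1)) ⟶ Spec (A.presheaf.obj (op V'.1)) :=
    fun p => Spec.map (RelCone8.rz A (hWV' p))
  haveI : ∀ p, IsOpenImmersion (f p) := fun p => by
    haveI : IsOpenImmersion (f p ≫ A.ι V'.1 V'.2) := by
      rw [RelCone8.map_rz_ι]
      exact inferInstanceAs (IsOpenImmersion (A.glueData.cover.f _))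
    haveI : IsOpenImmersion (A.ι V'.1 V'.2) := inferInstanceAs (IsOpenImmersion (A.glueData.cover.f _))
    exact IsOpenImmersion.of_comp (f p) (A.ι V'.1 V'.2)
  refine (Scheme.Cover.mkOfCovers (P := @IsOpenImmersion) V'.1
    (fun p => Spec (A.presheaf.obj (op (W p).1))) f ?_ (fun p => inferInstance)).hom_ext _ _ fun p => ?_
  · intro y
    have hy := RelCone8.π_ι_mem A V'.1 V'.2 y
    let p : V'.1 := ⟨_, hy⟩
    obtain ⟨w, hw⟩ := RelCone8.exists_ι_eq A (W p).1 (W p).2 _ (hgg p ▸ hpg p)
    haveI : IsOpenImmersion (A.ι V'.1 V'.2) := inferInstanceAs (IsOpenImmersion (A.glueData.cover.f _))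
    refine ⟨p, w, (A.ι V'.1 V'.2).isOpenEmbedding.injective ?_⟩
    rw [← hw, ← RelCone8.map_rz_ι A (hWV' p)]
    rfl
  · show f p ≫ Spec.map _ ≫ A.ι V.1 V.2 = f p ≫ A.ι V'.1 V'.2
    rw [← Category.assoc, ← Spec.map_comp, ← Functor.map_comp]
    exact (RelCone8.map_rz_ι A (hWV p)).trans (RelCone8.map_rz_ι A (hWV' p)).symm

variable {L : X.Modules} {𝒜 : RelProj.QCGrAlg X} {j : L ⟶ 𝒜.toModule}
  (hLq : Coh.IsQCoh L) (hj : RelProj.IsGrSymAlg L 𝒜 j)

include hLq hj in
theorem hom_ext {R : Type u} [CommRing R] (t : Triv L) {a b : 𝒜.presheaf.obj (op t.V.1) →+* R}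
    (hs : ∀ r, a ((𝒜.str.app (op t.V.1)).hom r) = b ((𝒜.str.app (op t.V.1)).hom r))
    (hT : a (T j t) = b (T j t)) : a = b := by
  refine RingHom.ext fun x => ?_
  show x ∈ a.eqLocus b
  have h : x ∈ Subring.closure (Set.range (𝒜.str.app (op t.V.1)).hom ∪ Set.range (VA.ev j t.V)) :=
    (VA.closure_str_ev hLq hj t.V).ge trivial
  refine Subring.closure_le.mpr ?_ h
  rintro y (⟨r, rfl⟩ | ⟨e, rfl⟩)
  · exact hs r
  · obtain ⟨c, hc⟩ := t.isGen.exists_smul_eq le_rfl e
    rw [show mres L (le_refl t.V.1) t.e = t.e from InvExt.mres_self L t.e] at hc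
    have he : VA.ev j t.V e = (𝒜.str.app (op t.V.1)).hom c * T j t := by
      rw [hc]; exact Scheme.Modules.Hom.app_smul j c t.e
    show a _ = b _
    rw [he, map_mul, map_mul, hs, hT]

include hLq hj in
theorem exists_series (t : Triv L) : ∃ P : 𝒜.presheaf.obj (op t.V.1) →+* PowerSeries Γ(X, t.V.1),
    (∀ r, P ((𝒜.str.app (op t.V.1)).hom r) = PowerSeries.C r) ∧ P (T j t) = PowerSeries.X := by
  obtain ⟨q, hqs, hqj⟩ := SymAlgX.isAffSym_of_isSymAlg hLq hj.1 t.V.1 t.V.2
  have hb : Function.Bijective (LinearMap.toSpanSingleton Γ(X, t.V.1) Γ(L, t.V.1) t.e) := by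
    have h := t.isGen t.V.1 le_rfl
    rw [show mres L (le_refl t.V.1) t.e = t.e from InvExt.mres_self L t.e] at h
    exact h
  let le := LinearEquiv.ofBijective _ hb
  let f : Γ(L, t.V.1) →ₗ[Γ(X, t.V.1)] PowerSeries Γ(X, t.V.1) :=
    (LinearMap.toSpanSingleton Γ(X, t.V.1) _ PowerSeries.X).comp le.symm.toLinearMap
  let l := SymmetricAlgebra.lift (R := Γ(X, t.V.1)) (A := PowerSeries Γ(X, t.V.1)) (M := Γ(L, t.V.1)) f
  refine ⟨l.toRingHom.comp q.symm.toRingHom, fun r => ?_, ?_⟩
  · show l (q.symm _) = _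
    rw [← hqs r, q.symm_apply_apply]
    exact l.commutes r
  · show l (q.symm (T j t)) = _
    rw [show T j t = q (SymAlgX.gen _ _ t.e) from (hqj t.e).symm, q.symm_apply_apply]
    refine (SymmetricAlgebra.lift_ι_apply f t.e).trans ?_
    show le.symm t.e • (PowerSeries.X : PowerSeries Γ(X, t.V.1)) = _
    rw [show le.symm t.e = (1 : Γ(X, t.V.1)) from le.symm_apply_eq.mpr (one_smul _ _).symm, one_smul]

/-- The expansion along the zero section in a trivialisation. -/
def series (t : Triv L) : 𝒜.presheaf.obj (op t.V.1) →+* PowerSeries Γ(X, t.V.1) :=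
  (exists_series hLq hj t).choose

theorem series_str (t : Triv L) (r : Γ(X, t.V.1)) :
    series hLq hj t ((𝒜.str.app (op t.V.1)).hom r) = PowerSeries.C r :=
  (exists_series hLq hj t).choose_spec.1 r

theorem series_T (t : Triv L) : series hLq hj t (T j t) = PowerSeries.X :=
  (exists_series hLq hj t).choose_spec.2

theorem series_res (t t' : Triv L) (h : t'.V.1 ≤ t.V.1) (g : Γ(X, t'.V.1))
    (hg : ares 𝒜 h (T j t) = (𝒜.str.app (op t'.V.1)).hom g * T j t') :
    ((PowerSeries.rescale g).comp (PowerSeries.map (res h))).comp (series hLq hj t) =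
      (series hLq hj t').comp (ares 𝒜 h) := by
  refine hom_ext hLq hj t (fun r => ?_) ?_
  · simp only [RingHom.comp_apply, series_str, ares_str, PowerSeries.map_C]
    ext n
    rw [PowerSeries.coeff_rescale, PowerSeries.coeff_C]
    split_ifs with hn
    · subst hn; rw [pow_zero, one_mul]
    · rw [mul_zero]
  · simp only [RingHom.comp_apply, series_T, hg, map_mul, series_str, PowerSeries.map_X]
    ext n
    rw [PowerSeries.coeff_rescale, PowerSeries.coeff_C_mul, PowerSeries.coeff_X]
    split_ifs with hn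
    · subst hn; rw [pow_one]
    · rw [mul_zero, mul_zero]

variable {aug : 𝒜.toQCAlg ⟶ RelSpec.QCAlg.unit X} (haug : RelCone.IsAugmentation 𝒜 aug)

include haug in
theorem constantCoeff_series (t : Triv L) :
    (PowerSeries.constantCoeff).comp (series hLq hj t) = (aug.hom.app (op t.V.1)).hom := by
  refine hom_ext hLq hj t (fun r => ?_) ?_
  · rw [RingHom.comp_apply, series_str, PowerSeries.constantCoeff_C]
    exact (ConcreteCategory.congr_hom (congrArg (fun k => k.app (op t.V.1)) aug.comm) r).symm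
  · rw [RingHom.comp_apply, series_T, PowerSeries.constantCoeff_X]
    exact (haug t.V.1 t.V.2 0 _ (T_mem hj t)).symm

end GrothLib.RLpsi8.ConeSeries
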