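import Groth.Prelude.Def_RelSpec
import Groth.Agent.Lib.RLpsi8.SpecUMP

/-!
# Contracting a closed subscheme to the base: the algebra
-/

set_option autoImplicit false
set_option backward.isDefEq.respectTransparency false
set_option maxHeartbeats 400000

universe u

open CategoryTheory CategoryTheory.Limits AlgebraicGeometry TopologicalSpace Opposite

noncomputable section

namespace GrothLib.RLpsi8.Contract

/-- The data: `j : X ⟶ V` over the base. -/
structure Setup where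
  {X Y V : Scheme.{u}}
  p : X ⟶ Y
  h : V ⟶ Y
  j : X ⟶ V
  hjh : j ≫ h = p
  [hqc : QuasiCompact h]
  [hqs : QuasiSeparated h]
  [pqc : QuasiCompact p]
  [pqs : QuasiSeparated p]

attribute [instance] Setup.hqc Setup.hqs Setup.pqc Setup.pqs

variable (S : Setup.{u})

theorem Setup.le (U : S.Y.Opens) : S.p ⁻¹ᵁ U ≤ S.j ⁻¹ᵁ (S.h ⁻¹ᵁ U) := by
  rw [← Scheme.Hom.comp_preimage, S.hjh]

/-- Restriction to the subscheme. -/
def Setup.res (U : S.Y.Opens) : Γ(S.V, S.h ⁻¹ᵁ U) →+* Γ(S.X, S.p ⁻¹ᵁ U) :=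
  (S.j.appLE (S.h ⁻¹ᵁ U) (S.p ⁻¹ᵁ U) (S.le U)).hom

theorem Setup.res_app (U : S.Y.Opens) (r : Γ(S.Y, U)) : S.res U ((S.h.app U).hom r) = (S.p.app U).hom r := by
  have e : S.h.app U ≫ S.j.appLE (S.h ⁻¹ᵁ U) (S.p ⁻¹ᵁ U) (S.le U) = S.p.app U := by
    obtain ⟨p, h, j, hjh⟩ := S
    subst hjh
    rw [Scheme.Hom.app_eq_appLE, Scheme.Hom.app_eq_appLE, Scheme.Hom.appLE_comp_appLE]
  exact ConcreteCategory.congr_hom e r

/-- Pairs of a function above `U` and a function on `U` agreeing on the subscheme. -/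
def Setup.sub (U : S.Y.Opens) : Subring (Γ(S.V, S.h ⁻¹ᵁ U) × Γ(S.Y, U)) :=
  ((S.res U).comp (RingHom.fst _ _)).eqLocus ((S.p.app U).hom.comp (RingHom.snd _ _))

theorem Setup.res_map {U W : S.Y.Opens} (i : W ≤ U) (a : Γ(S.V, S.h ⁻¹ᵁ U)) :
    S.res W ((S.V.presheaf.map (homOfLE (S.h.preimage_mono i)).op).hom a) =
      (S.X.presheaf.map (homOfLE (S.p.preimage_mono i)).op).hom (S.res U a) := by
  have e : S.V.presheaf.map (homOfLE (S.h.preimage_mono i)).op ≫ S.j.appLE (S.h ⁻¹ᵁ W) (S.p ⁻¹ᵁ W) (S.le W) =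
      S.j.appLE (S.h ⁻¹ᵁ U) (S.p ⁻¹ᵁ U) (S.le U) ≫ S.X.presheaf.map (homOfLE (S.p.preimage_mono i)).op := by
    rw [Scheme.Hom.map_appLE, Scheme.Hom.appLE_map]
  exact ConcreteCategory.congr_hom e a

theorem Setup.app_map {U W : S.Y.Opens} (i : W ≤ U) (r : Γ(S.Y, U)) :
    (S.p.app W).hom ((S.Y.presheaf.map (homOfLE i).op).hom r) =
      (S.X.presheaf.map (homOfLE (S.p.preimage_mono i)).op).hom ((S.p.app U).hom r) :=
  ConcreteCategory.congr_hom (S.p.naturality (homOfLE i).op) r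

/-- Restriction of pairs. -/
def Setup.subRes {U W : S.Y.Opens} (i : W ≤ U) : S.sub U →+* S.sub W :=
  (((S.V.presheaf.map (homOfLE (S.h.preimage_mono i)).op).hom.prodMap
    (S.Y.presheaf.map (homOfLE i).op).hom).comp (S.sub U).subtype).codRestrict (S.sub W) fun x => by
      show S.res W _ = (S.p.app W).hom _
      refine (S.res_map i x.1.1).trans (Eq.trans ?_ (S.app_map i x.1.2).symm)
      exact congrArg _ x.2

/-- The presheaf of pairs. -/
def Setup.presheaf : TopCat.Presheaf CommRingCat.{u} S.Y.carrier where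
  obj U := CommRingCat.of (S.sub U.unop)
  map i := CommRingCat.ofHom (S.subRes (leOfHom i.unop))
  map_id U := CommRingCat.hom_ext (RingHom.ext fun x => Subtype.ext (Prod.ext
    (ConcreteCategory.congr_hom (S.V.presheaf.map_id _) x.1.1)
    (ConcreteCategory.congr_hom (S.Y.presheaf.map_id _) x.1.2)))
  map_comp i k := CommRingCat.hom_ext (RingHom.ext fun x => Subtype.ext (Prod.ext
    (ConcreteCategory.congr_hom (S.V.presheaf.map_comp (homOfLE (S.h.preimage_mono (leOfHom i.unop))).op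
      (homOfLE (S.h.preimage_mono (leOfHom k.unop))).op) x.1.1)
    (ConcreteCategory.congr_hom (S.Y.presheaf.map_comp (homOfLE (leOfHom i.unop)).op
      (homOfLE (leOfHom k.unop)).op) x.1.2)))

/-- The structure map. -/
def Setup.str : S.Y.presheaf ⟶ S.presheaf where
  app U := CommRingCat.ofHom (((S.h.app U.unop).hom.prod (RingHom.id _)).codRestrict (S.sub U.unop)
    fun r => S.res_app U.unop r)
  naturality U W i := CommRingCat.hom_ext (RingHom.ext fun r => Subtype.ext (Prod.ext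
    (ConcreteCategory.congr_hom (S.h.naturality i) r) rfl))

theorem Setup.isSheaf : S.presheaf.IsSheaf := by
  refine (TopCat.Presheaf.isSheaf_iff_isSheafUniqueGluing _).mpr ?_
  intro ι U sf hsf
  let W : S.Y.Opens := ⨆ i, U i
  have hcov : S.h ⁻¹ᵁ W ≤ ⨆ i, S.h ⁻¹ᵁ U i := (Scheme.Hom.preimage_iSup S.h U).le
  have hcovX : S.p ⁻¹ᵁ W ≤ ⨆ i, S.p ⁻¹ᵁ U i := (Scheme.Hom.preimage_iSup S.p U).le
  obtain ⟨a, ha, hau⟩ := S.V.sheaf.existsUnique_gluing' (fun i => S.h ⁻¹ᵁ U i) (S.h ⁻¹ᵁ W)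
    (fun i => homOfLE (S.h.preimage_mono (le_iSup U i))) hcov (fun i => (sf i).1.1)
    fun i k => congrArg (fun x => x.1.1) (hsf i k)
  obtain ⟨r, hr, hru⟩ := S.Y.sheaf.existsUnique_gluing' U W
    (fun i => homOfLE (le_iSup U i)) le_rfl (fun i => (sf i).1.2)
    fun i k => congrArg (fun x => x.1.2) (hsf i k)
  have hmem : (a, r) ∈ S.sub W := by
    refine S.X.sheaf.eq_of_locally_eq' (fun i => S.p ⁻¹ᵁ U i) (S.p ⁻¹ᵁ W)
      (fun i => homOfLE (S.p.preimage_mono (le_iSup U i))) hcovX _ _ fun i => ?_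
    show (S.X.presheaf.map _).hom (S.res W a) = (S.X.presheaf.map _).hom ((S.p.app W).hom r)
    refine (S.res_map (le_iSup U i) a).symm.trans (Eq.trans ?_ (S.app_map (le_iSup U i) r))
    exact (congrArg (S.res (U i)) (ha i)).trans ((sf i).2.trans (congrArg (S.p.app (U i)).hom (hr i).symm))
  refine ⟨⟨(a, r), hmem⟩, fun i => Subtype.ext (Prod.ext (ha i) (hr i)), fun s hs => Subtype.ext (Prod.ext ?_ ?_)⟩
  · exact hau s.1.1 fun i => congrArg (fun x => x.1.1) (hs i)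
  · exact hru s.1.2 fun i => congrArg (fun x => x.1.2) (hs i)

theorem Setup.isQC : RelSpec.IsQC S.presheaf S.str := by
  intro U hU r
  let D := S.Y.basicOpen r
  let i : D ≤ U := S.Y.basicOpen_le r
  let ρV := (S.V.presheaf.map (homOfLE (S.h.preimage_mono i)).op).hom
  let ρY := (S.Y.presheaf.map (homOfLE i).op).hom
  let ρX := (S.X.presheaf.map (homOfLE (S.p.preimage_mono i)).op).hom
  letI aV : Algebra Γ(S.V, S.h ⁻¹ᵁ U) Γ(S.V, S.h ⁻¹ᵁ D) := ρV.toAlgebra
  letI aY : Algebra Γ(S.Y, U) Γ(S.Y, D) := ρY.toAlgebra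
  letI aX : Algebra Γ(S.X, S.p ⁻¹ᵁ U) Γ(S.X, S.p ⁻¹ᵁ D) := ρX.toAlgebra
  have lV : IsLocalization.Away ((S.h.app U).hom r) Γ(S.V, S.h ⁻¹ᵁ D) := RelSpec.QCAlg.isQC_pushforward S.h U hU r
  have lX : IsLocalization.Away ((S.p.app U).hom r) Γ(S.X, S.p ⁻¹ᵁ D) := RelSpec.QCAlg.isQC_pushforward S.p U hU r
  have lY : IsLocalization.Away r Γ(S.Y, D) := hU.isLocalization_basicOpen r
  letI aB : Algebra (S.sub U) (S.sub D) := (S.subRes i).toAlgebra
  show @IsLocalization.Away (S.sub U) _ ((S.str.app (op U)).hom r) (S.sub D) _ aB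
  let σ : S.sub U := (S.str.app (op U)).hom r
  have hσ1 : (σ.1.1 : Γ(S.V, S.h ⁻¹ᵁ U)) = (S.h.app U).hom r := rfl
  have hσ2 : (σ.1.2 : Γ(S.Y, U)) = r := rfl
  refine IsLocalization.Away.mk σ ?_ ?_ ?_
  · obtain ⟨v, hv⟩ := (IsLocalization.Away.algebraMap_isUnit (S := Γ(S.Y, D)) r).exists_right_inv
    let w : S.sub D := (S.str.app (op D)).hom v
    refine IsUnit.of_mul_eq_one w ?_
    show (S.subRes i σ) * w = 1
    rw [show S.subRes i σ = (S.str.app (op D)).hom (ρY r) from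
      (ConcreteCategory.congr_hom (S.str.naturality (homOfLE i).op) r).symm]
    exact (map_mul (S.str.app (op D)).hom (ρY r) v).symm.trans
      ((congrArg _ hv).trans (map_one (S.str.app (op D)).hom))
  · intro y
    obtain ⟨n, a, ha⟩ := IsLocalization.Away.surj ((S.h.app U).hom r) (y.1.1 : Γ(S.V, S.h ⁻¹ᵁ D))
    obtain ⟨m, b, hb⟩ := IsLocalization.Away.surj r (y.1.2 : Γ(S.Y, D))
    let a' := a * (S.h.app U).hom r ^ m
    let b' := b * r ^ n
    have ha' : y.1.1 * ρV ((S.h.app U).hom r) ^ (n + m) = ρV a' := by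
      rw [map_mul, map_pow, pow_add, ← mul_assoc, ← show _ = ρV a from ha]
      rfl
    have hb' : y.1.2 * ρY r ^ (n + m) = ρY b' := by
      rw [map_mul, map_pow, pow_add, ← mul_assoc, mul_right_comm, ← show _ = ρY b from hb]
      rfl
    have hd : ρX (S.res U a') = ρX ((S.p.app U).hom b') := by
      refine (S.res_map i a').symm.trans (Eq.trans ?_ (S.app_map i b'))
      show S.res D (ρV a') = (S.p.app D).hom (ρY b')
      rw [← ha', ← hb', map_mul, map_mul, map_pow, map_pow,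
        show S.res D y.1.1 = (S.p.app D).hom y.1.2 from y.2]
      congr 2
      refine (S.res_map i _).trans (Eq.trans ?_ (S.app_map i r).symm)
      rw [S.res_app]
    obtain ⟨⟨_, k, rfl⟩, hk⟩ := IsLocalization.exists_of_eq (M := Submonoid.powers ((S.p.app U).hom r)) hd
    refine ⟨n + m + k, ⟨((S.h.app U).hom r ^ k * a', r ^ k * b'), ?_⟩, Subtype.ext (Prod.ext ?_ ?_)⟩
    · show S.res U ((S.h.app U).hom r ^ k * a') = (S.p.app U).hom (r ^ k * b')
      rw [map_mul (S.res U) _ a', map_mul (S.p.app U).hom _ b', map_pow, map_pow, S.res_app]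
      exact hk
    · show y.1.1 * ρV ((S.h.app U).hom r) ^ (n + m + k) = ρV ((S.h.app U).hom r ^ k * a')
      rw [map_mul, map_pow, pow_add, ← mul_assoc, ha', mul_comm]
    · show y.1.2 * ρY r ^ (n + m + k) = ρY (r ^ k * b')
      rw [map_mul, map_pow, pow_add, ← mul_assoc, hb', mul_comm]
  · intro x y hxy
    obtain ⟨⟨_, n, rfl⟩, hn⟩ := IsLocalization.exists_of_eq (M := Submonoid.powers ((S.h.app U).hom r))
      (S := Γ(S.V, S.h ⁻¹ᵁ D)) (x := x.1.1) (y := y.1.1) (congrArg (fun z : S.sub D => z.1.1) hxy)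
    obtain ⟨⟨_, m, rfl⟩, hm⟩ := IsLocalization.exists_of_eq (M := Submonoid.powers r)
      (S := Γ(S.Y, D)) (x := x.1.2) (y := y.1.2) (congrArg (fun z : S.sub D => z.1.2) hxy)
    refine ⟨n + m, Subtype.ext (Prod.ext ?_ ?_)⟩
    · show (S.h.app U).hom r ^ (n + m) * x.1.1 = (S.h.app U).hom r ^ (n + m) * y.1.1
      rw [add_comm, pow_add, mul_assoc, mul_assoc]
      exact congrArg _ hn
    · show r ^ (n + m) * x.1.2 = r ^ (n + m) * y.1.2
      rw [pow_add, mul_assoc, mul_assoc]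
      exact congrArg _ hm

/-- The algebra of the contraction. -/
def Setup.alg : RelSpec.QCAlg S.Y where
  presheaf := S.presheaf
  isSheaf := S.isSheaf
  str := S.str
  isQC := S.isQC

/-- First projection. -/
def Setup.fst (U : S.Y.Opens) : S.alg.presheaf.obj (op U) ⟶ Γ(S.V, S.h ⁻¹ᵁ U) :=
  CommRingCat.ofHom ((RingHom.fst _ _).comp (S.sub U).subtype)

/-- Second projection. -/
def Setup.snd (U : S.Y.Opens) : S.alg.presheaf.obj (op U) ⟶ Γ(S.Y, U) :=
  CommRingCat.ofHom ((RingHom.snd _ _).comp (S.sub U).subtype)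

end GrothLib.RLpsi8.Contract
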