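import Groth.Agent.Lib.RLpsi8.ContractAlg
import Groth.Agent.Lib.RLpsi8.Immersion

/-!
# Contracting a closed subscheme to the base: the morphisms
-/

set_option autoImplicit false
set_option backward.isDefEq.respectTransparency false
set_option maxHeartbeats 400000

universe u

open CategoryTheory CategoryTheory.Limits AlgebraicGeometry TopologicalSpace Opposite

noncomputable section

namespace GrothLib.RLpsi8.Contract

variable (S : Setup.{u})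

/-- The first projection to the direct image. -/
def Setup.fstNat : S.alg.presheaf ⟶ AffAlg.alg S.h where
  app U := S.fst U.unop
  naturality _ _ _ := CommRingCat.hom_ext (RingHom.ext fun _ => rfl)

/-- The second projection to the structure sheaf. -/
def Setup.sndNat : S.alg.presheaf ⟶ AffAlg.alg (𝟙 S.Y) where
  app U := S.snd U.unop
  naturality _ _ _ := CommRingCat.hom_ext (RingHom.ext fun _ => rfl)

theorem exists_hom_of_nat {Y T : Scheme.{u}} (A : RelSpec.QCAlg Y) (h : T ⟶ Y) (ω : A.presheaf ⟶ AffAlg.alg h)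
    (hω : A.str ≫ ω = h.c) :
    ∃ (v : T ⟶ A.spec) (_ : v ≫ A.π = h),
      ∀ (U : Y.Opens) (hU : IsAffineOpen U) (R : CommRingCat.{u}) (m : Spec R ⟶ T) (hm : ⊤ ≤ m ⁻¹ᵁ (h ⁻¹ᵁ U)),
        m ≫ v = Spec.map (ω.app (op U) ≫ m.appLE (h ⁻¹ᵁ U) ⊤ hm ≫ (Scheme.ΓSpecIso R).hom) ≫ A.ι U hU := by
  obtain ⟨v, hv, hvω⟩ := GrothLib.AffAlg8.exists_hom A.π h (A.gammaMap ≫ ω) (by
    rw [← Category.assoc, A.π_c_gammaMap, hω])
  refine ⟨v, hv, fun U hU R m hm => ?_⟩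
  have le0 : h ⁻¹ᵁ U ≤ v ⁻¹ᵁ (A.π ⁻¹ᵁ U) := by rw [← Scheme.Hom.comp_preimage, hv]
  have e₁ : ⊤ ≤ (m ≫ v) ⁻¹ᵁ (A.π ⁻¹ᵁ U) := le_trans hm (m.preimage_mono le0)
  have e₂ : ⊤ ≤ (Spec.map (ω.app (op U) ≫ m.appLE (h ⁻¹ᵁ U) ⊤ hm ≫ (Scheme.ΓSpecIso R).hom) ≫ A.ι U hU) ⁻¹ᵁ
      (A.π ⁻¹ᵁ U) := le_trans le_top (Scheme.Hom.preimage_mono _ (A.top_le_preimage U hU))
  refine _root_.RLpsi8.ext_of_appLE_affine _ _ _ (hU.preimage A.π) e₁ e₂ ?_
  have key : v.appLE (A.π ⁻¹ᵁ U) (h ⁻¹ᵁ U) le0 = A.gammaAff U hU ≫ ω.app (op U) := by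
    have h1 := congr(($hvω).app (op U))
    rw [GrothLib.AffAlg8.algHom_app] at h1
    rw [← A.gammaMap_app U hU]
    exact h1
  rw [← cancel_mono (Scheme.ΓSpecIso R).hom,
    ← Scheme.Hom.appLE_comp_appLE m v (A.π ⁻¹ᵁ U) (h ⁻¹ᵁ U) ⊤ le0 hm,
    ← Scheme.Hom.appLE_comp_appLE _ (A.ι U hU) (A.π ⁻¹ᵁ U) ⊤ ⊤ (A.top_le_preimage U hU) le_top,
    Category.assoc, Category.assoc, key, ← _root_.RLpsi8.appLE_ι_eq_gammaAff A U hU, Category.assoc, Category.assoc]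
  congr 1
  simp only [Scheme.Hom.appLE, Category.assoc]
  erw [CategoryTheory.Functor.map_id, Category.id_comp]
  exact (Scheme.ΓSpecIso_naturality (ω.app (op U) ≫ m.app (h ⁻¹ᵁ U) ≫
    (Spec R).presheaf.map (homOfLE hm).op ≫ (Scheme.ΓSpecIso R).hom)).symm

theorem Setup.str_fst : S.alg.str ≫ S.fstNat = S.h.c := NatTrans.ext (funext fun U => rfl)

theorem Setup.str_snd : S.alg.str ≫ S.sndNat = (𝟙 S.Y : S.Y ⟶ S.Y).c := NatTrans.ext (funext fun U => rfl)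

/-- The contraction. -/
def Setup.q : S.V ⟶ S.alg.spec := (exists_hom_of_nat S.alg S.h S.fstNat S.str_fst).choose

theorem Setup.q_π : S.q ≫ S.alg.π = S.h := (exists_hom_of_nat S.alg S.h S.fstNat S.str_fst).choose_spec.choose

theorem Setup.q_chart (U : S.Y.Opens) (hU : IsAffineOpen U) (R : CommRingCat.{u}) (m : Spec R ⟶ S.V)
    (hm : ⊤ ≤ m ⁻¹ᵁ (S.h ⁻¹ᵁ U)) :
    m ≫ S.q = Spec.map (S.fst U ≫ m.appLE (S.h ⁻¹ᵁ U) ⊤ hm ≫ (Scheme.ΓSpecIso R).hom) ≫ S.alg.ι U hU :=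
  (exists_hom_of_nat S.alg S.h S.fstNat S.str_fst).choose_spec.choose_spec U hU R m hm

/-- The section. -/
def Setup.ε : S.Y ⟶ S.alg.spec := (exists_hom_of_nat S.alg (𝟙 S.Y) S.sndNat S.str_snd).choose

theorem Setup.ε_π : S.ε ≫ S.alg.π = 𝟙 S.Y :=
  (exists_hom_of_nat S.alg (𝟙 S.Y) S.sndNat S.str_snd).choose_spec.choose

theorem Setup.ε_chart (U : S.Y.Opens) (hU : IsAffineOpen U) :
    hU.fromSpec ≫ S.ε = Spec.map (S.snd U) ≫ S.alg.ι U hU := by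
  refine Eq.trans ((exists_hom_of_nat S.alg (𝟙 S.Y) S.sndNat S.str_snd).choose_spec.choose_spec U hU _ hU.fromSpec
    hU.fromSpec_preimage_self.ge) ?_
  congr 2
  have e : hU.fromSpec.appLE U ⊤ hU.fromSpec_preimage_self.ge ≫ (Scheme.ΓSpecIso Γ(S.Y, U)).hom = 𝟙 _ := by
    simp only [Scheme.Hom.appLE, IsAffineOpen.fromSpec_app_self, Category.assoc, ← Functor.map_comp_assoc]
    rw [Subsingleton.elim (_ ≫ _ : op (⊤ : (Spec Γ(S.Y, U)).Opens) ⟶ _) (𝟙 _)]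
    erw [CategoryTheory.Functor.map_id, Category.id_comp]
    exact Iso.inv_hom_id _
  show S.snd U ≫ hU.fromSpec.appLE U ⊤ _ ≫ _ = _
  erw [e, Category.comp_id]

theorem Setup.j_q : S.j ≫ S.q = S.p ≫ S.ε := by
  choose U hU hxU hle using fun x : S.X => exists_isAffineOpen_mem_and_subset (x := S.p x) (U := (⊤ : S.Y.Opens)) trivial
  choose W hW hxW hWle using fun x : S.X => exists_isAffineOpen_mem_and_subset (x := x) (U := S.p ⁻¹ᵁ U x) (hxU x)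
  refine (S.X.openCoverOfIsOpenCover W (top_unique fun x _ => Opens.mem_iSup.mpr ⟨x, hxW x⟩)).hom_ext _ _ fun x => ?_
  show (W x).ι ≫ _ = (W x).ι ≫ _
  rw [← cancel_epi (hW x).isoSpec.inv, IsAffineOpen.isoSpec_inv_ι_assoc, IsAffineOpen.isoSpec_inv_ι_assoc]
  have hm : ⊤ ≤ ((hW x).fromSpec ≫ S.j) ⁻¹ᵁ (S.h ⁻¹ᵁ U x) := by
    refine le_trans (hW x).fromSpec_preimage_self.ge ?_
    exact ((hW x).fromSpec).preimage_mono (le_trans (fun y hy => hWle x hy) (S.le (U x)))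
  rw [← Category.assoc, S.q_chart (U x) (hU x) _ _ hm]
  have hlift : (hW x).fromSpec ≫ S.p =
      Spec.map (S.p.appLE (U x) (W x) (fun y hy => hWle x hy)) ≫ (hU x).fromSpec :=
    ((hU x).SpecMap_appLE_fromSpec S.p (hW x) _).symm
  rw [reassoc_of% hlift, S.ε_chart, ← Spec.map_comp_assoc]
  congr 2
  refine CommRingCat.hom_ext (RingHom.ext fun b => ?_)
  have e : ((hW x).fromSpec ≫ S.j).appLE (S.h ⁻¹ᵁ U x) ⊤ hm ≫ (Scheme.ΓSpecIso _).hom =
      S.j.appLE (S.h ⁻¹ᵁ U x) (S.p ⁻¹ᵁ U x) (S.le (U x)) ≫ S.X.presheaf.map (homOfLE (fun y hy => hWle x hy : W x ≤ S.p ⁻¹ᵁ U x)).op := by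
    rw [← Scheme.Hom.appLE_comp_appLE (hW x).fromSpec S.j _ (W x) ⊤ (fun y hy => S.le (U x) (hWle x hy))
      (hW x).fromSpec_preimage_self.ge, Scheme.Hom.appLE_map, Category.assoc]
    have e1 : (hW x).fromSpec.appLE (W x) ⊤ (hW x).fromSpec_preimage_self.ge ≫
        (Scheme.ΓSpecIso Γ(S.X, W x)).hom = 𝟙 _ := by
      simp only [Scheme.Hom.appLE, IsAffineOpen.fromSpec_app_self, Category.assoc, ← Functor.map_comp_assoc]
      rw [Subsingleton.elim (_ ≫ _ : op (⊤ : (Spec Γ(S.X, W x)).Opens) ⟶ _) (𝟙 _)]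
      erw [CategoryTheory.Functor.map_id, Category.id_comp]
      exact Iso.inv_hom_id _
    erw [e1, Category.comp_id]
  rw [e]
  show (S.X.presheaf.map _).hom (S.res (U x) b.1.1) = (S.p.appLE (U x) (W x) _).hom b.1.2
  rw [show S.res (U x) b.1.1 = (S.p.app (U x)).hom b.1.2 from b.2]
  rfl

/-- The element of the algebra given by a function above `U` vanishing on the subscheme. -/
def Setup.elem (U : S.Y.Opens) (f : Γ(S.V, S.h ⁻¹ᵁ U)) (hf : S.res U f = 0) : S.alg.presheaf.obj (op U) :=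
  ⟨(f, 0), show S.res U f = (S.p.app U).hom 0 by rw [hf, map_zero]⟩

/-- The open of the contraction where such an element is invertible. -/
def Setup.dOpen (U : S.Y.Opens) (hU : IsAffineOpen U) (f : Γ(S.V, S.h ⁻¹ᵁ U)) (hf : S.res U f = 0) :
    S.alg.spec.Opens :=
  S.alg.ι U hU ''ᵁ PrimeSpectrum.basicOpen (S.elem U f hf)

theorem Setup.preimage_dOpen (U : S.Y.Opens) (hU : IsAffineOpen U) (f : Γ(S.V, S.h ⁻¹ᵁ U)) (hf : S.res U f = 0) :
    S.q ⁻¹ᵁ S.dOpen U hU f hf = S.V.basicOpen f := by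
  ext v
  by_cases hv : v ∈ S.h ⁻¹ᵁ U
  · obtain ⟨A, hA, hvA, hAle⟩ := exists_isAffineOpen_mem_and_subset hv
    obtain ⟨a, rfl⟩ : v ∈ Set.range hA.fromSpec := by rw [hA.range_fromSpec]; exact hvA
    have hm : ⊤ ≤ hA.fromSpec ⁻¹ᵁ (S.h ⁻¹ᵁ U) := le_trans hA.fromSpec_preimage_self.ge (hA.fromSpec.preimage_mono hAle)
    show S.q (hA.fromSpec a) ∈ S.alg.ι U hU ''ᵁ _ ↔ _
    rw [← Scheme.Hom.comp_apply, S.q_chart U hU _ hA.fromSpec hm, Scheme.Hom.comp_apply]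
    rw [show (S.alg.ι U hU) _ ∈ S.alg.ι U hU ''ᵁ _ ↔ _ from (S.alg.ι U hU).isOpenEmbedding.injective.mem_set_image]
    have e : hA.fromSpec.appLE (S.h ⁻¹ᵁ U) ⊤ hm ≫ (Scheme.ΓSpecIso Γ(S.V, A)).hom =
        S.V.presheaf.map (homOfLE hAle).op := by
      rw [← Scheme.Hom.map_appLE _ hA.fromSpec_preimage_self.ge (homOfLE hAle).op, Category.assoc]
      simp only [Scheme.Hom.appLE, IsAffineOpen.fromSpec_app_self, Category.assoc, ← Functor.map_comp_assoc]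
      rw [Subsingleton.elim (_ ≫ _ : op (⊤ : (Spec Γ(S.V, A)).Opens) ⟶ _) (𝟙 _)]
      erw [CategoryTheory.Functor.map_id, Category.id_comp, Iso.inv_hom_id, Category.comp_id]
    erw [e]
    show (S.V.presheaf.map (homOfLE hAle).op).hom f ∉ a.asIdeal ↔ hA.fromSpec a ∈ S.V.basicOpen f
    have h2 := SetLike.ext_iff.mp (hA.fromSpec_preimage_basicOpen ((S.V.presheaf.map (homOfLE hAle).op).hom f)) a
    refine Iff.trans (Iff.symm h2) ?_
    show hA.fromSpec a ∈ S.V.basicOpen _ ↔ _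
    rw [Scheme.basicOpen_res]
    exact ⟨fun h => h.2, fun h => ⟨hvA, h⟩⟩
  · refine iff_of_false (fun hd => hv ?_) (fun hb => hv (S.V.basicOpen_le f hb))
    obtain ⟨w, -, hw⟩ := hd
    have := (S.alg.top_le_preimage U hU) (x := w) trivial
    show S.h v ∈ U
    rw [← S.q_π, Scheme.Hom.comp_apply, ← hw]
    exact this

end GrothLib.RLpsi8.Contract
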