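import Groth.Agent.Lib.RLpsi8.ContractMap

/-!
# The contraction is an open immersion off the subscheme
-/

set_option autoImplicit false
set_option backward.isDefEq.respectTransparency false
set_option maxHeartbeats 400000

universe u

open CategoryTheory CategoryTheory.Limits AlgebraicGeometry TopologicalSpace Opposite

noncomputable section

namespace GrothLib.RLpsi8.Contract

variable (S : Setup.{u})

/-- A function above an affine open of the base, vanishing on the subscheme, with affine nonvanishing locus. -/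
structure Setup.Good where
  U : S.Y.Opens
  hU : IsAffineOpen U
  f : Γ(S.V, S.h ⁻¹ᵁ U)
  hf : S.res U f = 0
  aff : IsAffineOpen (S.V.basicOpen f)

variable {S}

/-- The open of the contraction attached to a good function. -/
abbrev Setup.Good.D (g : S.Good) : S.alg.spec.Opens := S.dOpen g.U g.hU g.f g.hf

theorem Setup.Good.j_notMem (g : S.Good) (x : S.X) : S.j x ∉ S.V.basicOpen g.f := by
  intro hx
  have hU : x ∈ S.p ⁻¹ᵁ g.U := by
    show S.p x ∈ g.U
    rw [← S.hjh, Scheme.Hom.comp_apply]; exact S.V.basicOpen_le g.f hx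
  have : x ∈ S.X.basicOpen (S.res g.U g.f) := by
    show x ∈ S.X.basicOpen ((S.j.appLE _ _ _).hom g.f)
    rw [Scheme.basicOpen_appLE]; exact ⟨hU, hx⟩
  rw [g.hf, Scheme.basicOpen_zero] at this
  exact this.elim

theorem Setup.Good.ε_notMem (g : S.Good) (y : S.Y) : S.ε y ∉ g.D := by
  intro hy
  have hU : y ∈ g.U := by
    obtain ⟨w, -, hw⟩ := hy
    have := (S.alg.top_le_preimage g.U g.hU) (x := w) trivial
    change S.alg.π _ ∈ g.U at this
    have hw' : (S.alg.ι g.U g.hU) w = S.ε y := hw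
    rwa [hw', ← Scheme.Hom.comp_apply, S.ε_π] at this
  obtain ⟨a, rfl⟩ : y ∈ Set.range g.hU.fromSpec := by rw [g.hU.range_fromSpec]; exact hU
  rw [← Scheme.Hom.comp_apply, S.ε_chart g.U g.hU, Scheme.Hom.comp_apply] at hy
  have := (S.alg.ι g.U g.hU).isOpenEmbedding.injective.mem_set_image.1 hy
  exact this (a.asIdeal.zero_mem : (0 : Γ(S.Y, g.U)) ∈ a.asIdeal)

theorem Setup.Good.isOpenImmersion_ι_q (g : S.Good) : IsOpenImmersion ((S.V.basicOpen g.f).ι ≫ S.q) := by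
  let A := S.V.basicOpen g.f
  have hm : ⊤ ≤ g.aff.fromSpec ⁻¹ᵁ (S.h ⁻¹ᵁ g.U) :=
    le_trans g.aff.fromSpec_preimage_self.ge (g.aff.fromSpec.preimage_mono (S.V.basicOpen_le g.f))
  let ρ := (S.V.presheaf.map (homOfLE (S.V.basicOpen_le g.f)).op).hom
  let θ : S.sub g.U →+* Γ(S.V, A) := ρ.comp (S.fst g.U).hom
  let σ : S.sub g.U := S.elem g.U g.f g.hf
  letI : Algebra (S.sub g.U) Γ(S.V, A) := θ.toAlgebra
  letI : Algebra Γ(S.V, S.h ⁻¹ᵁ g.U) Γ(S.V, A) := ρ.toAlgebra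
  haveI hloc : IsLocalization.Away g.f Γ(S.V, A) := isLocalization_basicOpen_of_qcqs
    (S.h.isCompact_preimage g.hU.isCompact) (S.h.isQuasiSeparated_preimage g.hU.isQuasiSeparated) g.f
  haveI : IsLocalization.Away σ Γ(S.V, A) := by
    refine IsLocalization.Away.mk σ (IsLocalization.Away.algebraMap_isUnit (S := Γ(S.V, A)) g.f) (fun y => ?_)
      fun a b hab => ?_
    · obtain ⟨n, a, ha⟩ := IsLocalization.Away.surj g.f y
      refine ⟨n + 1, ⟨(a * g.f, 0), ?_⟩, ?_⟩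
      · show S.res g.U (a * g.f) = (S.p.app g.U).hom 0
        rw [map_mul, g.hf, mul_zero, map_zero]
      · show y * ρ g.f ^ (n + 1) = ρ (a * g.f)
        rw [map_mul, pow_succ, ← mul_assoc]
        exact congrArg (· * ρ g.f) ha
    · obtain ⟨⟨_, n, rfl⟩, hn⟩ := IsLocalization.exists_of_eq (M := Submonoid.powers g.f)
        (S := Γ(S.V, A)) (x := a.1.1) (y := b.1.1) hab
      refine ⟨n + 1, Subtype.ext (Prod.ext ?_ ?_)⟩
      · show g.f ^ (n + 1) * a.1.1 = g.f ^ (n + 1) * b.1.1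
        rw [pow_succ', mul_assoc, mul_assoc]
        exact congrArg _ hn
      · show (0 : Γ(S.Y, g.U)) ^ (n + 1) * a.1.2 = (0 : Γ(S.Y, g.U)) ^ (n + 1) * b.1.2
        rw [zero_pow n.succ_ne_zero, zero_mul, zero_mul]
  haveI : IsOpenImmersion (Spec.map (CommRingCat.ofHom θ)) := IsOpenImmersion.of_isLocalization σ
  haveI : IsOpenImmersion (S.alg.ι g.U g.hU) := inferInstanceAs (IsOpenImmersion (S.alg.glueData.cover.f _))
  have e : g.aff.isoSpec.inv ≫ A.ι ≫ S.q = Spec.map (CommRingCat.ofHom θ) ≫ S.alg.ι g.U g.hU := by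
    rw [IsAffineOpen.isoSpec_inv_ι_assoc, S.q_chart g.U g.hU _ g.aff.fromSpec hm]
    congr 2
    have e1 : g.aff.fromSpec.appLE (S.h ⁻¹ᵁ g.U) ⊤ hm ≫ (Scheme.ΓSpecIso Γ(S.V, A)).hom =
        S.V.presheaf.map (homOfLE (S.V.basicOpen_le g.f)).op := by
      rw [← Scheme.Hom.map_appLE _ g.aff.fromSpec_preimage_self.ge (homOfLE (S.V.basicOpen_le g.f)).op,
        Category.assoc]
      simp only [Scheme.Hom.appLE, IsAffineOpen.fromSpec_app_self, Category.assoc, ← Functor.map_comp_assoc]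
      rw [Subsingleton.elim (_ ≫ _ : op (⊤ : (Spec Γ(S.V, A)).Opens) ⟶ _) (𝟙 _)]
      erw [CategoryTheory.Functor.map_id, Category.id_comp, Iso.inv_hom_id, Category.comp_id]
    erw [e1]
    rfl
  have : A.ι ≫ S.q = g.aff.isoSpec.hom ≫ Spec.map (CommRingCat.ofHom θ) ≫ S.alg.ι g.U g.hU := by
    rw [← e, Iso.hom_inv_id_assoc]
  show IsOpenImmersion (A.ι ≫ S.q)
  rw [this]
  infer_instance

/-- Enough good functions give an open immersion off the subscheme, avoiding the section. -/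
theorem isOpenImmersion_and_disjoint (V0 : S.V.Opens) (hV0 : (V0 : Set S.V) = (Set.range S.j)ᶜ)
    (hgood : ∀ z ∈ V0, ∃ g : S.Good, z ∈ S.V.basicOpen g.f) :
    IsOpenImmersion (V0.ι ≫ S.q) ∧ Set.range (V0.ι ≫ S.q).base ∩ Set.range S.ε.base = ∅ := by
  have hle : ∀ g : S.Good, S.V.basicOpen g.f ≤ V0 := fun g z hz => by
    show z ∈ (V0 : Set S.V)
    rw [hV0]
    rintro ⟨x, rfl⟩
    exact g.j_notMem x hz
  have hpre : ∀ g : S.Good, (V0.ι ≫ S.q) ⁻¹ᵁ g.D = V0.ι ⁻¹ᵁ S.V.basicOpen g.f := fun g => by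
    rw [Scheme.Hom.comp_preimage, S.preimage_dOpen]
  have hcov : ⨆ g : S.Good, (V0.ι ≫ S.q) ⁻¹ᵁ g.D = ⊤ := top_unique fun z _ => by
    obtain ⟨g, hg⟩ := hgood z.1 z.2
    exact Opens.mem_iSup.mpr ⟨g, by rw [hpre]; exact hg⟩
  refine ⟨?_, ?_⟩
  · obtain ⟨h1, h2⟩ := GrothLib.RLpsi8.property_of_cover (V0.ι ≫ S.q) @IsOpenImmersion (fun g : S.Good => g.D) hcov fun g => by
      haveI := g.isOpenImmersion_ι_q
      let t : ((V0.ι ≫ S.q) ⁻¹ᵁ g.D).toScheme ⟶ (S.V.basicOpen g.f).toScheme :=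
        IsOpenImmersion.lift (S.V.basicOpen g.f).ι (((V0.ι ≫ S.q) ⁻¹ᵁ g.D).ι ≫ V0.ι) (by
          rw [Scheme.Opens.range_ι]
          rintro _ ⟨w, rfl⟩
          exact (hpre g).le w.2)
      have ht : t ≫ (S.V.basicOpen g.f).ι = ((V0.ι ≫ S.q) ⁻¹ᵁ g.D).ι ≫ V0.ι := IsOpenImmersion.lift_fac _ _ _
      haveI : IsOpenImmersion (t ≫ (S.V.basicOpen g.f).ι) := by rw [ht]; infer_instance
      haveI : IsOpenImmersion t := IsOpenImmersion.of_comp t (S.V.basicOpen g.f).ι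
      haveI : IsOpenImmersion (((V0.ι ≫ S.q) ∣_ g.D) ≫ g.D.ι) := by
        rw [morphismRestrict_ι, ← Category.assoc, ← ht, Category.assoc]
        infer_instance
      exact IsOpenImmersion.of_comp _ g.D.ι
    exact GrothLib.RLpsi8.isOpenImmersion_of_restrict _ h1 h2
  · rw [Set.eq_empty_iff_forall_notMem]
    rintro _ ⟨⟨z, rfl⟩, y, hy⟩
    obtain ⟨g, hg⟩ := hgood z.1 z.2
    refine g.ε_notMem y ?_
    show S.ε y ∈ g.D
    rw [show S.ε y = (V0.ι ≫ S.q) z from hy]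
    have : z ∈ (V0.ι ≫ S.q) ⁻¹ᵁ g.D := by rw [hpre]; exact hg
    exact this

/-- When the contraction is closed, it covers everything off the section. -/
theorem mem_range_q (hcl : IsClosed (Set.range S.q)) {c : S.alg.spec} (hc : c ∉ Set.range S.ε) :
    c ∈ Set.range S.q := by
  obtain ⟨U, hU, hcU, -⟩ := exists_isAffineOpen_mem_and_subset (x := S.alg.π c) (U := (⊤ : S.Y.Opens)) trivial
  obtain ⟨P, rfl⟩ : c ∈ Set.range (S.alg.ι U hU) := by
    have : c ∈ S.alg.π ⁻¹ᵁ U := hcU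
    rwa [S.alg.π_preimage U hU] at this
  haveI : IsOpenImmersion (S.alg.ι U hU) := inferInstanceAs (IsOpenImmersion (S.alg.glueData.cover.f _))
  obtain ⟨b, hb0, hbP⟩ : ∃ b : S.sub U, b.1.2 = 0 ∧ b ∉ P.asIdeal := by
    by_contra hh
    push Not at hh
    refine hc ⟨hU.fromSpec ⟨P.asIdeal.map (S.snd U).hom, ?_⟩, ?_⟩
    · exact Ideal.map_isPrime_of_surjective (fun r => ⟨(S.str.app (op U)).hom r, rfl⟩) fun x hx => hh x hx
    · rw [← Scheme.Hom.comp_apply, S.ε_chart U hU, Scheme.Hom.comp_apply]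
      congr 1
      refine PrimeSpectrum.ext ?_
      show (P.asIdeal.map (S.snd U).hom).comap (S.snd U).hom = P.asIdeal
      rw [Ideal.comap_map_of_surjective _ (fun r => ⟨(S.str.app (op U)).hom r, rfl⟩), sup_eq_left]
      exact fun x hx => hh x hx
  rw [← hcl.closure_eq, mem_closure_iff]
  intro O hO hPO
  obtain ⟨_, ⟨_, ⟨d, rfl⟩, rfl⟩, hdP, hdO⟩ := PrimeSpectrum.isBasis_basic_opens.exists_subset_of_mem_open
    (show P ∈ (S.alg.ι U hU) ⁻¹' O from hPO) (hO.preimage (S.alg.ι U hU).continuous)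
  let d' : S.sub U := d
  let bd : S.sub U := b * d'
  have hbd0 : bd.1.2 = 0 := by show b.1.2 * d'.1.2 = 0; rw [hb0, zero_mul]
  have hbd : bd.1.1 ∈ {f : Γ(S.V, S.h ⁻¹ᵁ U) | ¬ IsNilpotent f} := by
    rintro ⟨n, hn⟩
    have hz : bd ^ n = 0 := Subtype.ext (Prod.ext hn (by
      show (bd.1.2) ^ n = 0
      rcases n with _ | n
      · exfalso
        rw [pow_zero] at hn
        have h1 : (1 : S.sub U) * b = 0 := Subtype.ext (Prod.ext (by
          show 1 * b.1.1 = 0; rw [one_mul, ← one_mul b.1.1, hn, zero_mul]) (by show 1 * b.1.2 = 0; rw [one_mul, hb0]))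
        rw [one_mul] at h1
        exact hbP (h1 ▸ P.asIdeal.zero_mem)
      · rw [hbd0, zero_pow n.succ_ne_zero]))
    refine P.isPrime.mul_notMem hbP hdP (P.isPrime.mem_of_pow_mem n ?_)
    show bd ^ n ∈ P.asIdeal
    rw [hz]; exact P.asIdeal.zero_mem
  obtain ⟨v, hv⟩ : (S.V.basicOpen bd.1.1 : Set S.V).Nonempty := by
    by_contra hne
    refine hbd ((Scheme.isNilpotent_iff_basicOpen_eq_bot_of_isCompact (S.h.isCompact_preimage hU.isCompact) _).mpr ?_)
    exact Opens.ext (Set.not_nonempty_iff_eq_empty.mp hne)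
  have hres : S.res U bd.1.1 = 0 := by
    rw [show S.res U bd.1.1 = (S.p.app U).hom bd.1.2 from bd.2]
    rw [hbd0, map_zero]
  have hbd2 : S.elem U bd.1.1 hres = bd := Subtype.ext (Prod.ext rfl (by
    exact hbd0.symm))
  rw [← S.preimage_dOpen U hU bd.1.1 hres] at hv
  obtain ⟨w, hw, hwv⟩ := hv
  refine ⟨S.q v, ?_, v, rfl⟩
  rw [← hwv]
  refine hdO ?_
  rw [hbd2] at hw
  intro hd
  exact hw (show bd ∈ w.asIdeal from Ideal.mul_mem_left _ b hd)

end GrothLib.RLpsi8.Contract
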