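import Mathlib

/-!
# Descending properties reach a field valued point
-/

universe u

open CategoryTheory Limits AlgebraicGeometry Opposite TopologicalSpace

namespace GrothLib.RLpsi8.DescPoint

variable {R : Type u} [CommRing R]

/-- `(R/I)` with `S` inverted. -/
abbrev Cut (p : Ideal R × Submonoid R) : Type u :=
  Localization (p.2.map (Ideal.Quotient.mk p.1))

/-- The structure map. -/
noncomputable def str (p : Ideal R × Submonoid R) : R →+* Cut p :=
  (algebraMap (R ⧸ p.1) (Cut p)).comp (Ideal.Quotient.mk p.1)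

lemma str_eq_zero {p : Ideal R × Submonoid R} {a : R} (ha : a ∈ p.1) : str p a = 0 := by
  rw [str, RingHom.comp_apply, Ideal.Quotient.eq_zero_iff_mem.mpr ha, map_zero]

lemma isUnit_str {p : Ideal R × Submonoid R} {s : R} (hs : s ∈ p.2) : IsUnit (str p s) :=
  IsLocalization.map_units (Cut p)
    (⟨Ideal.Quotient.mk p.1 s, Submonoid.mem_map_of_mem (Ideal.Quotient.mk p.1) hs⟩ :
      p.2.map (Ideal.Quotient.mk p.1))

lemma hom_ext {p : Ideal R × Submonoid R} {B : Type u} [CommRing B] {f g : Cut p →+* B}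
    (h : f.comp (str p) = g.comp (str p)) : f = g :=
  IsLocalization.ringHom_ext (p.2.map (Ideal.Quotient.mk p.1)) (Ideal.Quotient.ringHom_ext h)

/-- Maps out of `Cut p`. -/
noncomputable def lift (p : Ideal R × Submonoid R) {B : Type u} [CommRing B] (φ : R →+* B)
    (h1 : ∀ a ∈ p.1, φ a = 0) (h2 : ∀ s ∈ p.2, IsUnit (φ s)) : Cut p →+* B :=
  IsLocalization.lift (M := p.2.map (Ideal.Quotient.mk p.1)) (g := Ideal.Quotient.lift p.1 φ h1) (by
    rintro ⟨_, s, hs, rfl⟩
    simpa using h2 s hs)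

lemma lift_str (p : Ideal R × Submonoid R) {B : Type u} [CommRing B] (φ : R →+* B)
    (h1 : ∀ a ∈ p.1, φ a = 0) (h2 : ∀ s ∈ p.2, IsUnit (φ s)) :
    (lift p φ h1 h2).comp (str p) = φ := by
  ext a
  simp [lift, str]

/-- Transition maps. -/
noncomputable def trans {p q : Ideal R × Submonoid R} (h : p ≤ q) : Cut p →+* Cut q :=
  lift p (str q) (fun _ ha => str_eq_zero (h.1 ha)) fun _ hs => isUnit_str (h.2 hs)

lemma trans_str {p q : Ideal R × Submonoid R} (h : p ≤ q) :
    (trans h).comp (str p) = str q := lift_str _ _ _ _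

lemma nontrivial_of_forall {p : Ideal R × Submonoid R} (h : ∀ s ∈ p.2, s ∉ p.1) :
    Nontrivial (Cut p) := by
  refine not_subsingleton_iff_nontrivial.mp fun hsub => ?_
  obtain ⟨s, hs, e⟩ := (IsLocalization.subsingleton_iff (M := p.2.map (Ideal.Quotient.mk p.1))
    (S := Cut p)).mp hsub
  exact h s hs (Ideal.Quotient.eq_zero_iff_mem.mp e)

lemma disjoint_of_nontrivial {p : Ideal R × Submonoid R} [Nontrivial (Cut p)] (s : R)
    (hs : s ∈ p.2) : s ∉ p.1 := fun h => by
  have := isUnit_str hs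
  rw [str_eq_zero h] at this
  exact not_isUnit_zero this

lemma nontrivial_of_point {A : Type u} [CommRing A] (z : PrimeSpectrum A) : Nontrivial A :=
  ⟨1, 0, fun h => z.isPrime.ne_top (Ideal.eq_top_iff_one _ |>.mpr (h ▸ z.asIdeal.zero_mem))⟩

section Chain

variable {c : Set (Ideal R × Submonoid R)} (q : Ideal R × Submonoid R) (hle : ∀ i : c, i.1 ≤ q)

/-- A chain of cuts as a functor. -/
noncomputable def chainFun (c : Set (Ideal R × Submonoid R)) : c ⥤ CommRingCat.{u} where
  obj i := CommRingCat.of (Cut i.1)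
  map {i j} a := CommRingCat.ofHom (trans (show i.1 ≤ j.1 from leOfHom a))
  map_id i := CommRingCat.hom_ext (hom_ext (trans_str (p := i.1) (q := i.1) le_rfl))
  map_comp {i j k} a b := CommRingCat.hom_ext (hom_ext (by
    show (trans (show i.1 ≤ k.1 from leOfHom (a ≫ b))).comp (str i.1) =
      ((trans (show j.1 ≤ k.1 from leOfHom b)).comp
        (trans (show i.1 ≤ j.1 from leOfHom a))).comp (str i.1)
    rw [RingHom.comp_assoc, trans_str, trans_str, trans_str]))

/-- The cocone. -/
noncomputable def chainCocone : Cocone (chainFun c) where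
  pt := CommRingCat.of (Cut q)
  ι :=
    { app := fun i => CommRingCat.ofHom (trans (hle i))
      naturality := fun i j a => CommRingCat.hom_ext (hom_ext (by
        show ((trans (hle j)).comp (trans (show i.1 ≤ j.1 from leOfHom a))).comp (str i.1) =
          ((RingHom.id _).comp (trans (hle i))).comp (str i.1)
        rw [RingHom.comp_assoc, trans_str, trans_str, RingHom.id_comp, trans_str])) }

/-- A leg of a cocone. -/
noncomputable def leg (s : Cocone (chainFun c)) (i : c) : Cut i.1 →+* s.pt := (s.ι.app i).hom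

lemma str_ι_eq [IsDirectedOrder c] (s : Cocone (chainFun c)) (i i₀ : c) :
    (leg s i).comp (str i.1) =
      (leg s i₀).comp (str i₀.1) := by
  have key : ∀ {a b : c} (h : a ≤ b),
      (leg s a).comp (str a.1) =
        (leg s b).comp (str b.1) := by
    intro a b h
    have hw : (leg s b).comp (trans (show a.1 ≤ b.1 from h)) =
        (s.ι.app a).hom :=
      congrArg CommRingCat.Hom.hom (s.w (homOfLE h))
    rw [← trans_str (show a.1 ≤ b.1 from h), ← RingHom.comp_assoc]
    exact congrArg (fun f : Cut a.1 →+* s.pt => f.comp (str a.1)) hw.symm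
  obtain ⟨d, hd1, hd2⟩ := exists_ge_ge i i₀
  exact (key hd1).trans (key hd2).symm

lemma desc_zero [IsDirectedOrder c] (i₀ : c) (hI : ∀ a ∈ q.1, ∃ i : c, a ∈ i.1.1)
    (s : Cocone (chainFun c)) : ∀ a ∈ q.1, (leg s i₀).comp (str i₀.1) a = 0 := fun a ha => by
  obtain ⟨i, hi⟩ := hI a ha
  rw [← str_ι_eq s i i₀, RingHom.comp_apply, str_eq_zero hi, map_zero]

lemma desc_unit [IsDirectedOrder c] (i₀ : c) (hS : ∀ a ∈ q.2, ∃ i : c, a ∈ i.1.2)
    (s : Cocone (chainFun c)) : ∀ a ∈ q.2, IsUnit ((leg s i₀).comp (str i₀.1) a) := fun a ha => by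
  obtain ⟨i, hi⟩ := hS a ha
  rw [← str_ι_eq s i i₀]
  exact (isUnit_str (p := i.1) hi).map (leg s i)

/-- A directed union of cuts is a colimit. -/
noncomputable def chainIsColimit [IsDirectedOrder c] (i₀ : c)
    (hI : ∀ a ∈ q.1, ∃ i : c, a ∈ i.1.1) (hS : ∀ a ∈ q.2, ∃ i : c, a ∈ i.1.2) :
    IsColimit (chainCocone q hle) where
  desc s := CommRingCat.ofHom
    (lift q ((leg s i₀).comp (str i₀.1)) (desc_zero q i₀ hI s) (desc_unit q i₀ hS s))
  fac s i := CommRingCat.hom_ext (by
    have e : (lift q ((leg s i₀).comp (str i₀.1)) (desc_zero q i₀ hI s) (desc_unit q i₀ hS s)).comp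
        (trans (hle i)) = leg s i := hom_ext (by
      rw [RingHom.comp_assoc, trans_str, lift_str]
      exact (str_ι_eq s i i₀).symm)
    exact e)
  uniq s m hm := CommRingCat.hom_ext (by
    have e : ∀ (f : Cut q →+* s.pt), f.comp (trans (hle i₀)) = leg s i₀ →
        f = lift q ((leg s i₀).comp (str i₀.1)) (desc_zero q i₀ hI s) (desc_unit q i₀ hS s) :=
      fun f hf => hom_ext (by rw [lift_str, ← hf, RingHom.comp_assoc, trans_str])
    exact e m.hom (congrArg CommRingCat.Hom.hom (hm i₀)))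

variable {T : Scheme.{u}} (g : Spec (CommRingCat.of R) ⟶ T)

lemma map_trans_pt {p p' : Ideal R × Submonoid R} (h : p ≤ p') :
    Spec.map (CommRingCat.ofHom (trans h)) ≫ Spec.map (CommRingCat.ofHom (str p)) ≫ g =
      Spec.map (CommRingCat.ofHom (str p')) ≫ g := by
  rw [← Spec.map_comp_assoc, ← CommRingCat.ofHom_comp, trans_str]

lemma spec_trans_self (p : Ideal R × Submonoid R) (h : p ≤ p) :
    Spec.map (CommRingCat.ofHom (trans h)) = 𝟙 _ := by
  rw [show trans h = RingHom.id _ from hom_ext (trans_str h)]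
  exact Spec.map_id _

lemma spec_trans_comp {p p' p'' : Ideal R × Submonoid R} (h : p ≤ p') (h' : p' ≤ p'') :
    Spec.map (CommRingCat.ofHom (trans h')) ≫ Spec.map (CommRingCat.ofHom (trans h)) =
      Spec.map (CommRingCat.ofHom (trans (h.trans h'))) := by
  rw [← Spec.map_comp, ← CommRingCat.ofHom_comp]
  congr 2
  exact hom_ext (by rw [RingHom.comp_assoc, trans_str, trans_str, trans_str])

/-- The chain as schemes over `T`. -/
noncomputable def chainOver (c : Set (Ideal R × Submonoid R)) : cᵒᵖ ⥤ Over T where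
  obj i := Over.mk (Spec.map (CommRingCat.ofHom (str i.unop.1)) ≫ g)
  map {i j} a := Over.homMk
    (Spec.map (CommRingCat.ofHom (trans (show j.unop.1 ≤ i.unop.1 from leOfHom a.unop))))
    (map_trans_pt g _)
  map_id i := Over.OverMorphism.ext (spec_trans_self i.unop.1 le_rfl)
  map_comp {i j k} a b := Over.OverMorphism.ext
    (spec_trans_comp (show k.unop.1 ≤ j.unop.1 from leOfHom b.unop)
      (show j.unop.1 ≤ i.unop.1 from leOfHom a.unop)).symm

/-- The cone of the chain. -/
noncomputable def chainCone : Cone (chainOver g c) where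
  pt := Over.mk (Spec.map (CommRingCat.ofHom (str q)) ≫ g)
  π :=
    { app := fun i => Over.homMk (Spec.map (CommRingCat.ofHom (trans (hle i.unop))))
        (map_trans_pt g _)
      naturality := fun i j a => Over.OverMorphism.ext
        ((Category.id_comp _).trans
          (spec_trans_comp (show j.unop.1 ≤ i.unop.1 from leOfHom a.unop) (hle i.unop)).symm) }

/-- The cone is limiting. -/
noncomputable def chainIsLimit [IsDirectedOrder c] (i₀ : c)
    (hI : ∀ a ∈ q.1, ∃ i : c, a ∈ i.1.1) (hS : ∀ a ∈ q.2, ∃ i : c, a ∈ i.1.2) :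
    IsLimit (chainCone q hle g) :=
  haveI : Nonempty c := ⟨i₀⟩
  haveI : IsConnected (cᵒᵖ) := IsCofiltered.isConnected _
  letI e : (chainFun c).op ⋙ Scheme.Spec ≅ chainOver g c ⋙ Over.forget T :=
    NatIso.ofComponents (fun i => Iso.refl _) (fun a => by exact (Category.comp_id _).trans (Category.id_comp _).symm)
  isLimitOfReflects (Over.forget T)
    (IsLimit.ofIsoLimit
      ((IsLimit.postcomposeHomEquiv e _).symm
        (isLimitOfPreserves Scheme.Spec (chainIsColimit q hle i₀ hI hS).op))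
      (Cone.ext (Iso.refl _) fun i => by
        exact (Category.comp_id _).trans (Category.id_comp _).symm))

end Chain

variable {T : Scheme.{u}}

theorem exists_field_point_affine
    (P : ∀ ⦃T' : Scheme.{u}⦄, (T' ⟶ T) → Prop)
    (h1 : ∀ ⦃T' T'' : Scheme.{u}⦄ (a : T' ⟶ T) (t : T'' ⟶ T') [IsClosedImmersion t] [Surjective t]
      [CompactSpace T'] [QuasiSeparatedSpace T'] [CompactSpace T''] [QuasiSeparatedSpace T''],
        P (t ≫ a) ↔ P a)
    (h2 : ∀ ⦃I : Type u⦄ [SmallCategory I] [IsCofiltered I] (D : I ⥤ Over T) (c : Limits.Cone D)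
      (_ : Limits.IsLimit c), (∀ (i j : I) (m : i ⟶ j), IsAffineHom (D.map m).left) →
      (∀ i, CompactSpace (D.obj i).left ∧ QuasiSeparatedSpace (D.obj i).left) →
      (∀ i, P (D.obj i).hom) → P c.pt.hom)
    (h3 : ∀ ⦃T' Z V : Scheme.{u}⦄ (a : T' ⟶ T) [CompactSpace T'] [QuasiSeparatedSpace T'] (i : Z ⟶ T')
      [IsClosedImmersion i] (j : V ⟶ T') [IsOpenImmersion j] [CompactSpace V],
        Set.range j = (Set.range i)ᶜ → P a → P (j ≫ a) ∨ P (i ≫ a))
    [Nontrivial R] (g : Spec (CommRingCat.of R) ⟶ T) (hg : P g) :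
    ∃ (K : Type u) (_ : Field K) (t : Spec (CommRingCat.of K) ⟶ T), P t := by
  let pt : ∀ p : Ideal R × Submonoid R, Spec (CommRingCat.of (Cut p)) ⟶ T := fun p =>
    Spec.map (CommRingCat.ofHom (str p)) ≫ g
  have hiso : ∀ {T' T'' : Scheme.{u}} (a : T' ⟶ T) (e : T'' ⟶ T') [IsIso e] [CompactSpace T']
      [QuasiSeparatedSpace T'] [CompactSpace T''] [QuasiSeparatedSpace T''],
      P (e ≫ a) ↔ P a := fun a e _ _ _ _ _ => h1 a e
  let 𝒮 : Set (Ideal R × Submonoid R) := {p | Nontrivial (Cut p) ∧ P (pt p)}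
  have hbot : (⊥, ⊥) ∈ 𝒮 := by
    refine ⟨nontrivial_of_forall fun s hs => ?_, ?_⟩
    · rw [Submonoid.mem_bot] at hs
      subst hs
      exact fun h => one_ne_zero ((Submodule.mem_bot R).mp h)
    · let inv : Cut ((⊥ : Ideal R), (⊥ : Submonoid R)) →+* R := lift _ (RingHom.id R)
        (fun a ha => (Submodule.mem_bot R).mp ha)
        (fun s hs => by rw [Submonoid.mem_bot.mp hs]; exact isUnit_one)
      have e1 : inv.comp (str _) = RingHom.id R := lift_str _ _ _ _
      have e2 : (str _).comp inv = RingHom.id _ := hom_ext (by rw [RingHom.comp_assoc, e1]; rfl)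
      haveI : IsIso (CommRingCat.ofHom (str ((⊥ : Ideal R), (⊥ : Submonoid R)))) :=
        ⟨CommRingCat.ofHom inv, CommRingCat.hom_ext e1, CommRingCat.hom_ext e2⟩
      exact (hiso g _).mpr hg
  obtain ⟨p, -, hp⟩ := zorn_le_nonempty₀ 𝒮 (fun c hc hchain p₀ hp₀ => by
    haveI : Nonempty c := ⟨⟨p₀, hp₀⟩⟩
    haveI : IsDirectedOrder c := ⟨fun a b => (hchain.total a.2 b.2).elim
      (fun h => ⟨b, h, le_refl _⟩) fun h => ⟨a, le_refl _, h⟩⟩
    let q : Ideal R × Submonoid R := (⨆ i : c, i.1.1, ⨆ i : c, i.1.2)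
    have hle : ∀ i : c, i.1 ≤ q := fun i =>
      ⟨le_iSup (fun i : c => i.1.1) i, le_iSup (fun i : c => i.1.2) i⟩
    have dI : Directed (· ≤ ·) fun i : c => i.1.1 := fun a b => by
      obtain ⟨d, h1', h2'⟩ := exists_ge_ge a b
      exact ⟨d, h1'.1, h2'.1⟩
    have dS : Directed (· ≤ ·) fun i : c => i.1.2 := fun a b => by
      obtain ⟨d, h1', h2'⟩ := exists_ge_ge a b
      exact ⟨d, h1'.2, h2'.2⟩
    refine ⟨q, ⟨nontrivial_of_forall fun s hs hs' => ?_, ?_⟩, fun z hz => hle ⟨z, hz⟩⟩
    · obtain ⟨i, hi⟩ := (Submonoid.mem_iSup_of_directed dS).mp hs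
      obtain ⟨j, hj⟩ := (Submodule.mem_iSup_of_directed _ dI).mp hs'
      obtain ⟨d, hd1, hd2⟩ := exists_ge_ge i j
      haveI := (hc d.2).1
      exact disjoint_of_nontrivial s (hd1.2 hi) (hd2.1 hj)
    · refine h2 (chainOver g c) (chainCone q hle g)
        (chainIsLimit q hle g (Classical.arbitrary c)
          (fun a ha => (Submodule.mem_iSup_of_directed _ dI).mp ha)
          (fun a ha => (Submonoid.mem_iSup_of_directed dS).mp ha))
        (fun i j m => ?_) (fun i => ⟨?_, ?_⟩) fun i => (hc i.unop.2).2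
      · show IsAffineHom (Spec.map _)
        infer_instance
      · show CompactSpace ↥(Spec (CommRingCat.of (Cut i.unop.1)))
        infer_instance
      · show QuasiSeparatedSpace ↥(Spec (CommRingCat.of (Cut i.unop.1)))
        infer_instance) (⊥, ⊥) hbot
  obtain ⟨⟨hpn, hpP⟩, hmax⟩ := hp
  haveI := hpn
  -- comparisons
  have hdich : ∀ a : R, str p a = 0 ∨ IsUnit (str p a) := by
    intro a
    let x : Cut p := str p a
    let qo : Ideal R × Submonoid R := (p.1, p.2 ⊔ Submonoid.powers a)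
    let qc : Ideal R × Submonoid R := (p.1 ⊔ Ideal.span {a}, p.2)
    have hpo : p ≤ qo := ⟨le_rfl, le_sup_left⟩
    have hpc : p ≤ qc := ⟨le_sup_left, le_rfl⟩
    let jV : Spec (CommRingCat.of (Localization.Away x)) ⟶ Spec (CommRingCat.of (Cut p)) :=
      Spec.map (CommRingCat.ofHom (algebraMap _ _))
    let iZ : Spec (CommRingCat.of (Cut p ⧸ Ideal.span {x})) ⟶ Spec (CommRingCat.of (Cut p)) :=
      Spec.map (CommRingCat.ofHom (Ideal.Quotient.mk _))
    haveI : IsClosedImmersion iZ :=
      IsClosedImmersion.spec_of_surjective _ Ideal.Quotient.mk_surjective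
    have hrV : Set.range jV = (PrimeSpectrum.basicOpen x : Set (PrimeSpectrum (Cut p))) :=
      PrimeSpectrum.localization_away_comap_range (Localization.Away x) x
    have hrZ : Set.range iZ = PrimeSpectrum.zeroLocus (Ideal.span {x} : Set (Cut p)) :=
      (range_comap_of_surjective _ _ Ideal.Quotient.mk_surjective).trans
        (by rw [Ideal.mk_ker])
    have hco : Set.range jV = (Set.range iZ)ᶜ := by
      rw [hrV, hrZ, PrimeSpectrum.zeroLocus_span, PrimeSpectrum.basicOpen_eq_zeroLocus_compl]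
      rfl
    have hao : ∃ e : Spec (CommRingCat.of (Cut qo)) ⟶ Spec (CommRingCat.of (Localization.Away x)),
        IsIso e ∧ e ≫ jV ≫ pt p = pt qo := by
      have hu : IsUnit (trans hpo x) := by
        rw [show trans hpo x = str qo a from RingHom.congr_fun (trans_str hpo) a]
        exact isUnit_str (Submonoid.mem_sup_right (Submonoid.mem_powers a))
      let f₁ : Localization.Away x →+* Cut qo := IsLocalization.Away.lift x hu
      have hf₁ : f₁.comp (algebraMap _ _) = trans hpo := IsLocalization.Away.lift_comp x hu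
      have hS : ∀ s ∈ qo.2, IsUnit (((algebraMap (Cut p) (Localization.Away x)).comp (str p)) s) := by
        intro s hs
        obtain ⟨b, hb, _, ⟨n, rfl⟩, rfl⟩ := Submonoid.mem_sup.mp hs
        rw [map_mul, map_pow]
        exact ((isUnit_str (p := p) hb).map (algebraMap (Cut p) (Localization.Away x))).mul
          ((IsLocalization.Away.algebraMap_isUnit (S := Localization.Away x) x).pow n)
      let f₂ : Cut qo →+* Localization.Away x := lift qo ((algebraMap _ _).comp (str p))
        (fun b hb => by rw [RingHom.comp_apply, str_eq_zero (p := p) hb, map_zero]) hS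
      have e21 : f₂.comp f₁ = RingHom.id _ := by
        refine IsLocalization.ringHom_ext (Submonoid.powers x) (hom_ext ?_)
        rw [RingHom.comp_assoc, RingHom.comp_assoc, ← RingHom.comp_assoc (str p) _ f₁, hf₁,
          trans_str, lift_str]
        rfl
      have e12 : f₁.comp f₂ = RingHom.id _ := hom_ext (by
        rw [RingHom.comp_assoc, lift_str, ← RingHom.comp_assoc, hf₁, trans_str]; rfl)
      haveI : IsIso (CommRingCat.ofHom f₁) :=
        ⟨CommRingCat.ofHom f₂, CommRingCat.hom_ext e21, CommRingCat.hom_ext e12⟩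
      refine ⟨Spec.map (CommRingCat.ofHom f₁), inferInstance, ?_⟩
      simp only [jV, pt]
      rw [← Spec.map_comp_assoc, ← Spec.map_comp_assoc, ← CommRingCat.ofHom_comp,
        ← CommRingCat.ofHom_comp, hf₁, trans_str]
    have hac : ∃ e : Spec (CommRingCat.of (Cut qc)) ⟶ Spec (CommRingCat.of (Cut p ⧸ Ideal.span {x})),
        IsIso e ∧ e ≫ iZ ≫ pt p = pt qc := by
      have hz : ∀ y ∈ Ideal.span {x}, trans hpc y = 0 := by
        intro y hy
        obtain ⟨z, rfl⟩ := Ideal.mem_span_singleton'.mp hy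
        rw [map_mul, show trans hpc x = str qc a from RingHom.congr_fun (trans_str hpc) a,
          str_eq_zero (p := qc) (Ideal.mem_sup_right (Ideal.mem_span_singleton_self a)), mul_zero]
      let f₁ : (Cut p ⧸ Ideal.span {x}) →+* Cut qc := Ideal.Quotient.lift _ (trans hpc) hz
      have hf₁ : f₁.comp (Ideal.Quotient.mk _) = trans hpc := RingHom.ext fun y => rfl
      have hI : ∀ b ∈ qc.1, ((Ideal.Quotient.mk (Ideal.span {x})).comp (str p)) b = 0 := by
        intro b hb
        have hle : qc.1 ≤ RingHom.ker ((Ideal.Quotient.mk (Ideal.span {x})).comp (str p)) := by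
          refine sup_le (fun c hc => ?_) ((Ideal.span_singleton_le_iff_mem _).mpr ?_)
          · rw [RingHom.mem_ker, RingHom.comp_apply, str_eq_zero hc, map_zero]
          · rw [RingHom.mem_ker, RingHom.comp_apply]
            exact Ideal.Quotient.eq_zero_iff_mem.mpr (Ideal.mem_span_singleton_self x)
        exact hle hb
      let f₂ : Cut qc →+* (Cut p ⧸ Ideal.span {x}) := lift qc ((Ideal.Quotient.mk _).comp (str p)) hI
        (fun s hs => (isUnit_str (p := p) hs).map (Ideal.Quotient.mk (Ideal.span {x})))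
      have e21 : f₂.comp f₁ = RingHom.id _ := by
        refine Ideal.Quotient.ringHom_ext (hom_ext ?_)
        rw [RingHom.comp_assoc, RingHom.comp_assoc, ← RingHom.comp_assoc (str p) _ f₁, hf₁,
          trans_str, lift_str]
        rfl
      have e12 : f₁.comp f₂ = RingHom.id _ := hom_ext (by
        rw [RingHom.comp_assoc, lift_str, ← RingHom.comp_assoc, hf₁, trans_str]; rfl)
      haveI : IsIso (CommRingCat.ofHom f₁) :=
        ⟨CommRingCat.ofHom f₂, CommRingCat.hom_ext e21, CommRingCat.hom_ext e12⟩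
      refine ⟨Spec.map (CommRingCat.ofHom f₁), inferInstance, ?_⟩
      simp only [iZ, pt]
      rw [← Spec.map_comp_assoc, ← Spec.map_comp_assoc, ← CommRingCat.ofHom_comp,
        ← CommRingCat.ofHom_comp, hf₁, trans_str]
    obtain ⟨eo, heo, heo'⟩ := hao
    obtain ⟨ec, hec, hec'⟩ := hac
    haveI := heo
    haveI := hec
    by_cases hu : IsUnit x
    · exact Or.inr hu
    left
    have hPc : P (iZ ≫ pt p) → Nontrivial (Cut qc) → str p a = 0 := fun hP hn => by
      have hq : qc ∈ 𝒮 := ⟨hn, hec' ▸ (hiso (iZ ≫ pt p) ec).mpr hP⟩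
      exact str_eq_zero ((hmax hq hpc).1 (Ideal.mem_sup_right (Ideal.mem_span_singleton_self a)))
    have hnc : Nontrivial (Cut qc) := by
      haveI : Nontrivial (Cut p ⧸ Ideal.span {x}) :=
        Ideal.Quotient.nontrivial_iff.mpr (by rwa [Ne, Ideal.span_singleton_eq_top])
      obtain ⟨z⟩ : Nonempty ↥(Spec (CommRingCat.of (Cut p ⧸ Ideal.span {x}))) :=
        inferInstanceAs (Nonempty (PrimeSpectrum (Cut p ⧸ Ideal.span {x})))
      exact nontrivial_of_point (CategoryTheory.inv ec z)
    by_cases hnil : IsNilpotent x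
    · haveI : Surjective iZ := ⟨fun z => by
        show z ∈ Set.range iZ
        rw [hrZ, PrimeSpectrum.zeroLocus_span]
        rintro y hy
        rw [Set.mem_singleton_iff.mp hy]
        haveI : z.asIdeal.IsPrime := (z : PrimeSpectrum (Cut p)).isPrime
        exact nilradical_le_prime (R := Cut p) _ (mem_nilradical.mpr hnil)⟩
      exact hPc ((h1 (pt p) iZ).mpr hpP) hnc
    rcases h3 (pt p) iZ jV hco hpP with hV | hZ
    · exfalso
      haveI : Nontrivial (Localization.Away x) := not_subsingleton_iff_nontrivial.mp fun h0 =>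
        hnil ((IsLocalization.subsingleton_iff (M := Submonoid.powers x)
          (S := Localization.Away x)).mp h0)
      obtain ⟨z⟩ : Nonempty ↥(Spec (CommRingCat.of (Localization.Away x))) :=
        inferInstanceAs (Nonempty (PrimeSpectrum (Localization.Away x)))
      have hno := nontrivial_of_point (CategoryTheory.inv eo z)
      have hq : qo ∈ 𝒮 := ⟨hno,
        heo' ▸ (hiso (jV ≫ pt p) eo).mpr hV⟩
      exact hu (isUnit_str (p := p) ((hmax hq hpo).2 (Submonoid.mem_sup_right (Submonoid.mem_powers a))))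
    · exact hPc hZ hnc
  have hF : IsField (Cut p) := by
    refine ⟨exists_pair_ne _, mul_comm, fun {y} hy => ?_⟩
    obtain ⟨r, ⟨s, hs⟩, rfl⟩ := IsLocalization.exists_mk'_eq (p.2.map (Ideal.Quotient.mk p.1)) y
    obtain ⟨b, rfl⟩ := Ideal.Quotient.mk_surjective r
    rcases hdich b with h0 | hu
    · exfalso
      apply hy
      rw [IsLocalization.mk'_eq_mul_mk'_one]
      rw [show algebraMap (R ⧸ p.1) (Cut p) (Ideal.Quotient.mk p.1 b) = 0 from h0, zero_mul]
    · have : IsUnit (IsLocalization.mk' (Cut p) (Ideal.Quotient.mk p.1 b)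
          (⟨s, hs⟩ : p.2.map (Ideal.Quotient.mk p.1))) := by
        refine isUnit_of_mul_isUnit_left (y := algebraMap _ _ s) ?_
        rw [IsLocalization.mk'_spec]
        exact hu
      exact this.exists_right_inv
  exact ⟨Cut p, hF.toField, pt p, hpP⟩

theorem exists_field_point [CompactSpace T] [QuasiSeparatedSpace T] [Nonempty T]
    (P : ∀ ⦃T' : Scheme.{u}⦄, (T' ⟶ T) → Prop)
    (h1 : ∀ ⦃T' T'' : Scheme.{u}⦄ (a : T' ⟶ T) (t : T'' ⟶ T') [IsClosedImmersion t] [Surjective t]
      [CompactSpace T'] [QuasiSeparatedSpace T'] [CompactSpace T''] [QuasiSeparatedSpace T''],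
        P (t ≫ a) ↔ P a)
    (h2 : ∀ ⦃I : Type u⦄ [SmallCategory I] [IsCofiltered I] (D : I ⥤ Over T) (c : Limits.Cone D)
      (_ : Limits.IsLimit c), (∀ (i j : I) (m : i ⟶ j), IsAffineHom (D.map m).left) →
      (∀ i, CompactSpace (D.obj i).left ∧ QuasiSeparatedSpace (D.obj i).left) →
      (∀ i, P (D.obj i).hom) → P c.pt.hom)
    (h3 : ∀ ⦃T' Z V : Scheme.{u}⦄ (a : T' ⟶ T) [CompactSpace T'] [QuasiSeparatedSpace T'] (i : Z ⟶ T')
      [IsClosedImmersion i] (j : V ⟶ T') [IsOpenImmersion j] [CompactSpace V],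
        Set.range j = (Set.range i)ᶜ → P a → P (j ≫ a) ∨ P (i ≫ a))
    (hT : P (𝟙 T)) :
    ∃ (K : Type u) (_ : Field K) (t : Spec (CommRingCat.of K) ⟶ T), P t := by
  suffices h : ∀ (n : ℕ) (T' : Scheme.{u}) (a : T' ⟶ T), CompactSpace T' → QuasiSeparatedSpace T' →
      Nonempty T' → P a → ∀ U : Fin n → T'.Opens, (∀ i, IsAffineOpen (U i)) → (⨆ i, U i) = ⊤ →
      ∃ (A : Type u) (_ : CommRing A) (_ : Nontrivial A) (b : Spec (CommRingCat.of A) ⟶ T), P b by
    let 𝒰 := T.affineCover.finiteSubcover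
    obtain ⟨A, _, hA, b, hb⟩ := h _ T (𝟙 T) inferInstance inferInstance inferInstance hT
      (fun k => (𝒰.f ((Finite.equivFin 𝒰.I₀).symm k)).opensRange)
      (fun k => isAffineOpen_opensRange _) (by
        rw [(Finite.equivFin 𝒰.I₀).symm.surjective.iSup_comp
          (fun i => (𝒰.f i).opensRange)]
        exact 𝒰.iSup_opensRange)
    exact exists_field_point_affine P h1 h2 h3 b hb
  intro n
  induction n with
  | zero =>
    intro T' a _ _ hne _ U _ hsup
    obtain ⟨x⟩ := hne
    obtain ⟨i, -⟩ := TopologicalSpace.Opens.mem_iSup.mp (hsup.ge (TopologicalSpace.Opens.mem_top x))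
    exact i.elim0
  | succ n ih =>
    intro T' a hc hq hne hP U hU hsup
    haveI := hc
    haveI := hq
    haveI : IsAffine (U 0).toScheme := hU 0
    have haff : ∀ (W : Scheme.{u}) [IsAffine W] (b : W ⟶ T), P b → Nonempty W →
        ∃ (A : Type u) (_ : CommRing A) (_ : Nontrivial A) (b : Spec (CommRingCat.of A) ⟶ T),
          P b := by
      intro W _ b hb hW
      obtain ⟨w⟩ := hW
      refine ⟨Γ(W, ⊤), inferInstance, nontrivial_of_point (W.isoSpec.hom w), W.isoSpec.inv ≫ b, ?_⟩
      exact (h1 b W.isoSpec.inv).mpr hb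
    let C : TopologicalSpace.Closeds T' := ⟨((U 0 : T'.Opens) : Set T')ᶜ, (U 0).isOpen.isClosed_compl⟩
    let i := (Scheme.IdealSheafData.vanishingIdeal C).subschemeι
    have hir : Set.range i = ((U 0 : T'.Opens) : Set T')ᶜ := by
      rw [Scheme.IdealSheafData.range_subschemeι, Scheme.IdealSheafData.coe_support_vanishingIdeal]
      rfl
    by_cases hUe : ((U 0 : T'.Opens) : Set T') = ∅
    · refine ih T' a hc hq hne hP (fun k => U k.succ) (fun k => hU _) (top_le_iff.mp fun x _ => ?_)
      obtain ⟨k, hk⟩ := TopologicalSpace.Opens.mem_iSup.mp (hsup.ge (TopologicalSpace.Opens.mem_top x))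
      cases k using Fin.cases with
      | zero => exact absurd (show x ∈ ((U 0 : T'.Opens) : Set T') from hk) (by rw [hUe]; simp)
      | succ k => exact TopologicalSpace.Opens.mem_iSup.mpr ⟨k, hk⟩
    obtain ⟨x, hx⟩ := Set.nonempty_iff_ne_empty.mpr hUe
    rcases h3 a i (U 0).ι (by rw [Scheme.Opens.range_ι, hir, compl_compl]) hP with hV | hZ
    · exact haff _ _ hV ⟨⟨x, hx⟩⟩
    by_cases hUu : ((U 0 : T'.Opens) : Set T') = Set.univ
    · haveI : Surjective (U 0).ι := ⟨fun y => ⟨⟨y, hUu.ge (Set.mem_univ y)⟩, rfl⟩⟩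
      haveI : IsIso (U 0).ι := (isIso_iff_isOpenImmersion_and_epi_base _).mpr
        ⟨inferInstance, (TopCat.epi_iff_surjective _).mpr (U 0).ι.surjective⟩
      exact haff _ _ ((h1 a (U 0).ι).mpr hP) ⟨⟨x, hx⟩⟩
    obtain ⟨y, hy⟩ := (Set.ne_univ_iff_exists_notMem _).mp hUu
    obtain ⟨z, -⟩ := (hir.ge hy : y ∈ Set.range i)
    refine ih _ (i ≫ a) ?_ ?_ ⟨z⟩ hZ (fun k => i ⁻¹ᵁ U k.succ)
      (fun k => (hU _).preimage i) (top_le_iff.mp fun w _ => ?_)
    · exact i.isClosedEmbedding.compactSpace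
    · exact quasiSeparatedSpace_of_quasiSeparated i
    · obtain ⟨k, hk⟩ := TopologicalSpace.Opens.mem_iSup.mp (hsup.ge (TopologicalSpace.Opens.mem_top (i w)))
      cases k using Fin.cases with
      | zero => exact absurd hk (hir.le ⟨w, rfl⟩)
      | succ k => exact TopologicalSpace.Opens.mem_iSup.mpr ⟨k, hk⟩

end GrothLib.RLpsi8.DescPoint
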