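import Groth.Agent.Lib.VA.Canon
import Groth.Agent.Lib.RelCone8.Imm
import Groth.Agent.Lib.RelProjK.OpenMap
import Groth.Agent.Lib.InvExt.Gen
import Groth.Prelude.Def_Pic

/-!
# The symmetric algebra of an invertible module over a trivializing affine open
-/

set_option autoImplicit false
set_option backward.isDefEq.respectTransparency false
set_option maxHeartbeats 400000

universe u

open CategoryTheory CategoryTheory.Limits AlgebraicGeometry TopologicalSpace Opposite Polynomial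
open GrothLib.RelProjK (dg rs em mem_opensRange_em)
open GrothLib.InvExt (IsGen mres)
open scoped HomogeneousIdeal

noncomputable section

namespace GrothLib.RLpsi8

variable {X PL : Scheme.{u}} {L : X.Modules} {𝒮L : RelProj.QCGrAlg X} {j : L ⟶ 𝒮L.toModule}

/-- An affine open with a generator of `L`. -/
structure Triv (L : X.Modules) where
  /-- the open -/
  V : X.AffineZariskiSite
  /-- the generator -/
  e : Γ(L, V.1)
  isGen : IsGen L V.1 e

theorem exists_triv_le (hL : PicF.IsInvertible L) {W : X.Opens} {x : X} (hx : x ∈ W) :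
    ∃ t : Triv L, x ∈ t.V.1 ∧ t.V.1 ≤ W := by
  obtain ⟨U, e, hxU, he⟩ := InvExt.exists_gen_nhd hL x
  obtain ⟨V, hV, hxV, hle⟩ := exists_isAffineOpen_mem_and_subset (x := x) (U := U ⊓ W) ⟨hxU, hx⟩
  exact ⟨⟨⟨V, hV⟩, mres L (fun z hz => (hle hz).1) e, he.restrict _⟩, hxV, fun z hz => (hle hz).2⟩

/-- The degree one element of a trivialization. -/
abbrev T (j : L ⟶ 𝒮L.toModule) (t : Triv L) : 𝒮L.presheaf.obj (op t.V.1) := VA.ev j t.V t.e

theorem T_mem (hj : RelProj.IsGrSymAlg L 𝒮L j) (t : Triv L) : T j t ∈ dg 𝒮L t.V 1 := hj.2 t.V.1 t.V.2 t.e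

variable (hLq : Coh.IsQCoh L) (hj : RelProj.IsGrSymAlg L 𝒮L j)

include hLq hj in
theorem exists_eval (t : Triv L) : ∃ ε : 𝒮L.presheaf.obj (op t.V.1) →+* Γ(X, t.V.1),
    (∀ r, ε ((𝒮L.str.app (op t.V.1)).hom r) = r) ∧ ε (T j t) = 1 := by
  obtain ⟨q, hqs, hqj⟩ := SymAlgX.isAffSym_of_isSymAlg hLq hj.1 t.V.1 t.V.2
  have hb : Function.Bijective (LinearMap.toSpanSingleton Γ(X, t.V.1) Γ(L, t.V.1) t.e) := by
    have h := t.isGen t.V.1 le_rfl
    rw [show mres L (le_refl t.V.1) t.e = t.e from InvExt.mres_self L t.e] at h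
    exact h
  let le := LinearEquiv.ofBijective _ hb
  let l := SymmetricAlgebra.lift (R := Γ(X, t.V.1)) (A := Γ(X, t.V.1)) (M := Γ(L, t.V.1)) le.symm.toLinearMap
  refine ⟨l.toRingHom.comp q.symm.toRingHom, fun r => ?_, ?_⟩
  · show l (q.symm _) = r
    rw [← hqs r, q.symm_apply_apply]
    exact l.commutes r
  · show l (q.symm (T j t)) = 1
    rw [show T j t = q (SymAlgX.gen _ _ t.e) from (hqj t.e).symm, q.symm_apply_apply]
    refine (SymmetricAlgebra.lift_ι_apply le.symm.toLinearMap t.e).trans ?_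
    exact le.symm_apply_eq.mpr (one_smul _ _).symm

/-- The coefficient: `str c * T ^ n ↦ c`. -/
def coef (t : Triv L) : 𝒮L.presheaf.obj (op t.V.1) →+* Γ(X, t.V.1) := (exists_eval hLq hj t).choose

theorem coef_str (t : Triv L) (r : Γ(X, t.V.1)) : coef hLq hj t ((𝒮L.str.app (op t.V.1)).hom r) = r :=
  (exists_eval hLq hj t).choose_spec.1 r

theorem coef_T (t : Triv L) : coef hLq hj t (T j t) = 1 := (exists_eval hLq hj t).choose_spec.2

theorem coef_str_mul (t : Triv L) (c : Γ(X, t.V.1)) (n : ℕ) :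
    coef hLq hj t ((𝒮L.str.app (op t.V.1)).hom c * T j t ^ n) = c := by
  rw [map_mul, map_pow, coef_str, coef_T, one_pow, mul_one]

include hLq hj in
/-- An element of degree `n` is a multiple of the power of the generator. -/
theorem eq_str_coef_mul (t : Triv L) {n : ℕ} {x : 𝒮L.presheaf.obj (op t.V.1)} (hx : x ∈ dg 𝒮L t.V n) :
    x = (𝒮L.str.app (op t.V.1)).hom (coef hLq hj t x) * T j t ^ n := by
  classical
  suffices H : ∃ c, x = (𝒮L.str.app (op t.V.1)).hom c * T j t ^ n by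
    obtain ⟨c, rfl⟩ := H
    rw [coef_str_mul]
  let Φ : Polynomial Γ(X, t.V.1) →+* 𝒮L.presheaf.obj (op t.V.1) :=
    Polynomial.eval₂RingHom (𝒮L.str.app (op t.V.1)).hom (T j t)
  have hsurj : x ∈ Φ.range := by
    have h : x ∈ Subring.closure (Set.range (𝒮L.str.app (op t.V.1)).hom ∪ Set.range (VA.ev j t.V)) :=
      (VA.closure_str_ev hLq hj t.V).ge trivial
    refine Subring.closure_le.mpr ?_ h
    rintro y (⟨r, rfl⟩ | ⟨e, rfl⟩)
    · exact ⟨C r, Polynomial.eval₂_C _ _⟩
    · obtain ⟨c, hc⟩ := t.isGen.exists_smul_eq le_rfl e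
      rw [show mres L (le_refl t.V.1) t.e = t.e from InvExt.mres_self L t.e] at hc
      refine ⟨C c * Polynomial.X, ?_⟩
      show Polynomial.eval₂ _ _ (C c * Polynomial.X) = _
      rw [Polynomial.eval₂_mul, Polynomial.eval₂_C, Polynomial.eval₂_X, hc]
      exact (Scheme.Modules.Hom.app_smul j c t.e).symm
  obtain ⟨f, hf⟩ := hsurj
  refine ⟨f.coeff n, ?_⟩
  rw [← DirectSum.decompose_of_mem_same (dg 𝒮L t.V) hx, ← hf]
  clear hf hx
  induction f using Polynomial.induction_on' with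
  | add f g hf hg =>
    rw [map_add, DirectSum.decompose_add, DirectSum.add_apply, AddMemClass.coe_add, hf, hg, coeff_add, map_add, add_mul]
  | monomial i c =>
    have e : Φ (monomial i c) = (𝒮L.str.app (op t.V.1)).hom c * T j t ^ i := Polynomial.eval₂_monomial _ _
    have hm : (𝒮L.str.app (op t.V.1)).hom c * T j t ^ i ∈ dg 𝒮L t.V i := by
      have := SetLike.mul_mem_graded (𝒮L.str_mem t.V.1 t.V.2 c) (SetLike.pow_mem_graded i (T_mem hj t))
      simpa using this
    rw [e, coeff_monomial]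
    split_ifs with h
    · subst h; rw [DirectSum.decompose_of_mem_same (dg 𝒮L t.V) hm]
    · rw [DirectSum.decompose_of_mem_ne (dg 𝒮L t.V) hm h, map_zero, zero_mul]

include hLq hj in
theorem T_notMem (t : Triv L) (y : ProjectiveSpectrum (dg 𝒮L t.V)) : T j t ∉ y.asHomogeneousIdeal := by
  classical
  intro hT
  refine y.not_irrelevant_le fun a ha => ?_
  rw [← DirectSum.sum_support_decompose (dg 𝒮L t.V) a]
  refine Submodule.sum_mem (p := y.asHomogeneousIdeal.toIdeal) fun i _ => ?_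
  rcases Nat.eq_zero_or_pos i with rfl | hi
  · have h0 : (DirectSum.decompose (dg 𝒮L t.V) a 0 : 𝒮L.presheaf.obj (op t.V.1)) = 0 :=
      (HomogeneousIdeal.mem_irrelevant_iff _ a).mp ha
    rw [h0]
    exact zero_mem _
  · rw [eq_str_coef_mul hLq hj t (SetLike.coe_mem (DirectSum.decompose (dg 𝒮L t.V) a i))]
    exact Ideal.mul_mem_left _ _ (Ideal.pow_mem_of_mem _ hT i hi)

include hLq hj in
theorem mem_iff_str_coef_mem (t : Triv L) {n : ℕ} {x : 𝒮L.presheaf.obj (op t.V.1)} (hx : x ∈ dg 𝒮L t.V n)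
    (y : ProjectiveSpectrum (dg 𝒮L t.V)) :
    x ∈ y.asHomogeneousIdeal ↔ (𝒮L.str.app (op t.V.1)).hom (coef hLq hj t x) ∈ y.asHomogeneousIdeal := by
  constructor
  · intro h
    have h' : (𝒮L.str.app (op t.V.1)).hom (coef hLq hj t x) * T j t ^ n ∈ y.asHomogeneousIdeal.toIdeal := by
      rw [← eq_str_coef_mul hLq hj t hx]; exact h
    exact (y.isPrime.mem_or_mem h').resolve_right fun hm => T_notMem hLq hj t y (y.isPrime.mem_of_pow_mem _ hm)
  · intro h
    rw [eq_str_coef_mul hLq hj t hx]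
    exact Ideal.mul_mem_right _ _ h

variable {pL : PL ⟶ X}
  {chartL : ∀ (U : X.Opens) (hU : IsAffineOpen U), (((pL ⁻¹ᵁ U : PL.Opens) : Scheme.{u}) ≅ Proj (𝒮L.deg U hU))}
  (hPL : RelProj.IsRelProj 𝒮L pL chartL)

include hPL in
/-- A function on the base, read on a chart. -/
theorem base_mem_basicOpen_iff (V : X.AffineZariskiSite) (c : Γ(X, V.1)) (y : ProjectiveSpectrum (dg 𝒮L V)) :
    pL (em pL chartL V y) ∈ X.basicOpen c ↔ (𝒮L.str.app (op V.1)).hom c ∉ y.asHomogeneousIdeal := by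
  show (RelProj.emb pL chartL V.1 V.2 ≫ pL) y ∈ X.basicOpen c ↔ _
  rw [RelCone8.emb_comp hPL]
  show y ∈ Proj.toSpecZero (dg 𝒮L V) ⁻¹ᵁ (Spec.map (𝒮L.strZero V.1 V.2) ⁻¹ᵁ (V.2.fromSpec ⁻¹ᵁ X.basicOpen c)) ↔ _
  rw [V.2.fromSpec_preimage_basicOpen]
  show y ∈ Proj.toSpecZero (dg 𝒮L V) ⁻¹ᵁ PrimeSpectrum.basicOpen ((𝒮L.strZero V.1 V.2).hom c) ↔ _
  rw [show ((𝒮L.strZero V.1 V.2).hom c) = ⟨(𝒮L.str.app (op V.1)).hom c, 𝒮L.str_mem V.1 V.2 c⟩ from rfl,
    RelProjK.toSpecZero_preimage_basicOpen (𝒮L.str_mem V.1 V.2 c)]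
  rfl

include hLq hj in
theorem isIso_toSpecZero (t : Triv L) : IsIso (Proj.toSpecZero (dg 𝒮L t.V)) := by
  haveI : IsIso (Proj.awayι (dg 𝒮L t.V) (T j t) (T_mem hj t) one_pos) := by
    refine isIso_of_isOpenImmersion_of_opensRange_eq_top _ ?_
    rw [Proj.opensRange_awayι]
    exact top_le_iff.mp fun y _ => T_notMem hLq hj t y
  have hbij : Function.Bijective (HomogeneousLocalization.fromZeroRingHom (dg 𝒮L t.V) (Submonoid.powers (T j t))) := by
    refine ⟨(injective_iff_map_eq_zero _).mpr fun a ha => Subtype.ext ?_, fun z => ?_⟩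
    · have h0 : algebraMap (𝒮L.presheaf.obj (op t.V.1)) (Localization (Submonoid.powers (T j t))) (a : 𝒮L.presheaf.obj (op t.V.1)) = 0 := by
        have := congrArg HomogeneousLocalization.val ha
        rw [HomogeneousLocalization.val_zero] at this
        rw [← Localization.mk_one_eq_algebraMap]
        exact this
      obtain ⟨⟨_, k, rfl⟩, hk⟩ := (IsLocalization.map_eq_zero_iff (Submonoid.powers (T j t)) _ _).mp h0
      have h1 : coef hLq hj t (a : 𝒮L.presheaf.obj (op t.V.1)) = 0 := by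
        have := congrArg (coef hLq hj t) hk
        simpa [coef_T] using this
      have h2 := eq_str_coef_mul hLq hj t a.2
      rw [h1, map_zero, zero_mul] at h2
      exact h2
    · obtain ⟨k, a, ha, rfl⟩ := HomogeneousLocalization.Away.mk_surjective (dg 𝒮L t.V) (T_mem hj t) z
      refine ⟨⟨(𝒮L.str.app (op t.V.1)).hom (coef hLq hj t a), 𝒮L.str_mem t.V.1 t.V.2 _⟩, ?_⟩
      apply HomogeneousLocalization.val_injective
      rw [HomogeneousLocalization.Away.val_mk]
      show Localization.mk _ 1 = Localization.mk a _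
      refine Localization.mk_eq_mk_iff.mpr (Localization.r_iff_exists.mpr ⟨1, ?_⟩)
      simp only [OneMemClass.coe_one, one_mul]
      conv_rhs => rw [eq_str_coef_mul hLq hj t ha, smul_eq_mul, mul_one]
      rw [mul_comm]
  haveI : IsIso (Proj.awayι (dg 𝒮L t.V) (T j t) (T_mem hj t) one_pos ≫ Proj.toSpecZero (dg 𝒮L t.V)) := by
    rw [Proj.awayι_toSpecZero]
    haveI : IsIso (CommRingCat.ofHom (HomogeneousLocalization.fromZeroRingHom (dg 𝒮L t.V) (Submonoid.powers (T j t)))) :=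
      (ConcreteCategory.isIso_iff_bijective _).mpr hbij
    infer_instance
  exact IsIso.of_isIso_comp_left (Proj.awayι (dg 𝒮L t.V) (T j t) (T_mem hj t) one_pos) _

include hLq hj hPL in
/-- The relative Proj of the symmetric algebra of an invertible module is the base. -/
theorem isIso_relProj (hL : PicF.IsInvertible L) : IsIso pL := by
  have key : ∀ t : Triv L, IsIso (pL ∣_ t.V.1) := fun t => by
    haveI := isIso_toSpecZero hLq hj t
    haveI : IsIso (𝒮L.strZero t.V.1 t.V.2) :=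
      (ConcreteCategory.isIso_iff_bijective _).mpr (VA.str_bijective_zero hLq hj t.V.1 t.V.2)
    have e : pL ∣_ t.V.1 = (chartL t.V.1 t.V.2).hom ≫ Proj.toSpecZero (dg 𝒮L t.V) ≫
        Spec.map (𝒮L.strZero t.V.1 t.V.2) ≫ t.V.2.isoSpec.inv := by
      rw [← cancel_mono t.V.1.ι, morphismRestrict_ι, ← hPL.chart_over t.V.1 t.V.2]
      simp only [Category.assoc]
      rfl
    rw [e]
    infer_instance
  choose t ht using fun x : X => exists_triv_le hL (Opens.mem_top x)
  exact (IsZariskiLocalAtTarget.iff_of_iSup_eq_top (P := MorphismProperty.isomorphisms Scheme.{u})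
    (fun x : X => (t x).V.1) (top_le_iff.mp fun x _ => Opens.mem_iSup.mpr ⟨x, (ht x).1⟩)).mpr fun x => key (t x)

end GrothLib.RLpsi8
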