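import Groth.Agent.Lib.ProjQ8.DegOne
import Groth.Agent.Lib.QCoh.Qcqs
import Groth.Agent.Lib.RLpsi8.Local
import Groth.Prelude.Def_RelProj4

/-!
# The direct image of an algebra; `q`-morphisms out of symmetric algebras
-/

set_option autoImplicit false
set_option backward.isDefEq.respectTransparency false
set_option maxHeartbeats 400000

universe u

open CategoryTheory CategoryTheory.Limits AlgebraicGeometry TopologicalSpace Opposite
open GrothLib.RelProjK (dg)

noncomputable section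

namespace GrothLib.RLpsi8

variable {X Y : Scheme.{u}} (q : X ⟶ Y) (ℬ : RelProj.QCGrAlg X)

/-- The structure map of the direct image. -/
def pushStr : Y.presheaf ⟶ q.base _* ℬ.presheaf where
  app U := q.app U.unop ≫ ℬ.str.app (op (q ⁻¹ᵁ U.unop))
  naturality U V i := by
    refine Eq.trans ?_ (Category.assoc _ _ _).symm
    rw [← Category.assoc, Scheme.Hom.naturality, Category.assoc]
    congr 1
    exact ℬ.str.naturality _

theorem isQC_pushStr [QuasiCompact q] [QuasiSeparated q] : RelSpec.IsQC (q.base _* ℬ.presheaf) (pushStr q ℬ) := by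
  intro U hU r
  let W := q ⁻¹ᵁ U
  let g : Γ(X, W) := q.app U r
  haveI := ProjQ8.isQuasicoherent_toModule ℬ
  have hc : IsCompact (W : Set X) := q.isCompact_preimage hU.isCompact
  have hqs : IsQuasiSeparated (W : Set X) := q.isQuasiSeparated_preimage hU.isQuasiSeparated
  have hW : X.basicOpen g = q ⁻¹ᵁ Y.basicOpen r := (q.preimage_basicOpen r).symm
  let ρ : ℬ.presheaf.obj (op W) →+* ℬ.presheaf.obj (op (q ⁻¹ᵁ Y.basicOpen r)) :=
    (ℬ.presheaf.map (homOfLE (q.preimage_mono (Y.basicOpen_le r))).op).hom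
  letI : Algebra (ℬ.presheaf.obj (op W)) (ℬ.presheaf.obj (op (q ⁻¹ᵁ Y.basicOpen r))) := ρ.toAlgebra
  have key : ∀ (D : X.Opens) (_ : X.basicOpen g = D) (h : D ≤ W),
      (∀ y : ℬ.presheaf.obj (op D), ∃ (n : ℕ) (a : ℬ.presheaf.obj (op W)),
        y * (ℬ.presheaf.map (homOfLE h).op).hom ((ℬ.str.app (op W)).hom g) ^ n = (ℬ.presheaf.map (homOfLE h).op).hom a) ∧
      ∀ t : ℬ.presheaf.obj (op W), (ℬ.presheaf.map (homOfLE h).op).hom t = 0 →
        ∃ n : ℕ, (ℬ.str.app (op W)).hom g ^ n * t = 0 := by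
    intro D e h
    subst e
    refine ⟨fun y => ?_, fun t ht => ?_⟩
    · obtain ⟨n, a, ha⟩ := QCoh.smulLift_of_isCompact ℬ.toModule hc hqs g
        (show Γ(ℬ.toModule, X.basicOpen g) from y)
      refine ⟨n, a, Eq.trans ?_ ha.symm⟩
      show _ = (ℬ.str.app (op (X.basicOpen g))).hom ((X.presheaf.map (homOfLE h).op).hom g ^ n) * y
      rw [map_pow, mul_comm]
      congr 2
      exact (ConcreteCategory.congr_hom (ℬ.str.naturality (homOfLE h).op) g).symm
    · obtain ⟨n, hn⟩ := QCoh.smulSep_of_isCompact ℬ.toModule hc g (show Γ(ℬ.toModule, W) from t) ht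
      refine ⟨n, Eq.trans ?_ hn⟩
      show _ = (ℬ.str.app (op W)).hom (g ^ n) * t
      rw [map_pow]
  obtain ⟨hsurj, hsep⟩ := key _ hW (q.preimage_mono (Y.basicOpen_le r))
  have hu : IsUnit (ρ ((ℬ.str.app (op W)).hom g)) := by
    have hr := (RingedSpace.isUnit_res_basicOpen Y.toRingedSpace r).map ((pushStr q ℬ).app (op (Y.basicOpen r))).hom
    have e := ConcreteCategory.congr_hom ((pushStr q ℬ).naturality (homOfLE (Y.basicOpen_le r)).op) r
    exact (congrArg IsUnit e).mp hr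
  show IsLocalization.Away ((ℬ.str.app (op W)).hom g) (ℬ.presheaf.obj (op (q ⁻¹ᵁ Y.basicOpen r)))
  refine IsLocalization.Away.mk _ hu hsurj fun a b hab => ?_
  obtain ⟨n, hn⟩ := hsep (a - b) (by rw [map_sub]; exact sub_eq_zero.mpr hab)
  exact ⟨n, by rwa [← sub_eq_zero, ← mul_sub]⟩

/-- The direct image algebra. -/
def pushAlg [QuasiCompact q] [QuasiSeparated q] : RelSpec.QCAlg Y where
  presheaf := q.base _* ℬ.presheaf
  isSheaf := TopCat.Sheaf.pushforward_sheaf_of_sheaf _ ℬ.isSheaf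
  str := pushStr q ℬ
  isQC := isQC_pushStr q ℬ

variable {L : X.Modules} (jL : L ⟶ ℬ.toModule) {E : Y.Modules} (φ : E ⟶ (Scheme.Modules.pushforward q).obj L)

/-- A map into `q_* L`, followed by `L ⟶ ℬ`, on sections. -/
def pushFun (U : Y.Opens) : Γ(E, U) →+ ℬ.presheaf.obj (op (q ⁻¹ᵁ U)) :=
  (show Γ(L, q ⁻¹ᵁ U) →+ ℬ.presheaf.obj (op (q ⁻¹ᵁ U)) from (jL.app (q ⁻¹ᵁ U)).hom).comp
    (show Γ(E, U) →+ Γ(L, q ⁻¹ᵁ U) from (φ.app U).hom)

theorem pushFun_res {U V : Y.Opens} (h : V ≤ U) (e : Γ(E, U)) :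
    pushFun q ℬ jL φ V (InvExt.mres E h e) =
      (ℬ.presheaf.map (homOfLE (q.preimage_mono h)).op).hom (pushFun q ℬ jL φ U e) := by
  show jL.app (q ⁻¹ᵁ V) (show Γ(L, q ⁻¹ᵁ V) from φ.app V (InvExt.mres E h e)) = _
  refine Eq.trans (congrArg (fun t : Γ(L, q ⁻¹ᵁ V) => jL.app (q ⁻¹ᵁ V) t) (Ample.app_mres φ h e)) ?_
  exact Ample.app_mres jL (q.preimage_mono h) (show Γ(L, q ⁻¹ᵁ U) from φ.app U e)

theorem pushFun_smul (U : Y.Opens) (r : Γ(Y, U)) (e : Γ(E, U)) :
    pushFun q ℬ jL φ U (r • e) = (ℬ.str.app (op (q ⁻¹ᵁ U))).hom ((q.app U).hom r) * pushFun q ℬ jL φ U e := by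
  show jL.app (q ⁻¹ᵁ U) (show Γ(L, q ⁻¹ᵁ U) from φ.app U (r • e)) = _
  refine Eq.trans (congrArg (fun t : Γ(L, q ⁻¹ᵁ U) => jL.app (q ⁻¹ᵁ U) t) (Ample.app_smul φ r e)) ?_
  exact Ample.app_smul jL ((q.app U).hom r) (show Γ(L, q ⁻¹ᵁ U) from φ.app U e)

/-- A map into `q_* L`, followed by `L ⟶ ℬ`. -/
def pushMap [QuasiCompact q] [QuasiSeparated q] : E ⟶ (pushAlg q ℬ).toModule :=
  ⟨letI := (pushAlg q ℬ).moduleSect
   PresheafOfModules.homMk
    { app := fun U => AddCommGrpCat.ofHom (pushFun q ℬ jL φ U.unop)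
      naturality := fun U V i => by
        ext e
        exact pushFun_res q ℬ jL φ i.unop.le e }
    fun U r e => pushFun_smul q ℬ jL φ U.unop r e⟩

variable {𝒯 : RelProj.QCGrAlg Y} {jE : E ⟶ 𝒯.toModule}

/-- The `q`-morphism extending a map into `q_* L`. -/
theorem exists_qGrHom [QuasiCompact q] [QuasiSeparated q] (hjL : RelProj.IsGrSymAlg L ℬ jL) (hE : Coh.IsQCoh E)
    (hjE : RelProj.IsGrSymAlg E 𝒯 jE) :
    ∃ u : RelProj.QGrHom q 𝒯 ℬ, ∀ (U : Y.Opens) (x : Γ(E, U)),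
      (u.app U).hom ((jE.app U) x) = (jL.app (q ⁻¹ᵁ U)) (show Γ(L, q ⁻¹ᵁ U) from φ.app U x) := by
  classical
  obtain ⟨ψ, hψ, -⟩ := hjE.1 (pushAlg q ℬ) (pushMap q ℬ jL φ)
  have happ : ∀ (U : Y.Opens) (x : Γ(E, U)), (ψ.hom.app (op U)).hom ((jE.app U) x) =
      (jL.app (q ⁻¹ᵁ U)) (show Γ(L, q ⁻¹ᵁ U) from φ.app U x) := fun U x =>
    congrArg (fun k : E ⟶ (pushAlg q ℬ).toModule => k.app U x) hψ
  let u₀ : RelSpec.QHom q 𝒯.toQCAlg ℬ.toQCAlg :=
    { app := fun U => ψ.hom.app (op U)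
      naturality := fun {U V} i => (ψ.hom.naturality (homOfLE i).op).symm
      str_app := fun U => (NatTrans.congr_app ψ.comm (op U)) }
  refine ⟨⟨u₀, fun U hU U' hU' hle d x hx => ?_⟩, happ⟩
  letI := 𝒯.gradedRing U hU
  letI := ℬ.gradedRing U' hU'
  let f := (u₀.appLE U U' hle).hom
  show f x ∈ ℬ.deg U' hU' d
  let v : Γ(E, U) → 𝒯.presheaf.obj (op U) := fun e => jE.app U e
  have hmon : ∀ a ∈ Submonoid.closure (Set.range (𝒯.str.app (op U)).hom ∪ Set.range v),
      ∃ i, a ∈ 𝒯.deg U hU i ∧ f a ∈ ℬ.deg U' hU' i := by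
    intro a ha
    induction ha using Submonoid.closure_induction with
    | mem a ha =>
      rcases ha with ⟨r, rfl⟩ | ⟨e, rfl⟩
      · refine ⟨0, 𝒯.str_mem U hU r, ?_⟩
        rw [show f ((𝒯.str.app (op U)).hom r) = (ℬ.str.app (op U')).hom ((q.appLE U U' hle).hom r) from
          ConcreteCategory.congr_hom (u₀.str_appLE U U' hle) r]
        exact ℬ.str_mem U' hU' _
      · refine ⟨1, hjE.2 U hU e, ?_⟩
        rw [show f (v e) = (jL.app U') (InvExt.mres L hle (show Γ(L, q ⁻¹ᵁ U) from φ.app U e)) from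
          (congrArg (ℬ.presheaf.map (homOfLE hle).op).hom (happ U e)).trans (Ample.app_mres jL hle _).symm]
        exact hjL.2 U' hU' _
    | one => exact ⟨0, SetLike.one_mem_graded _, (map_one f).symm ▸ SetLike.one_mem_graded _⟩
    | mul a b _ _ ha hb =>
      obtain ⟨i, hia, hfa⟩ := ha
      obtain ⟨k, hkb, hfb⟩ := hb
      exact ⟨i + k, SetLike.mul_mem_graded hia hkb, (map_mul f a b).symm ▸ SetLike.mul_mem_graded hfa hfb⟩
  have key : ∀ a ∈ AddSubgroup.closure (Submonoid.closure (Set.range (𝒯.str.app (op U)).hom ∪ Set.range v) : Set _),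
      ∀ i, f (GradedRing.proj (𝒯.deg U hU) i a) ∈ ℬ.deg U' hU' i := by
    intro a ha
    induction ha using AddSubgroup.closure_induction with
    | mem a ha =>
      intro i
      obtain ⟨k, hka, hfa⟩ := hmon a ha
      rw [GradedRing.proj_apply]
      by_cases hik : k = i
      · subst hik; rwa [DirectSum.decompose_of_mem_same _ hka]
      · rw [DirectSum.decompose_of_mem_ne _ hka hik, map_zero]; exact zero_mem _
    | zero => intro i; rw [map_zero, map_zero]; exact zero_mem _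
    | add a b _ _ ha hb => intro i; rw [map_add, map_add]; exact add_mem (ha i) (hb i)
    | neg a _ ha => intro i; rw [map_neg, map_neg]; exact neg_mem (ha i)
  have h := key x (Subring.mem_closure_iff.mp ((VA.closure_str_ev hE hjE ⟨U, hU⟩).ge trivial)) d
  rwa [GradedRing.proj_apply, DirectSum.decompose_of_mem_same _ hx] at h

end GrothLib.RLpsi8
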