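import Groth.Agent.Lib.RLpsi8.ImmersionColimit
import Groth.Agent.Lib.RLpsi8.FTSub
import Groth.Agent.Lib.RLpsi8.PushAlg
import Groth.Agent.Lib.RelProjK.GlueProj

/-!
# An immersion into a projective bundle comes from a submodule of finite type
-/

set_option autoImplicit false
set_option backward.isDefEq.respectTransparency false
set_option maxHeartbeats 600000

universe u

open CategoryTheory CategoryTheory.Limits AlgebraicGeometry TopologicalSpace Opposite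
open GrothLib.RelProjK (dg em)
open GrothLib.QCoh (SubData)

noncomputable section

namespace GrothLib.RLpsi8

variable {Y X P PL : Scheme.{u}} {q : X ⟶ Y} {L : X.Modules} {𝒯 : RelProj.QCGrAlg Y} {𝒮L : RelProj.QCGrAlg X}
  {jL : L ⟶ 𝒮L.toModule} (hL : PicF.IsInvertible L) (hLq : Coh.IsQCoh L) (hjL : RelProj.IsGrSymAlg L 𝒮L jL)
  {F : Y.Modules} (hFq : Coh.IsQCoh F) {jF : F ⟶ 𝒯.toModule} (hF : RelProj.IsGrSymAlg F 𝒯 jF)
  (u : RelProj.QGrHom q 𝒯 𝒮L)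

/-- Composition of a `q`-morphism with a graded homomorphism. -/
def qComp {𝒯' : RelProj.QCGrAlg Y} (v : 𝒯'.toQCAlg ⟶ 𝒯.toQCAlg) (hv : RelProj.IsGradedHom v) :
    RelProj.QGrHom q 𝒯' 𝒮L where
  toQHom :=
    { app := fun U => v.hom.app (op U) ≫ u.app U
      naturality := fun {U V} i => by
        rw [Category.assoc, u.naturality i, ← Category.assoc, ← Category.assoc]
        exact congrArg (· ≫ u.app V) (v.hom.naturality (homOfLE i).op).symm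
      str_app := fun U => by
        rw [← Category.assoc]
        refine Eq.trans (congrArg (· ≫ u.app U) ?_) (u.str_app U)
        exact NatTrans.congr_app v.comm (op U) }
  map_mem U hU U' hU' hle _ _ hx := u.map_mem U hU U' hU' hle (hv U hU _ _ hx)

/-- Two `q`-morphisms out of a symmetric algebra agreeing on generators agree. -/
theorem app_eq_of_jE {E : Y.Modules} (hE : Coh.IsQCoh E) {𝒯' : RelProj.QCGrAlg Y} {jE : E ⟶ 𝒯'.toModule}
    (hjE : RelProj.IsGrSymAlg E 𝒯' jE) (u₁ u₂ : RelProj.QGrHom q 𝒯' 𝒮L)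
    (h : ∀ (U : Y.Opens) (x : Γ(E, U)), (u₁.app U).hom ((jE.app U) x) = (u₂.app U).hom ((jE.app U) x))
    (U : Y.Opens) : u₁.app U = u₂.app U := by
  have haff : ∀ (V : Y.AffineZariskiSite), (u₁.app V.1).hom = (u₂.app V.1).hom := fun V => by
    refine RingHom.eq_of_eqOn_set_top ?_
    rw [← VA.closure_str_ev hE hjE V]
    refine RingHom.eqOn_set_closure ?_
    rintro _ (⟨r, rfl⟩ | ⟨e, rfl⟩)
    · exact (ConcreteCategory.congr_hom (u₁.str_app V.1) r).trans (ConcreteCategory.congr_hom (u₂.str_app V.1) r).symm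
    · exact h V.1 e
  ext z
  refine TopCat.Sheaf.eq_of_locally_eq' (⟨𝒮L.presheaf, 𝒮L.isSheaf⟩ : TopCat.Sheaf CommRingCat.{u} X.carrier)
    (fun V : {V : Y.AffineZariskiSite // V.1 ≤ U} => q ⁻¹ᵁ V.1.1) (q ⁻¹ᵁ U)
    (fun V => homOfLE (q.preimage_mono V.2)) ?_ _ _ fun V => ?_
  · intro x hx
    obtain ⟨W, hW, hxW, hWU⟩ := exists_isAffineOpen_mem_and_subset (U := U) hx
    exact Opens.mem_iSup.mpr ⟨⟨⟨W, hW⟩, hWU⟩, hxW⟩
  · show (u₁.app U ≫ 𝒮L.presheaf.map _).hom z = (u₂.app U ≫ 𝒮L.presheaf.map _).hom z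
    rw [u₁.naturality V.2, u₂.naturality V.2]
    exact RingHom.congr_fun (haff V.1) _

/-- Every element is in the algebra generated by finitely many degree one generators. -/
theorem exists_finite_gen (U : Y.AffineZariskiSite) (hF' : RelProj.IsGrSymAlg F 𝒯 jF) (hFq' : Coh.IsQCoh F)
    (z : 𝒯.presheaf.obj (op U.1)) :
    ∃ R : Set Γ(F, U.1), R.Finite ∧
      z ∈ Subring.closure (Set.range (𝒯.str.app (op U.1)).hom ∪ VA.ev jF U '' R) := by
  have hz : z ∈ Subring.closure (Set.range (𝒯.str.app (op U.1)).hom ∪ Set.range (VA.ev jF U)) := by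
    rw [VA.closure_str_ev hFq' hF' U]; trivial
  have hm : ∀ {R R' : Set Γ(F, U.1)}, R ⊆ R' →
      Subring.closure (Set.range (𝒯.str.app (op U.1)).hom ∪ VA.ev jF U '' R) ≤
        Subring.closure (Set.range (𝒯.str.app (op U.1)).hom ∪ VA.ev jF U '' R') := fun h =>
    Subring.closure_mono (Set.union_subset_union_right _ (Set.image_mono h))
  induction hz using Subring.closure_induction with
  | mem z hz =>
    rcases hz with hz | ⟨f, rfl⟩
    · exact ⟨∅, Set.finite_empty, Subring.subset_closure (Or.inl hz)⟩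
    · exact ⟨{f}, Set.finite_singleton f, Subring.subset_closure (Or.inr ⟨f, rfl, rfl⟩)⟩
  | zero => exact ⟨∅, Set.finite_empty, zero_mem _⟩
  | one => exact ⟨∅, Set.finite_empty, one_mem _⟩
  | add a b _ _ ha hb =>
    obtain ⟨R, hR, haR⟩ := ha
    obtain ⟨R', hR', hbR⟩ := hb
    exact ⟨R ∪ R', hR.union hR', add_mem (hm Set.subset_union_left haR) (hm Set.subset_union_right hbR)⟩
  | neg a _ ha => obtain ⟨R, hR, haR⟩ := ha; exact ⟨R, hR, neg_mem haR⟩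
  | mul a b _ _ ha hb =>
    obtain ⟨R, hR, haR⟩ := ha
    obtain ⟨R', hR', hbR⟩ := hb
    exact ⟨R ∪ R', hR.union hR', mul_mem (hm Set.subset_union_left haR) (hm Set.subset_union_right hbR)⟩

/-- A good piece lifts along a homomorphism reaching its numerators. -/
theorem good_lift {𝒯' : RelProj.QCGrAlg Y} (v : 𝒯'.toQCAlg ⟶ 𝒯.toQCAlg) (hv : RelProj.IsGradedHom v)
    (u' : RelProj.QGrHom q 𝒯' 𝒮L) (hu' : ∀ U : Y.Opens, u'.app U = v.hom.app (op U) ≫ u.app U)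
    (c : Piece 𝒯) (hA : IsAffineOpen (XS u c.U c.n c.s)) (G : Set Γ(X, XS u c.U c.n c.s))
    (m : Γ(X, XS u c.U c.n c.s) → ℕ) (a : Γ(X, XS u c.U c.n c.s) → 𝒯.presheaf.obj (op c.U.1))
    (hm : ∀ b ∈ G, 0 < m b) (ha : ∀ b ∈ G, a b ∈ 𝒯.deg c.U.1 c.U.2 (m b * c.n))
    (heq : ∀ b ∈ G, (𝒮L.str.app (op (XS u c.U c.n c.s))).hom b *
      (u.appLE c.U.1 _ (XS_le u c.U c.n c.s)).hom c.s ^ m b = (u.appLE c.U.1 _ (XS_le u c.U c.n c.s)).hom (a b))
    (hgen : Subring.closure (Set.range (q.appLE c.U.1 _ (XS_le u c.U c.n c.s)).hom ∪ G) = ⊤)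
    (hs : c.s ∈ Set.range (v.hom.app (op c.U.1)).hom) (hGr : ∀ b ∈ G, a b ∈ Set.range (v.hom.app (op c.U.1)).hom) :
    ∃ c' : Piece 𝒯', c'.locus u' = c.locus u ∧ IsGood u' c'.U c'.n c'.s := by
  obtain ⟨y₀, hy₀⟩ := hs
  obtain ⟨y, hy, hys⟩ := exists_homogeneous_lift v hv c.U c.hs hy₀
  have e : XS u c.U c.n c.s = XS u' c.U c.n y := by rw [XS_comp u v u' hu', hys]
  have key : ∀ (W : X.Opens) (_ : W = XS u' c.U c.n y) (hle : W ≤ q ⁻¹ᵁ c.U.1) (G' : Set Γ(X, W)),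
      IsAffineOpen W →
      (∀ b ∈ G', ∃ (k : ℕ) (_ : 0 < k) (z : 𝒯'.presheaf.obj (op c.U.1)) (_ : z ∈ 𝒯'.deg c.U.1 c.U.2 (k * c.n)),
        (𝒮L.str.app (op W)).hom b * (u'.appLE c.U.1 W hle).hom y ^ k = (u'.appLE c.U.1 W hle).hom z) →
      Subring.closure (Set.range (q.appLE c.U.1 W hle).hom ∪ G') = ⊤ → IsGood u' c.U c.n y := by
    intro W hW
    subst hW
    exact fun hle G' hA h1 h2 => good_of_generators u' hy hA G' h1 h2
  refine ⟨⟨c.U, c.n, c.hn, y, hy⟩, e.symm, key _ e (XS_le u c.U c.n c.s) G hA (fun b hb => ?_) hgen⟩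
  obtain ⟨z₀, hz₀⟩ := hGr b hb
  obtain ⟨z, hz, hzs⟩ := exists_homogeneous_lift v hv c.U (ha b hb) hz₀
  refine ⟨m b, hm b hb, z, hz, ?_⟩
  rw [appLE_comp u v u' hu', appLE_comp u v u' hu', hys, hzs]
  exact heq b hb

include hL hLq hjL in
/-- A good piece raised to a power lifts along a homomorphism reaching the power and its numerators. -/
theorem good_lift_pow {𝒯' : RelProj.QCGrAlg Y} (v : 𝒯'.toQCAlg ⟶ 𝒯.toQCAlg) (hv : RelProj.IsGradedHom v)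
    (u' : RelProj.QGrHom q 𝒯' 𝒮L) (hu' : ∀ U : Y.Opens, u'.app U = v.hom.app (op U) ≫ u.app U)
    (c : Piece 𝒯) (hA : IsAffineOpen (XS u c.U c.n c.s)) {M N : ℕ} (hM : 0 < M) (hMN : M * c.n = N)
    (G : Set Γ(X, XS u c.U c.n c.s)) (m : Γ(X, XS u c.U c.n c.s) → ℕ) (a : Γ(X, XS u c.U c.n c.s) → 𝒯.presheaf.obj (op c.U.1))
    (hm : ∀ b ∈ G, m b ≤ M) (ha : ∀ b ∈ G, a b ∈ 𝒯.deg c.U.1 c.U.2 (m b * c.n))
    (heq : ∀ b ∈ G, (𝒮L.str.app (op (XS u c.U c.n c.s))).hom b *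
      (u.appLE c.U.1 _ (XS_le u c.U c.n c.s)).hom c.s ^ m b = (u.appLE c.U.1 _ (XS_le u c.U c.n c.s)).hom (a b))
    (hgen : Subring.closure (Set.range (q.appLE c.U.1 _ (XS_le u c.U c.n c.s)).hom ∪ G) = ⊤)
    (hs : c.s ^ M ∈ Set.range (v.hom.app (op c.U.1)).hom)
    (hGr : ∀ b ∈ G, c.s ^ (M - m b) * a b ∈ Set.range (v.hom.app (op c.U.1)).hom) :
    ∃ c' : Piece 𝒯', c'.n = N ∧ c'.locus u' = c.locus u ∧ IsGood u' c'.U c'.n c'.s := by
  have hsM : c.s ^ M ∈ 𝒯.deg c.U.1 c.U.2 N := by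
    rw [← hMN]; simpa [smul_eq_mul] using SetLike.pow_mem_graded M c.hs
  obtain ⟨y₀, hy₀⟩ := hs
  obtain ⟨y, hy, hys⟩ := exists_homogeneous_lift v hv c.U hsM hy₀
  have e : XS u c.U c.n c.s = XS u' c.U N y := by
    rw [XS_comp u v u' hu', hys, ← hMN]
    exact (XS_pow hL hLq hjL u c.U c.hs hM).symm
  have key : ∀ (W : X.Opens) (_ : W = XS u' c.U N y) (hle : W ≤ q ⁻¹ᵁ c.U.1) (G' : Set Γ(X, W)),
      IsAffineOpen W →
      (∀ b ∈ G', ∃ (k : ℕ) (_ : 0 < k) (z : 𝒯'.presheaf.obj (op c.U.1)) (_ : z ∈ 𝒯'.deg c.U.1 c.U.2 (k * N)),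
        (𝒮L.str.app (op W)).hom b * (u'.appLE c.U.1 W hle).hom y ^ k = (u'.appLE c.U.1 W hle).hom z) →
      Subring.closure (Set.range (q.appLE c.U.1 W hle).hom ∪ G') = ⊤ → IsGood u' c.U N y := by
    intro W hW
    subst hW
    exact fun hle G' hA h1 h2 => good_of_generators u' hy hA G' h1 h2
  refine ⟨⟨c.U, N, hMN ▸ Nat.mul_pos hM c.hn, y, hy⟩, rfl, e.symm,
    key _ e (XS_le u c.U c.n c.s) G hA (fun b hb => ?_) hgen⟩
  obtain ⟨d, hd⟩ := Nat.exists_eq_add_of_le (hm b hb)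
  have hd' : M - m b = d := by omega
  have hmem : c.s ^ (M - m b) * a b ∈ 𝒯.deg c.U.1 c.U.2 (1 * N) := by
    rw [one_mul, ← hMN, hd', hd, add_mul, add_comm]
    exact SetLike.mul_mem_graded (by simpa [smul_eq_mul] using SetLike.pow_mem_graded d c.hs) (ha b hb)
  obtain ⟨z₀, hz₀⟩ := hGr b hb
  obtain ⟨z, hz, hzs⟩ := exists_homogeneous_lift v hv c.U hmem hz₀
  refine ⟨1, one_pos, z, hz, ?_⟩
  rw [appLE_comp u v u' hu', appLE_comp u v u' hu', hys, hzs, map_mul, map_pow, map_pow, pow_one, hd', hd,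
    pow_add, ← mul_assoc, heq b hb, mul_comm]

variable {pL : PL ⟶ X}
  {chartL : ∀ (U : X.Opens) (hU : IsAffineOpen U), (((pL ⁻¹ᵁ U : PL.Opens) : Scheme.{u}) ≅ Proj (𝒮L.deg U hU))}
  (hPL : RelProj.IsRelProj 𝒮L pL chartL)
  {p : P ⟶ Y} {chart : ∀ (U : Y.Opens) (hU : IsAffineOpen U), (((p ⁻¹ᵁ U : P.Opens) : Scheme.{u}) ≅ Proj (𝒯.deg U hU))}
  (hP : RelProj.IsRelProj 𝒯 p chart)
  {r : ((RelProj.domQ u pL chartL : PL.Opens) : Scheme.{u}) ⟶ P}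
  (hr : RelProj.IsProjQMapOn u p chart pL chartL (RelProj.domQ u pL chartL) r)

include hL hLq hjL hFq hF hPL hP hr in
theorem exists_sub_isImmersion [CompactSpace Y] [QuasiSeparatedSpace Y] [QuasiCompact q] [LocallyOfFiniteType q]
    (hsurj : ∀ x : X, ∃ (U : Y.Opens) (hU : IsAffineOpen U) (e : Γ(F, U)) (V : X.Opens) (hV : IsAffineOpen V)
        (hVU : V ≤ q ⁻¹ᵁ U), x ∈ V ∧
          ((𝒮L.deg V hV 1 : AddSubgroup (𝒮L.presheaf.obj (op V))) : Set (𝒮L.presheaf.obj (op V))) ⊆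
              (Ideal.span {(u.appLE U V hVU).hom ((jF.app U) e)} : Set (𝒮L.presheaf.obj (op V))))
    (himm : IsImmersion r) :
    ∃ (E : Y.Modules) (_ : Coh.IsQCoh E) (_ : CohB1.IsFT E) (ι : E ⟶ F) (_ : ∀ U : Y.Opens, Function.Injective (ι.app U))
      (𝒯' : RelProj.QCGrAlg Y) (jE : E ⟶ 𝒯'.toModule) (_ : RelProj.IsGrSymAlg E 𝒯' jE)
      (u' : RelProj.QGrHom q 𝒯' 𝒮L)
      (_ : ∀ (U : Y.Opens) (x : Γ(E, U)), (u'.app U).hom ((jE.app U) x) = (u.app U).hom ((jF.app U) ((ι.app U) x))),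
      (∀ x : X, ∃ (U : Y.Opens) (hU : IsAffineOpen U) (e : Γ(E, U)) (V : X.Opens) (hV : IsAffineOpen V)
          (hVU : V ≤ q ⁻¹ᵁ U), x ∈ V ∧
            ((𝒮L.deg V hV 1 : AddSubgroup (𝒮L.presheaf.obj (op V))) : Set (𝒮L.presheaf.obj (op V))) ⊆
            (Ideal.span {(u'.appLE U V hVU).hom ((jE.app U) e)} : Set (𝒮L.presheaf.obj (op V)))) ∧
      ∀ (P' : Scheme.{u}) (p' : P' ⟶ Y)
          (chart' : ∀ (U : Y.Opens) (hU : IsAffineOpen U), (((p' ⁻¹ᵁ U : P'.Opens) : Scheme.{u}) ≅ Proj (𝒯'.deg U hU)))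
          (_ : RelProj.IsRelProj 𝒯' p' chart')
          (r' : ((RelProj.domQ u' pL chartL : PL.Opens) : Scheme.{u}) ⟶ P')
          (_ : RelProj.IsProjQMapOn u' p' chart' pL chartL (RelProj.domQ u' pL chartL) r'),
        RelProj.domQ u' pL chartL = ⊤ ∧ IsImmersion r' := by
  classical
  haveI : F.IsQuasicoherent := hFq
  haveI : CompactSpace X := QuasiCompact.compactSpace_of_compactSpace q
  choose U₁ hU₁ e₁ V₁ hV₁ hVU₁ hxV₁ hsub₁ using hsurj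
  let c₁ : X → Piece 𝒯 := fun x => ⟨⟨U₁ x, hU₁ x⟩, 1, one_pos, _, hF.2 (U₁ x) (hU₁ x) (e₁ x)⟩
  have hxc₁ : ∀ x, x ∈ (c₁ x).locus u := fun x =>
    Opens.mem_iSup.mpr ⟨⟨⟨V₁ x, hV₁ x⟩, hVU₁ x, hsub₁ x⟩, hxV₁ x⟩
  have hcov₁ : ⨆ x, (c₁ x).locus u = ⊤ := top_le_iff.mp fun x _ => Opens.mem_iSup.mpr ⟨x, hxc₁ x⟩
  have htop := domQ_eq_top_of_cover hL hLq hjL u hPL c₁ hcov₁
  obtain ⟨g, hg, hQ⟩ := exists_g hL hLq hjL u hPL htop hr
  haveI : IsImmersion g := (hQ @IsImmersion).mp himm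
  have hx : ∀ x : X, ∃ c : Piece 𝒯, x ∈ c.locus u ∧ IsGood u c.U c.n c.s := fun x => by
    obtain ⟨U, hU, hxU, -⟩ := exists_isAffineOpen_mem_and_subset (Opens.mem_top (q x))
    obtain ⟨c, -, h⟩ := exists_good hL hLq hjL u hP hPL htop hg x ⟨U, hU⟩ hxU
    exact ⟨c, h⟩
  choose c hc hgood using hx
  obtain ⟨F₁, hF₁⟩ := isCompact_univ.elim_finite_subcover (fun x => ((c₁ x).locus u : Set X))
    (fun x => ((c₁ x).locus u).isOpen) fun x _ => Set.mem_iUnion.mpr ⟨x, hxc₁ x⟩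
  obtain ⟨F₂, hF₂⟩ := isCompact_univ.elim_finite_subcover (fun x => ((c x).locus u : Set X))
    (fun x => ((c x).locus u).isOpen) fun x _ => Set.mem_iUnion.mpr ⟨x, hc x⟩
  choose G hG using fun x => exists_finite_generators (q := q) (U := (c x).U) (hgood x).1 (XS_le u _ (c x).n (c x).s)
  choose m hm a ha heq using fun x => (hgood x).2
  choose R hR hRz using fun (x : X) (z : 𝒯.presheaf.obj (op (c x).U.1)) => exists_finite_gen (c x).U hF hFq z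
  let S : ∀ x : X, Set Γ(F, (c x).U.1) := fun x =>
    R x (c x).s ∪ ⋃ b ∈ (G x : Set _), R x (a x b)
  have hS : ∀ x, (S x).Finite := fun x => (hR x _).union ((G x).finite_toSet.biUnion fun b _ => hR x _)
  obtain ⟨Q₁, hQ₁, hmem₁⟩ := exists_locGen_forall_mem (F := F) F₁ U₁ hU₁ (fun x => {e₁ x})
    fun x => Set.finite_singleton _
  obtain ⟨Q₂, hQ₂, hmem₂⟩ := exists_locGen_forall_mem (F := F) F₂ (fun x => (c x).U.1) (fun x => (c x).U.2) S hS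
  let Q := subSup Q₁ Q₂
  have hQLoc : SubData.LocGen Q ⊤ := locGen_subSup hQ₁ hQ₂
  have hEq : Coh.IsQCoh Q.obj := hQLoc.isQuasicoherent
  obtain ⟨𝒯', jE, hjE⟩ := SymAlgX.exists_isGrSymAlg hEq
  obtain ⟨v, hv0, -⟩ := hjE.1 𝒯.toQCAlg (Q.ι ≫ jF)
  have hvj : ∀ (U : Y.Opens) (e : Γ(Q.obj, U)),
      (v.hom.app (op U)).hom (show 𝒯'.presheaf.obj (op U) from jE.app U e) =
        (show 𝒯.presheaf.obj (op U) from jF.app U (Q.ι.app U e)) := fun U e =>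
    congrArg (fun k : Q.obj ⟶ 𝒯.toModule => k.app U e) hv0
  have hv : RelProj.IsGradedHom v := ProjQ8.isGradedHom_of_gen v hEq hjE fun U hU e => by
    rw [hvj U e]; exact hF.2 U hU _
  have hlift : ∀ (U : Y.AffineZariskiSite) (R : Set Γ(F, U.1)) (z : 𝒯.presheaf.obj (op U.1)), R ⊆ Q.sec U.1 →
      z ∈ Subring.closure (Set.range (𝒯.str.app (op U.1)).hom ∪ VA.ev jF U '' R) →
      z ∈ Set.range (v.hom.app (op U.1)).hom := fun U R z hRQ hz => by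
    have : Subring.closure (Set.range (𝒯.str.app (op U.1)).hom ∪ VA.ev jF U '' R) ≤ (v.hom.app (op U.1)).hom.range := by
      refine Subring.closure_le.mpr ?_
      rintro _ (⟨r₀, rfl⟩ | ⟨f, hf, rfl⟩)
      · exact ⟨(𝒯'.str.app (op U.1)).hom r₀, ConcreteCategory.congr_hom (NatTrans.congr_app v.comm (op U.1)) r₀⟩
      · exact ⟨_, hvj U.1 (Q.lift f (hRQ hf))⟩
    exact this hz
  refine ⟨Q.obj, hEq, hQLoc.isFiniteType, Q.ι, Q.ι_app_injective, 𝒯', jE, hjE, qComp u v hv,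
    fun U x => congrArg (u.app U).hom (hvj U x), fun x => ?_, ?_⟩
  · obtain ⟨x₀, hx₀, hxm⟩ := Set.mem_iUnion₂.mp (hF₁ (Set.mem_univ x))
    have he : e₁ x₀ ∈ Q.sec (U₁ x₀) := sec_le_subSup_left Q₁ Q₂ _ (hmem₁ x₀ hx₀ rfl)
    obtain ⟨⟨⟨V, hV⟩, hVU, hsub⟩, hxV⟩ := Opens.mem_iSup.mp hxm
    refine ⟨U₁ x₀, hU₁ x₀, Q.lift (e₁ x₀) he, V, hV, hVU, hxV, ?_⟩
    rw [appLE_comp u v (qComp u v hv) fun _ => rfl, hvj (U₁ x₀) (Q.lift (e₁ x₀) he)]
    exact hsub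
  · intro P' p' chart' hP' r' hr'
    have hc' : ∀ x : F₂, ∃ c' : Piece 𝒯', c'.locus (qComp u v hv) = (c x.1).locus u ∧
        IsGood (qComp u v hv) c'.U c'.n c'.s := fun x => by
      have hsec : S x.1 ⊆ Q.sec (c x.1).U.1 := (hmem₂ x.1 x.2).trans (sec_le_subSup_right Q₁ Q₂ _)
      refine good_lift u v hv (qComp u v hv) (fun _ => rfl) (c x.1) (hgood x.1).1 (G x.1) (m x.1) (a x.1)
        (fun b _ => hm x.1 b) (fun b _ => ha x.1 b) (fun b _ => heq x.1 b) (hG x.1)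
        (hlift _ _ _ (fun f hf => hsec (Or.inl hf)) (hRz x.1 _))
        fun b hb => hlift _ _ _ (fun f hf => hsec (Or.inr (Set.mem_biUnion hb hf))) (hRz x.1 _)
    choose c' hloc hgood' using hc'
    have hcov : ⨆ x, (c' x).locus (qComp u v hv) = ⊤ := top_le_iff.mp fun z _ => by
      obtain ⟨x, hxF, hz⟩ := Set.mem_iUnion₂.mp (hF₂ (Set.mem_univ z))
      exact Opens.mem_iSup.mpr ⟨⟨x, hxF⟩, (hloc ⟨x, hxF⟩).symm ▸ hz⟩
    have ht := domQ_eq_top_of_cover hL hLq hjL (qComp u v hv) hPL c' hcov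
    obtain ⟨g', hg', hQ'⟩ := exists_g hL hLq hjL (qComp u v hv) hPL ht hr'
    exact ⟨ht, (hQ' @IsImmersion).mpr
      (isImmersion_of_good hL hLq hjL (qComp u v hv) hP' hPL ht hg' c' hcov hgood')⟩

include hL hLq hjL hFq hF hPL hP hr in
/-- Conversely, an immersion defined by a submodule gives one. -/
theorem isImmersion_of_sub {E : Y.Modules} (hEq : Coh.IsQCoh E) (ι : E ⟶ F)
    {𝒯' : RelProj.QCGrAlg Y} {jE : E ⟶ 𝒯'.toModule} (hjE : RelProj.IsGrSymAlg E 𝒯' jE)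
    (u' : RelProj.QGrHom q 𝒯' 𝒮L)
    (hu' : ∀ (U : Y.Opens) (x : Γ(E, U)), (u'.app U).hom ((jE.app U) x) = (u.app U).hom ((jF.app U) ((ι.app U) x)))
    (h : ∀ (P' : Scheme.{u}) (p' : P' ⟶ Y)
          (chart' : ∀ (U : Y.Opens) (hU : IsAffineOpen U), (((p' ⁻¹ᵁ U : P'.Opens) : Scheme.{u}) ≅ Proj (𝒯'.deg U hU)))
          (_ : RelProj.IsRelProj 𝒯' p' chart')
          (r' : ((RelProj.domQ u' pL chartL : PL.Opens) : Scheme.{u}) ⟶ P')
          (_ : RelProj.IsProjQMapOn u' p' chart' pL chartL (RelProj.domQ u' pL chartL) r'),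
        RelProj.domQ u' pL chartL = ⊤ ∧ IsImmersion r') :
    RelProj.domQ u pL chartL = ⊤ ∧ IsImmersion r := by
  obtain ⟨v, hv0, -⟩ := hjE.1 𝒯.toQCAlg (ι ≫ jF)
  have hvj : ∀ (U : Y.Opens) (e : Γ(E, U)),
      (v.hom.app (op U)).hom (show 𝒯'.presheaf.obj (op U) from jE.app U e) =
        (show 𝒯.presheaf.obj (op U) from jF.app U (ι.app U e)) := fun U e =>
    congrArg (fun k : E ⟶ 𝒯.toModule => k.app U e) hv0
  have hv : RelProj.IsGradedHom v := ProjQ8.isGradedHom_of_gen v hEq hjE fun U hU e => by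
    rw [hvj U e]; exact hF.2 U hU _
  have hcomp : ∀ U : Y.Opens, u'.app U = v.hom.app (op U) ≫ u.app U :=
    app_eq_of_jE hEq hjE u' (qComp u v hv) fun U x => (hu' U x).trans (congrArg (u.app U).hom (hvj U x)).symm
  have hP' := RelProjK.isRelProj_proj 𝒯'
  obtain ⟨r', hr', -⟩ := RelCone8.existsUnique_isQ (p' := pL) (chart' := chartL) u' hPL hP'
  obtain ⟨htop', himm'⟩ := h _ _ _ hP' r' ((RelCone8.isQ_iff u' r').mp hr')
  obtain ⟨g', hg', hQ'⟩ := exists_g hL hLq hjL u' hPL htop' ((RelCone8.isQ_iff u' r').mp hr')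
  haveI : IsImmersion g' := (hQ' @IsImmersion).mp himm'
  refine isImmersion_of_comp hL hLq hjL u v hv u' hcomp hP hPL hr fun x => ?_
  obtain ⟨U, hU, hxU, -⟩ := exists_isAffineOpen_mem_and_subset (Opens.mem_top (q x))
  obtain ⟨c, -, hc⟩ := exists_good hL hLq hjL u' hP' hPL htop' hg' x ⟨U, hU⟩ hxU
  exact ⟨c, hc⟩

end GrothLib.RLpsi8
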