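import Groth.Agent.Lib.UCTest.AffineSpace

/-!
# Finitely many coordinates separate a fibre from a closed set
(a variant of `GrothLib.UCTest.exists_nhd_disjoint`, keeping the open set on affine space)
-/

set_option autoImplicit false

universe u

open CategoryTheory CategoryTheory.Limits AlgebraicGeometry TopologicalSpace GrothLib.UCTest

namespace RLpsi8.FibreAvoid

variable {S : Scheme.{u}}

lemma exists_open_separating {X W : Scheme.{u}} (f : X ⟶ S) [QuasiCompact f] [IsAffine W] (V : S.Opens)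
    (hV : IsAffineOpen V) (b : W ⟶ V)
    (Z : Set ↥(pullback f (b ≫ V.ι))) (hZ : IsClosed Z) (t : W)
    (ht : ∀ z ∈ Z, (pullback.snd f (b ≫ V.ι)).base z ≠ t) :
    ∃ (k : ℕ) (v : ULift.{u} (Fin k) → Γ(W, ⊤)) (G : Set ↥(pullback f (𝔸(ULift.{u} (Fin k); S) ↘ S))),
      IsOpen G ∧ (∀ y, (pullback.snd f _).base y = (AffineSpace.homOfVector (b ≫ V.ι) v).base t → y ∈ G) ∧
      ∀ z ∈ Z, (pullback.map f (b ≫ V.ι) f (𝔸(ULift.{u} (Fin k); S) ↘ S) (𝟙 X)
        (AffineSpace.homOfVector (b ≫ V.ι) v) (𝟙 S) (by simp) (by simp)).base z ∉ G := by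
  classical
  have : IsAffine V.toScheme := hV
  let gW := b ≫ V.ι
  let p₁ := pullback.fst f gW
  let p₂ := pullback.snd f gW
  let F := p₂.base ⁻¹' {t}
  have hF : IsCompact F := p₂.isCompact_preimage_singleton t
  have key : ∀ z ∈ F, ∃ (U : X.Opens) (_ : IsAffineOpen U) (e : U ≤ f ⁻¹ᵁ V) (s : Finset Γ(W, ⊤)),
      p₁.base z ∈ U ∧ ∀ (n : ℕ) (v : ULift.{u} (Fin n) → Γ(W, ⊤)), (∀ x ∈ s, x ∈ Set.range v) →
        ∃ O' : (pullback f (𝔸(ULift.{u} (Fin n); S) ↘ S)).Opens,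
          (pullback.map f gW f (𝔸(ULift.{u} (Fin n); S) ↘ S) (𝟙 X) (AffineSpace.homOfVector gW v) (𝟙 S)
            (by simp) (by simp)).base z ∈ O' ∧
          ∀ z', (pullback.map f gW f (𝔸(ULift.{u} (Fin n); S) ↘ S) (𝟙 X) (AffineSpace.homOfVector gW v) (𝟙 S)
            (by simp) (by simp)).base z' ∈ O' → z' ∉ Z := by
    intro z hz
    have hx : p₁.base z ∈ f ⁻¹ᵁ V := by
      show f.base (p₁.base z) ∈ V
      rw [← Scheme.Hom.comp_apply, pullback.condition]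
      exact (b.base (p₂.base z)).2
    obtain ⟨_, ⟨(U : X.Opens), hU, rfl⟩, hxU, hUV⟩ :=
      X.isBasis_affineOpens.exists_subset_of_mem_open hx (f ⁻¹ᵁ V).2
    have : IsAffine U.toScheme := hU
    let a := f.resLE V U hUV
    have ha : a ≫ V.ι = U.ι ≫ f := Scheme.Hom.resLE_comp_ι f hUV
    let m := pullback.map a b f gW U.ι (𝟙 W) V.ι ha (Category.id_comp gW).symm
    have hm : z ∈ Set.range m.base := by
      rw [Scheme.Pullback.range_map]
      refine ⟨?_, ⟨p₂.base z, rfl⟩⟩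
      rw [Scheme.Opens.range_ι]; exact hxU
    obtain ⟨z₀, rfl⟩ := hm
    obtain ⟨s, hs⟩ := exists_finset_basicOpen a b
      ⟨m.base ⁻¹' Zᶜ, hZ.isOpen_compl.preimage m.continuous⟩ z₀ (fun h ↦ ht _ h hz)
    refine ⟨U, hU, hUV, s, hxU, fun n v hv ↦ ?_⟩
    obtain ⟨O₁, hO₁, hO₁'⟩ := hs _ v hv
    have : IsOpenImmersion (AffineSpace.map (ULift.{u} (Fin n)) V.ι) :=
      MorphismProperty.of_isPullback (P := @IsOpenImmersion) (AffineSpace.isPullback_map (n := ULift.{u} (Fin n)) V.ι).flip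
        inferInstance
    let m' := pullback.map a (𝔸(ULift.{u} (Fin n); V) ↘ (V : Scheme.{u})) f (𝔸(ULift.{u} (Fin n); S) ↘ S)
      U.ι (AffineSpace.map _ V.ι) V.ι ha (AffineSpace.map_over V.ι).symm
    have hv' : AffineSpace.homOfVector b v ≫ AffineSpace.map _ V.ι = AffineSpace.homOfVector gW v := by
      apply AffineSpace.hom_ext
      · rw [Category.assoc, AffineSpace.map_over, AffineSpace.homOfVector_over_assoc,
          AffineSpace.homOfVector_over]
      · intro i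
        rw [Scheme.Hom.comp_appTop, CommRingCat.comp_apply, AffineSpace.map_appTop_coord,
          AffineSpace.homOfVector_appTop_coord, AffineSpace.homOfVector_appTop_coord]
    have hcomm : m ≫ pullback.map f gW f (𝔸(ULift.{u} (Fin n); S) ↘ S) (𝟙 X) (AffineSpace.homOfVector gW v) (𝟙 S)
          (by simp) (by simp) =
        pullback.map a b a (𝔸(ULift.{u} (Fin n); V) ↘ (V : Scheme.{u})) (𝟙 _) (AffineSpace.homOfVector b v) (𝟙 _)
          (by simp) (by simp) ≫ m' := by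
      apply pullback.hom_ext
      · simp only [m, m', pullback.map, Category.assoc, pullback.lift_fst, pullback.lift_fst_assoc, Category.comp_id, Category.id_comp]
      · simp only [m, m', pullback.map, Category.assoc, pullback.lift_snd, pullback.lift_snd_assoc, hv', Category.comp_id, Category.id_comp]
    refine ⟨m' ''ᵁ O₁, ?_, fun z' hz' ↦ ?_⟩
    · rw [← Scheme.Hom.comp_apply, hcomm, Scheme.Hom.comp_apply]
      exact ⟨_, hO₁, rfl⟩
    obtain ⟨q, hq, hq'⟩ := hz'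
    have hz'U : z' ∈ Set.range m.base := by
      rw [Scheme.Pullback.range_map]
      refine ⟨?_, ⟨_, rfl⟩⟩
      refine ⟨(pullback.fst a _).base q, ?_⟩
      show (pullback.fst a _ ≫ U.ι).base q = _
      rw [← pullback.lift_fst (pullback.fst a (𝔸(ULift.{u} (Fin n); V) ↘ (V : Scheme.{u})) ≫ U.ι)
        (pullback.snd a _ ≫ AffineSpace.map _ V.ι) (by
          rw [Category.assoc, ← ha, pullback.condition_assoc, Category.assoc, AffineSpace.map_over])]
      show (pullback.fst f _).base (m'.base q) = _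
      refine (congrArg (pullback.fst f _).base hq').trans ?_
      rw [← Scheme.Hom.comp_apply, pullback.lift_fst, Category.comp_id]
    obtain ⟨z₁, rfl⟩ := hz'U
    rw [← Scheme.Hom.comp_apply, hcomm, Scheme.Hom.comp_apply] at hq'
    have h1 := m'.isOpenEmbedding.injective hq'
    rw [h1] at hq
    exact hO₁' hq
  choose! U hU hUV s hxU hs using key
  have hcov : F ⊆ ⋃ z : F, p₁.base ⁻¹' (U z.1 : Set X) := fun z hz ↦
    Set.mem_iUnion.mpr ⟨⟨z, hz⟩, hxU z hz⟩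
  let w : Finset Γ(W, ⊤) → Σ n : ℕ, ULift.{u} (Fin n) → Γ(W, ⊤) := fun σ ↦
    ⟨σ.card, fun i ↦ (σ.equivFin.symm i.down : Γ(W, ⊤))⟩
  have hw : ∀ σ, ∀ x ∈ σ, x ∈ Set.range (w σ).2 := fun σ x hx ↦
    ⟨⟨σ.equivFin ⟨x, hx⟩⟩, by simp [w]⟩
  -- neighbourhoods in the source on which the local constructions apply
  have key2 : ∀ z : F, ∃ Nz : Set ↥(pullback f gW), IsOpen Nz ∧ z.1 ∈ Nz ∧
      ∀ σ : Finset Γ(W, ⊤), s z.1 ⊆ σ → ∃ O' : (pullback f (𝔸(ULift.{u} (Fin (w σ).1); S) ↘ S)).Opens,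
        (∀ z₁ ∈ Nz, (pullback.map f gW f (𝔸(ULift.{u} (Fin (w σ).1); S) ↘ S) (𝟙 X)
            (AffineSpace.homOfVector gW (w σ).2) (𝟙 S) (by simp) (by simp)).base z₁ ∈ O') ∧
        ∀ z', (pullback.map f gW f (𝔸(ULift.{u} (Fin (w σ).1); S) ↘ S) (𝟙 X)
            (AffineSpace.homOfVector gW (w σ).2) (𝟙 S) (by simp) (by simp)).base z' ∈ O' → z' ∉ Z := by
    intro z
    obtain ⟨O', h1, h2⟩ := hs z.1 z.2 _ (w (s z.1)).2 (hw _)
    refine ⟨_, O'.2.preimage (pullback.map f gW f _ (𝟙 X) (AffineSpace.homOfVector gW (w (s z.1)).2) (𝟙 S)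
      (by simp) (by simp)).continuous, h1, fun σ hσ ↦ ?_⟩
    -- reindex coordinates
    have hmem : ∀ i : ULift.{u} (Fin (w (s z.1)).1), ∃ j, (w σ).2 j = (w (s z.1)).2 i := fun i ↦
      hw σ _ (hσ ((s z.1).equivFin.symm i.down).2)
    choose r hr using hmem
    let π := AffineSpace.reindex r S
    have hπ : AffineSpace.homOfVector gW (w σ).2 ≫ π = AffineSpace.homOfVector gW (w (s z.1)).2 := by
      apply AffineSpace.hom_ext
      · rw [Category.assoc, AffineSpace.reindex_over, AffineSpace.homOfVector_over, AffineSpace.homOfVector_over]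
      · intro i
        rw [Scheme.Hom.comp_appTop, CommRingCat.comp_apply, AffineSpace.reindex_appTop_coord,
          AffineSpace.homOfVector_appTop_coord, AffineSpace.homOfVector_appTop_coord, hr]
    let Pm := pullback.map f (𝔸(ULift.{u} (Fin (w σ).1); S) ↘ S) f (𝔸(ULift.{u} (Fin (w (s z.1)).1); S) ↘ S)
      (𝟙 X) π (𝟙 S) (by simp) (by simp [π])
    have hPm : pullback.map f gW f _ (𝟙 X) (AffineSpace.homOfVector gW (w σ).2) (𝟙 S) (by simp) (by simp) ≫ Pm =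
        pullback.map f gW f _ (𝟙 X) (AffineSpace.homOfVector gW (w (s z.1)).2) (𝟙 S) (by simp) (by simp) := by
      apply pullback.hom_ext
      · simp only [Pm, Category.assoc, pullback.lift_fst, Category.comp_id, pullback.lift_fst_assoc]
      · simp only [Pm, Category.assoc, pullback.lift_snd, pullback.lift_snd_assoc, hπ]
    refine ⟨Pm ⁻¹ᵁ O', fun z₁ h ↦ ?_, fun z' h ↦ h2 z' ?_⟩
    · show Pm.base _ ∈ O'
      rw [← Scheme.Hom.comp_apply, hPm]; exact h
    · rw [← hPm, Scheme.Hom.comp_apply]; exact h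
  choose N hNo hzN hN using key2
  obtain ⟨σ₀, hσ₀⟩ := hF.elim_finite_subcover (fun z : F ↦ N z) hNo
    fun z hz ↦ Set.mem_iUnion.mpr ⟨⟨z, hz⟩, hzN ⟨z, hz⟩⟩
  let σ := σ₀.biUnion fun z ↦ s z.1
  choose! O' hO'1 hO'2 using fun z (hz : z ∈ σ₀) ↦ hN z σ (Finset.subset_biUnion_of_mem (fun z : F ↦ s z.1) hz)
  let φ := AffineSpace.homOfVector gW (w σ).2
  let Ψ := pullback.map f gW f (𝔸(ULift.{u} (Fin (w σ).1); S) ↘ S) (𝟙 X) φ (𝟙 S) (by simp) (by simp [φ])
  let G : Set ↥(pullback f (𝔸(ULift.{u} (Fin (w σ).1); S) ↘ S)) := ⋃ z ∈ σ₀, (O' z : Set _)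
  have hG : IsOpen G := isOpen_biUnion fun z _ ↦ (O' z).2
  have hsq : IsPullback Ψ p₂ (pullback.snd f (𝔸(ULift.{u} (Fin (w σ).1); S) ↘ S)) φ := by
    refine IsPullback.of_right ?_ (pullback.lift_snd _ _ _)
      (IsPullback.of_hasPullback f (𝔸(ULift.{u} (Fin (w σ).1); S) ↘ S))
    rw [pullback.lift_fst, Category.comp_id, AffineSpace.homOfVector_over]
    exact IsPullback.of_hasPullback f gW
  refine ⟨_, (w σ).2, G, hG, fun y hyt => ?_, fun z hzZ hzG => ?_⟩
  · obtain ⟨z, hz1, hz2⟩ := Scheme.exists_preimage_of_isPullback hsq y t hyt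
    obtain ⟨i, hi, hzi⟩ := Set.mem_iUnion₂.mp (hσ₀ (show z ∈ F from hz2))
    exact Set.mem_iUnion₂.mpr ⟨i, hi, hz1 ▸ hO'1 i hi z hzi⟩
  · obtain ⟨i, hi, hzi⟩ := Set.mem_iUnion₂.mp hzG
    exact hO'2 i hi z hzi hzZ

theorem exists_affine_lfp {X T : Scheme.{u}} (f : X ⟶ S) [QuasiCompact f] (g : T ⟶ S) (t : T)
    (Z : Set ↥(pullback f g)) (hZ : IsClosed Z) (hZt : ∀ z ∈ Z, (pullback.snd f g).base z ≠ t) :
    ∃ (V : T.Opens) (ht : t ∈ V) (T' : Scheme.{u}) (b : T' ⟶ S) (a : (V : Scheme.{u}) ⟶ T')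
      (n : pullback f (V.ι ≫ g) ⟶ pullback f g) (m : pullback f (V.ι ≫ g) ⟶ pullback f b)
      (Z' : Set ↥(pullback f b)),
      IsAffineOpen V ∧ IsAffine T' ∧ LocallyOfFinitePresentation b ∧ a ≫ b = V.ι ≫ g ∧
      n ≫ pullback.fst f g = pullback.fst f (V.ι ≫ g) ∧ n ≫ pullback.snd f g = pullback.snd f (V.ι ≫ g) ≫ V.ι ∧
      m ≫ pullback.fst f b = pullback.fst f (V.ι ≫ g) ∧ m ≫ pullback.snd f b = pullback.snd f (V.ι ≫ g) ≫ a ∧
      IsClosed Z' ∧ (∀ z' ∈ Z', (pullback.snd f b).base z' ≠ a.base ⟨t, ht⟩) ∧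
      ∀ z : ↥(pullback f (V.ι ≫ g)), n.base z ∈ Z → m.base z ∈ Z' := by
  obtain ⟨_, ⟨(V : S.Opens), hV, rfl⟩, hsV, -⟩ :=
    S.isBasis_affineOpens.exists_subset_of_mem_open (Set.mem_univ (g.base t)) isOpen_univ
  obtain ⟨_, ⟨(W : T.Opens), hW, rfl⟩, htW, hWV⟩ :=
    T.isBasis_affineOpens.exists_subset_of_mem_open (show t ∈ g ⁻¹ᵁ V from hsV) (g ⁻¹ᵁ V).2
  haveI : IsAffine V.toScheme := hV
  haveI : IsAffine W.toScheme := hW
  let b₀ := g.resLE V W hWV
  have hb₀ : b₀ ≫ V.ι = W.ι ≫ g := Scheme.Hom.resLE_comp_ι g hWV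
  let n₀ := pullback.map f (b₀ ≫ V.ι) f g (𝟙 X) W.ι (𝟙 S) (by simp) (by simp [hb₀])
  obtain ⟨k, v, G, hG, hfib, hsep⟩ := exists_open_separating f V hV b₀ (n₀.base ⁻¹' Z)
    (hZ.preimage n₀.continuous) ⟨t, htW⟩ fun z hz he => by
      refine hZt _ hz ?_
      rw [← Scheme.Hom.comp_apply, pullback.lift_snd, Scheme.Hom.comp_apply, he]
      rfl
  let b : 𝔸(ULift.{u} (Fin k); V.toScheme) ⟶ S := (𝔸(ULift.{u} (Fin k); V.toScheme) ↘ V.toScheme) ≫ V.ι
  let a := AffineSpace.homOfVector (n := ULift.{u} (Fin k)) b₀ v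
  have hab : a ≫ b = W.ι ≫ g := by
    rw [← hb₀]; exact (AffineSpace.homOfVector_over_assoc b₀ v _)
  let M := pullback.map f b f (𝔸(ULift.{u} (Fin k); S) ↘ S) (𝟙 X) (AffineSpace.map _ V.ι) (𝟙 S)
    (by simp) (by simp [b])
  let m := pullback.map f (W.ι ≫ g) f b (𝟙 X) a (𝟙 S) (by simp) (by simp [hab])
  let e := pullback.map f (W.ι ≫ g) f (b₀ ≫ V.ι) (𝟙 X) (𝟙 _) (𝟙 S) (by simp) (by simp [hb₀])
  let n := pullback.map f (W.ι ≫ g) f g (𝟙 X) W.ι (𝟙 S) (by simp) (by simp)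
  have hv : a ≫ AffineSpace.map _ V.ι = AffineSpace.homOfVector (b₀ ≫ V.ι) v := by
    apply AffineSpace.hom_ext
    · rw [Category.assoc, AffineSpace.map_over, AffineSpace.homOfVector_over_assoc,
        AffineSpace.homOfVector_over]
    · intro i
      rw [Scheme.Hom.comp_appTop, CommRingCat.comp_apply, AffineSpace.map_appTop_coord,
        AffineSpace.homOfVector_appTop_coord, AffineSpace.homOfVector_appTop_coord]
  refine ⟨W, htW, _, b, a, n, m, (M.base ⁻¹' G)ᶜ, hW, inferInstance, ?_, hab, ?_, ?_, ?_, ?_,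
    (hG.preimage M.continuous).isClosed_compl, ?_, ?_⟩
  · haveI : LocallyOfFinitePresentation (𝔸(ULift.{u} (Fin k); V.toScheme) ↘ V.toScheme) := inferInstance
    infer_instance
  · exact (pullback.lift_fst _ _ _).trans (Category.comp_id _)
  · exact pullback.lift_snd _ _ _
  · exact (pullback.lift_fst _ _ _).trans (Category.comp_id _)
  · exact pullback.lift_snd _ _ _
  · intro z' hz' he
    refine hz' (hfib _ ?_)
    rw [← Scheme.Hom.comp_apply, pullback.lift_snd, Scheme.Hom.comp_apply, he, ← Scheme.Hom.comp_apply, hv]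
  · intro z hz hzG
    have h1 : e ≫ n₀ = n := by
      apply pullback.hom_ext <;> simp only [e, n₀, n, pullback.map, Category.assoc, pullback.lift_fst, pullback.lift_fst_assoc, pullback.lift_snd, pullback.lift_snd_assoc, Category.comp_id, Category.id_comp]
    refine hsep (e.base z) ?_ ?_
    · show n₀.base (e.base z) ∈ Z
      rw [← Scheme.Hom.comp_apply, h1]; exact hz
    · have h2 : e ≫ pullback.map f (b₀ ≫ V.ι) f (𝔸(ULift.{u} (Fin k); S) ↘ S) (𝟙 X)
          (AffineSpace.homOfVector (b₀ ≫ V.ι) v) (𝟙 S) (by simp) (by simp) = m ≫ M := by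
        apply pullback.hom_ext <;> simp only [e, m, M, hv, pullback.map, Category.assoc, pullback.lift_fst, pullback.lift_fst_assoc, pullback.lift_snd, pullback.lift_snd_assoc, Category.comp_id, Category.id_comp]
      rw [← Scheme.Hom.comp_apply, h2, Scheme.Hom.comp_apply]
      exact hzG

end RLpsi8.FibreAvoid
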