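import Groth.Prelude.Def_BlowUp2
import Groth.Agent.Lib.BlowUp.EffCartier
import Groth.Agent.Lib.RelReg.Stalk
import Groth.Agent.Lib.FibreFlat.Stalk
import Mathlib.RingTheory.DiscreteValuationRing.TFAE
import Mathlib.AlgebraicGeometry.Fiber

/-!
# The fibre along a section cut out by one nonzerodivisor
-/

set_option autoImplicit false

universe u

open CategoryTheory CategoryTheory.Limits AlgebraicGeometry IsLocalRing

namespace RLpsi8.FibreDVR

/-- A Noetherian local ring with principal, non-nilpotent maximal ideal is a DVR. -/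
theorem dvr_of_maximalIdeal_span {B : Type u} [CommRing B] [IsNoetherianRing B] [IsLocalRing B]
    (π : B) (hm : maximalIdeal B = Ideal.span {π}) (hnil : ∀ n : ℕ, π ^ n ≠ 0) :
    ∃ _ : IsDomain B, IsDiscreteValuationRing B := by
  classical
  have hfac : ∀ b : B, b ≠ 0 → ∃ (n : ℕ) (v : B), IsUnit v ∧ b = v * π ^ n := by
    intro b hb
    have hex : ∃ k, b ∉ maximalIdeal B ^ k := by
      by_contra h
      push Not at h
      refine hb ?_
      have hb' : b ∈ ⨅ k, maximalIdeal B ^ k := Ideal.mem_iInf.2 h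
      rw [Ideal.iInf_pow_eq_bot_of_isLocalRing _ (maximalIdeal.isMaximal B).ne_top] at hb'
      exact Ideal.mem_bot.1 hb'
    obtain ⟨k, hk⟩ : ∃ k, Nat.find hex = k + 1 :=
      Nat.exists_eq_succ_of_ne_zero fun h0 => by
        have := Nat.find_spec hex
        simp [h0] at this
    have hmem : b ∈ maximalIdeal B ^ k := by
      by_contra h
      have := Nat.find_min' hex h
      omega
    have hnot : b ∉ maximalIdeal B ^ (k + 1) := hk ▸ Nat.find_spec hex
    rw [hm, Ideal.span_singleton_pow, Ideal.mem_span_singleton] at hmem hnot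
    obtain ⟨v, rfl⟩ := hmem
    refine ⟨k, v, ?_, mul_comm _ _⟩
    by_contra hv
    refine hnot ?_
    have : v ∈ maximalIdeal B := hv
    rw [hm, Ideal.mem_span_singleton] at this
    obtain ⟨w, rfl⟩ := this
    exact ⟨w, by ring⟩
  have hdom : NoZeroDivisors B := ⟨fun {a b} hab => by
    by_contra h
    push Not at h
    obtain ⟨n, v, hv, rfl⟩ := hfac a h.1
    obtain ⟨m, w, hw, rfl⟩ := hfac b h.2
    refine hnil (n + m) ((hv.mul hw).mul_right_eq_zero.1 ?_)
    rw [pow_add, ← hab]; ring⟩
  haveI : IsDomain B := NoZeroDivisors.to_isDomain B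
  refine ⟨inferInstance, ?_⟩
  have hπ : π ∈ maximalIdeal B := hm ▸ Ideal.mem_span_singleton_self π
  have hnf : ¬ IsField B := fun hF => by
    have h0 : maximalIdeal B = ⊥ := IsLocalRing.isField_iff_maximalIdeal_eq.1 hF
    rw [h0, Ideal.mem_bot] at hπ
    exact hnil 1 (by simpa using hπ)
  refine ((IsDiscreteValuationRing.TFAE B hnf).out 0 4).2 ?_
  exact ⟨⟨π, hm⟩⟩

variable {R A : Type u} [CommRing R] [CommRing A] [IsLocalRing R] [IsLocalRing A]

/-- Ring form: the closed fibre of a split extension with principal regular kernel. -/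
theorem dvr_fibre {T B : Type u} [CommRing T] [CommRing B] [IsLocalRing B] [IsNoetherianRing B]
    (φ : R →+* A) (ψ : A →+* T) (hiso : Function.Bijective (ψ.comp φ)) [IsLocalHom φ] [Nontrivial T]
    (t : A) (hker : RingHom.ker ψ = Ideal.span {t}) (ht : t ∈ nonZeroDivisors A)
    (q : A →+* B) (hq : Function.Surjective q) (hqk : RingHom.ker q = (maximalIdeal R).map φ) :
    ∃ _ : IsDomain B, IsDiscreteValuationRing B := by
  have htmem : t ∈ RingHom.ker ψ := hker ▸ Ideal.mem_span_singleton_self t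
  have hdec : ∀ a : A, ∃ (r : R) (a' : A), a = φ r + t * a' := by
    intro a
    obtain ⟨r, hr⟩ := hiso.2 (ψ a)
    have : a - φ r ∈ RingHom.ker ψ := by
      rw [RingHom.mem_ker, map_sub, ← hr, RingHom.comp_apply, sub_self]
    rw [hker, Ideal.mem_span_singleton] at this
    obtain ⟨a', ha'⟩ := this
    exact ⟨r, a', by linear_combination ha'⟩
  have htmax : t ∈ maximalIdeal A := by
    intro hu
    exact (hu.map ψ).ne_zero (RingHom.mem_ker.1 htmem)
  let J : Ideal A := (maximalIdeal R).map φ
  have hJ : ∀ x ∈ J, ∃ r ∈ maximalIdeal R, ∃ a' ∈ J, x = φ r + t * a' := by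
    intro x hx
    refine Submodule.span_induction ?_ ⟨0, zero_mem _, 0, zero_mem _, by simp⟩ ?_ ?_ hx
    · rintro _ ⟨r, hr, rfl⟩
      exact ⟨r, hr, 0, zero_mem _, by simp⟩
    · rintro x y - - ⟨r, hr, a, ha, rfl⟩ ⟨s, hs, b, hb, rfl⟩
      exact ⟨r + s, add_mem hr hs, a + b, add_mem ha hb, by rw [map_add]; ring⟩
    · rintro c x - ⟨r, hr, a, ha, rfl⟩
      obtain ⟨s, c', rfl⟩ := hdec c
      refine ⟨s * r, Ideal.mul_mem_left _ _ hr, φ r * c' + φ s * a + t * c' * a, ?_, ?_⟩
      · exact add_mem (add_mem (Ideal.mul_mem_right _ _ (Ideal.mem_map_of_mem φ hr))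
          (Ideal.mul_mem_left _ _ ha)) (Ideal.mul_mem_left _ _ ha)
      · rw [smul_eq_mul, map_mul]; ring
  have hdiv : ∀ u : A, t * u ∈ J → u ∈ J := by
    intro u hu
    obtain ⟨r, -, a', ha', he⟩ := hJ _ hu
    have h0 : ψ (φ r) = 0 := by
      have h1 := congrArg ψ he
      rw [map_add, map_mul, map_mul, RingHom.mem_ker.1 htmem] at h1
      simpa using h1.symm
    have hr0 : r = 0 := hiso.1 (by rw [RingHom.comp_apply, h0, map_zero])
    rw [hr0, map_zero, zero_add] at he
    rwa [(mul_cancel_left_mem_nonZeroDivisors ht).1 he]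
  have hJne : (1 : A) ∉ J := fun h1 => by
    obtain ⟨r, hr, a', -, he⟩ := hJ 1 h1
    have hu : IsUnit (φ r + t * a') := he ▸ isUnit_one
    have h1 : φ r ∈ maximalIdeal A := map_nonunit φ r hr
    exact add_mem h1 (Ideal.mul_mem_right _ _ htmax) hu
  refine dvr_of_maximalIdeal_span (q t) ?_ ?_
  · apply le_antisymm
    · intro b hb
      obtain ⟨a, rfl⟩ := hq b
      obtain ⟨r, a', rfl⟩ := hdec a
      have hr : r ∈ maximalIdeal R := by
        by_contra hr
        have hur : IsUnit r := not_not.1 hr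
        refine hb (IsUnit.map q ?_)
        by_contra h
        have h2 : φ r ∈ maximalIdeal A := by
          have h3 : φ r + t * a' ∈ maximalIdeal A := h
          have h4 := sub_mem h3 (Ideal.mul_mem_right a' _ htmax)
          rwa [add_sub_cancel_right] at h4
        exact h2 (hur.map φ)
      have h0 : q (φ r) = 0 := RingHom.mem_ker.1 (hqk ▸ Ideal.mem_map_of_mem φ hr)
      rw [map_add, map_mul, h0, zero_add]
      exact Ideal.mul_mem_right _ _ (Ideal.mem_span_singleton_self _)
    · rw [Ideal.span_le, Set.singleton_subset_iff]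
      intro hu
      obtain ⟨w, hw⟩ := hu.exists_right_inv
      obtain ⟨a, rfl⟩ := hq w
      have h1 : t * a - 1 ∈ J := by
        show t * a - 1 ∈ (maximalIdeal R).map φ
        rw [← hqk, RingHom.mem_ker, map_sub, map_mul, map_one, hw, sub_self]
      obtain ⟨r, hr, a', -, he⟩ := hJ _ h1
      have h2 : (1 : A) = t * a - (φ r + t * a') := by linear_combination -he
      have h3 : (1 : A) ∈ maximalIdeal A := by
        rw [h2]
        exact sub_mem (Ideal.mul_mem_right _ _ htmax)
          (add_mem (map_nonunit φ r hr) (Ideal.mul_mem_right _ _ htmax))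
      exact h3 isUnit_one
  · intro n hn
    rw [← map_pow, ← RingHom.mem_ker, hqk] at hn
    clear hdec htmax hJ
    induction n with
    | zero => exact hJne (by simpa using hn)
    | succ n ih => exact ih (hdiv _ (by rwa [← pow_succ']))

/-- Scheme form. -/
theorem dvr_stalk_fiber {X V : Scheme.{u}} (π : V ⟶ X) [LocallyOfFiniteType π]
    (j : X ⟶ V) [IsClosedImmersion j] (hj : j ≫ π = 𝟙 X) (hJ : _root_.BlowUp.IsEffCartierIdeal j.ker)
    (x : X) :
    ∃ _ : IsDomain ((π.fiber (π.base (j.base x))).presheaf.stalk (π.asFiber (j.base x))),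
      IsDiscreteValuationRing ((π.fiber (π.base (j.base x))).presheaf.stalk (π.asFiber (j.base x))) := by
  obtain ⟨U, hU, f, hf, hI⟩ := hJ (j x)
  have hci : IsClosedImmersion (j ∣_ U.1) :=
    IsZariskiLocalAtTarget.restrict (P := @IsClosedImmersion) ‹_› _
  have hker : RingHom.ker (j.stalkMap x).hom =
      Ideal.span {(V.presheaf.germ U.1 (j x) hU).hom f} := by
    rw [GrothLib.RelReg.ker_stalkMap_eq_map j U.2 hci x hU, ← Scheme.Hom.ker_apply j U, hI,
      Ideal.map_span, Set.image_singleton]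
  have ht : (V.presheaf.germ U.1 (j x) hU).hom f ∈ nonZeroDivisors _ :=
    GrothLib.BlowUp.mem_nonZeroDivisors_of_flat _ (GrothLib.RelReg.flat_germ U.2 hU) hf
  have hiso : IsIso ((j ≫ π).stalkMap x) := by
    rw [hj]; infer_instance
  rw [Scheme.Hom.stalkMap_comp] at hiso
  haveI : IsLocallyNoetherian (π.fiber (π (j x))) :=
    haveI : LocallyOfFiniteType (π.fiberToSpecResidueField (π (j x))) :=
      MorphismProperty.pullback_snd _ _ inferInstance
    LocallyOfFiniteType.isLocallyNoetherian (π.fiberToSpecResidueField (π (j x)))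
  obtain ⟨hsurj, hqk⟩ := GrothLib.FibreFlat.fiberι_stalkMap' π (π (j x)) (π.asFiber (j x)) (j x)
    (π.fiberι_asFiber (j x))
  exact dvr_fibre (π.stalkMap (j x)).hom (j.stalkMap x).hom
    (@ConcreteCategory.bijective_of_isIso _ _ _ _ _ _ _ _ _ hiso) _ hker ht _ hsurj hqk

end RLpsi8.FibreDVR
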