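import Groth.Agent.Lib.FrameFib8.Basic
import Groth.Agent.Lib.FinCov.FrameFree
universe u
open CategoryTheory CategoryTheory.Limits AlgebraicGeometry TopologicalSpace Opposite
set_option backward.isDefEq.respectTransparency false
namespace RLpsi8
open GrothLib

theorem exists_free_nhd_of_finite (Y : Scheme.{u}) (r : ℕ) (E : Y.Modules) (hE : FlatMod.IsFinLocFreeOfRank r E)
    (Z : Set Y) (hZ : Z.Finite) (V : Y.Opens) (hV : IsAffineOpen V) (hZV : Z ⊆ V) :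
    ∃ U : Y.Opens, Z ⊆ U ∧ U ≤ V ∧ Nonempty (E.restrict U.ι ≅ FlatMod.freeMod (U : Scheme.{u}) r) := by
  let S : Set Y := {a ∈ Z | ∀ b ∈ Z, a ⤳ b → a = b}
  obtain ⟨W, s, hSW, hs⟩ := FrameFib8.exists_frame_nhd_of_finite hE hV S (hZ.subset fun a ha => ha.1)
    (fun a ha => hZV ha.1) fun a ha b hb h => ha.2 b hb.1 h
  have hcl : ∀ z ∈ Z, ∃ a ∈ S, z ⤳ a := by
    intro z hz
    obtain ⟨a, ⟨haZ, hza⟩, hmin⟩ := Set.Finite.exists_minimalFor (fun a : Y => {c ∈ Z | a ⤳ c})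
      {a ∈ Z | z ⤳ a} (hZ.subset fun a ha => ha.1) ⟨z, hz, specializes_rfl⟩
    refine ⟨a, ⟨haZ, fun b hb hab => ?_⟩, hza⟩
    have h2 := hmin ⟨hb, hza.trans hab⟩ (fun c hc => ⟨hc.1, hab.trans hc.2⟩) (show a ∈ {c ∈ Z | a ⤳ c} from ⟨haZ, specializes_rfl⟩)
    exact (hab.antisymm h2.2).eq
  refine ⟨W ⊓ V, fun z hz => ⟨?_, hZV hz⟩, inf_le_right, ?_⟩
  · obtain ⟨a, ha, hza⟩ := hcl z hz
    exact hza.mem_open W.2 (hSW ha)
  · refine FinCov.exists_iso_of_frame (e := fun i => E.presheaf.map (homOfLE (inf_le_left : W ⊓ V ≤ W)).op (s i)) ?_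
    intro T hT
    convert hs T (hT.trans inf_le_left) using 4 with c
    rw [← ConcreteCategory.comp_apply, ← Functor.map_comp]
    rfl

end RLpsi8
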