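import Mathlib

set_option autoImplicit false
universe u
open DirectSum

namespace RLpsi8.GrComplete
variable {S : Type u} [CommRing S] (𝒜 : ℤ → AddSubgroup S) [GradedRing 𝒜]
  {M : Type u} [AddCommGroup M] [Module S M] (ℳ : ℤ → AddSubgroup M)
  [DirectSum.Decomposition ℳ] [SetLike.GradedSMul 𝒜 ℳ]

/-- degree component -/
noncomputable def pr (n : ℤ) : M →+ M :=
  AddMonoidHom.mk' (fun x => ((decompose ℳ x n : ℳ n) : M)) (by intro a b; simp)

noncomputable def prS (n : ℤ) : S →+ S :=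
  AddMonoidHom.mk' (fun x => ((decompose 𝒜 x n : 𝒜 n) : S)) (by intro a b; simp)

theorem pr_smul (n d : ℤ) (a : S) {x : M} (hx : x ∈ ℳ d) :
    pr ℳ n (a • x) = prS 𝒜 (n - d) a • x := by
  classical
  induction a using DirectSum.Decomposition.inductionOn 𝒜 with
  | zero => simp
  | homogeneous a =>
    rename_i i
    have hax : (a : S) • x ∈ ℳ (i + d) := SetLike.GradedSMul.smul_mem a.2 hx
    by_cases h : i + d = n
    · subst h
      have : i + d - d = i := by omega
      simp only [pr, prS, AddMonoidHom.mk'_apply]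
      rw [DirectSum.decompose_of_mem_same ℳ hax, this, DirectSum.decompose_of_mem_same 𝒜 a.2]
    · simp only [pr, prS, AddMonoidHom.mk'_apply]
      rw [DirectSum.decompose_of_mem_ne ℳ hax h,
        DirectSum.decompose_of_mem_ne 𝒜 a.2 (by omega), zero_smul]
  | add a b ha hb => simp [add_smul, ha, hb]

theorem smul_top_smul_mem {I : Ideal S} {a : S} (ha : a ∈ I) (x : M) :
    a • x ∈ I • (⊤ : Submodule S M) := Submodule.smul_mem_smul ha trivial

theorem main
    (V : ℕ → HomogeneousIdeal 𝒜)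
    (hsep : ∀ (n : ℤ) (s : S), s ∈ 𝒜 n → (∀ m, s ∈ (V m).toIdeal) → s = 0)
    (hcpl : ∀ (n : ℤ) (f : ℕ → S), (∀ m, f m ∈ 𝒜 n) →
      (∀ m, f (m + 1) - f m ∈ (V m).toIdeal) → ∃ s ∈ 𝒜 n, ∀ m, s - f m ∈ (V m).toIdeal)
    [Module.Finite S M] [Module.Projective S M] :
    (∀ (n : ℤ) (x : M), x ∈ ℳ n → (∀ m, x ∈ (V m).toIdeal • (⊤ : Submodule S M)) → x = 0) ∧
    (∀ (n : ℤ) (g : ℕ → M), (∀ m, g m ∈ ℳ n) →
      (∀ m, g (m + 1) - g m ∈ (V m).toIdeal • (⊤ : Submodule S M)) →
      ∃ x ∈ ℳ n, ∀ m, x - g m ∈ (V m).toIdeal • (⊤ : Submodule S M)) := by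
  classical
  obtain ⟨s, hs⟩ := (Module.Finite.fg_top : (⊤ : Submodule S M).FG)
  let T := s.biUnion fun x => (decompose ℳ x).support.image fun i => (i, ((decompose ℳ x i : ℳ i) : M))
  let ι := {p // p ∈ T}
  let d : ι → ℤ := fun p => p.1.1
  let g₀ : ι → M := fun p => p.1.2
  have hg₀ : ∀ p, g₀ p ∈ ℳ (d p) := by
    rintro ⟨p, hp⟩
    obtain ⟨x, -, hp⟩ := Finset.mem_biUnion.1 hp
    obtain ⟨i, -, rfl⟩ := Finset.mem_image.1 hp
    exact (decompose ℳ x i).2
  let π : (ι → S) →ₗ[S] M := Fintype.linearCombination S g₀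
  have hπ : Function.Surjective π := by
    rw [← LinearMap.range_eq_top, Fintype.range_linearCombination, eq_top_iff, ← hs, Submodule.span_le]
    intro x hx
    rw [SetLike.mem_coe, ← DirectSum.sum_support_decompose ℳ x]
    refine Submodule.sum_mem _ fun i hi => Submodule.subset_span ?_
    exact ⟨⟨(i, ((decompose ℳ x i : ℳ i) : M)),
      Finset.mem_biUnion.2 ⟨x, hx, Finset.mem_image.2 ⟨i, hi, rfl⟩⟩⟩, rfl⟩
  obtain ⟨σ, hσ⟩ := Module.projective_lifting_property π LinearMap.id hπ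
  -- coefficient extraction
  let c : ℤ → M → ι → S := fun n x i => prS 𝒜 (n - d i) (σ x i)
  have hc : ∀ (n : ℤ) (x : M), x ∈ ℳ n → x = ∑ i, c n x i • g₀ i := by
    intro n x hx
    have h1 : x = ∑ i, σ x i • g₀ i := (LinearMap.congr_fun hσ x).symm
    have h2 : pr ℳ n x = x := DirectSum.decompose_of_mem_same ℳ hx
    conv_lhs => rw [← h2, h1, map_sum]
    exact Finset.sum_congr rfl fun i _ => pr_smul 𝒜 ℳ n (d i) _ (hg₀ i)
  have hσI : ∀ (I : HomogeneousIdeal 𝒜) (x : M), x ∈ I.toIdeal • (⊤ : Submodule S M) →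
      ∀ n i, c n x i ∈ I.toIdeal := by
    intro I x hx n i
    have hxi : σ x i ∈ I.toIdeal := by
      induction hx using Submodule.smul_induction_on' with
      | smul a ha y _ => simpa [map_smul, smul_eq_mul] using I.toIdeal.mul_mem_right _ ha
      | add y _ z _ h1 h2 => simpa using I.toIdeal.add_mem h1 h2
    exact I.isHomogeneous _ hxi
  refine ⟨fun n x hx hm => ?_, fun n g hg hdiff => ?_⟩
  · rw [hc n x hx]
    refine Finset.sum_eq_zero fun i _ => ?_
    rw [hsep (n - d i) (c n x i) (decompose 𝒜 (σ x i) (n - d i)).2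
      fun m => hσI (V m) x (hm m) n i, zero_smul]
  · have hstep : ∀ i, ∃ s ∈ 𝒜 (n - d i), ∀ m, s - c n (g m) i ∈ (V m).toIdeal := by
      intro i
      refine hcpl (n - d i) (fun m => c n (g m) i) (fun m => (decompose 𝒜 (σ (g m) i) (n - d i)).2) ?_
      intro m
      have h := hσI (V m) _ (hdiff m) n i
      simpa only [c, map_sub, Pi.sub_apply] using h
    choose t ht htm using hstep
    refine ⟨∑ i, t i • g₀ i, ?_, fun m => ?_⟩
    · refine sum_mem fun i _ => ?_
      have := SetLike.GradedSMul.smul_mem (ht i) (hg₀ i)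
      simpa [vadd_eq_add] using this
    · rw [hc n (g m) (hg m), ← Finset.sum_sub_distrib]
      refine Submodule.sum_mem _ fun i _ => ?_
      rw [← sub_smul]
      exact smul_top_smul_mem (htm i m) _

end RLpsi8.GrComplete
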