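import Groth.Agent.Lib.RLpsi8.IdealTwist
import Groth.Agent.Lib.Ample.RelAmple
import Groth.Agent.Lib.Ample.FiniteGen
import Groth.Agent.Lib.OX.Stalk
import Groth.Agent.Lib.InvExt.FiniteFibre
import Groth.Agent.Lib.QCoh.Qcqs

/-!
# Ampleness from generated twisted ideals
-/

set_option autoImplicit false
set_option backward.isDefEq.respectTransparency false
set_option maxHeartbeats 400000

universe u

open CategoryTheory CategoryTheory.Limits AlgebraicGeometry TopologicalSpace Opposite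
open GrothLib.InvExt (mres fres IsGen)
open GrothLib.Ample (res Cocycle)
open GrothLib.VA (tm GenAt)

noncomputable section

namespace GrothLib.RLpsi8

variable {X Y : Scheme.{u}} (c : Cocycle X) {n : ℕ} {J M : X.Modules} (φ : J ⟶ Coh.structureModule X)
  (d : M ≅ c.twist n)

include d in
/-- An affine locus from sections spanning a twisted ideal. -/
theorem exists_affine_locus_of_spanned {x : X} {W : X.Opens} (hW : IsAffineOpen W)
    (hvan : ∀ y, y ∉ W → ∀ (O : X.Opens) (z : Γ(J, O)), y ∉ X.basicOpen (φ.app O z))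
    {O : X.Opens} (k : Γ(J, O)) (hx : x ∈ X.basicOpen (φ.app O k))
    {ι : Type*} (s : ι → Γ(CohB1.tensorMod J M, ⊤)) (hs : Ample.Spanned (CohB1.tensorMod J M) s) :
    ∃ a : c.sect n ⊤, x ∈ c.locus a ∧ IsAffineOpen (c.locus a) := by
  obtain ⟨i, hi⟩ := c.exists_mem x
  obtain ⟨b, hb⟩ := exists_mem_basicOpen_of_spanned c φ d s (fun O' m y hy _ => by
    obtain ⟨V, hV, hyV, hm⟩ := hs O' m y hy
    exact ⟨V, hV, le_top, hyV, hm⟩) (V := ⊤) trivial k hx hi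
  refine ⟨sectOf c φ d (s b), (c.mem_locus_iff _ hi).mpr hb,
    c.isAffineOpen_locus_of_le _ hW fun y hy => ?_⟩
  by_contra hyW
  obtain ⟨l, hl⟩ := c.exists_mem y
  exact not_mem_basicOpen c φ d (hvan y hyW) (s b) l ((c.mem_locus_iff _ hl).mp hy)

/-- Epimorphic counit: some section over the preimage of an affine open survives at a point. -/
theorem exists_genAt_of_epi_counit (f : X ⟶ Y) [QuasiCompact f] [QuasiSeparated f] {N L : X.Modules}
    [N.IsQuasicoherent] (hL : PicF.IsInvertible L) (ψ : N ⟶ L)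
    [Epi ((Scheme.Modules.pullbackPushforwardAdjunction f).counit.app N)]
    {x : X} (hx : ∃ (V : X.Opens) (t : Γ(N, V)), GenAt L (ψ.app V t) x)
    {U : Y.Opens} (hU : IsAffineOpen U) (hxU : f x ∈ U) :
    ∃ t : Γ(N, f ⁻¹ᵁ U), GenAt L (ψ.app (f ⁻¹ᵁ U) t) x := by
  by_contra hc
  simp only [not_exists] at hc
  let St := OX.stalkObj x (DCoh.toP.obj L)
  let K : ModuleCat.{u} (X.presheaf.stalk x) := ModuleCat.of _
    (St ⧸ ((IsLocalRing.maximalIdeal (X.presheaf.stalk x)) • (⊤ : Submodule (X.presheaf.stalk x) St)))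
  let π : L ⟶ OX.skyObj x K := ⟨OX.stalkHomEquiv x (DCoh.toP.obj L) K (ModuleCat.ofHom (Submodule.mkQ _))⟩
  have hπ : ∀ (V : X.Opens) (hV : x ∈ V) (m : Γ(L, V)),
      (π.app V m : OX.SkySec x K (op V)) ⟨hV⟩ = Submodule.Quotient.mk (OX.germ (DCoh.toP.obj L) V hV m) :=
    fun V hV m => rfl
  obtain ⟨V, t₀, hgen⟩ := hx
  obtain ⟨T, hTV, hxT, hε⟩ := hgen
  have hzero : ∀ (hxU : x ∈ f ⁻¹ᵁ U) (t : Γ(N, f ⁻¹ᵁ U)),
      OX.germ (DCoh.toP.obj L) (f ⁻¹ᵁ U) hxU (ψ.app _ t) ∈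
        (IsLocalRing.maximalIdeal (X.presheaf.stalk x)) • (⊤ : Submodule (X.presheaf.stalk x) St) := by
    intro hxU t
    let I := f ⁻¹ᵁ U ⊓ T
    obtain ⟨r, hr⟩ := (hε.restrict (inf_le_right : I ≤ T)).exists_smul_eq le_rfl
      (mres L (inf_le_left : I ≤ f ⁻¹ᵁ U) (ψ.app _ t))
    rw [InvExt.mres_self] at hr
    have hn : x ∉ X.basicOpen r := fun h => hc t
      ((VA.genAt_iff_mem_basicOpen inf_le_left (hε.restrict inf_le_right) hr ⟨hxU, hxT⟩).mpr h)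
    rw [← OX.germ_map (DCoh.toP.obj L) (homOfLE (inf_le_left : I ≤ f ⁻¹ᵁ U)) ⟨hxU, hxT⟩ (ψ.app _ t)]
    refine (congrArg (OX.germ (DCoh.toP.obj L) I ⟨hxU, hxT⟩) hr).symm ▸ ?_
    refine (OX.germ_smul' (DCoh.toP.obj L) I ⟨hxU, hxT⟩ r _).symm ▸ ?_
    refine Submodule.smul_mem_smul ?_ trivial
    rw [IsLocalRing.mem_maximalIdeal]
    exact fun hu => hn ((X.mem_basicOpen r x ⟨hxU, hxT⟩).mpr hu)
  have h0 : (Scheme.Modules.pushforward f).map ψ ≫ (Scheme.Modules.pushforward f).map π = 0 := by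
    refine Scheme.Modules.hom_ext _ _ fun O => ConcreteCategory.hom_ext _ _ fun m => funext fun hxO => ?_
    obtain ⟨D, hD, hxD⟩ := hU.exists_basicOpen_le (V := O) ⟨f x, hxO.down⟩ hxU
    let g := f.app U D
    have hDU : X.basicOpen g = f ⁻¹ᵁ Y.basicOpen D := (f.preimage_basicOpen D).symm
    have hgO : X.basicOpen g ≤ f ⁻¹ᵁ O := hDU ▸ f.preimage_mono hD
    obtain ⟨k, t, ht⟩ := QCoh.smulLift_of_isCompact N (f.isCompact_preimage hU.isCompact)
      (f.isQuasiSeparated_preimage hU.isQuasiSeparated) g (mres N hgO (show Γ(N, f ⁻¹ᵁ O) from m))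
    show (π.app (f ⁻¹ᵁ O) (ψ.app (f ⁻¹ᵁ O) m) : OX.SkySec x K (op (f ⁻¹ᵁ O))) ⟨hxO.down⟩ = 0
    have hxg : x ∈ X.basicOpen g := hDU ▸ hxD
    rw [hπ, ← OX.germ_map (DCoh.toP.obj L) (homOfLE hgO) hxg, Submodule.Quotient.mk_eq_zero]
    have hnat : mres L hgO (ψ.app (f ⁻¹ᵁ O) m) = ψ.app (X.basicOpen g) (mres N hgO m) :=
      (Ample.app_mres ψ hgO m).symm
    refine (congrArg (OX.germ (DCoh.toP.obj L) (X.basicOpen g) hxg) hnat).symm ▸ ?_
    have h2 := hzero hxU t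
    rw [← OX.germ_map (DCoh.toP.obj L) (homOfLE (X.basicOpen_le g)) hxg] at h2
    have ht' : mres L (X.basicOpen_le g) (ψ.app (f ⁻¹ᵁ U) t) =
        fres X (X.basicOpen_le g) g ^ k • ψ.app (X.basicOpen g) (mres N hgO m) := by
      rw [← Ample.app_mres, ← Ample.app_smul]
      exact congrArg (ψ.app _) ht
    have h3 : OX.germ (DCoh.toP.obj L) (X.basicOpen g) hxg
        (fres X (X.basicOpen_le g) g ^ k • ψ.app (X.basicOpen g) (mres N hgO m)) ∈
          (IsLocalRing.maximalIdeal (X.presheaf.stalk x)) • (⊤ : Submodule (X.presheaf.stalk x) St) := ht' ▸ h2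
    rw [OX.germ_smul'] at h3
    refine (Submodule.smul_mem_iff_of_isUnit _ ?_).mp h3
    rw [map_pow]
    refine IsUnit.pow k ?_
    show IsUnit (X.presheaf.germ (X.basicOpen g) x hxg (X.presheaf.map (homOfLE (X.basicOpen_le g)).op g))
    rw [TopCat.Presheaf.germ_res_apply]
    exact (X.mem_basicOpen g x hxU).mp hxg
  have hnat := (Scheme.Modules.pullbackPushforwardAdjunction f).counit_naturality (ψ ≫ π)
  rw [Functor.map_comp, h0, Functor.map_zero, zero_comp] at hnat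
  have h1 : ψ ≫ π = 0 := zero_of_epi_comp _ hnat.symm
  have h3 : OX.germ (DCoh.toP.obj L) T hxT (mres L hTV (ψ.app V t₀)) ∈
      (IsLocalRing.maximalIdeal (X.presheaf.stalk x)) • (⊤ : Submodule (X.presheaf.stalk x) St) := by
    rw [← Submodule.Quotient.mk_eq_zero, ← hπ T hxT, ← Ample.app_mres]
    show ((ψ ≫ π).app T (mres N hTV t₀) : OX.SkySec x K (op T)) ⟨hxT⟩ = 0
    rw [h1]
    rfl
  let ε := mres L hTV (ψ.app V t₀)
  have hspan : (⊤ : Submodule (X.presheaf.stalk x) St) ≤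
      Submodule.span (X.presheaf.stalk x) {OX.germ (DCoh.toP.obj L) T hxT ε} := by
    intro z _
    obtain ⟨W, hxW, m, rfl⟩ := OX.germ_exists (DCoh.toP.obj L) z
    obtain ⟨r, hrm⟩ := hε.exists_smul_eq (inf_le_right : W ⊓ T ≤ T) (mres L (inf_le_left : W ⊓ T ≤ W) m)
    rw [← OX.germ_map (DCoh.toP.obj L) (homOfLE (inf_le_left : W ⊓ T ≤ W)) ⟨hxW, hxT⟩ m]
    refine (congrArg (OX.germ (DCoh.toP.obj L) (W ⊓ T) ⟨hxW, hxT⟩) hrm).symm ▸ ?_
    refine (OX.germ_smul' (DCoh.toP.obj L) (W ⊓ T) ⟨hxW, hxT⟩ r _).symm ▸ ?_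
    refine Submodule.smul_mem _ _ (Submodule.mem_span_singleton.mpr ⟨1, ?_⟩)
    rw [one_smul]
    exact (OX.germ_map (DCoh.toP.obj L) (homOfLE (inf_le_right : W ⊓ T ≤ T)) ⟨hxW, hxT⟩ ε).symm
  obtain ⟨r, hr, hre⟩ := Submodule.mem_smul_span_singleton.mp (Submodule.smul_mono le_rfl hspan h3)
  obtain ⟨w, hw⟩ := IsLocalRing.isUnit_one_sub_self_of_mem_nonunits r hr
  have h4 : OX.germ (DCoh.toP.obj L) T hxT ε = 0 := by
    refine (IsUnit.smul_eq_zero ⟨w, rfl⟩).mp ?_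
    rw [hw, sub_smul, one_smul, hre, sub_self]
  obtain ⟨W, hxW, i₁, i₂, hW⟩ := TopCat.Presheaf.germ_eq (OX.prs (DCoh.toP.obj L)) x hxT hxT ε 0
    (by exact h4.trans (map_zero _).symm)
  have h5 : (1 : Γ(X, W)) = 0 := hε.smul_left_injective i₁.le (by
    rw [one_smul, zero_smul]
    exact hW.trans (map_zero _))
  exact one_ne_zero (α := X.presheaf.stalk x) (by
    rw [← map_one (X.presheaf.germ W x hxW).hom, ← map_zero (X.presheaf.germ W x hxW).hom, h5])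

include d in
/-- An affine locus over the preimage of an affine open, from an epimorphic counit. -/
theorem exists_affine_locus_preimage (f : X ⟶ Y) [QuasiCompact f] [QuasiSeparated f] (hJ : Coh.IsQCoh J)
    [Epi ((Scheme.Modules.pullbackPushforwardAdjunction f).counit.app (CohB1.tensorMod J M))]
    {U : Y.Opens} (hU : IsAffineOpen U) {W : X.Opens} (hW : IsAffineOpen W) (hWU : W ≤ f ⁻¹ᵁ U)
    (hvan : ∀ y, y ∉ W → ∀ (O : X.Opens) (z : Γ(J, O)), y ∉ X.basicOpen (φ.app O z))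
    (p : (f ⁻¹ᵁ U : X.Opens)) {O : X.Opens} (k : Γ(J, O)) (hx : p.1 ∈ X.basicOpen (φ.app O k)) :
    ∃ a : (c.comap (f ⁻¹ᵁ U).ι).sect n ⊤,
      p ∈ (c.comap (f ⁻¹ᵁ U).ι).locus a ∧ IsAffineOpen ((c.comap (f ⁻¹ᵁ U).ι).locus a) := by
  haveI : (CohB1.tensorMod J M).IsQuasicoherent := by
    refine VA.isQCoh_tensor hJ ?_
    exact InvExt.isQuasicoherent_of_isInvertible (c.isInvertible_of_iso d)
  obtain ⟨t, ht⟩ := exists_genAt_of_epi_counit f (c.isInvertible_twist n) (toTwist c φ d)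
    (genAt_toTwist c φ d k hx) hU p.2
  let j := (f ⁻¹ᵁ U).ι
  let V := f ⁻¹ᵁ U
  let a := c.pullSect j (le_of_eq V.ι_preimage_self.symm : (⊤ : Opens (V : Scheme.{u})) ≤ j ⁻¹ᵁ V) (sectOf c φ d t)
  have hmem : ∀ (y : (V : Scheme.{u})) (i : c.ι), j y ∈ c.D i →
      (y ∈ (c.comap j).locus a ↔ j y ∈ X.basicOpen ((sectOf c φ d t).1 i)) := by
    intro y i hy
    rw [(c.comap j).mem_locus_iff a (i := i) hy]
    show y ∈ Scheme.basicOpen _ ((j.appLE _ _ _).hom ((sectOf c φ d t).1 i)) ↔ _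
    rw [Scheme.basicOpen_appLE]
    exact ⟨fun h => h.2, fun h => ⟨⟨trivial, hy⟩, h⟩⟩
  refine ⟨a, ?_, (c.comap j).isAffineOpen_locus_of_le a (hW.preimage_of_isOpenImmersion j (by
    rw [Scheme.Opens.opensRange_ι]; exact hWU)) fun y hy => ?_⟩
  · obtain ⟨i, hi⟩ := c.exists_mem p.1
    exact (hmem p i hi).mpr (mem_basicOpen_of_genAt c φ d (show p.1 ∈ f ⁻¹ᵁ U from p.2) t ht hi)
  · by_contra hyW
    obtain ⟨i, hi⟩ := c.exists_mem (j y)
    exact not_mem_basicOpen c φ d (hvan _ hyW) t i ((hmem y i hi).mp hy)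

end GrothLib.RLpsi8
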