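import Groth.Agent.Lib.RLpsi8.ImmersionComp
import Groth.Agent.Lib.RLpsi8.Colimit
import Mathlib.AlgebraicGeometry.Morphisms.FiniteType

/-!
# Immersions and filtered colimits of graded algebras
-/

set_option autoImplicit false
set_option backward.isDefEq.respectTransparency false
set_option maxHeartbeats 400000

universe u

open CategoryTheory CategoryTheory.Limits AlgebraicGeometry TopologicalSpace Opposite
open GrothLib.RelProjK (dg rs em mem_opensRange_em)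
open GrothLib.RelCone8 (Pair gu Gu IsQ)

noncomputable section

namespace GrothLib.RLpsi8

variable {Y X P PL : Scheme.{u}} {q : X ⟶ Y} {L : X.Modules} {𝒮 : RelProj.QCGrAlg Y} {𝒮L : RelProj.QCGrAlg X}
  {j : L ⟶ 𝒮L.toModule} (hL : PicF.IsInvertible L) (hLq : Coh.IsQCoh L) (hj : RelProj.IsGrSymAlg L 𝒮L j)
  (u : RelProj.QGrHom q 𝒮 𝒮L)
  {p : P ⟶ Y} {chart : ∀ (U : Y.Opens) (hU : IsAffineOpen U), (((p ⁻¹ᵁ U : P.Opens) : Scheme.{u}) ≅ Proj (𝒮.deg U hU))}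
  {pL : PL ⟶ X}
  {chartL : ∀ (U : X.Opens) (hU : IsAffineOpen U), (((pL ⁻¹ᵁ U : PL.Opens) : Scheme.{u}) ≅ Proj (𝒮L.deg U hU))}
  (hP : RelProj.IsRelProj 𝒮 p chart) (hPL : RelProj.IsRelProj 𝒮L pL chartL)

/-- Goodness may be tested on algebra generators. -/
theorem good_of_generators {U : Y.AffineZariskiSite} {n : ℕ} {s : 𝒮.presheaf.obj (op U.1)} (hs : s ∈ dg 𝒮 U n)
    (hW : IsAffineOpen (XS u U n s)) (G : Set Γ(X, XS u U n s))
    (hG : ∀ b ∈ G, ∃ (m : ℕ) (_ : 0 < m) (a : 𝒮.presheaf.obj (op U.1)) (_ : a ∈ 𝒮.deg U.1 U.2 (m * n)),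
      (𝒮L.str.app (op (XS u U n s))).hom b * (u.appLE U.1 (XS u U n s) (XS_le u U n s)).hom s ^ m =
        (u.appLE U.1 (XS u U n s) (XS_le u U n s)).hom a)
    (hgen : Subring.closure (Set.range (q.appLE U.1 (XS u U n s) (XS_le u U n s)).hom ∪ G) = ⊤) :
    IsGood u U n s := by
  refine ⟨hW, fun b => ?_⟩
  have hb : b ∈ Subring.closure (Set.range (q.appLE U.1 (XS u U n s) (XS_le u U n s)).hom ∪ G) := by
    rw [hgen]; trivial
  induction hb using Subring.closure_induction with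
  | mem b hb =>
    rcases hb with ⟨c, rfl⟩ | hb
    · refine ⟨1, one_pos, (𝒮.str.app (op U.1)).hom c * s, ?_, ?_⟩
      · rw [one_mul, ← Nat.zero_add n]
        exact SetLike.mul_mem_graded (A := dg 𝒮 U) (𝒮.str_mem U.1 U.2 c) hs
      · rw [map_mul, pow_one]
        exact congrArg (· * _) (ConcreteCategory.congr_hom (u.str_appLE U.1 _ (XS_le u U n s)) c).symm
    · exact hG b hb
  | zero => exact ⟨1, one_pos, 0, zero_mem _, by simp⟩
  | one => exact ⟨1, one_pos, s, by rwa [one_mul], by simp⟩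
  | add x y _ _ hx hy =>
    obtain ⟨m, hm, a, ha, e⟩ := hx
    obtain ⟨m', hm', a', ha', e'⟩ := hy
    refine ⟨m + m', Nat.add_pos_left hm _, a * s ^ m' + a' * s ^ m, add_mem ?_ ?_, ?_⟩
    · rw [Nat.add_mul]
      exact SetLike.mul_mem_graded (A := dg 𝒮 U) ha (by simpa [smul_eq_mul] using SetLike.pow_mem_graded (A := dg 𝒮 U) m' hs)
    · rw [Nat.add_mul, Nat.add_comm]
      exact SetLike.mul_mem_graded (A := dg 𝒮 U) ha' (by simpa [smul_eq_mul] using SetLike.pow_mem_graded (A := dg 𝒮 U) m hs)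
    · simp only [map_add, map_mul, map_pow, ← e, ← e']
      ring
  | neg x _ hx =>
    obtain ⟨m, hm, a, ha, e⟩ := hx
    exact ⟨m, hm, -a, neg_mem ha, by simp [← e]⟩
  | mul x y _ _ hx hy =>
    obtain ⟨m, hm, a, ha, e⟩ := hx
    obtain ⟨m', hm', a', ha', e'⟩ := hy
    refine ⟨m + m', Nat.add_pos_left hm _, a * a', ?_, ?_⟩
    · rw [Nat.add_mul]
      exact SetLike.mul_mem_graded (A := dg 𝒮 U) ha ha'
    · simp only [map_mul, ← e, ← e']
      ring

/-- Over an affine piece, the functions are generated by finitely many elements. -/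
theorem exists_finite_generators [LocallyOfFiniteType q] {U : Y.AffineZariskiSite} {W : X.Opens} (hW : IsAffineOpen W)
    (hle : W ≤ q ⁻¹ᵁ U.1) :
    ∃ G : Finset Γ(X, W), Subring.closure (Set.range (q.appLE U.1 W hle).hom ∪ G) = ⊤ := by
  letI := (q.appLE U.1 W hle).hom.toAlgebra
  haveI : Algebra.FiniteType Γ(Y, U.1) Γ(X, W) := q.finiteType_appLE U.2 hW hle
  obtain ⟨G, hG⟩ := Algebra.FiniteType.out (R := Γ(Y, U.1)) (A := Γ(X, W))
  refine ⟨G, ?_⟩
  have := congrArg Subalgebra.toSubring hG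
  rwa [Algebra.adjoin_eq_ring_closure, Algebra.top_toSubring] at this

variable {Λ : Type u} [Preorder Λ] [IsDirected Λ (· ≤ ·)] [Nonempty Λ]
    (𝒮i : Λ → RelProj.QCGrAlg Y) (φ : ∀ i, (𝒮i i).toQCAlg ⟶ 𝒮.toQCAlg) (hφ : ∀ i, RelProj.IsGradedHom (φ i))
    (t : ∀ i j, i ≤ j → ((𝒮i i).toQCAlg ⟶ (𝒮i j).toQCAlg)) (ht : ∀ i j (h : i ≤ j), RelProj.IsGradedHom (t i j h))
    (hφt : ∀ i j (h : i ≤ j), t i j h ≫ φ j = φ i)
    (hsurj : ∀ (U : Y.Opens), IsAffineOpen U → ∀ x : 𝒮.presheaf.obj (op U),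
      ∃ (i : Λ) (y : (𝒮i i).presheaf.obj (op U)), ((φ i).hom.app (op U)).hom y = x)
    (ui : ∀ i, RelProj.QGrHom q (𝒮i i) 𝒮L) (hui : ∀ i (U : Y.Opens), (ui i).app U = (φ i).hom.app (op U) ≫ u.app U)

include hφ ht hφt hsurj in
/-- A finite family of homogeneous elements comes from one level. -/
theorem exists_level_lift (U : Y.AffineZariskiSite) {ι : Type*} (T : Finset ι) (N : ι → ℕ)
    (z : ι → 𝒮.presheaf.obj (op U.1)) (hz : ∀ i, z i ∈ dg 𝒮 U (N i)) :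
    ∃ i : Λ, ∀ k, i ≤ k → ∀ a ∈ T, ∃ y ∈ dg (𝒮i k) U (N a), ((φ k).hom.app (op U.1)).hom y = z a := by
  classical
  choose i y hy using fun a => hsurj U.1 U.2 (z a)
  choose y' hy' hys using fun a => exists_homogeneous_lift (φ (i a)) (hφ (i a)) U (hz a) (hy a)
  obtain ⟨M, hM⟩ := (T.image i).exists_le
  refine ⟨M, fun k hk a ha => ?_⟩
  have h : i a ≤ k := (hM _ (Finset.mem_image_of_mem i ha)).trans hk
  refine ⟨((t (i a) k h).hom.app (op U.1)).hom (y' a), ht _ _ h U.1 U.2 _ _ (hy' a), ?_⟩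
  refine Eq.trans ?_ (hys a)
  conv_rhs => rw [← hφt (i a) k h]
  rfl

include hφ ht hφt hsurj hui in
/-- A good piece is good from some level on. -/
theorem exists_level_good [LocallyOfFiniteType q] (c : Piece 𝒮) (hc : IsGood u c.U c.n c.s) :
    ∃ i : Λ, ∀ k, i ≤ k → ∃ c' : Piece (𝒮i k), c'.locus (ui k) = c.locus u ∧ IsGood (ui k) c'.U c'.n c'.s := by
  classical
  obtain ⟨G, hG⟩ := exists_finite_generators (U := c.U) hc.1 (XS_le u c.U c.n c.s)
  choose m hm a ha e using fun b => hc.2 b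
  obtain ⟨i₁, h₁⟩ := exists_level_lift 𝒮i φ hφ t ht hφt hsurj c.U G (fun b => m b * c.n) a ha
  obtain ⟨i₂, h₂⟩ := exists_level_lift 𝒮i φ hφ t ht hφt hsurj c.U {()} (fun _ => c.n) (fun _ => c.s) fun _ => c.hs
  obtain ⟨i, hi₁, hi₂⟩ := exists_ge_ge i₁ i₂
  refine ⟨i, fun k hk => ?_⟩
  obtain ⟨y, hy, hys⟩ := h₂ k (hi₂.trans hk) () (Finset.mem_singleton_self _)
  have heq : XS u c.U c.n c.s = XS (ui k) c.U c.n y := by rw [XS_comp u (φ k) (ui k) (hui k), hys]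
  refine ⟨⟨c.U, c.n, c.hn, y, hy⟩, heq.symm, ?_⟩
  have key : ∀ (W : X.Opens) (_ : W = XS (ui k) c.U c.n y) (hle : W ≤ q ⁻¹ᵁ c.U.1) (G' : Set Γ(X, W)),
      IsAffineOpen W →
      (∀ b ∈ G', ∃ (m : ℕ) (_ : 0 < m) (a : (𝒮i k).presheaf.obj (op c.U.1)) (_ : a ∈ (𝒮i k).deg c.U.1 c.U.2 (m * c.n)),
        (𝒮L.str.app (op W)).hom b * ((ui k).appLE c.U.1 W hle).hom y ^ m = ((ui k).appLE c.U.1 W hle).hom a) →
      Subring.closure (Set.range (q.appLE c.U.1 W hle).hom ∪ G') = ⊤ → IsGood (ui k) c.U c.n y := by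
    intro W hW
    subst hW
    exact fun hle G' hA h1 h2 => good_of_generators (ui k) hy hA G' h1 h2
  refine key _ heq (XS_le u c.U c.n c.s) G hc.1 (fun b hb => ?_) hG
  obtain ⟨a', ha', has⟩ := h₁ k (hi₁.trans hk) b hb
  refine ⟨m b, hm b, a', ha', ?_⟩
  rw [appLE_comp u (φ k) (ui k) (hui k), appLE_comp u (φ k) (ui k) (hui k), hys, has]
  exact e b

variable {r : ((RelProj.domQ u pL chartL : PL.Opens) : Scheme.{u}) ⟶ P}
  (hr : RelProj.IsProjQMapOn u p chart pL chartL (RelProj.domQ u pL chartL) r)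
    {Pi : Λ → Scheme.{u}} {pi : ∀ i, Pi i ⟶ Y}
    {charti : ∀ i (U : Y.Opens) (hU : IsAffineOpen U), ((((pi i) ⁻¹ᵁ U : (Pi i).Opens) : Scheme.{u}) ≅ Proj ((𝒮i i).deg U hU))}
    (hPi : ∀ i, RelProj.IsRelProj (𝒮i i) (pi i) (charti i))
    {ri : ∀ i, ((RelProj.domQ (ui i) pL chartL : PL.Opens) : Scheme.{u}) ⟶ Pi i}
    (hri : ∀ i, RelProj.IsProjQMapOn (ui i) (pi i) (charti i) pL chartL (RelProj.domQ (ui i) pL chartL) (ri i))

include hL hLq hj hP hPL hr hφ ht hφt hsurj hui hPi hri in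
theorem exists_isImmersion_ri [CompactSpace Y] [QuasiCompact q] [LocallyOfFiniteType q]
    (htop : RelProj.domQ u pL chartL = ⊤) (himm : IsImmersion r) :
    ∃ i, RelProj.domQ (ui i) pL chartL = ⊤ ∧ IsImmersion (ri i) := by
  classical
  haveI : CompactSpace X := QuasiCompact.compactSpace_of_compactSpace q
  obtain ⟨g, hg, hQ⟩ := exists_g hL hLq hj u hPL htop hr
  haveI : IsImmersion g := (hQ @IsImmersion).mp himm
  have hx : ∀ x : X, ∃ c : Piece 𝒮, x ∈ c.locus u ∧ IsGood u c.U c.n c.s := fun x => by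
    obtain ⟨U, hU⟩ := exists_affine_mem (q x)
    obtain ⟨c, -, h⟩ := exists_good hL hLq hj u hP hPL htop hg x U hU
    exact ⟨c, h⟩
  choose c hc hgood using hx
  obtain ⟨F, hF⟩ := isCompact_univ.elim_finite_subcover (fun x => ((c x).locus u : Set X))
    (fun x => ((c x).locus u).isOpen) fun x _ => Set.mem_iUnion.mpr ⟨x, hc x⟩
  choose i hi using fun x => exists_level_good u 𝒮i φ hφ t ht hφt hsurj ui hui (c x) (hgood x)
  obtain ⟨k, hk⟩ := (F.image i).exists_le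
  choose c' hloc hgood' using fun x : F => hi x.1 k (hk _ (Finset.mem_image_of_mem i x.2))
  have hcov : ⨆ x, (c' x).locus (ui k) = ⊤ := top_le_iff.mp fun z _ => by
    obtain ⟨x, hxF, hz⟩ := Set.mem_iUnion₂.mp (hF (Set.mem_univ z))
    exact Opens.mem_iSup.mpr ⟨⟨x, hxF⟩, (hloc ⟨x, hxF⟩).symm ▸ hz⟩
  have htk := domQ_eq_top_of_cover hL hLq hj (ui k) hPL c' hcov
  obtain ⟨gk, hgk, hQk⟩ := exists_g hL hLq hj (ui k) hPL htk (hri k)
  exact ⟨k, htk, (hQk @IsImmersion).mpr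
    (isImmersion_of_good hL hLq hj (ui k) (hPi k) hPL htk hgk c' hcov hgood')⟩

end GrothLib.RLpsi8
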