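import Groth.Agent.Lib.RLpsi8.Immersion

/-!
# Immersions and composition with a graded homomorphism
-/

set_option autoImplicit false
set_option backward.isDefEq.respectTransparency false
set_option maxHeartbeats 400000

universe u

open CategoryTheory CategoryTheory.Limits AlgebraicGeometry TopologicalSpace Opposite HomogeneousLocalization
open GrothLib.RelProjK (dg rs em mem_opensRange_em)
open GrothLib.RelCone8 (Pair gu Gu IsQ)

noncomputable section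

namespace GrothLib.RLpsi8

variable {Y X P P' PL : Scheme.{u}} {q : X ⟶ Y} {L : X.Modules} {𝒮 𝒯 : RelProj.QCGrAlg Y} {𝒮L : RelProj.QCGrAlg X}
  {j : L ⟶ 𝒮L.toModule} (hL : PicF.IsInvertible L) (hLq : Coh.IsQCoh L) (hj : RelProj.IsGrSymAlg L 𝒮L j)
  (u : RelProj.QGrHom q 𝒮 𝒮L) (v : 𝒯.toQCAlg ⟶ 𝒮.toQCAlg) (hv : RelProj.IsGradedHom v)
  (u' : RelProj.QGrHom q 𝒯 𝒮L) (hu' : ∀ U : Y.Opens, u'.app U = v.hom.app (op U) ≫ u.app U)

/-- `IsGood`, on an open equal to the locus. -/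
theorem isGood_iff (U : Y.AffineZariskiSite) (n : ℕ) (s : 𝒮.presheaf.obj (op U.1)) {W : X.Opens}
    (e : W = XS u U n s) (hle : W ≤ q ⁻¹ᵁ U.1) :
    IsGood u U n s ↔ IsAffineOpen W ∧ ∀ b : Γ(X, W), ∃ (m : ℕ) (_ : 0 < m) (a : 𝒮.presheaf.obj (op U.1))
      (_ : a ∈ 𝒮.deg U.1 U.2 (m * n)), (𝒮L.str.app (op W)).hom b *
        (u.appLE U.1 W hle).hom s ^ m = (u.appLE U.1 W hle).hom a := by
  subst e; rfl

/-- `IsInj`, on an open equal to the locus. -/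
theorem isInj_iff (U : Y.AffineZariskiSite) (n : ℕ) (s : 𝒮.presheaf.obj (op U.1)) {W : X.Opens}
    (e : W = XS u U n s) (hle : W ≤ q ⁻¹ᵁ U.1) :
    IsInj u U n s ↔ ∀ m : ℕ, 0 < m → ∀ a ∈ 𝒮.deg U.1 U.2 (m * n), (u.appLE U.1 W hle).hom a = 0 →
      ∃ k : ℕ, 0 < k ∧ s ^ k * a = 0 := by
  subst e; rfl

include hu' hv in
theorem good_of_comp {U : Y.AffineZariskiSite} {n : ℕ} {x : 𝒯.presheaf.obj (op U.1)} (h : IsGood u' U n x) :
    IsGood u U n ((v.hom.app (op U.1)).hom x) := by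
  refine (isGood_iff u U n _ (XS_comp u v u' hu' U n x) (XS_le u' U n x)).mpr ⟨h.1, fun b => ?_⟩
  obtain ⟨m, hm, a, ha, e⟩ := h.2 b
  rw [appLE_comp u v u' hu', appLE_comp u v u' hu'] at e
  exact ⟨m, hm, _, hv U.1 U.2 _ a ha, e⟩

include hu' in
theorem inj_of_comp {U : Y.AffineZariskiSite} {n : ℕ} (hn : 0 < n) {x : 𝒯.presheaf.obj (op U.1)}
    (hx : x ∈ 𝒯.deg U.1 U.2 n) (hv : RelProj.IsGradedHom v) (n₀ : ℕ)
    (hTN : ∀ k, n₀ ≤ k → ∀ (U : Y.Opens) (hU : IsAffineOpen U), ∀ y ∈ 𝒮.deg U hU k,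
      ∃ x ∈ 𝒯.deg U hU k, (v.hom.app (op U)).hom x = y) (h : IsInj u' U n x) :
    IsInj u U n ((v.hom.app (op U.1)).hom x) := by
  refine (isInj_iff u U n _ (XS_comp u v u' hu' U n x) (XS_le u' U n x)).mpr fun m hm a ha e => ?_
  have hsa : (v.hom.app (op U.1)).hom x ^ n₀ * a ∈ dg 𝒮 U ((n₀ + m) * n) := by
    rw [Nat.add_mul]
    exact SetLike.mul_mem_graded (by simpa [smul_eq_mul] using SetLike.pow_mem_graded (A := dg 𝒮 U) n₀ (hv U.1 U.2 n x hx)) ha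
  obtain ⟨b, hb, hbe⟩ := hTN ((n₀ + m) * n) ((Nat.le_add_right n₀ m).trans (Nat.le_mul_of_pos_right _ hn)) U.1 U.2 _ hsa
  obtain ⟨k, hk, hkb⟩ := h (n₀ + m) (hm.trans_le (Nat.le_add_left m n₀)) b hb
    (by rw [appLE_comp u v u' hu', hbe, map_mul, e, mul_zero])
  refine ⟨k + n₀, Nat.add_pos_left hk _, ?_⟩
  have := congrArg (v.hom.app (op U.1)).hom hkb
  rwa [map_mul, map_pow, hbe, map_zero, ← mul_assoc, ← pow_add] at this

/-- The image of a piece. -/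
def Piece.map (c : Piece 𝒯) : Piece 𝒮 := ⟨c.U, c.n, c.hn, (v.hom.app (op c.U.1)).hom c.s, hv c.U.1 c.U.2 _ _ c.hs⟩

include hu' in
theorem Piece.locus_map (c : Piece 𝒯) : (c.map v hv).locus u = c.locus u' :=
  (XS_comp u v u' hu' c.U c.n c.s).symm

variable {p : P ⟶ Y} {chart : ∀ (U : Y.Opens) (hU : IsAffineOpen U), (((p ⁻¹ᵁ U : P.Opens) : Scheme.{u}) ≅ Proj (𝒮.deg U hU))}
  {pL : PL ⟶ X}
  {chartL : ∀ (U : X.Opens) (hU : IsAffineOpen U), (((pL ⁻¹ᵁ U : PL.Opens) : Scheme.{u}) ≅ Proj (𝒮L.deg U hU))}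
  (hP : RelProj.IsRelProj 𝒮 p chart) (hPL : RelProj.IsRelProj 𝒮L pL chartL)
  {r : ((RelProj.domQ u pL chartL : PL.Opens) : Scheme.{u}) ⟶ P}
  (hr : RelProj.IsProjQMapOn u p chart pL chartL (RelProj.domQ u pL chartL) r)

include hL hLq hj hP hPL hr hu' hv in
/-- An immersion criterion for `u` in terms of the pieces of `u'`. -/
theorem isImmersion_of_comp (key : ∀ x : X, ∃ c : Piece 𝒯, x ∈ c.locus u' ∧ IsGood u' c.U c.n c.s) :
    RelProj.domQ u pL chartL = ⊤ ∧ IsImmersion r := by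
  choose c hx hgood using key
  have hcov : ⨆ x, ((c x).map v hv).locus u = ⊤ := top_le_iff.mp fun x _ => Opens.mem_iSup.mpr
    ⟨x, by rw [Piece.locus_map u v hv u' hu']; exact hx x⟩
  have htop := domQ_eq_top_of_cover hL hLq hj u hPL (fun x => (c x).map v hv) hcov
  obtain ⟨g, hg, hQ⟩ := exists_g hL hLq hj u hPL htop hr
  exact ⟨htop, (hQ @IsImmersion).mpr (isImmersion_of_good hL hLq hj u hP hPL htop hg _ hcov
    fun x => good_of_comp u v hv u' hu' (hgood x))⟩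

end GrothLib.RLpsi8
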