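import Groth.Agent.Lib.AmpSpread10.RelNorm

/-!
# Norms of finite locally free morphisms of varying degree

`LNorm π` is a multiplicative norm without degree.  It exists for finite surjective morphisms with
locally free direct image, and norms of relatively ample modules along it are relatively ample.
-/

set_option autoImplicit false
set_option linter.all false
set_option backward.isDefEq.respectTransparency false
set_option maxHeartbeats 1000000

universe u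

open CategoryTheory CategoryTheory.Limits AlgebraicGeometry TopologicalSpace Opposite
open GrothLib.InvExt (mres IsGen)
open GrothLib.Ample GrothLib.NormAmple GrothLib.AmpSpread10

noncomputable section

namespace GrothLib.RLpsi8

/-- A norm of unspecified degree. -/
structure LNorm {X Y : Scheme.{u}} (π : X ⟶ Y) where
  norm : ∀ U : Y.Opens, Γ(X, π ⁻¹ᵁ U) →* Γ(Y, U)
  norm_res : ∀ {U V : Y.Opens} (h : V ≤ U) (s : Γ(X, π ⁻¹ᵁ U)),
    res h (norm U s) = norm V (res (π.preimage_mono h) s)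
  mem_iff : ∀ (W : Y.Opens) (a : Γ(X, π ⁻¹ᵁ W)) (y : Y), y ∈ W →
    (y ∈ Y.basicOpen (norm W a) ↔ ∀ z : X, π z = y → z ∈ X.basicOpen a)
  surj : Surjective π

variable {X Y B : Scheme.{u}} {π : X ⟶ Y}

theorem exists_lnorm [IsFinite π] [Surjective π]
    (hfree : FlatMod.IsFinLocFree ((Coh.push π).obj (Coh.structureModule X))) : Nonempty (LNorm π) := by
  classical
  choose T n e hxT he using fun y => exists_ringFrame π hfree y
  have hn : ∀ y, 0 < n y := by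
    intro y
    by_contra hc
    have hn0 : n y = 0 := by omega
    obtain ⟨z, hz⟩ := π.surjective y
    have hz' : z ∈ π ⁻¹ᵁ T y := by show π z ∈ T y; rw [hz]; exact hxT y
    haveI : Nontrivial Γ(X, π ⁻¹ᵁ T y) := nontrivial_of_mem hz'
    haveI : IsEmpty (Fin (n y)) := by rw [hn0]; infer_instance
    obtain ⟨r, hr⟩ := (he y (T y) le_rfl).2 1
    simp at hr
  let pn : ∀ (y : Y) (V : Y.Opens), Γ(X, π ⁻¹ᵁ V) → Γ(Y, V) := fun y V a => nrm π (n y) V a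
  have hpn : ∀ (x y : Y) (V : Y.Opens), V ≤ T x → V ≤ T y → ∀ a, pn x V a = pn y V a := by
    intro x y V hx hy a
    rcases subsingleton_or_nontrivial Γ(Y, V) with hs | hs
    · exact Subsingleton.elim _ _
    letI := (π.app V).hom.toAlgebra
    have h1 := Module.finrank_eq_card_basis ((he x).basis V hx)
    have h2 := Module.finrank_eq_card_basis ((he y).basis V hy)
    rw [Fintype.card_fin] at h1 h2
    show nrm π (n x) V a = nrm π (n y) V a
    rw [← h1, ← h2]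
  have hone : ∀ (y : Y) (V : Y.Opens), V ≤ T y → pn y V 1 = 1 := by
    intro y V hV
    show nrm π (n y) V 1 = 1
    simp [nrm]
  have hres : ∀ (y : Y) (V V' : Y.Opens) (hV : V ≤ T y) (h : V' ≤ V) (a : Γ(X, π ⁻¹ᵁ V)),
      res h (pn y V a) = pn y V' (res (π.preimage_mono h) a) := fun y V V' hV h a => res_nrm (he y) hV h a
  have hcov : ∀ W : Y.Opens, W ≤ ⨆ y, W ⊓ T y := fun W z hz => Opens.mem_iSup.2 ⟨z, hz, hxT z⟩
  have glue : ∀ (W : Y.Opens) (a : Γ(X, π ⁻¹ᵁ W)), ∃! s : Γ(Y, W), ∀ y,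
      res (inf_le_left : W ⊓ T y ≤ W) s = pn y (W ⊓ T y) (res (π.preimage_mono inf_le_left) a) := by
    intro W a
    refine Y.sheaf.existsUnique_gluing' (fun y => W ⊓ T y) W (fun y => homOfLE inf_le_left) (hcov W)
      (fun y => pn y (W ⊓ T y) (res (π.preimage_mono inf_le_left) a)) ?_
    intro x y
    show res inf_le_left (pn x _ _) = res inf_le_right (pn y _ _)
    rw [hres x _ _ inf_le_right, hres y _ _ inf_le_right, res_res, res_res,
      hpn x y _ (inf_le_left.trans inf_le_right) (inf_le_right.trans inf_le_right)]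
  choose N hN hNu using glue
  have key : ∀ (W : Y.Opens) (a : Γ(X, π ⁻¹ᵁ W)) (y : Y) (V : Y.Opens) (hVW : V ≤ W) (hV : V ≤ T y),
      res hVW (N W a) = pn y V (res (π.preimage_mono hVW) a) := by
    intro W a y V hVW hV
    have h1 := congrArg (res (le_inf hVW hV)) (hN W a y)
    rw [res_res, hres y _ _ inf_le_right, res_res] at h1
    exact h1
  refine ⟨{ norm := fun W => ⟨⟨N W, (hNu W 1 1 fun y => ?_).symm⟩, fun a b => (hNu W (a * b) (N W a * N W b) fun y => ?_).symm⟩,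
            norm_res := fun {W V} h a => hNu V _ _ fun y => ?_, mem_iff := ?_, surj := inferInstance }⟩
  · rw [map_one, map_one, hone y _ inf_le_right]
  · rw [map_mul, hN, hN, map_mul]
    exact (nrm_mul _ _ _ _).symm
  · show res inf_le_left (res h (N W a)) = _
    rw [res_res, key W a y _ _ inf_le_right, res_res]
  · intro W a y hy
    show y ∈ Y.basicOpen (N W a) ↔ _
    have h1 : y ∈ W ⊓ T y := ⟨hy, hxT y⟩
    have h2 : y ∈ Y.basicOpen (N W a) ↔ y ∈ Y.basicOpen (res (inf_le_left : W ⊓ T y ≤ W) (N W a)) := by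
      rw [Scheme.basicOpen_res]
      exact ⟨fun h => ⟨h1, h⟩, fun h => h.2⟩
    rw [h2, hN, mem_basicOpen_nrm (hn y) (he y) dvd_rfl inf_le_right _ h1]
    refine forall₂_congr fun z hz => ?_
    rw [Scheme.basicOpen_res]
    exact ⟨fun h => h.2, fun h => ⟨by show π z ∈ W ⊓ T y; rw [hz]; exact h1, h⟩⟩

/-- A cocycle on `Y` from transition functions upstairs. -/
def normCocycle (ν : LNorm π) {ι : Type u} (V : ι → Y.Opens) (hV : ⨆ i, V i = ⊤)
    (γ : ∀ i j, Γ(X, π ⁻¹ᵁ V i ⊓ π ⁻¹ᵁ V j))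
    (hself : ∀ (i) (W : X.Opens) (h : W ≤ π ⁻¹ᵁ V i), res (le_inf h h) (γ i i) = 1)
    (hchange : ∀ (i j k) (W : X.Opens) (hi : W ≤ π ⁻¹ᵁ V i) (hj : W ≤ π ⁻¹ᵁ V j) (hk : W ≤ π ⁻¹ᵁ V k),
      res (le_inf hi hk) (γ i k) = res (le_inf hi hj) (γ i j) * res (le_inf hj hk) (γ j k)) : Cocycle Y where
  ι := ι
  D := V
  g i j := ν.norm (V i ⊓ V j) (γ i j)
  cover := hV
  self i W h := by
    rw [ν.norm_res (le_inf h h)]
    exact (congrArg (ν.norm W) (hself i (π ⁻¹ᵁ W) (π.preimage_mono h))).trans (map_one _)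
  change i j k W hi hj hk := by
    rw [ν.norm_res (le_inf hi hk), ν.norm_res (le_inf hi hj), ν.norm_res (le_inf hj hk)]
    exact (congrArg (ν.norm W) (hchange i j k (π ⁻¹ᵁ W) (π.preimage_mono hi) (π.preimage_mono hj)
      (π.preimage_mono hk))).trans (map_mul _ _ _)

theorem normCocycle_G (ν : LNorm π) {ι : Type u} (V : ι → Y.Opens) (hV : ⨆ i, V i = ⊤)
    (γ : ∀ i j, Γ(X, π ⁻¹ᵁ V i ⊓ π ⁻¹ᵁ V j)) (hs) (hc) (i j : ι) {W : Y.Opens} (hi : W ≤ V i) (hj : W ≤ V j) :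
    (normCocycle ν V hV γ hs hc).G i j hi hj =
      ν.norm W (res (le_inf (π.preimage_mono hi) (π.preimage_mono hj)) (γ i j)) :=
  ν.norm_res (le_inf hi hj) (γ i j)

/-- The norm of an ample module is ample. -/
theorem isAmp_normCocycle [IsFinite π] [CompactSpace Y] (ν : LNorm π) {ι : Type u}
    (V : ι → Y.Opens) (hV : ⨆ i, V i = ⊤) (γ : ∀ i j, Γ(X, π ⁻¹ᵁ V i ⊓ π ⁻¹ᵁ V j)) (hs) (hc) (hcov)
    (h : ({ ι := ι, D := fun i => π ⁻¹ᵁ V i, g := γ, cover := hcov, self := hs, change := hc } : Cocycle X).IsAmp) :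
    (normCocycle ν V hV γ hs hc).IsAmp := by
  haveI : CompactSpace X := QuasiCompact.compactSpace_of_compactSpace π
  let cX : Cocycle X := { ι := ι, D := fun i => π ⁻¹ᵁ V i, g := γ, cover := hcov, self := hs, change := hc }
  let cY := normCocycle ν V hV γ hs hc
  intro p
  obtain ⟨i₀, W, hpW, -, hW⟩ := cY.exists_affine_le_D p
  obtain ⟨n, a, hZ, haW, -⟩ := cX.exists_affine_locus_finite h
    (π.finite_preimage_singleton p) (U := π ⁻¹ᵁ W)
    (by rintro z hz; show π z ∈ W; rw [Set.mem_singleton_iff.mp hz]; exact hpW)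
  have hle : ∀ i, π ⁻¹ᵁ ((⊤ : Y.Opens) ⊓ V i) ≤ (⊤ : X.Opens) ⊓ π ⁻¹ᵁ V i := fun i =>
    le_inf le_top (π.preimage_mono inf_le_right)
  let b : cY.sect (n + 1) ⊤ := ⟨fun (i : ι) => ν.norm ((⊤ : Y.Opens) ⊓ V i) (res (hle i) (a.1 i)), by
    intro (i : ι) (j : ι) U (hi : U ≤ (⊤ : Y.Opens) ⊓ V i) (hj : U ≤ (⊤ : Y.Opens) ⊓ V j)
    have hUi : U ≤ V i := hi.trans inf_le_right
    have hUj : U ≤ V j := hj.trans inf_le_right
    show res hi (ν.norm _ (res (hle i) (a.1 i))) = _ * res hj (ν.norm _ (res (hle j) (a.1 j)))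
    rw [ν.norm_res hi, ν.norm_res hj, res_res, res_res]
    have e := cX.sect_spec a i j (W := π ⁻¹ᵁ U) ((π.preimage_mono hi).trans (hle i))
      ((π.preimage_mono hj).trans (hle j))
    erw [e]
    rw [map_mul, map_pow]
    congr 2
    exact (normCocycle_G ν V hV γ hs hc i j hUi hUj).symm⟩
  refine ⟨n, b, ?_⟩
  have hloc : ∀ (i : ι) (z : X), z ∈ π ⁻¹ᵁ V i →
      (z ∈ cX.locus a ↔ z ∈ X.basicOpen (res (hle i) (a.1 i))) := by
    intro i z hzi
    rw [cX.mem_locus_iff a (i := i) hzi, Scheme.basicOpen_res]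
    exact ⟨fun h => ⟨⟨trivial, hzi⟩, h⟩, fun h => h.2⟩
  refine ⟨?_, cY.isAffineOpen_locus_of_le _ hW fun y hy => ?_⟩
  · obtain ⟨i, hi⟩ := cY.exists_mem p
    rw [cY.mem_locus_iff b hi]
    refine (ν.mem_iff ((⊤ : Y.Opens) ⊓ V i) (res (hle i) (a.1 i)) _ ⟨trivial, hi⟩).2 fun z hz => ?_
    exact (hloc i z (by show π z ∈ V i; rw [hz]; exact hi)).mp (hZ hz)
  · obtain ⟨i, hi⟩ := cY.exists_mem y
    rw [cY.mem_locus_iff b hi] at hy
    obtain ⟨z, hz⟩ := ν.surj.surj y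
    have hza := (ν.mem_iff ((⊤ : Y.Opens) ⊓ V i) (res (hle i) (a.1 i)) _ ⟨trivial, hi⟩).1 hy z hz
    rw [← hz]
    exact haW ((hloc i z (by show π z ∈ V i; rw [hz]; exact hi)).mpr hza)

/-- A norm restricts to an open of the target. -/
def normRestrict (ν : LNorm π) (U : Y.Opens) : LNorm (π ∣_ U) where
  norm W := (ν.norm (U.ι ''ᵁ W)).comp (res (X := X) (image_morphismRestrict_preimage π U W).ge).toMonoidHom
  norm_res {W W'} h s := by
    show res (X := Y) (U.ι.image_mono h) (ν.norm (U.ι ''ᵁ W) (res _ s)) =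
      ν.norm (U.ι ''ᵁ W') (res _ (res (X := X) ((π ⁻¹ᵁ U).ι.image_mono ((π ∣_ U).preimage_mono h)) s))
    rw [ν.norm_res (U.ι.image_mono h), res_res, res_res]
    rfl
  mem_iff W a y hy := by
    have hy' : y.1 ∈ U.ι ''ᵁ W := ⟨y, hy, rfl⟩
    have hb : ∀ {Z : Scheme.{u}} (O : Z.Opens) (P : (O : Scheme.{u}).Opens) (c : Γ(Z, O.ι ''ᵁ P)) (z : O),
        z ∈ (O : Scheme.{u}).basicOpen (U := P) c ↔ z.1 ∈ Z.basicOpen c := by
      intro Z O P c z
      have h : O.ι ''ᵁ (O : Scheme.{u}).basicOpen (U := P) c = Z.basicOpen c := by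
        rw [Scheme.image_basicOpen, Scheme.Opens.ι_appIso]
        rfl
      rw [← h]
      exact ⟨fun h => ⟨z, h, rfl⟩, fun ⟨w, hw, e⟩ => O.ι.injective e ▸ hw⟩
    have hπ : ∀ z : π ⁻¹ᵁ U, ((π ∣_ U) z).1 = π z.1 := fun z =>
      congrArg (fun g : ((π ⁻¹ᵁ U : X.Opens) : Scheme.{u}) ⟶ Y => g z) (morphismRestrict_ι π U)
    refine (hb U W _ y).trans ((ν.mem_iff _ _ y.1 hy').trans ⟨fun h z hz => ?_, fun h z hz => ?_⟩)
    · have h1 := h z.1 (by rw [← hπ, hz])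
      erw [Scheme.basicOpen_res] at h1
      exact (hb (π ⁻¹ᵁ U) _ a z).mpr h1.2
    · have hzU : z ∈ π ⁻¹ᵁ U := by show π z ∈ U; rw [hz]; exact y.2
      have h1 := (hb (π ⁻¹ᵁ U) _ a ⟨z, hzU⟩).mp (h ⟨z, hzU⟩ (Subtype.ext ((hπ _).trans hz)))
      erw [Scheme.basicOpen_res]
      exact ⟨by show π z ∈ U.ι ''ᵁ W; rw [hz]; exact hy', h1⟩
  surj := by
    haveI := ν.surj
    exact IsZariskiLocalAtTarget.restrict (P := @Surjective) ν.surj U

/-- The norm of a relatively ample module is relatively ample. -/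
theorem exists_isRelAmple_of_norm [IsFinite π] (ν : LNorm π) (f : Y ⟶ B) [QuasiCompact f]
    {L : X.Modules} (hL : RelAmple.IsRelAmple (π ≫ f) L) :
    ∃ N : Y.Modules, PicF.IsInvertible N ∧ RelAmple.IsRelAmple f N := by
  have hinv := Ample.isInvertible_of_isRelAmple hL
  have hloc : ∀ y : Y, ∃ (V : Y.Opens) (e : Γ(L, π ⁻¹ᵁ V)), y ∈ V ∧ IsGen L (π ⁻¹ᵁ V) e := by
    intro y
    obtain ⟨W, hW, hyW, -⟩ := exists_isAffineOpen_mem_and_subset (x := y) (U := ⊤) trivial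
    obtain ⟨t, ht⟩ := exists_section_genAt_finite hinv (hW.preimage π) (π.finite_preimage_singleton y)
      (fun z hz => by show π z ∈ W; rw [Set.mem_singleton_iff.mp hz]; exact hyW)
    let V : Y.Opens := ⟨_, (π.isClosedMap _ (VA.genOpen L t).2.isClosed_compl).isOpen_compl⟩
    have hVt : π ⁻¹ᵁ V ≤ VA.genOpen L t := fun z hz => by
      by_contra hz'
      exact hz ⟨z, hz', rfl⟩
    exact ⟨V, mres L (hVt.trans (VA.genOpen_le t)) t, fun ⟨z, hz, hzy⟩ => hz (VA.mem_genOpen.2 (ht z hzy)),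
      VA.isGen_of_le_genOpen hVt⟩
  choose V e hyV he using hloc
  have hV : ⨆ y, V y = ⊤ := eq_top_iff.2 fun z _ => Opens.mem_iSup.2 ⟨z, hyV z⟩
  have hcov : ⨆ y, π ⁻¹ᵁ V y = ⊤ := eq_top_iff.2 fun z _ => Opens.mem_iSup.2 ⟨π z, hyV (π z)⟩
  obtain ⟨γ, hs, hc, ⟨iL⟩⟩ := exists_cocycle_of_gens (fun y => π ⁻¹ᵁ V y) hcov e he
  let cX : Cocycle X := { ι := Y, D := fun y => π ⁻¹ᵁ V y, g := γ, cover := hcov, self := hs, change := hc }
  let cY := normCocycle ν V hV γ hs hc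
  suffices h : RelAmple.IsRelAmple f (cY.twist 1) from ⟨_, GrothLib.Ample.isInvertible_of_isRelAmple h, h⟩
  refine ⟨‹QuasiCompact f›, fun O => ?_⟩
  let U : Y.Opens := f ⁻¹ᵁ O.1
  haveI : CompactSpace (U : Scheme.{u}) := isCompact_iff_compactSpace.mp (f.isCompact_preimage O.2.isCompact)
  let j := (π ⁻¹ᵁ U).ι
  let πU := π ∣_ U
  haveI : IsFinite πU := IsZariskiLocalAtTarget.restrict (P := @IsFinite) ‹IsFinite π› U
  have hD : ∀ y, πU ⁻¹ᵁ (U.ι ⁻¹ᵁ V y) = j ⁻¹ᵁ (π ⁻¹ᵁ V y) := fun y => by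
    show (πU ≫ U.ι) ⁻¹ᵁ V y = (j ≫ π) ⁻¹ᵁ V y
    rw [morphismRestrict_ι]
  let c' := cX.comap j
  let γ' : ∀ y z, Γ((π ⁻¹ᵁ U : X.Opens).toScheme, πU ⁻¹ᵁ (U.ι ⁻¹ᵁ V y) ⊓ πU ⁻¹ᵁ (U.ι ⁻¹ᵁ V z)) :=
    fun y z => res (inf_le_inf (hD y).le (hD z).le) (c'.g y z)
  have hs' : ∀ (y) (W : ((π ⁻¹ᵁ U : X.Opens).toScheme).Opens) (h : W ≤ πU ⁻¹ᵁ (U.ι ⁻¹ᵁ V y)),
      res (le_inf h h) (γ' y y) = 1 := fun y W h => by
    rw [res_res]
    exact c'.self y W (h.trans (hD y).le)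
  have hc' : ∀ (a b e : Y) (W : ((π ⁻¹ᵁ U : X.Opens).toScheme).Opens) (ha : W ≤ πU ⁻¹ᵁ (U.ι ⁻¹ᵁ V a))
      (hb : W ≤ πU ⁻¹ᵁ (U.ι ⁻¹ᵁ V b)) (he : W ≤ πU ⁻¹ᵁ (U.ι ⁻¹ᵁ V e)),
      res (le_inf ha he) (γ' a e) = res (le_inf ha hb) (γ' a b) * res (le_inf hb he) (γ' b e) :=
    fun a b e W ha hb he => by
      rw [res_res, res_res, res_res]
      exact c'.change a b e W (ha.trans (hD a).le) (hb.trans (hD b).le) (he.trans (hD e).le)
  have hcov' : ⨆ y, πU ⁻¹ᵁ (U.ι ⁻¹ᵁ V y) = ⊤ := by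
    rw [← Scheme.Hom.preimage_iSup, ← Scheme.Hom.preimage_iSup, hV]
    rfl
  have hVU : ⨆ y, U.ι ⁻¹ᵁ V y = ⊤ := by
    rw [← Scheme.Hom.preimage_iSup, hV]
    rfl
  -- the restricted module is ample upstairs
  haveI : CompactSpace ((π ⁻¹ᵁ U : X.Opens) : Scheme.{u}) := QuasiCompact.compactSpace_of_compactSpace πU
  obtain ⟨e₁⟩ := cX.nonempty_restrict_iso j iL
  obtain ⟨e₂⟩ := nonempty_twist_iso (fun y => πU ⁻¹ᵁ (U.ι ⁻¹ᵁ V y)) c'.D hD γ' c'.g hcov' hs' hc'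
    c'.cover c'.self c'.change (fun _ _ => rfl)
  have hup := ((Cocycle.isAmple_iff _ (e₁ ≪≫ e₂.symm)).1 (hL.2 O)).2
  have hdown := isAmp_normCocycle (normRestrict ν U) (fun y => U.ι ⁻¹ᵁ V y) hVU γ' hs' hc' hcov' hup
  obtain ⟨e₃⟩ := cY.nonempty_restrict_iso U.ι (Iso.refl (cY.twist 1))
  obtain ⟨e₄⟩ := nonempty_twist_iso (fun y => U.ι ⁻¹ᵁ V y) (fun y => U.ι ⁻¹ᵁ V y) (fun _ => rfl)
    (cY.comap U.ι).g (normCocycle (normRestrict ν U) (fun y => U.ι ⁻¹ᵁ V y) hVU γ' hs' hc').g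
    (cY.comap U.ι).cover (cY.comap U.ι).self (cY.comap U.ι).change hVU
    (normCocycle (normRestrict ν U) (fun y => U.ι ⁻¹ᵁ V y) hVU γ' hs' hc').self
    (normCocycle (normRestrict ν U) (fun y => U.ι ⁻¹ᵁ V y) hVU γ' hs' hc').change (fun y z => by
      rw [res_self]
      show (U.ι.appLE _ _ _).hom (ν.norm (V y ⊓ V z) (γ y z)) =
        ν.norm (U.ι ''ᵁ (U.ι ⁻¹ᵁ V y ⊓ U.ι ⁻¹ᵁ V z)) (res _ (res _ ((j.appLE _ _ _).hom (γ y z))))
      rw [Scheme.Opens.ι_appLE, Scheme.Opens.ι_appLE]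
      show res (X := Y) _ (ν.norm (V y ⊓ V z) (γ y z)) =
        ν.norm _ (res (X := X) _ (res (X := X) _ (res (X := X) _ (γ y z))))
      rw [ν.norm_res, res_res, res_res]
      rfl)
  exact (Cocycle.isAmple_iff _ (e₃ ≪≫ e₄)).2 ⟨inferInstance, hdown⟩

end GrothLib.RLpsi8
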