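import Groth.Agent.Lib.RLpsi8.Local
import Groth.Agent.Lib.RelCone8.QMap
import Groth.Agent.Lib.RelTilde8.QCoh

/-!
# The open `G(ψ)` and the preimages of the basic opens under `r_{L,ψ}`
-/

set_option autoImplicit false
set_option backward.isDefEq.respectTransparency false
set_option maxHeartbeats 400000

universe u

open CategoryTheory CategoryTheory.Limits AlgebraicGeometry TopologicalSpace Opposite
open GrothLib.RelProjK (dg rs em mem_opensRange_em)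
open GrothLib.RelCone8 (Pair gu Gu IsQ)
open scoped HomogeneousIdeal

noncomputable section

namespace GrothLib.RLpsi8

variable {Y X P PL : Scheme.{u}} {q : X ⟶ Y} {L : X.Modules} {𝒮 : RelProj.QCGrAlg Y} {𝒮L : RelProj.QCGrAlg X}
  {j : L ⟶ 𝒮L.toModule} (hL : PicF.IsInvertible L) (hLq : Coh.IsQCoh L) (hj : RelProj.IsGrSymAlg L 𝒮L j)
  (u : RelProj.QGrHom q 𝒮 𝒮L)

/-- The locus where `u s` generates the degree `n` part, as a union of affine opens. -/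
def XS (U : Y.AffineZariskiSite) (n : ℕ) (s : 𝒮.presheaf.obj (op U.1)) : X.Opens :=
  ⨆ V : {V : X.affineOpens // ∃ h : V.1 ≤ q ⁻¹ᵁ U.1,
      (𝒮L.deg V.1 V.2 n : Set (𝒮L.presheaf.obj (op (V.1 : X.Opens)))) ⊆
        (Ideal.span {(u.appLE U.1 V.1 h).hom s} : Set (𝒮L.presheaf.obj (op (V.1 : X.Opens))))}, (V.1.1 : X.Opens)

theorem XS_le (U : Y.AffineZariskiSite) (n : ℕ) (s : 𝒮.presheaf.obj (op U.1)) : XS u U n s ≤ q ⁻¹ᵁ U.1 :=
  iSup_le fun V => V.2.choose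

theorem XS_top (hY : IsAffineOpen (⊤ : Y.Opens)) (n : ℕ) (s : 𝒮.presheaf.obj (op ⊤)) :
    XS u ⟨⊤, hY⟩ n s = ⨆ V : {V : X.affineOpens //
      ((𝒮L.deg V.1 V.2 n : AddSubgroup (𝒮L.presheaf.obj (op (V.1 : X.Opens)))) : Set (𝒮L.presheaf.obj (op (V.1 : X.Opens)))) ⊆
        (Ideal.span {(u.appLE ⊤ (V.1 : X.Opens) (le_top.trans (Scheme.Hom.preimage_top q).ge)).hom s} : Set (𝒮L.presheaf.obj (op (V.1 : X.Opens))))},
      (V.1.1 : X.Opens) :=
  le_antisymm (iSup_le fun V => le_iSup_of_le ⟨V.1, V.2.choose_spec⟩ le_rfl)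
    (iSup_le fun V => le_iSup_of_le ⟨V.1, le_top.trans (Scheme.Hom.preimage_top q).ge, V.2⟩ le_rfl)

/-- The pair of an open of the base and a trivialization. -/
abbrev tp (U : Y.AffineZariskiSite) (t : Triv L) (h : t.V.1 ≤ q ⁻¹ᵁ U.1) : Pair q := ⟨U, t.V, h⟩

/-- `u`, read as functions through a trivialization. -/
def psi (U : Y.AffineZariskiSite) (t : Triv L) (h : t.V.1 ≤ q ⁻¹ᵁ U.1) :
    𝒮.presheaf.obj (op U.1) →+* Γ(X, t.V.1) :=
  (coef hLq hj t).comp (gu u (tp U t h)).toRingHom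

theorem psi_apply (U : Y.AffineZariskiSite) (t : Triv L) (h : t.V.1 ≤ q ⁻¹ᵁ U.1) (s : 𝒮.presheaf.obj (op U.1)) :
    psi hLq hj u U t h s = coef hLq hj t ((u.appLE U.1 t.V.1 h).hom s) := rfl

theorem gu_eq (U : Y.AffineZariskiSite) (t : Triv L) (h : t.V.1 ≤ q ⁻¹ᵁ U.1) {n : ℕ}
    {s : 𝒮.presheaf.obj (op U.1)} (hs : s ∈ dg 𝒮 U n) :
    gu u (tp U t h) s = (𝒮L.str.app (op t.V.1)).hom (psi hLq hj u U t h s) * T j t ^ n :=
  eq_str_coef_mul hLq hj t ((gu u (tp U t h)).map_mem hs)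

theorem subset_span_iff (U : Y.AffineZariskiSite) (t : Triv L) (h : t.V.1 ≤ q ⁻¹ᵁ U.1) {n : ℕ}
    {s : 𝒮.presheaf.obj (op U.1)} (hs : s ∈ dg 𝒮 U n) :
    (𝒮L.deg t.V.1 t.V.2 n : Set (𝒮L.presheaf.obj (op t.V.1))) ⊆
        (Ideal.span {(u.appLE U.1 t.V.1 h).hom s} : Set (𝒮L.presheaf.obj (op t.V.1))) ↔
      IsUnit (psi hLq hj u U t h s) := by
  constructor
  · intro hsub
    have hT : T j t ^ n ∈ dg 𝒮L t.V n := by simpa using SetLike.pow_mem_graded n (T_mem hj t)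
    obtain ⟨a, ha⟩ := Ideal.mem_span_singleton'.mp (hsub hT)
    have := congrArg (coef hLq hj t) ha
    rw [map_mul, map_pow, coef_T, one_pow] at this
    exact IsUnit.of_mul_eq_one_right _ this
  · intro hu x hx
    obtain ⟨v, hv⟩ := hu.exists_left_inv
    refine Ideal.mem_span_singleton'.mpr ⟨(𝒮L.str.app (op t.V.1)).hom (coef hLq hj t x * v), ?_⟩
    conv_rhs => rw [eq_str_coef_mul hLq hj t hx]
    rw [show (u.appLE U.1 t.V.1 h).hom s = gu u (tp U t h) s from rfl, gu_eq hLq hj u U t h hs, ← mul_assoc,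
      ← map_mul, mul_assoc, hv, mul_one]

/-- Restriction of a trivialization. -/
def Triv.res (t : Triv L) {D : X.AffineZariskiSite} (hD : D ≤ t.V) : Triv L :=
  ⟨D, VA.rE hD t.e, t.isGen.restrict _⟩

include hLq hj in
theorem coef_rs (t : Triv L) {D : X.AffineZariskiSite} (hD : D ≤ t.V) {n : ℕ} {x : 𝒮L.presheaf.obj (op t.V.1)}
    (hx : x ∈ dg 𝒮L t.V n) :
    coef hLq hj (t.res hD) (rs 𝒮L hD x) =
      (X.presheaf.map (homOfLE (Scheme.AffineZariskiSite.toOpens_mono hD)).op).hom (coef hLq hj t x) := by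
  have e1 : rs 𝒮L hD ((𝒮L.str.app (op t.V.1)).hom (coef hLq hj t x)) = (𝒮L.str.app (op D.1)).hom
      ((X.presheaf.map (homOfLE (Scheme.AffineZariskiSite.toOpens_mono hD)).op).hom (coef hLq hj t x)) :=
    (ConcreteCategory.congr_hom (𝒮L.str.naturality (homOfLE (Scheme.AffineZariskiSite.toOpens_mono hD)).op) _).symm
  conv_lhs => rw [eq_str_coef_mul hLq hj t hx, map_mul, map_pow, e1, show rs 𝒮L hD (T j t) = T j (t.res hD) from VA.rs_ev j hD t.e]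
  exact coef_str_mul hLq hj (t.res hD) _ n

include hLq hj in
theorem psi_res (U : Y.AffineZariskiSite) (t : Triv L) (h : t.V.1 ≤ q ⁻¹ᵁ U.1) {D : X.AffineZariskiSite} (hD : D ≤ t.V)
    {n : ℕ} {s : 𝒮.presheaf.obj (op U.1)} (hs : s ∈ dg 𝒮 U n) :
    psi hLq hj u U (t.res hD) ((Scheme.AffineZariskiSite.toOpens_mono hD).trans h) s =
      (X.presheaf.map (homOfLE (Scheme.AffineZariskiSite.toOpens_mono hD)).op).hom (psi hLq hj u U t h s) := by
  refine Eq.trans (congrArg (coef hLq hj (t.res hD)) ?_) (coef_rs hLq hj t hD ((gu u (tp U t h)).map_mem hs))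
  show (u.appLE U.1 D.1 _).hom s = (u.appLE U.1 t.V.1 h ≫ 𝒮L.presheaf.map _).hom s
  rw [u.appLE_map]

/-- The property defining `XS` passes to basic opens. -/
theorem subset_span_basic {U : Y.AffineZariskiSite} {n : ℕ} {s : 𝒮.presheaf.obj (op U.1)} {W D : X.AffineZariskiSite}
    (hD : D ≤ W) (h : W.1 ≤ q ⁻¹ᵁ U.1)
    (hsub : (𝒮L.deg W.1 W.2 n : Set (𝒮L.presheaf.obj (op W.1))) ⊆
      (Ideal.span {(u.appLE U.1 W.1 h).hom s} : Set (𝒮L.presheaf.obj (op W.1)))) :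
    (𝒮L.deg D.1 D.2 n : Set (𝒮L.presheaf.obj (op D.1))) ⊆
      (Ideal.span {(u.appLE U.1 D.1 ((Scheme.AffineZariskiSite.toOpens_mono hD).trans h)).hom s} :
        Set (𝒮L.presheaf.obj (op D.1))) := by
  intro z hz
  obtain ⟨c, hc, hloc⟩ := RelProjK.rs_away 𝒮L hD
  obtain ⟨k, a, ha, hak⟩ := RelProjK.exists_homogeneous_num (rs 𝒮L hD) c hc hloc hz
  obtain ⟨b, hb⟩ := Ideal.mem_span_singleton'.mp (hsub ha)
  letI := (rs 𝒮L hD).toRingHom.toAlgebra
  haveI := hloc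
  have hu : IsUnit (rs 𝒮L hD c) :=
    IsLocalization.map_units (𝒮L.presheaf.obj (op D.1)) (⟨c, Submonoid.mem_powers c⟩ : Submonoid.powers c)
  obtain ⟨v, hv⟩ := (hu.pow k).exists_left_inv
  refine Ideal.mem_span_singleton'.mpr ⟨v * rs 𝒮L hD b, ?_⟩
  have e : rs 𝒮L hD ((u.appLE U.1 W.1 h).hom s) = (u.appLE U.1 D.1 ((Scheme.AffineZariskiSite.toOpens_mono hD).trans h)).hom s := by
    show (u.appLE U.1 W.1 h ≫ 𝒮L.presheaf.map _).hom s = _
    rw [u.appLE_map]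
  rw [← e, mul_assoc, ← map_mul, hb, hak, ← mul_assoc, hv, one_mul]

include hL hLq hj in
/-- The locus, in a trivialization. -/
theorem mem_XS_iff (U : Y.AffineZariskiSite) (t : Triv L) (h : t.V.1 ≤ q ⁻¹ᵁ U.1) {n : ℕ}
    {s : 𝒮.presheaf.obj (op U.1)} (hs : s ∈ dg 𝒮 U n) {x : X} (hx : x ∈ t.V.1) :
    x ∈ XS u U n s ↔ x ∈ X.basicOpen (psi hLq hj u U t h s) := by
  constructor
  · intro hxS
    obtain ⟨⟨⟨W, hW⟩, hWU, hsub⟩, hxW⟩ := Opens.mem_iSup.mp hxS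
    obtain ⟨f, g, hfg, hxf⟩ := exists_basicOpen_le_affine_inter hW t.V.2 x ⟨hxW, hx⟩
    let D : X.AffineZariskiSite := ⟨X.basicOpen f, hW.basicOpen f⟩
    have hDW : D ≤ (⟨W, hW⟩ : X.AffineZariskiSite) := ⟨f, rfl⟩
    have hDt : D ≤ t.V := ⟨g, hfg.symm⟩
    have hu := (subset_span_iff hLq hj u U (t.res hDt) ((Scheme.AffineZariskiSite.toOpens_mono hDt).trans h) hs).mp
      (subset_span_basic u hDW hWU hsub)
    rw [psi_res hLq hj u U t h hDt hs] at hu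
    have e := X.basicOpen_of_isUnit hu
    rw [Scheme.basicOpen_res] at e
    exact (show x ∈ D.1 ⊓ X.basicOpen (psi hLq hj u U t h s) from e.symm ▸ hxf).2
  · intro hxS
    let D : X.AffineZariskiSite := ⟨X.basicOpen (psi hLq hj u U t h s), t.V.2.basicOpen _⟩
    have hDt : D ≤ t.V := ⟨_, rfl⟩
    refine Opens.mem_iSup.mpr ⟨⟨⟨D.1, D.2⟩, (Scheme.AffineZariskiSite.toOpens_mono hDt).trans h, ?_⟩, hxS⟩
    refine (subset_span_iff hLq hj u U (t.res hDt) ((Scheme.AffineZariskiSite.toOpens_mono hDt).trans h) hs).mpr ?_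
    rw [psi_res hLq hj u U t h hDt hs]
    exact RingedSpace.isUnit_res_basicOpen _ _

variable {p : P ⟶ Y} {chart : ∀ (U : Y.Opens) (hU : IsAffineOpen U), (((p ⁻¹ᵁ U : P.Opens) : Scheme.{u}) ≅ Proj (𝒮.deg U hU))}
  {pL : PL ⟶ X}
  {chartL : ∀ (U : X.Opens) (hU : IsAffineOpen U), (((pL ⁻¹ᵁ U : PL.Opens) : Scheme.{u}) ≅ Proj (𝒮L.deg U hU))}
  (hP : RelProj.IsRelProj 𝒮 p chart) (hPL : RelProj.IsRelProj 𝒮L pL chartL)

include hL hLq hj hPL in
/-- The locus, on a chart of `Proj` of the symmetric algebra. -/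
theorem mem_XS_iff_notMem (U : Y.AffineZariskiSite) (t : Triv L) (h : t.V.1 ≤ q ⁻¹ᵁ U.1) {n : ℕ}
    {s : 𝒮.presheaf.obj (op U.1)} (hs : s ∈ dg 𝒮 U n) (y : ProjectiveSpectrum (dg 𝒮L t.V)) :
    pL (em pL chartL t.V y) ∈ XS u U n s ↔ gu u (tp U t h) s ∉ y.asHomogeneousIdeal := by
  rw [mem_XS_iff hL hLq hj u U t h hs ((mem_opensRange_em (chart := chartL) t.V).mp ⟨y, rfl⟩),
    base_mem_basicOpen_iff hPL]
  exact not_congr (mem_iff_str_coef_mem hLq hj t ((gu u (tp U t h)).map_mem hs) y).symm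

include hL hLq hj hPL in
theorem preimage_XS_le (U : Y.AffineZariskiSite) {n : ℕ} (hn : 0 < n)
    {s : 𝒮.presheaf.obj (op U.1)} (hs : s ∈ dg 𝒮 U n) : pL ⁻¹ᵁ XS u U n s ≤ RelProj.domQ u pL chartL := by
  intro z hz
  obtain ⟨t, hxt, hle⟩ := exists_triv_le hL (XS_le u U n s hz)
  obtain ⟨y, rfl⟩ := (mem_opensRange_em (chart := chartL) t.V).mpr hxt
  exact RelCone8.emb_mem_Gu_of_mem u pL chartL (i := tp U t hle) ((RelCone8.mem_domOpen_iff _ y).mpr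
    ⟨⟨⟨n, hn⟩, ⟨s, hs⟩⟩, (mem_XS_iff_notMem hL hLq hj u hPL U t hle hs y).mp hz⟩)

variable {r : ((RelProj.domQ u pL chartL : PL.Opens) : Scheme.{u}) ⟶ P}
  (hr : RelProj.IsProjQMapOn u p chart pL chartL (RelProj.domQ u pL chartL) r)

include hP hPL hr in
theorem r_base (z : (RelProj.domQ u pL chartL : Scheme.{u})) : p (r z) = q (pL z.1) :=
  ConcreteCategory.congr_hom (congrArg (fun f => f.base)
    (RelCone8.isQ_comp u hPL hP ((RelCone8.isQ_iff u r).mpr hr))) z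

include hL hLq hj hP hPL hr in
/-- The preimage of a basic open. -/
theorem mem_iff_mem_XS (U : Y.AffineZariskiSite) {n : ℕ} (hn : 0 < n) {s : 𝒮.presheaf.obj (op U.1)}
    (hs : s ∈ dg 𝒮 U n) (z : (RelProj.domQ u pL chartL : Scheme.{u})) :
    r z ∈ em p chart U ''ᵁ Proj.basicOpen (dg 𝒮 U) s ↔ pL z.1 ∈ XS u U n s := by
  have key : ∀ (t : Triv L) (h : t.V.1 ≤ q ⁻¹ᵁ U.1), pL z.1 ∈ t.V.1 →
      (r z ∈ em p chart U ''ᵁ Proj.basicOpen (dg 𝒮 U) s ↔ pL z.1 ∈ XS u U n s) := by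
    intro t h hxt
    obtain ⟨y, hy⟩ := (mem_opensRange_em (chart := chartL) t.V).mpr hxt
    have hyd : y ∈ RelCone.domOpen (gu u (tp U t h)) :=
      (RelCone8.emb_mem_Gu_iff u hPL (tp U t h) y).mp (by
        show em pL chartL t.V y ∈ RelProj.domQ u pL chartL
        rw [hy]; exact z.2)
    let w : (RelCone.domOpen (gu u (tp U t h)) : Scheme.{u}) := ⟨y, hyd⟩
    have hzw : RelCone8.qEmb u pL chartL (tp U t h) w = z := by
      apply (RelProj.domQ u pL chartL).ι.isOpenEmbedding.injective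
      refine Eq.trans ?_ hy
      exact ConcreteCategory.congr_hom (congrArg (fun f => f.base) (RelCone8.qEmb_ι u pL chartL (tp U t h))) w
    have hrz : r z = em p chart U (RelCone8.domMap (gu u (tp U t h)) w) := by
      rw [← hzw]
      exact ConcreteCategory.congr_hom (congrArg (fun f => f.base) ((RelCone8.isQ_iff u r).mpr hr (tp U t h))) w
    rw [hrz, ← hy, mem_XS_iff_notMem hL hLq hj u hPL U t h hs y]
    have hpre := RelCone8.domMap_preimage_basicOpen (gu u (tp U t h)) s hn hs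
    constructor
    · rintro ⟨y', hy', e⟩
      obtain rfl := (em p chart U).isOpenEmbedding.injective e
      exact (show w ∈ (RelCone.domOpen (gu u (tp U t h))).ι ⁻¹ᵁ Proj.basicOpen _ (gu u (tp U t h) s) from hpre ▸ hy')
    · intro hy'
      exact ⟨_, (show w ∈ RelCone8.domMap (gu u (tp U t h)) ⁻¹ᵁ Proj.basicOpen (dg 𝒮 U) s from hpre.symm ▸ hy'), rfl⟩
  constructor
  · intro hz
    have hU : q (pL z.1) ∈ U.1 := by
      rw [← r_base u hP hPL hr z]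
      obtain ⟨y', -, e⟩ := hz
      exact e ▸ (mem_opensRange_em (chart := chart) U).mp ⟨y', rfl⟩
    obtain ⟨t, hxt, hle⟩ := exists_triv_le hL (x := pL z.1) (W := q ⁻¹ᵁ U.1) hU
    exact (key t hle hxt).mp hz
  · intro hz
    obtain ⟨t, hxt, hle⟩ := exists_triv_le hL (XS_le u U n s hz)
    exact (key t hle hxt).mpr hz

include hL hLq hj hP hPL hr in
theorem image_preimage_eq (U : Y.AffineZariskiSite) {n : ℕ} (hn : 0 < n) {s : 𝒮.presheaf.obj (op U.1)}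
    (hs : s ∈ dg 𝒮 U n) :
    (RelProj.domQ u pL chartL).ι ''ᵁ (r ⁻¹ᵁ (em p chart U ''ᵁ Proj.basicOpen (dg 𝒮 U) s)) = pL ⁻¹ᵁ XS u U n s := by
  ext z
  constructor
  · rintro ⟨w, hw, rfl⟩
    exact (mem_iff_mem_XS hL hLq hj u hP hPL hr U hn hs w).mp hw
  · intro hz
    exact ⟨⟨z, preimage_XS_le hL hLq hj u hPL U hn hs hz⟩,
      (mem_iff_mem_XS hL hLq hj u hP hPL hr U hn hs ⟨z, preimage_XS_le hL hLq hj u hPL U hn hs hz⟩).mpr hz, rfl⟩

include hL hLq hj hP hPL hr in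
/-- Every point of `G(ψ)` is in a locus over any affine open above it. -/
theorem exists_mem_XS (z : (RelProj.domQ u pL chartL : Scheme.{u})) (U : Y.AffineZariskiSite) (hU : q (pL z.1) ∈ U.1) :
    ∃ (n : ℕ) (s : 𝒮.presheaf.obj (op U.1)), 0 < n ∧ s ∈ dg 𝒮 U n ∧ pL z.1 ∈ XS u U n s := by
  rw [← r_base u hP hPL hr z] at hU
  obtain ⟨y, hy⟩ := (mem_opensRange_em (chart := chart) U).mpr hU
  obtain ⟨⟨⟨d, hd⟩, s, hs⟩, hys⟩ :=
    Opens.mem_iSup.mp ((RelTilde8.iSup_basicOpen_pos (𝒜 := dg 𝒮 U)).ge (Opens.mem_top y))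
  exact ⟨d, s, hd, hs, (mem_iff_mem_XS hL hLq hj u hP hPL hr U hd hs z).mp ⟨y, hys, hy⟩⟩

include hL hLq hj in
/-- A locus over a basic open is contained in one over the bigger open. -/
theorem exists_XS_le {U D : Y.AffineZariskiSite} (hD : D ≤ U) {n : ℕ} {s : 𝒮.presheaf.obj (op D.1)}
    (hs : s ∈ dg 𝒮 D n) : ∃ s' ∈ dg 𝒮 U n, XS u D n s ≤ XS u U n s' := by
  obtain ⟨c, hc, hloc⟩ := RelProjK.rs_away 𝒮 hD
  obtain ⟨k, a, ha, hak⟩ := RelProjK.exists_homogeneous_num (rs 𝒮 hD) c hc hloc hs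
  refine ⟨a, ha, fun x hx => ?_⟩
  obtain ⟨t, hxt, hle⟩ := exists_triv_le hL (XS_le u D n s hx)
  have h' : t.V.1 ≤ q ⁻¹ᵁ U.1 := hle.trans (q.preimage_mono (Scheme.AffineZariskiSite.toOpens_mono hD))
  have e : psi hLq hj u U t h' a = psi hLq hj u D t hle (rs 𝒮 hD a) := by
    refine congrArg (coef hLq hj t) ?_
    show (u.appLE U.1 t.V.1 h').hom a = (𝒮.presheaf.map _ ≫ u.appLE D.1 t.V.1 hle).hom a
    rw [u.map_appLE]
  rw [mem_XS_iff hL hLq hj u U t h' ha hxt, e, hak, map_mul, Scheme.basicOpen_mul]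
  refine ⟨?_, (mem_XS_iff hL hLq hj u D t hle hs hxt).mp hx⟩
  letI := (rs 𝒮 hD).toRingHom.toAlgebra
  haveI := hloc
  have hu : IsUnit (rs 𝒮 hD c) :=
    IsLocalization.map_units (𝒮.presheaf.obj (op D.1)) (⟨c, Submonoid.mem_powers c⟩ : Submonoid.powers c)
  exact (X.basicOpen_of_isUnit ((hu.pow k).map (psi hLq hj u D t hle))).ge hxt

end GrothLib.RLpsi8
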