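import Mathlib.AlgebraicGeometry.Morphisms.FlatMono
import Mathlib.AlgebraicGeometry.Morphisms.UniversallyInjective
import Mathlib.AlgebraicGeometry.Limits

/-!
# Monomorphisms into disjoint unions of spectra of fields
-/

universe u

open CategoryTheory Limits AlgebraicGeometry

namespace GrothLib.RLpsi8

theorem isIso_of_mono_to_field (K : Type u) [Field K] {X : Scheme.{u}} (f : X ⟶ Spec (CommRingCat.of K))
    [Mono f] [Nonempty X] : IsIso f := by
  have hs : Subsingleton X := ⟨fun a b => f.injective (Subsingleton.elim _ _)⟩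
  have : Finite X := Finite.of_subsingleton
  have : QuasiCompact f := (quasiCompact_iff_compactSpace f).mpr inferInstance
  have : Surjective f := ⟨fun y => ⟨Classical.arbitrary X, Subsingleton.elim _ _⟩⟩
  exact Flat.isIso_of_surjective_of_mono f

theorem exists_iso_sigma_of_mono' {ι : Type u} (s : ι → Scheme.{u})
    (hs : ∀ (i : ι) (X : Scheme.{u}) (g : X ⟶ s i), Mono g → Nonempty X → IsIso g)
    {Y : Scheme.{u}} (f : Y ⟶ ∐ s) [Mono f] :
    ∃ (J : Set ι) (e : Y ≅ ∐ fun j : J => s j.1),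
      e.hom ≫ Sigma.desc (fun j : J => Sigma.ι s j.1) = f := by
  let J : Set ι := {i | Nonempty (pullback f (Sigma.ι s i) : Scheme.{u})}
  have hiso : ∀ j : J, IsIso (pullback.snd f (Sigma.ι s j.1)) := fun j => by
    haveI : Nonempty (pullback f (Sigma.ι s j.1) : Scheme.{u}) := j.2
    exact hs _ _ _ inferInstance inferInstance
  let d : (∐ fun j : J => s j.1) ⟶ Y :=
    Sigma.desc fun j => inv (pullback.snd f (Sigma.ι s j.1)) ≫ pullback.fst _ _
  have hd : d ≫ f = Sigma.desc (fun j : J => Sigma.ι s j.1) := by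
    apply Sigma.hom_ext
    intro j
    rw [Sigma.ι_desc_assoc, Sigma.ι_desc, Category.assoc, pullback.condition, IsIso.inv_hom_id_assoc]
  have hrange : ∀ j : J, Set.range (inv (pullback.snd f (Sigma.ι s j.1)) ≫ pullback.fst f (Sigma.ι s j.1)) =
      f ⁻¹' Set.range (Sigma.ι s j.1) := by
    intro j
    rw [Scheme.Hom.comp_base, TopCat.coe_comp, (inv (pullback.snd f (Sigma.ι s j.1))).surjective.range_comp,
      IsOpenImmersion.range_pullbackFst]
    rfl
  have : IsOpenImmersion d := by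
    refine isOpenImmersion_sigmaDesc _ _ fun a b hab => ?_
    simp only [Function.onFun]
    rw [hrange, hrange]
    refine Disjoint.preimage _ (Set.disjoint_left.mpr ?_)
    rintro _ ⟨x, rfl⟩ ⟨y, hy⟩
    rw [← sigmaMk_mk, ← sigmaMk_mk] at hy
    exact hab (Subtype.ext (congrArg Sigma.fst ((sigmaMk s).injective hy)).symm)
  have hsurj : ∀ y : Y, ∃ w, d w = y := by
    intro y
    obtain ⟨⟨i, x⟩, hx⟩ := (sigmaMk s).surjective (f y)
    rw [sigmaMk_mk] at hx
    have hy : y ∈ Set.range (pullback.fst f (Sigma.ι s i)) := by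
      rw [IsOpenImmersion.range_pullbackFst]
      exact ⟨x, hx⟩
    obtain ⟨p, -⟩ := hy
    have hj : i ∈ J := ⟨p⟩
    haveI : IsIso (pullback.snd f (Sigma.ι s i)) := hiso ⟨i, hj⟩
    have hy : y ∈ Set.range (inv (pullback.snd f (Sigma.ι s i)) ≫ pullback.fst f (Sigma.ι s i)) := by
      rw [hrange ⟨i, hj⟩]; exact ⟨x, hx⟩
    obtain ⟨w, hw⟩ := hy
    refine ⟨Sigma.ι (fun j : J => s j.1) ⟨i, hj⟩ w, ?_⟩
    rw [← Scheme.Hom.comp_apply, Sigma.ι_desc]
    exact hw
  have : Surjective d := ⟨hsurj⟩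
  have : IsIso d := (isIso_iff_isOpenImmersion_and_surjective d).mpr ⟨inferInstance, inferInstance⟩
  refine ⟨J, (asIso d).symm, ?_⟩
  rw [Iso.symm_hom, asIso_inv, IsIso.inv_comp_eq, hd]

theorem exists_iso_sigma_of_mono {ι : Type u} (k : ι → Type u) [∀ i, Field (k i)]
    {Y : Scheme.{u}} (f : Y ⟶ ∐ fun i => Spec (CommRingCat.of (k i))) [Mono f] :
    ∃ (J : Set ι) (e : Y ≅ ∐ fun j : J => Spec (CommRingCat.of (k j.1))),
      e.hom ≫ Sigma.desc (fun j : J => Sigma.ι (fun i => Spec (CommRingCat.of (k i))) j.1) = f :=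
  exists_iso_sigma_of_mono' (fun i => Spec (CommRingCat.of (k i)))
    (fun i _ g hg hX => by haveI := hg; haveI := hX; exact isIso_of_mono_to_field (k i) g) f

end GrothLib.RLpsi8
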