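import Groth.Agent.Lib.RLpsi8.QAffSpec
import Groth.Agent.Lib.RLpsi8.ImmSpec
import Mathlib.AlgebraicGeometry.Normalization

/-!
# Immersions into the relative normalization and factorizations through finite morphisms
-/

set_option autoImplicit false
set_option backward.isDefEq.respectTransparency false

universe u

open CategoryTheory CategoryTheory.Limits AlgebraicGeometry TopologicalSpace Opposite

namespace GrothLib.RLpsi8.NormImm

/-- An affine scheme over `S` is the relative spectrum of its direct image algebra. -/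
theorem exists_iso_spec_directImage {Z S : Scheme.{u}} (p : Z ⟶ S) [IsAffineHom p] :
    ∃ e : Z ≅ (RelSpec.QCAlg.directImage p).spec, e.hom ≫ (RelSpec.QCAlg.directImage p).π = p := by
  let A := RelSpec.QCAlg.directImage p
  obtain ⟨c, e, h⟩ := _root_.RLpsi8.exists_toSpecDirectImage p
  suffices IsIso c from ⟨asIso c, e⟩
  refine (IsZariskiLocalAtTarget.iff_of_iSup_eq_top (P := MorphismProperty.isomorphisms Scheme)
    (fun U : S.affineOpens => A.π ⁻¹ᵁ U.1) ?_).mpr fun U => ?_
  · rw [← Scheme.Hom.preimage_iSup, iSup_affineOpens_eq_top, Scheme.Hom.preimage_top]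
  · haveI : IsAffine (A.π ⁻¹ᵁ U.1).toScheme := U.2.preimage A.π
    have hpre : c ⁻¹ᵁ (A.π ⁻¹ᵁ U.1) = p ⁻¹ᵁ U.1 := by rw [← Scheme.Hom.comp_preimage, e]
    haveI : IsAffine (c ⁻¹ᵁ (A.π ⁻¹ᵁ U.1)).toScheme := by
      rw [hpre]
      exact U.2.preimage p
    have hi : IsIso ((AffAlg.algHom A.π p c e).app (op U.1)) := by
      rw [← h]
      haveI := _root_.RLpsi8.isIso_gammaMap A
      infer_instance
    rw [GrothLib.AffAlg8.algHom_app] at hi
    have h2 : IsIso (c.app (A.π ⁻¹ᵁ U.1)) := by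
      have : c.appLE (A.π ⁻¹ᵁ U.1) (p ⁻¹ᵁ U.1) hpre.ge =
          c.app (A.π ⁻¹ᵁ U.1) ≫ Z.presheaf.map (homOfLE hpre.ge).op := rfl
      rw [this] at hi
      haveI : IsIso (homOfLE hpre.ge) := ⟨homOfLE hpre.le, Subsingleton.elim _ _, Subsingleton.elim _ _⟩
      exact IsIso.of_isIso_comp_right _ (Z.presheaf.map (homOfLE hpre.ge).op)
    haveI : IsIso (c ∣_ (A.π ⁻¹ᵁ U.1)).appTop := by
      rw [Scheme.Hom.appTop, morphismRestrict_app]
      have : IsIso (c.app ((A.π ⁻¹ᵁ U.1).ι ''ᵁ ⊤)) := by rw [Scheme.Opens.ι_image_top]; exact h2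
      infer_instance
    show IsIso (c ∣_ (A.π ⁻¹ᵁ U.1))
    generalize (c ∣_ (A.π ⁻¹ᵁ U.1)) = k at *
    haveI : IsOpenImmersion k := _root_.RLpsi8.isOpenImmersion_of_isIso_appTop k
    have : k = Scheme.toSpecΓ _ ≫ Spec.map k.appTop ≫ inv (Scheme.toSpecΓ _) := by
      rw [← Category.assoc, IsIso.eq_comp_inv, Scheme.toSpecΓ_naturality]
    rw [this]
    infer_instance

/-- A finite type subalgebra of an integral algebra has finite relative spectrum. -/
theorem isFinite_π_of_sub {Y : Scheme.{u}} {C' C : RelSpec.QCAlg Y} (φ : C' ⟶ C)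
    (hinj : ∀ U : Y.Opens, Function.Injective (φ.hom.app (op U)))
    (hft : ∀ U : Y.affineOpens, (C'.str.app (op (U : Y.Opens))).hom.FiniteType)
    (hint : ∀ U : Y.affineOpens, (C.str.app (op (U : Y.Opens))).hom.IsIntegral) :
    IsFinite C'.π := by
  refine { toIsAffineHom := inferInstance, finite_app := fun U hU => ?_ }
  have hi : (C'.str.app (op U)).hom.IsIntegral := by
    intro b
    obtain ⟨P, hP, hPb⟩ := hint ⟨U, hU⟩ ((φ.hom.app (op U)).hom b)
    refine ⟨P, hP, hinj U ?_⟩
    have hc : C.str.app (op U) = C'.str.app (op U) ≫ φ.hom.app (op U) := by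
      rw [← NatTrans.comp_app, φ.comm]
    rw [hc, CommRingCat.hom_comp, ← Polynomial.hom_eval₂] at hPb
    rw [map_zero]
    exact hPb
  have hfin : (C'.str.app (op U)).hom.Finite := hi.to_finite (hft ⟨U, hU⟩)
  haveI := _root_.RLpsi8.isIso_gammaAff C' U hU
  have h3 : C'.π.app U = C'.str.app (op U) ≫ inv (C'.gammaAff U hU) := by
    rw [IsIso.eq_comp_inv, C'.π_app_gammaAff U hU]
  rw [h3, CommRingCat.hom_comp]
  exact RingHom.Finite.comp (RingHom.Finite.of_surjective _
    (ConcreteCategory.bijective_of_isIso (inv (C'.gammaAff U hU))).2) hfin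

/-- the criterion -/
theorem exists_immersion_finite_fac {X Y : Scheme.{u}} (f : X ⟶ Y)
    [CompactSpace Y] [QuasiSeparatedSpace Y] [QuasiSeparated f] [LocallyOfFiniteType f] [QuasiCompact f]
    [IsImmersion f.toNormalization] :
    ∃ (Y' : Scheme.{u}) (f' : X ⟶ Y') (v : Y' ⟶ Y), IsImmersion f' ∧ IsFinite v ∧ f' ≫ v = f := by
  obtain ⟨e, he⟩ := exists_iso_spec_directImage f.fromNormalization
  let C := RelSpec.QCAlg.directImage f.fromNormalization
  have hg : (f.toNormalization ≫ e.hom) ≫ C.π = f := by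
    rw [Category.assoc, he, Scheme.Hom.toNormalization_fromNormalization]
  obtain ⟨C', φ, hinj, hft, himm⟩ :=
    _root_.RLpsi8.exists_immersion_subalgebra f C (f.toNormalization ≫ e.hom) hg
  refine ⟨C'.spec, (f.toNormalization ≫ e.hom) ≫ RelSpec.QCAlg.specMap φ, C'.π, himm, ?_, ?_⟩
  · exact isFinite_π_of_sub φ hinj hft fun U => f.fromNormalization.isIntegral_app U.1 U.2
  · rw [Category.assoc, RelSpec.QCAlg.specMap_π, hg]

end GrothLib.RLpsi8.NormImm
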