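import Groth.Agent.Lib.RLpsi8.PCSource
import Groth.Agent.Lib.PerfHom.Tor
import Groth.Agent.Lib.PerfHom.StalksScheme
import Groth.Agent.Lib.PerfHom.Descent

/-!
# Perfect morphisms and fppf covers of the source
-/

set_option autoImplicit false
set_option linter.style.haveILetI false

universe u

open CategoryTheory CategoryTheory.Limits AlgebraicGeometry GrothLib.DR

attribute [local instance] HasDerivedCategory.standard

namespace GrothLib.RLpsi8.PCSource

open GrothLib.PHom

/-- Tor dimension descends along faithfully flat maps out of the algebra. -/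
theorem torDimLE_source {A B C : Type u} [CommRing A] [CommRing B] [CommRing C] [Algebra A B] [Algebra B C]
    [Algebra A C] [IsScalarTower A B C] [Module.FaithfullyFlat B C] {d : ℕ} (h : DRing.HasTorDimLE A d C) :
    DRing.HasTorDimLE A d B := by
  refine (torDimLE_iff_bc d).2 fun N _ _ p hp => ?_
  rw [HomologicalComplex.exactAt_iff_isZero_homology]
  refine covers_faithfullyFlat (A := B) (B := C) _ fun _ => ?_
  let ψ := algebraMap B C
  haveI := preservesFiniteLimits_extendScalars ψ (RingHom.flat_algebraMap_iff.2 inferInstance)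
  haveI := (ModuleCat.extendRestrictScalarsAdj.{u} ψ).leftAdjoint_preservesColimits
  refine ((HomologicalComplex.exactAt_iff_isZero_homology _ _).1 ?_).of_iso
    (mapHomologyIso (ModuleCat.extendScalars.{u, u, u} ψ) _ _).symm
  refine (KF.exactAt_iff_of_iso (bcCompIso (algebraMap A B) ψ _) _).1 ?_
  rw [← IsScalarTower.algebraMap_eq]
  exact (torDimLE_iff_bc d).1 h N p hp

theorem perfect_iff_of_fppf_cover {X X' S : Scheme.{u}} (f : X ⟶ S) (a : X' ⟶ X) [Flat a] [Surjective a]
    [LocallyOfFinitePresentation a] : MoreMor.IsPerfectMor f ↔ MoreMor.IsPerfectMor (a ≫ f) := by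
  have hpc := iff_of_fppf_cover f a
  have key : ∀ y : X', (letI := (f.stalkMap (a y)).hom.toAlgebra
       DRing.HasFiniteTorDim ↑(S.presheaf.stalk (f (a y))) ↑(X.presheaf.stalk (a y))) ↔
      (letI := ((a ≫ f).stalkMap y).hom.toAlgebra
       DRing.HasFiniteTorDim ↑(S.presheaf.stalk ((a ≫ f) y)) ↑(X'.presheaf.stalk y)) := by
    intro y
    rw [Scheme.Hom.stalkMap_comp]
    let A := S.presheaf.stalk (f (a y))
    let B := X.presheaf.stalk (a y)
    let C := X'.presheaf.stalk y
    letI algAB : Algebra A B := (f.stalkMap (a y)).hom.toAlgebra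
    letI algBC : Algebra B C := (a.stalkMap y).hom.toAlgebra
    letI algAC : Algebra A C := (f.stalkMap (a y) ≫ a.stalkMap y).hom.toAlgebra
    haveI : IsScalarTower A B C := IsScalarTower.of_algebraMap_eq' rfl
    haveI : Module.Flat B C := Flat.stalkMap a y
    haveI : IsLocalHom (algebraMap B C) := a.toLRSHom.prop y
    haveI : Module.FaithfullyFlat B C := Module.FaithfullyFlat.of_flat_of_isLocalHom
    constructor
    · intro h
      exact finiteTorDim_trans (A := A) (B := B) (C := C) h (finiteTorDim_of_flat C)
    · rintro ⟨d, hd⟩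
      exact ⟨d, torDimLE_source (A := A) (B := B) (C := C) hd⟩
  constructor
  · intro h
    have h1 : MoreMor.IsPseudoCoherentMor f := fun U V hU hV hle => (h U V hU hV hle).1
    exact (perfMor_iff_stalks _ (hpc.1 h1)).2 fun y => (key y).1 ((perfMor_iff_stalks f h1).1 h (a y))
  · intro h
    have h1 : MoreMor.IsPseudoCoherentMor (a ≫ f) := fun U V hU hV hle => (h U V hU hV hle).1
    refine (perfMor_iff_stalks f (hpc.2 h1)).2 fun x => ?_
    obtain ⟨y, rfl⟩ := a.surjective x
    exact (key y).2 ((perfMor_iff_stalks _ h1).1 h y)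

end GrothLib.RLpsi8.PCSource
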