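import Groth.Agent.Lib.BlowUp.AffineCompl

/-!
# `D(a) ⊔ D(b)` is not affine when `a` is prime, `a ∤ b` and `(a, b)` is proper
-/

universe u

open CategoryTheory AlgebraicGeometry

namespace GrothLib.RLpsi8

open GrothLib.BlowUp

theorem not_isAffineOpen_specD_sup {A : CommRingCat.{u}} [IsDomain A] (π b : A) (hπ : Prime π)
    (hbπ : b ∉ Ideal.span {π}) (p₀ : Spec A) (h₁ : π ∈ p₀.asIdeal) (h₂ : b ∈ p₀.asIdeal) :
    ¬ IsAffineOpen (specD π ⊔ specD b) := by
  intro hWa
  set W := specD π ⊔ specD b with hWdef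
  have hbas : ∀ a : A, a = π ∨ a = b → specD a ≤ W := by
    rintro a (rfl | rfl)
    · exact le_sup_left
    · exact le_sup_right
  have hπm : π = π ∨ π = b := Or.inl rfl
  have hbm : b = π ∨ b = b := Or.inr rfl
  have hloc : ∀ a : A, IsLocalization.Away a Γ(Spec A, specD a) := fun a =>
    inferInstanceAs (IsLocalization.Away a Γ(Spec A, PrimeSpectrum.basicOpen a))
  set R : ∀ U : (Spec A).Opens, A →+* Γ(Spec A, U) := fun U =>
    ((Scheme.ΓSpecIso A).inv ≫ (Spec A).presheaf.map (homOfLE (le_top : U ≤ ⊤)).op).hom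
  have halg : ∀ (a : A), R (specD a) = algebraMap A Γ(Spec A, specD a) :=
    fun a => rfl
  have hres : ∀ (U V : (Spec A).Opens) (h : V ≤ U) (r : A), (Spec A).presheaf.map (homOfLE h).op (R U r) = R V r := by
    intro U V h r
    show (((Scheme.ΓSpecIso A).inv ≫ (Spec A).presheaf.map (homOfLE le_top).op) ≫
      (Spec A).presheaf.map (homOfLE h).op).hom r = _
    rw [Category.assoc, ← Functor.map_comp]
    rfl
  have hinjD : ∀ a r : A, a ≠ 0 → R (specD a) r = 0 → r = 0 := by
    intro a r ha h
    obtain ⟨⟨_, n, rfl⟩, e⟩ := (IsLocalization.map_eq_zero_iff (Submonoid.powers a) _ r).mp h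
    exact (mul_eq_zero.mp e).resolve_left (pow_ne_zero n ha)
  have hsurj : Function.Surjective (R W) := by
    intro s
    let res : ∀ a : A, a = π ∨ a = b → Γ(Spec A, specD a) := fun a ha =>
      (Spec A).presheaf.map (homOfLE (hbas a ha)).op s
    obtain ⟨⟨x, _, n, rfl⟩, ex⟩ := IsLocalization.surj (Submonoid.powers π) (res π hπm)
    obtain ⟨⟨y, _, k, rfl⟩, ey⟩ := IsLocalization.surj (Submonoid.powers b) (res b hbm)
    replace ex : (Spec A).presheaf.map (homOfLE (hbas π hπm)).op s * R _ (π ^ n) = R _ x := ex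
    replace ey : (Spec A).presheaf.map (homOfLE (hbas b hbm)).op s * R _ (b ^ k) = R _ y := ey
    have hlea : specD (π * b) ≤ specD π :=
      PrimeSpectrum.basicOpen_mul_le_left π b
    have hleb : specD (π * b) ≤ specD b :=
      PrimeSpectrum.basicOpen_mul_le_right π b
    have hb0 : b ≠ 0 := fun h => hbπ (h ▸ zero_mem _)
    set D := (Spec A).presheaf.map (homOfLE ((hlea.trans (hbas π hπm)))).op s
    have e1 : D * R _ (π ^ n) = R _ x := by
      have := congrArg ((Spec A).presheaf.map (homOfLE hlea).op) ex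
      rw [map_mul, hres, hres, ← CategoryTheory.comp_apply, ← Functor.map_comp] at this
      exact this
    have e2 : D * R _ (b ^ k) = R _ y := by
      have := congrArg ((Spec A).presheaf.map (homOfLE hleb).op) ey
      rw [map_mul, hres, hres, ← CategoryTheory.comp_apply, ← Functor.map_comp] at this
      exact this
    have hxy : b ^ k * x = π ^ n * y := by
      refine sub_eq_zero.mp (hinjD (π * b) _ (mul_ne_zero hπ.ne_zero hb0) ?_)
      rw [map_sub, map_mul, map_mul, ← e1, ← e2]
      ring
    obtain ⟨x', rfl⟩ : π ^ n ∣ x := hπ.pow_dvd_of_dvd_mul_left n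
      (fun h => hbπ (Ideal.mem_span_singleton.mpr (hπ.dvd_of_dvd_pow h))) ⟨y, hxy⟩
    refine ⟨x', ?_⟩
    refine (sub_eq_zero.mp ?_).symm
    set t := s - R W x'
    have ht0 : (Spec A).presheaf.map (homOfLE (hbas π hπm)).op t = 0 := by
      have hu : IsUnit (R (specD π) (π ^ n)) :=
        IsLocalization.map_units _ (⟨π ^ n, n, rfl⟩ : Submonoid.powers π)
      refine hu.mul_left_eq_zero.mp ?_
      simp only [t]
      rw [map_sub, hres, sub_mul]
      refine sub_eq_zero.mpr ?_
      rw [← map_mul, mul_comm x' (π ^ n)]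
      exact ex
    refine TopCat.Presheaf.section_ext (Spec A).sheaf W t 0 fun p hp => ?_
    obtain ⟨a, ham, hap⟩ : ∃ a : A, (a = π ∨ a = b) ∧ a ∉ p.asIdeal := by
      rcases hp with hp | hp
      · exact ⟨π, hπm, hp⟩
      · exact ⟨b, hbm, hp⟩
    have ha0 : a ≠ 0 := fun h => hap (h ▸ zero_mem _)
    have h0 : (Spec A).presheaf.map (homOfLE (hbas a ham)).op t = 0 := by
      obtain ⟨⟨w, _, l, rfl⟩, ew⟩ := IsLocalization.surj (Submonoid.powers a)
        ((Spec A).presheaf.map (homOfLE (hbas a ham)).op t : Γ(Spec A, specD a))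
      replace ew : (Spec A).presheaf.map (homOfLE (hbas a ham)).op t * R _ (a ^ l) = R _ w := ew
      have hlea' : specD (a * π) ≤ specD a :=
        PrimeSpectrum.basicOpen_mul_le_left a π
      have hleπ : specD (a * π) ≤ specD π :=
        PrimeSpectrum.basicOpen_mul_le_right a π
      have hw : w = 0 := by
        refine hinjD (a * π) w (mul_ne_zero ha0 hπ.ne_zero) ?_
        rw [← hres _ _ hlea' w, ← ew, map_mul, ← CategoryTheory.comp_apply, ← Functor.map_comp]
        have := congrArg ((Spec A).presheaf.map (homOfLE hleπ).op) ht0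
        rw [map_zero, ← CategoryTheory.comp_apply, ← Functor.map_comp] at this
        erw [this, zero_mul]
      rw [hw, map_zero] at ew
      exact (IsLocalization.map_units _ (⟨a ^ l, l, rfl⟩ : Submonoid.powers a)).mul_left_eq_zero.mp ew
    show (Spec A).presheaf.germ W p hp t = (Spec A).presheaf.germ W p hp 0
    rw [map_zero, ← TopCat.Presheaf.germ_res_apply (Spec A).presheaf (homOfLE (hbas a ham)) p hap t, h0, map_zero]
  have hinj : Function.Injective (R W) := by
    rw [injective_iff_map_eq_zero]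
    intro r hr
    refine hinjD π r hπ.ne_zero ?_
    rw [← hres W _ (hbas π hπm), hr, map_zero]
  have hiso : IsIso ((Scheme.ΓSpecIso A).inv ≫ (Spec A).presheaf.map (homOfLE (le_top : W ≤ ⊤)).op) :=
    (ConcreteCategory.isIso_iff_bijective _).mpr ⟨hinj, hsurj⟩
  have hiso' : IsIso ((Spec A).presheaf.map (homOfLE (le_top : W ≤ ⊤)).op) := IsIso.of_isIso_comp_left (Scheme.ΓSpecIso A).inv _
  have e := (isAffineOpen_top (Spec A)).map_fromSpec hWa (homOfLE (le_top : W ≤ ⊤)).op
  have : p₀ ∈ Set.range hWa.fromSpec := by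
    rw [← e, Scheme.Hom.comp_base, TopCat.coe_comp, Set.range_comp,
      Set.range_eq_univ.mpr (Spec.map ((Spec A).presheaf.map (homOfLE (le_top : W ≤ ⊤)).op)).surjective,
      Set.image_univ, (isAffineOpen_top (Spec A)).range_fromSpec]
    trivial
  rw [hWa.range_fromSpec] at this
  rcases this with h | h
  · exact h h₁
  · exact h h₂

end GrothLib.RLpsi8
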