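import Groth.Agent.Lib.Algz56.Embedding
import Groth.Agent.Lib.QCoh.Abelian
import Groth.Agent.Lib.LocProj.Scheme
import Groth.Prelude.Def_ProjUP

/-!
# Points of projective space over an affine base
-/

set_option autoImplicit false
set_option backward.isDefEq.respectTransparency false

universe u

open CategoryTheory CategoryTheory.Limits AlgebraicGeometry TopologicalSpace Opposite

noncomputable section

namespace GrothLib.RLpsi8.ProjPt

variable {R : CommRingCat.{u}}

/-- The linear combination map of finitely many global sections. -/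
def lc (L : (Spec R).Modules) {m : ℕ} (s : Fin m → ProjUP.Γm L) :
    (Fin m → R) →ₗ[R] moduleSpecΓFunctor.obj L :=
  Fintype.linearCombination R (α := Fin m) (M := moduleSpecΓFunctor.obj L) fun i => s i

lemma lc_single (L : (Spec R).Modules) {m : ℕ} (s : Fin m → ProjUP.Γm L) (i : Fin m) :
    lc L s (Pi.single i 1) = s i := by
  simp [lc, Fintype.linearCombination_apply_single]

theorem lc_surjective (L : (Spec R).Modules) [L.IsQuasicoherent] {m : ℕ} (s : Fin m → ProjUP.Γm L)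
    (hs : ProjUP.GeneratedBy L s) : Function.Surjective (lc L s) := by
  haveI : IsIso L.fromTildeΓ := Scheme.Modules.isIso_fromTildeΓ_of_isQuasicoherent L
  let N : ModuleCat.{u} R := ModuleCat.of R (Fin m → R)
  let ψ : N ⟶ moduleSpecΓFunctor.obj L := (ModuleCat.homEquiv (M := N) (N := moduleSpecΓFunctor.obj L)).symm (lc L s)
  let φ : tilde N ⟶ L := (tilde.adjunction.homEquiv N L).symm ψ
  have hφ : tilde.adjunction.unit.app N ≫ moduleSpecΓFunctor.map φ = ψ := by
    rw [← tilde.adjunction.homEquiv_unit N L φ, Equiv.apply_symm_apply]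
  have hsec : ∀ v : N, φ.app ⊤ ((tilde.adjunction.unit.app N).hom v) = lc L s v := fun v => by
    have h := congrArg (fun q : N ⟶ moduleSpecΓFunctor.obj L => q.hom v) hφ
    exact h
  have hepi : Epi φ := (OX.epi_iff φ).2 fun x => by
    refine (ModuleCat.epi_iff_surjective _).2 ?_
    show Function.Surjective (QCoh.stalkLin φ x)
    rw [← LinearMap.range_eq_top, ← top_le_iff, ← hs x, Submodule.span_le]
    rintro _ ⟨i, rfl⟩
    refine ⟨(tilde N).presheaf.germ ⊤ x trivial ((tilde.adjunction.unit.app N).hom (Pi.single i 1 : Fin m → R)), ?_⟩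
    rw [QCoh.stalkLin_germ, hsec, lc_single]
  have h1 : φ = (tilde.functor R).map ψ ≫ L.fromTildeΓ :=
    tilde.adjunction.homEquiv_counit N L ψ
  have h2 : (tilde.functor R).map ψ = φ ≫ inv L.fromTildeΓ := by
    rw [h1, Category.assoc, IsIso.hom_inv_id, Category.comp_id]
  haveI : Epi ((tilde.functor R).map ψ) := by rw [h2]; exact epi_comp _ _
  haveI : Epi ψ := (tilde.functor R).epi_of_epi_map inferInstance
  have h5 := (ModuleCat.epi_iff_surjective ψ).1 inferInstance
  exact h5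

theorem exists_iso_of_ker_eq (L₁ L₂ : (Spec R).Modules) [L₁.IsQuasicoherent] [L₂.IsQuasicoherent] {m : ℕ}
    (s₁ : Fin m → ProjUP.Γm L₁) (s₂ : Fin m → ProjUP.Γm L₂) (h₁ : ProjUP.GeneratedBy L₁ s₁)
    (h₂ : ProjUP.GeneratedBy L₂ s₂) (hk : LinearMap.ker (lc L₁ s₁) = LinearMap.ker (lc L₂ s₂)) :
    ∃ τ : L₁ ≅ L₂, ∀ i, τ.hom.app ⊤ (s₁ i) = s₂ i := by
  haveI : IsIso L₁.fromTildeΓ := Scheme.Modules.isIso_fromTildeΓ_of_isQuasicoherent L₁
  haveI : IsIso L₂.fromTildeΓ := Scheme.Modules.isIso_fromTildeΓ_of_isQuasicoherent L₂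
  let e₁ := (lc L₁ s₁).quotKerEquivOfSurjective (lc_surjective L₁ s₁ h₁)
  let e₂ := (lc L₂ s₂).quotKerEquivOfSurjective (lc_surjective L₂ s₂ h₂)
  let θ : moduleSpecΓFunctor.obj L₁ ≅ moduleSpecΓFunctor.obj L₂ :=
    ((e₁.symm.trans (Submodule.quotEquivOfEq _ _ hk)).trans e₂).toModuleIso
  let τ : L₁ ≅ L₂ := (asIso L₁.fromTildeΓ).symm ≪≫ (tilde.functor R).mapIso θ ≪≫ asIso L₂.fromTildeΓ
  have hθ : moduleSpecΓFunctor.map τ.hom = θ.hom := by
    have hc : (tilde.functor R).map θ.hom ≫ L₂.fromTildeΓ = L₁.fromTildeΓ ≫ τ.hom := by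
      simp [τ]
    have h3 := congrArg (tilde.adjunction.homEquiv _ _) hc
    have hL : tilde.adjunction.homEquiv _ _ ((tilde.functor R).map θ.hom ≫ L₂.fromTildeΓ) = θ.hom := by
      rw [Adjunction.homEquiv_naturality_left]
      exact (congrArg _ (tilde.adjunction.right_triangle_components L₂)).trans (Category.comp_id _)
    have hR : tilde.adjunction.homEquiv _ _ (L₁.fromTildeΓ ≫ τ.hom) = moduleSpecΓFunctor.map τ.hom := by
      rw [Adjunction.homEquiv_naturality_right]
      exact (congrArg (· ≫ _) (tilde.adjunction.right_triangle_components L₁)).trans (Category.id_comp _)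
    exact hR.symm.trans (h3.symm.trans hL)
  refine ⟨τ, fun i => ?_⟩
  have h4 : (moduleSpecΓFunctor.map τ.hom).hom (s₁ i) = s₂ i := by
    rw [hθ, ← lc_single L₁ s₁ i, ← lc_single L₂ s₂ i]
    show e₂ (Submodule.quotEquivOfEq _ _ hk (e₁.symm (lc L₁ s₁ (Pi.single i 1)))) = _
    rw [show e₁.symm (lc L₁ s₁ (Pi.single i 1)) = Submodule.Quotient.mk (Pi.single i 1) from
      (LinearEquiv.symm_apply_eq _).2 rfl, Submodule.quotEquivOfEq_mk]
    rfl
  exact h4

end GrothLib.RLpsi8.ProjPt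

namespace GrothLib.RLpsi8.ProjPt

variable {R : Type u} [CommRing R] {n : ℕ}

theorem isInvertible_pull (s : Spec (CommRingCat.of R) ⟶ CohB1.ProjSpace n R) :
    PicF.IsInvertible ((Scheme.Modules.pullback s).obj (Twist.twistProjSpace n R 1)) :=
  Ample.isInvertible_pullback s
    (Ample.ProjMap.pcoc n R |>.isInvertible_of_iso (Ample.ProjMap.pcocIso n R))

theorem ext_of_secKernel (s₁ s₂ : Spec (CommRingCat.of R) ⟶ CohB1.ProjSpace n R)
    (h₁ : s₁ ≫ CohB1.ProjSpace.toSpec n R = 𝟙 _) (h₂ : s₂ ≫ CohB1.ProjSpace.toSpec n R = 𝟙 _)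
    (h : ProjUP.secKernel n R s₁ = ProjUP.secKernel n R s₂) : s₁ = s₂ := by
  haveI := InvExt.isQuasicoherent_of_isInvertible (isInvertible_pull s₁)
  haveI := InvExt.isQuasicoherent_of_isInvertible (isInvertible_pull s₂)
  obtain ⟨τ, hτ⟩ := exists_iso_of_ker_eq _ _ (fun i => ProjUP.pullSec s₁ _ (ProjUP.coord n R i))
    (fun i => ProjUP.pullSec s₂ _ (ProjUP.coord n R i)) (Algz56.generatedBy_pullCoord s₁)
    (Algz56.generatedBy_pullCoord s₂) h
  exact Ample.ProjMap.ext_of_iso s₁ s₂ (h₁.trans h₂.symm) τ hτ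

end GrothLib.RLpsi8.ProjPt
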