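import Groth.Agent.Lib.RLpsi8.ProjPt
import Groth.Agent.Lib.RLpsi8.RankOne
import Groth.Agent.Lib.RelProjK.Local

/-!
# The image of the points of projective space in the rank-one quotients
-/

set_option autoImplicit false
set_option backward.isDefEq.respectTransparency false

universe u

open CategoryTheory CategoryTheory.Limits AlgebraicGeometry TopologicalSpace Opposite

noncomputable section

namespace GrothLib.RLpsi8.ProjPt

theorem quotient_of_generated {R : CommRingCat.{u}} (L : (Spec R).Modules) (hL : PicF.IsInvertible L) {m : ℕ}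
    (s : Fin m → ProjUP.Γm L) (hs : ProjUP.GeneratedBy L s) :
    Module.Projective R ((Fin m → R) ⧸ LinearMap.ker (lc L s)) ∧ ∀ p : PrimeSpectrum R,
      Module.finrank (Localization.AtPrime p.asIdeal)
        (LocalizedModule p.asIdeal.primeCompl ((Fin m → R) ⧸ LinearMap.ker (lc L s))) = 1 := by
  haveI := InvExt.isQuasicoherent_of_isInvertible hL
  haveI : IsIso L.fromTildeΓ := Scheme.Modules.isIso_fromTildeΓ_of_isQuasicoherent L
  let e := (lc L s).quotKerEquivOfSurjective (lc_surjective L s hs)
  obtain ⟨h1, h2⟩ := RankOne.projective_rank_one (moduleSpecΓFunctor.obj L)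
    (RelProjK.isInvertible_of_iso (asIso L.fromTildeΓ) hL)
  refine ⟨Module.Projective.of_equiv e.symm, fun p => ?_⟩
  let l : LocalizedModule p.asIdeal.primeCompl ((Fin m → R) ⧸ LinearMap.ker (lc L s)) ≃ₗ[Localization.AtPrime p.asIdeal]
      LocalizedModule p.asIdeal.primeCompl (moduleSpecΓFunctor.obj L) :=
    IsLocalizedModule.mapEquiv p.asIdeal.primeCompl (LocalizedModule.mkLinearMap _ _)
      (LocalizedModule.mkLinearMap _ _) (Localization.AtPrime p.asIdeal) e
  rw [l.finrank_eq]
  exact h2 p

theorem exists_generated_of_quotient {R : CommRingCat.{u}} {m : ℕ} (F : Submodule R (Fin m → R))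
    (hp : Module.Projective R ((Fin m → R) ⧸ F))
    (hr : ∀ p : PrimeSpectrum R, Module.finrank (Localization.AtPrime p.asIdeal)
      (LocalizedModule p.asIdeal.primeCompl ((Fin m → R) ⧸ F)) = 1) :
    ∃ (L : (Spec R).Modules) (_ : PicF.IsInvertible L) (s : Fin m → ProjUP.Γm L),
      ProjUP.GeneratedBy L s ∧ LinearMap.ker (lc L s) = F := by
  let Q : ModuleCat.{u} R := ModuleCat.of R ((Fin m → R) ⧸ F)
  haveI : Module.Projective R Q := hp
  haveI : Module.Finite R Q := Module.Finite.quotient R F
  let s : Fin m → ProjUP.Γm (tilde Q) := fun i =>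
    (tilde.toOpen Q ⊤).hom (Submodule.Quotient.mk (Pi.single i 1))
  refine ⟨tilde Q, RankOne.isInvertible_tilde Q hr, s, fun x => ?_, ?_⟩
  · let x' : PrimeSpectrum.Top R := x
    let O := (Spec R).presheaf.stalk x'
    letI : Algebra R O := StructureSheaf.stalkAlgebra (R := R) x'
    haveI : IsLocalization.AtPrime O x'.asIdeal := StructureSheaf.IsLocalization.to_stalk (R := R) x'
    haveI : IsScalarTower R O ((tilde Q).presheaf.stalk x') := .of_algebraMap_smul fun _ _ => rfl
    haveI : IsLocalizedModule x'.asIdeal.primeCompl (tilde.toStalk Q x').hom := RankOne.isLocalizedModule_toStalk Q x'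
    let S := Submodule.span O (Set.range fun i => ((tilde Q).presheaf.germ ⊤ x' trivial).hom (s i))
    have hmem : ∀ q : Q, (tilde.toStalk Q x').hom q ∈ S := fun q => by
      obtain ⟨v, rfl⟩ := Submodule.Quotient.mk_surjective F q
      have hv : (Submodule.Quotient.mk v : (Fin m → R) ⧸ F) =
          ∑ i, v i • (Submodule.Quotient.mk (Pi.single i 1) : (Fin m → R) ⧸ F) := by
        conv_lhs => rw [pi_eq_sum_univ' v]
        exact map_sum F.mkQ _ _
      rw [hv, map_sum]
      refine Submodule.sum_mem _ fun i _ => ?_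
      rw [map_smul, ← IsScalarTower.algebraMap_smul O]
      exact Submodule.smul_mem _ _ (Submodule.subset_span ⟨i, rfl⟩)
    refine eq_top_iff.2 fun y _ => ?_
    obtain ⟨⟨q, a⟩, hqa⟩ := IsLocalizedModule.surj x'.asIdeal.primeCompl (tilde.toStalk Q x').hom y
    have hqa' : algebraMap R O a • y = (tilde.toStalk Q x').hom q := (IsScalarTower.algebraMap_smul O _ y).trans hqa
    obtain ⟨c, hc⟩ := isUnit_iff_exists_inv'.1 (IsLocalization.map_units O a)
    have hy : y = c • (tilde.toStalk Q x').hom q := by rw [← hqa', smul_smul, hc, one_smul]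
    rw [hy]
    exact Submodule.smul_mem S _ (hmem q)
  · have h : lc (tilde Q) s = ((tilde.toOpen Q ⊤).hom).comp F.mkQ := by
      refine LinearMap.pi_ext' fun i => LinearMap.ext_ring ?_
      exact lc_single (tilde Q) s i
    rw [h, LinearMap.ker_comp]
    have hinj : Function.Injective (tilde.toOpen Q ⊤).hom :=
      (ConcreteCategory.bijective_of_isIso (tilde.isoTop Q).hom).1
    rw [LinearMap.ker_eq_bot.2 hinj, Submodule.comap_bot, Submodule.ker_mkQ]

theorem lc_comp_iso {R : CommRingCat.{u}} {L M : (Spec R).Modules} (τ : L ≅ M) {m : ℕ}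
    (s : Fin m → ProjUP.Γm L) :
    LinearMap.ker (lc M fun i => τ.hom.app ⊤ (s i)) = LinearMap.ker (lc L s) := by
  have h : lc M (fun i => τ.hom.app ⊤ (s i)) = (moduleSpecΓFunctor.map τ.hom).hom.comp (lc L s) := by
    refine LinearMap.pi_ext' fun i => LinearMap.ext_ring ?_
    refine (lc_single M _ i).trans ?_
    exact (congrArg (moduleSpecΓFunctor.map τ.hom).hom (lc_single L s i)).symm
  rw [h]
  have hinj : Function.Injective (moduleSpecΓFunctor.map τ.hom).hom :=
    (ConcreteCategory.bijective_of_isIso (moduleSpecΓFunctor.map τ.hom)).1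
  exact LinearMap.ker_comp_of_ker_eq_bot _ (LinearMap.ker_eq_bot.2 hinj)

variable {R : Type u} [CommRing R] {n : ℕ}

theorem exists_section_iff (F : Submodule R (Fin (n + 1) → R)) :
    (∃ s : Spec (CommRingCat.of R) ⟶ CohB1.ProjSpace n R,
        s ≫ CohB1.ProjSpace.toSpec n R = 𝟙 _ ∧ ProjUP.secKernel n R s = F) ↔
      (Module.Projective R ((Fin (n + 1) → R) ⧸ F) ∧
        ∀ p : PrimeSpectrum R, Module.finrank (Localization.AtPrime p.asIdeal)
          (LocalizedModule p.asIdeal.primeCompl ((Fin (n + 1) → R) ⧸ F)) = 1) := by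
  refine ⟨?_, fun ⟨hp, hr⟩ => ?_⟩
  · rintro ⟨s, -, rfl⟩
    exact quotient_of_generated _ (isInvertible_pull s) (fun i => ProjUP.pullSec s _ (ProjUP.coord n R i))
      (Algz56.generatedBy_pullCoord s)
  · obtain ⟨L, hL, s, hs, hk⟩ := exists_generated_of_quotient (R := CommRingCat.of R) F hp hr
    obtain ⟨r, hr, τ, hτ⟩ := Algz56.exists_toProj hL s hs (𝟙 (Spec (CommRingCat.of R)))
    refine ⟨r, hr, ?_⟩
    have hs' : s = fun i => τ.hom.app ⊤ (ProjUP.pullSec r _ (ProjUP.coord n R i)) := funext fun i => (hτ i).symm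
    rw [hs', lc_comp_iso] at hk
    exact hk

end GrothLib.RLpsi8.ProjPt
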