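import Groth.Agent.Lib.EtDescent21.StalkLimit
import Groth.Agent.Lib.EtSite.FpqcDescent
import Groth.Agent.Lib.FFDesc.Basic
import Groth.Agent.S2074

/-!
# Properness over a neighbourhood from properness over a flat local cover
-/

set_option autoImplicit false
set_option backward.isDefEq.respectTransparency false
set_option linter.style.haveILetI false

universe u

open CategoryTheory CategoryTheory.Limits AlgebraicGeometry TopologicalSpace Opposite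

namespace GrothLib.RLpsi8

/-- Descent of properness along a faithfully flat quasi-compact change of base. -/
theorem isProper_of_fpqc_baseChange {X Y S T T' YT XT : Scheme.{u}} {f : X ⟶ Y} {g : Y ⟶ S}
    {ι : T ⟶ S} (h : T' ⟶ T) [Surjective h] [Flat h] [QuasiCompact h]
    {qY : YT ⟶ Y} {gT : YT ⟶ T} (sqY : IsPullback qY gT g ι)
    {qX : XT ⟶ X} {fT : XT ⟶ YT} (sqX : IsPullback qX fT f qY)
    (hR : IsProper (pullback.snd f (pullback.fst g (h ≫ ι)))) : IsProper fT := by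
  let k := sqY.lift (pullback.fst g (h ≫ ι)) (pullback.snd g (h ≫ ι) ≫ h)
    (by rw [Category.assoc]; exact pullback.condition)
  have hk : IsPullback k (pullback.snd g (h ≫ ι)) gT h := by
    refine IsPullback.of_right ?_ (sqY.lift_snd _ _ _) sqY
    rw [sqY.lift_fst]
    exact IsPullback.of_hasPullback g (h ≫ ι)
  have hkq : k ≫ qY = pullback.fst g (h ≫ ι) := sqY.lift_fst _ _ _
  have hkcov : (@Surjective ⊓ @Flat ⊓ @QuasiCompact : MorphismProperty Scheme.{u}) k :=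
    ⟨⟨MorphismProperty.of_isPullback (P := @Surjective) hk.flip ‹_›,
      MorphismProperty.of_isPullback (P := @Flat) hk.flip ‹_›⟩,
      MorphismProperty.of_isPullback (P := @QuasiCompact) hk.flip ‹_›⟩
  let m := sqX.lift (pullback.fst f (pullback.fst g (h ≫ ι))) (pullback.snd f (pullback.fst g (h ≫ ι)) ≫ k)
    (by rw [Category.assoc, hkq]; exact pullback.condition)
  have hm : IsPullback m (pullback.snd f (pullback.fst g (h ≫ ι))) fT k := by
    refine IsPullback.of_right ?_ (sqX.lift_snd _ _ _) sqX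
    rw [sqX.lift_fst, hkq]
    exact IsPullback.of_hasPullback f _
  exact MorphismProperty.of_isPullback_of_descendsAlong (P := @IsProper)
    (Q := @Surjective ⊓ @Flat ⊓ @QuasiCompact) hm.flip hkcov hR

open GrothLib.EtDescent21 in
/-- Properness over the local scheme of a point spreads to a neighbourhood. -/
theorem exists_nhd_isProper_restrict {X Y S : Scheme.{u}} (f : X ⟶ Y) (g : Y ⟶ S) [QuasiCompact g]
    [QuasiSeparated g] [QuasiCompact (f ≫ g)] [QuasiSeparated (f ≫ g)] [LocallyOfFiniteType f] (s : S)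
    (H : ∀ {YT XT : Scheme.{u}} (qY : YT ⟶ Y) (gT : YT ⟶ Spec (S.presheaf.stalk s))
      (qX : XT ⟶ X) (fT : XT ⟶ YT), IsPullback qY gT g (S.fromSpecStalk s) → IsPullback qX fT f qY →
      IsProper fT) :
    ∃ W : S.Opens, s ∈ W ∧ IsProper (f ∣_ (g ⁻¹ᵁ W)) := by
  let i₀ : AffNhd s := Classical.arbitrary _
  let W₀ : S.Opens := i₀.1
  haveI : IsAffine ((nhdDiag s).obj i₀) := inferInstance
  haveI : IsAffine (W₀ : Scheme.{u}) := i₀.2.1
  let g₀ : ((g ⁻¹ᵁ W₀ : Y.Opens) : Scheme.{u}) ⟶ (W₀ : Scheme.{u}) := g ∣_ W₀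
  let f₀ : ((f ⁻¹ᵁ (g ⁻¹ᵁ W₀) : X.Opens) : Scheme.{u}) ⟶ ((g ⁻¹ᵁ W₀ : Y.Opens) : Scheme.{u}) := f ∣_ (g ⁻¹ᵁ W₀)
  have hfg : f₀ ≫ g₀ = (f ≫ g) ∣_ W₀ := (morphismRestrict_comp f g W₀).symm
  haveI : QuasiCompact g₀ := IsZariskiLocalAtTarget.restrict ‹QuasiCompact g› W₀
  haveI : QuasiSeparated g₀ := IsZariskiLocalAtTarget.restrict ‹QuasiSeparated g› W₀
  haveI : QuasiCompact (f₀ ≫ g₀) := hfg ▸ IsZariskiLocalAtTarget.restrict ‹QuasiCompact (f ≫ g)› W₀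
  haveI : QuasiSeparated (f₀ ≫ g₀) := hfg ▸ IsZariskiLocalAtTarget.restrict ‹QuasiSeparated (f ≫ g)› W₀
  haveI : CompactSpace ((g ⁻¹ᵁ W₀ : Y.Opens) : Scheme.{u}) := QuasiCompact.compactSpace_of_compactSpace g₀
  haveI : QuasiSeparatedSpace ((g ⁻¹ᵁ W₀ : Y.Opens) : Scheme.{u}) := quasiSeparatedSpace_of_quasiSeparated g₀
  haveI : CompactSpace ((f ⁻¹ᵁ (g ⁻¹ᵁ W₀) : X.Opens) : Scheme.{u}) :=
    QuasiCompact.compactSpace_of_compactSpace (f₀ ≫ g₀)
  haveI : QuasiSeparatedSpace ((f ⁻¹ᵁ (g ⁻¹ᵁ W₀) : X.Opens) : Scheme.{u}) :=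
    quasiSeparatedSpace_of_quasiSeparated (f₀ ≫ g₀)
  haveI : LocallyOfFiniteType f₀ := IsZariskiLocalAtTarget.restrict ‹LocallyOfFiniteType f› _
  let π₀ : Spec (S.presheaf.stalk s) ⟶ (W₀ : Scheme.{u}) := (nhdCone s).π.app i₀
  have sqY : IsPullback (pullback.fst g₀ π₀ ≫ (g ⁻¹ᵁ W₀).ι) (pullback.snd g₀ π₀) g (S.fromSpecStalk s) := by
    rw [← nhdCone_ι i₀]
    exact (IsPullback.of_hasPullback g₀ π₀).paste_horiz (isPullback_morphismRestrict g W₀).flip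
  have sqX : IsPullback (pullback.fst f₀ (pullback.fst g₀ π₀) ≫ (f ⁻¹ᵁ (g ⁻¹ᵁ W₀)).ι)
      (pullback.snd f₀ (pullback.fst g₀ π₀)) f (pullback.fst g₀ π₀ ≫ (g ⁻¹ᵁ W₀).ι) :=
    (IsPullback.of_hasPullback f₀ _).paste_horiz (isPullback_morphismRestrict f (g ⁻¹ᵁ W₀)).flip
  haveI : IsProper (pullback.snd f₀ (pullback.fst g₀ π₀)) := H _ _ _ _ sqY sqX
  haveI : CompactSpace ((nhdDiag s).obj i₀) := inferInstanceAs (CompactSpace (W₀ : Scheme.{u}))
  haveI : QuasiSeparatedSpace ((nhdDiag s).obj i₀) := inferInstanceAs (QuasiSeparatedSpace (W₀ : Scheme.{u}))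
  obtain ⟨i, φ, Xi, Yi, fi, gi, pY, pX, sY, sX, hp⟩ := Groth.Agent.S2074.result (nhdDiag s) (nhdCone s)
    (isLimitNhdCone s) i₀ f₀ g₀ (pullback.snd f₀ (pullback.fst g₀ π₀)) (pullback.snd g₀ π₀)
    (pullback.fst g₀ π₀) (pullback.fst f₀ (pullback.fst g₀ π₀)) (IsPullback.of_hasPullback _ _)
    (IsPullback.of_hasPullback _ _)
  refine ⟨i.1, i.2.2, ?_⟩
  have sY' : IsPullback (pY ≫ (g ⁻¹ᵁ W₀).ι) gi g i.1.ι := by
    rw [← nhdDiag_map_ι φ]
    exact sY.paste_horiz (isPullback_morphismRestrict g W₀).flip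
  let e := sY'.isoIsPullback _ _ (isPullback_morphismRestrict g i.1).flip
  have he : e.hom ≫ (g ⁻¹ᵁ i.1).ι = pY ≫ (g ⁻¹ᵁ W₀).ι := sY'.isoIsPullback_hom_fst _ _ _
  have sX' : IsPullback (pX ≫ (f ⁻¹ᵁ (g ⁻¹ᵁ W₀)).ι) (fi ≫ e.hom) f (g ⁻¹ᵁ i.1).ι :=
    (sX.paste_horiz (isPullback_morphismRestrict f (g ⁻¹ᵁ W₀)).flip).of_iso (Iso.refl _) (Iso.refl _) e
      (Iso.refl _) (by simp) (by simp) (by simp) (by simp [he])
  let e' := (isPullback_morphismRestrict f (g ⁻¹ᵁ i.1)).flip.isoIsPullback _ _ sX'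
  have he' : e'.hom ≫ fi ≫ e.hom = f ∣_ (g ⁻¹ᵁ i.1) :=
    (isPullback_morphismRestrict f (g ⁻¹ᵁ i.1)).flip.isoIsPullback_hom_snd _ _ _
  rw [← he']
  haveI := hp
  infer_instance

end GrothLib.RLpsi8
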