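import Groth.Agent.S2135
import Groth.Agent.Lib.BrnchNhd.Ascend
import Groth.Agent.Lib.GeomUnib.Affine
import Groth.Agent.Lib.Hensel.Branches
import Groth.Agent.Lib.Hensel.Henselization
import Groth.Agent.Lib.Hensel.CompletionHens
import Groth.Agent.Lib.RLpsi8.UnibRadScheme
import Mathlib.RingTheory.Etale.QuasiFinite
import Mathlib.RingTheory.Ideal.KrullsHeightTheorem

/-!
# Punctured spectra of strict henselizations and geometric unibranchness
-/

set_option autoImplicit false
set_option backward.isDefEq.respectTransparency false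

universe u

open CategoryTheory AlgebraicGeometry IsLocalRing

namespace RLpsi8.PuncturedSH

theorem connected_punctured {S : Type u} [CommRing S] [IsLocalRing S]
    (h : CAlgX.HasUniqueMinimalPrime S) (hne : maximalIdeal S ∉ minimalPrimes S) :
    ConnectedSpace ↥({closedPoint S}ᶜ : Set (PrimeSpectrum S)) := by
  obtain ⟨P, hP, huniq⟩ := h
  let η : PrimeSpectrum S := ⟨P, hP.1.1⟩
  have hη : η ∈ ({closedPoint S}ᶜ : Set (PrimeSpectrum S)) := fun he =>
    hne (by
      have h := congrArg PrimeSpectrum.asIdeal (Set.mem_singleton_iff.1 he)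
      show (closedPoint S).asIdeal ∈ minimalPrimes S
      rw [← h]; exact hP)
  have hpre : IsPreirreducible (Set.univ : Set (PrimeSpectrum S)) := by
    have hcl : closure {η} = Set.univ := by
      refine Set.eq_univ_of_forall fun q => ?_
      obtain ⟨p, hp, hpq⟩ := Ideal.exists_minimalPrimes_le (J := q.asIdeal) (bot_le : (⊥ : Ideal S) ≤ _)
      exact specializes_iff_mem_closure.1 ((PrimeSpectrum.le_iff_specializes η q).1 (show P ≤ q.asIdeal from huniq p hp ▸ hpq))
    rw [← hcl]
    exact isIrreducible_singleton.closure.isPreirreducible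
  exact isConnected_iff_connectedSpace.1 ⟨⟨η, hη⟩,
    (hpre.open_subset (isOpen_compl_iff.2 (PrimeSpectrum.isClosed_singleton_iff_isMaximal _ |>.2
      (maximalIdeal.isMaximal S))) (Set.subset_univ _)).isPreconnected⟩

theorem eq_of_connected_punctured {S : Type u} [CommRing S] [IsLocalRing S] [IsNoetherianRing S]
    (hne : maximalIdeal S ∉ minimalPrimes S)
    (hc : ConnectedSpace ↥({closedPoint S}ᶜ : Set (PrimeSpectrum S)))
    (hloc : ∀ (q : Ideal S) [q.IsPrime], q ≠ maximalIdeal S →
      ∀ P ∈ minimalPrimes S, ∀ P' ∈ minimalPrimes S, P ≤ q → P' ≤ q → P = P') :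
    CAlgX.HasUniqueMinimalPrime S := by
  obtain ⟨P₁, hP₁, -⟩ := Ideal.exists_minimalPrimes_le (J := maximalIdeal S) (bot_le : (⊥ : Ideal S) ≤ _)
  refine ⟨P₁, hP₁, fun P₂ hP₂ => ?_⟩
  by_contra hne'
  set U := ({closedPoint S}ᶜ : Set (PrimeSpectrum S)) with hUdef
  let T₁ : Set (PrimeSpectrum S) := PrimeSpectrum.zeroLocus P₁
  let T₂ : Set (PrimeSpectrum S) := ⋃ P ∈ minimalPrimes S \ {P₁}, PrimeSpectrum.zeroLocus (P : Set S)
  have hT₂ : IsClosed T₂ :=
    ((minimalPrimes.finite_of_isNoetherianRing S).sdiff).isClosed_biUnion fun P _ =>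
      PrimeSpectrum.isClosed_zeroLocus _
  have hmemU : ∀ P (hP : P ∈ minimalPrimes S), (⟨P, hP.1.1⟩ : PrimeSpectrum S) ∈ U := fun P hP he =>
    hne (by
      have h := congrArg PrimeSpectrum.asIdeal (Set.mem_singleton_iff.1 he)
      show (closedPoint S).asIdeal ∈ minimalPrimes S
      rw [← h]; exact hP)
  have hpre : _root_.IsPreconnected U := (isConnected_iff_connectedSpace.2 hc).isPreconnected
  obtain ⟨q, hqU, hq1, hq2⟩ := isPreconnected_closed_iff.1 hpre T₁ T₂
    (PrimeSpectrum.isClosed_zeroLocus _) hT₂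
    (fun q _ => by
      obtain ⟨P, hP, hPq⟩ := Ideal.exists_minimalPrimes_le (J := q.asIdeal) (bot_le : (⊥ : Ideal S) ≤ _)
      by_cases h : P = P₁
      · exact Or.inl (show (P₁ : Set S) ⊆ q.asIdeal by rw [← h]; exact hPq)
      · exact Or.inr (Set.mem_biUnion (show P ∈ minimalPrimes S \ {P₁} from ⟨hP, h⟩) hPq))
    ⟨⟨P₁, hP₁.1.1⟩, hmemU P₁ hP₁, le_refl P₁⟩
    ⟨⟨P₂, hP₂.1.1⟩, hmemU P₂ hP₂, Set.mem_biUnion (show P₂ ∈ minimalPrimes S \ {P₁} from ⟨hP₂, hne'⟩)
      (le_refl P₂)⟩
  simp only [T₂, Set.mem_iUnion] at hq2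
  obtain ⟨P, hP, hPq⟩ := hq2
  exact hP.2 (hloc q.asIdeal (fun h => hqU (PrimeSpectrum.ext h)) P hP.1 P₁ hP₁ hPq hq1)

variable {A S : Type u} [CommRing A] [IsLocalRing A] [CommRing S] [IsLocalRing S] [Algebra A S]
  [IsLocalHom (algebraMap A S)] [Hensel.IsStrictHenselization A S]

theorem comap_minimal {A B : Type u} [CommRing A] [CommRing B] [Algebra A B] [Module.Flat A B]
    {P : Ideal B} (hP : P ∈ minimalPrimes B) : P.comap (algebraMap A B) ∈ minimalPrimes A := by
  haveI := hP.1.1
  refine ⟨⟨inferInstance, bot_le⟩, fun p hp hle => ?_⟩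
  haveI := hp.1
  haveI : P.LiesOver (P.comap (algebraMap A B)) := ⟨rfl⟩
  obtain ⟨P', hP'le, hP', hP'p⟩ :=
    Ideal.exists_ideal_le_liesOver_of_le (S := B) P (p := p) (q := P.comap (algebraMap A B)) hle
  have : P ≤ P' := hP.2 ⟨hP', bot_le⟩ hP'le
  rw [hP'p.over]
  exact Ideal.comap_mono this

theorem maximal_notMem_minimalPrimes (hA : maximalIdeal A ∉ minimalPrimes A) :
    maximalIdeal S ∉ minimalPrimes S := by
  intro h
  haveI : Module.Flat A S := GrothLib.Hensel.IsStrictHenselization.flat
  have := comap_minimal (A := A) h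
  rw [eq_maximalIdeal (show ((maximalIdeal S).comap (algebraMap A S)).IsMaximal by
    rw [IsLocalRing.maximalIdeal_comap]; exact maximalIdeal.isMaximal A)] at this
  exact hA this

/-- At most one branch at a prime over a geometrically unibranch one. -/
theorem eq_of_minimal_le (q : Ideal S) [q.IsPrime]
    (hq : CAlg2.IsGeomUnibranch (Localization.AtPrime (q.comap (algebraMap A S))))
    {P P' : Ideal S} (hP : P ∈ minimalPrimes S) (hP' : P' ∈ minimalPrimes S) (hPq : P ≤ q) (hP'q : P' ≤ q) :
    P = P' := by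
  classical
  haveI : Module.Flat A S := GrothLib.Hensel.IsStrictHenselization.flat
  suffices h : ∀ {P P' : Ideal S}, P ∈ minimalPrimes S → P' ∈ minimalPrimes S → P ≤ q → P' ≤ q → P ≤ P' from
    le_antisymm (h hP hP' hPq hP'q) (h hP' hP hP'q hPq)
  intro P P' hP hP' hPq hP'q a ha
  obtain ⟨N, _, _, _, φ, hφ⟩ := GrothLib.Hensel.IsStrictHenselization.etaleStages (A := A) (S := S) {a}
  obtain ⟨b, hb⟩ := hφ a (Finset.mem_singleton_self a)
  let F : Spec (CommRingCat.of N) ⟶ Spec (CommRingCat.of A) := Spec.map (CommRingCat.ofHom (algebraMap A N))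
  haveI : Etale F := (HasRingHomProperty.Spec_iff (P := @Etale)).2
    ((RingHom.etale_algebraMap).2 inferInstance)
  let z : Spec (CommRingCat.of N) := ⟨q.comap φ.toRingHom, inferInstance⟩
  have hFz : (F z).asIdeal = q.comap (algebraMap A S) := by
    show (q.comap φ.toRingHom).comap (algebraMap A N) = _
    rw [Ideal.comap_comap]
    exact congrArg (fun g => Ideal.comap g q) φ.comp_algebraMap
  have hgu : CAlg2.IsGeomUnibranch ((Spec (CommRingCat.of A)).presheaf.stalk (F z)) := by
    rw [GrothLib.GeomUnib.isGeomUnibranch_stalk_spec_iff]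
    have : ∀ (I J : Ideal A) [I.IsPrime] [J.IsPrime], I = J →
        CAlg2.IsGeomUnibranch (Localization.AtPrime I) → CAlg2.IsGeomUnibranch (Localization.AtPrime J) := by
      intro I J _ _ h
      subst h
      exact id
    exact this _ _ hFz.symm hq
  have hN := GrothLib.BrnchNhd.isGeomUnibranch_stalk_of_etale F z hgu
  rw [GrothLib.GeomUnib.isGeomUnibranch_stalk_spec_iff] at hN
  haveI := hN.1.1
  have hnp : (nilradical (Localization.AtPrime z.asIdeal)).IsPrime :=
    (Ideal.Quotient.isDomain_iff_prime _).1 hN.1.1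
  let p₀ := (nilradical (Localization.AtPrime z.asIdeal)).comap (algebraMap N (Localization.AtPrime z.asIdeal))
  have key : ∀ Q ∈ minimalPrimes S, Q ≤ q → Q.comap φ.toRingHom = p₀ := by
    intro Q hQ hQq
    haveI := hQ.1.1
    have hdisj : Disjoint (z.asIdeal.primeCompl : Set N) (Q.comap φ.toRingHom : Set N) :=
      Set.disjoint_left.2 fun n hn hn' => hn (Ideal.comap_mono hQq hn')
    haveI hmap := IsLocalization.isPrime_of_isPrime_disjoint z.asIdeal.primeCompl
      (Localization.AtPrime z.asIdeal) _ inferInstance hdisj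
    have hp₀Q : p₀ ≤ Q.comap φ.toRingHom :=
      (Ideal.comap_mono (nilradical_le_prime ((Q.comap φ.toRingHom).map (algebraMap N _)))).trans
        (IsLocalization.under_map_of_isPrime_disjoint z.asIdeal.primeCompl _ inferInstance hdisj).le
    haveI : p₀.IsPrime := inferInstance
    refine (Algebra.WeaklyQuasiFiniteAt.eq_of_le_of_under_eq (R := A) hp₀Q ?_).symm
    have hmin : (Q.comap φ.toRingHom).comap (algebraMap A N) ∈ minimalPrimes A := by
      rw [Ideal.comap_comap, show φ.toRingHom.comp (algebraMap A N) = algebraMap A S from φ.comp_algebraMap]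
      exact comap_minimal hQ
    exact le_antisymm (Ideal.comap_mono hp₀Q) (hmin.2 ⟨inferInstance, bot_le⟩ (Ideal.comap_mono hp₀Q))
  have : b ∈ P'.comap φ.toRingHom := by
    rw [key P' hP' hP'q, ← key P hP hPq]
    show φ.toRingHom b ∈ P
    rwa [show φ.toRingHom b = a from hb]
  rw [← show φ.toRingHom b = a from hb]
  exact this

theorem geomUnibranch_everywhere_iff (X : Scheme.{u}) [IsLocallyNoetherian X] :
    (∀ x : X, CAlg2.IsGeomUnibranch (X.presheaf.stalk x)) ↔
      ∀ (x : X), closure ({x} : Set X) ∉ irreducibleComponents X →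
        ∀ (Ash : Type u) [CommRing Ash] [IsLocalRing Ash] [Algebra (X.presheaf.stalk x) Ash]
          [IsLocalHom (algebraMap (X.presheaf.stalk x) Ash)]
          [Hensel.IsStrictHenselization (X.presheaf.stalk x) Ash],
          ConnectedSpace ↥({closedPoint Ash}ᶜ : Set (PrimeSpectrum Ash)) := by
  have hgen : ∀ x : X, closure ({x} : Set X) ∈ irreducibleComponents X ↔
      maximalIdeal (X.presheaf.stalk x) ∈ minimalPrimes (X.presheaf.stalk x) := by
    intro x
    rw [show (closure ({x} : Set X) ∈ irreducibleComponents X ↔ x ∈ genericPoints X) from Iff.rfl,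
      RLpsi8.BiratBC.mem_genericPoints_iff]
    constructor
    · intro h
      refine ⟨⟨inferInstance, bot_le⟩, fun p hp _ => ?_⟩
      haveI := hp.1
      let z : Spec (X.presheaf.stalk x) := ⟨p, hp.1⟩
      have hz : X.fromSpecStalk x z = X.fromSpecStalk x (closedPoint (X.presheaf.stalk x)) := by
        have := h (X.fromSpecStalk x z) (by
          have h1 : X.fromSpecStalk x z ∈ Set.range (X.fromSpecStalk x) := ⟨z, rfl⟩
          rw [Scheme.range_fromSpecStalk] at h1
          exact h1)
        rw [this]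
        exact Scheme.fromSpecStalk_closedPoint.symm
      exact (congrArg PrimeSpectrum.asIdeal ((X.fromSpecStalk x).isEmbedding.injective hz)).ge
    · intro h z hz
      obtain ⟨w, rfl⟩ : z ∈ Set.range (X.fromSpecStalk x) := by
        rw [Scheme.range_fromSpecStalk]; exact hz
      have : w = closedPoint (X.presheaf.stalk x) := PrimeSpectrum.ext (le_antisymm
        (le_maximalIdeal w.2.ne_top) (h.2 ⟨w.2, bot_le⟩ (le_maximalIdeal w.2.ne_top)))
      rw [this]
      exact Scheme.fromSpecStalk_closedPoint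
  constructor
  · intro h x hx Ash _ _ _ _ _
    exact connected_punctured (Groth.Agent.S2135.result.1 (h x))
      (maximal_notMem_minimalPrimes (A := X.presheaf.stalk x) (fun hm => hx ((hgen x).2 hm)))
  · intro h x
    generalize hn : ringKrullDim (X.presheaf.stalk x) = n
    induction n using WellFoundedLT.induction generalizing x with
    | _ n ih => ?_
    subst hn
    rw [Groth.Agent.S2135.result (Ash := GrothLib.Hensel.StrictHens (X.presheaf.stalk x))]
    by_cases hx : maximalIdeal (X.presheaf.stalk x) ∈ minimalPrimes (X.presheaf.stalk x)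
    · rw [← Groth.Agent.S2135.result (A := X.presheaf.stalk x)]
      haveI : Ring.KrullDimLE 0 (X.presheaf.stalk x) := Ring.KrullDimLE.mk₀ fun p hp => by
        haveI := hp
        rw [le_antisymm (le_maximalIdeal hp.ne_top) (hx.2 ⟨hp, bot_le⟩ (le_maximalIdeal hp.ne_top))]
        exact maximalIdeal.isMaximal _
      have hnil : nilradical (X.presheaf.stalk x) = maximalIdeal (X.presheaf.stalk x) := by
        rw [nilradical_eq_sInf]
        refine le_antisymm (sInf_le (maximalIdeal.isMaximal _).isPrime) (le_sInf fun p hp => ?_)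
        exact hx.2 ⟨hp, bot_le⟩ (le_maximalIdeal hp.ne_top)
      letI := IsLocalRing.ResidueField.field (X.presheaf.stalk x)
      refine (GrothLib.GeomUnib.isGeomUnibranch_iff_of_normal (residue (X.presheaf.stalk x)) ?_ ?_ ?_).2
        ⟨inferInstance, fun P _ w => ?_⟩
      · rw [hnil]; exact Ideal.mk_ker
      · exact RingHom.IsIntegral.of_finite (RingHom.Finite.of_surjective _ residue_surjective)
      · intro t
        obtain ⟨a, rfl⟩ := residue_surjective t
        exact ⟨a, 1, by simp, by simp⟩
      · obtain ⟨w, rfl⟩ := Ideal.Quotient.mk_surjective w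
        obtain ⟨a, rfl⟩ := residue_surjective w
        exact ⟨0, a, by simp⟩
    haveI : IsNoetherianRing (GrothLib.Hensel.StrictHens (X.presheaf.stalk x)) :=
      (GrothLib.Hensel.IsStrictHenselization.isNoetherianRing_iff (R := X.presheaf.stalk x)
        (S := GrothLib.Hensel.StrictHens (X.presheaf.stalk x))).mp inferInstance
    refine eq_of_connected_punctured (maximal_notMem_minimalPrimes (A := X.presheaf.stalk x) hx)
      (h x (fun hm => hx ((hgen x).1 hm)) _) ?_
    intro q _ hq P hP P' hP' hPq hP'q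
    refine eq_of_minimal_le (A := X.presheaf.stalk x) q ?_ hP hP' hPq hP'q
    let p := q.comap (algebraMap (X.presheaf.stalk x) (GrothLib.Hensel.StrictHens (X.presheaf.stalk x)))
    have hp : p < maximalIdeal (X.presheaf.stalk x) := by
      refine lt_of_le_of_ne (le_maximalIdeal (Ideal.IsPrime.ne_top inferInstance)) fun he => hq ?_
      refine (le_maximalIdeal (Ideal.IsPrime.ne_top inferInstance)).antisymm ?_
      rw [← GrothLib.Hensel.IsStrictHenselization.map_maximalIdeal (R := X.presheaf.stalk x),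
        Ideal.map_le_iff_le_comap]
      exact he.ge
    let w : Spec (X.presheaf.stalk x) := ⟨p, inferInstance⟩
    haveI : Flat (X.fromSpecStalk x) := GrothLib.FEt21.flat_fromSpecStalk x
    haveI := RLpsi8.UnibRad.isIso_stalkMap_of_flat_preimmersion (X.fromSpecStalk x) w
    let e : X.presheaf.stalk (X.fromSpecStalk x w) ≃+* Localization.AtPrime p :=
      (asIso ((X.fromSpecStalk x).stalkMap w)).commRingCatIsoToRingEquiv.trans
        (StructureSheaf.stalkIso (X.presheaf.stalk x) w).toRingEquiv.symm
    have hlt : ringKrullDim (X.presheaf.stalk (X.fromSpecStalk x w)) < ringKrullDim (X.presheaf.stalk x) := by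
      rw [ringKrullDim_eq_of_ringEquiv e, IsLocalization.AtPrime.ringKrullDim_eq_height p,
        ← IsLocalRing.maximalIdeal_height_eq_ringKrullDim]
      exact_mod_cast Ideal.height_strict_mono_of_isPrime hp
    exact GrothLib.BrnchNhd.isGeomUnibranch_of_ringEquiv e (ih _ hlt _ rfl)

end RLpsi8.PuncturedSH
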