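import Groth.Agent.Lib.RelSpec.OfAffine
import Groth.Agent.Lib.BlowUp.Rees
import Groth.Prelude.Def_RelProj
import Groth.Prelude.Def_BlowUp2
import Mathlib.Algebra.DirectSum.Internal

/-!
# The Rees algebra of an ideal sheaf as a quasi-coherent graded algebra
-/

set_option autoImplicit false
set_option backward.isDefEq.respectTransparency false

universe u

open CategoryTheory AlgebraicGeometry TopologicalSpace Limits Opposite Polynomial
open GrothLib.RelSpec (aff)

noncomputable section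

namespace GrothLib.RLpsi8.ReesAlg

section affine

variable {R R' : Type u} [CommRing R] [CommRing R'] (φ : R →+* R') (J : Ideal R)

/-- The map of Rees algebras over a ring map. -/
def reesMap (J' : Ideal R') (h : J.map φ ≤ J') : reesAlgebra J →+* reesAlgebra J' :=
  ((mapRingHom φ).comp (reesAlgebra J).toSubring.subtype).codRestrict (reesAlgebra J') fun x => by
    intro n
    rw [RingHom.comp_apply, coe_mapRingHom, coeff_map]
    refine Ideal.pow_right_mono h n ?_
    rw [← Ideal.map_pow]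
    exact Ideal.mem_map_of_mem φ (x.2 n)

theorem coe_reesMap {J' : Ideal R'} (h : J.map φ ≤ J') (x : reesAlgebra J) :
    ((reesMap φ J J' h x : reesAlgebra J') : R'[X]) = (x : R[X]).map φ := rfl

theorem reesMap_algebraMap {J' : Ideal R'} (h : J.map φ ≤ J') (r : R) :
    reesMap φ J J' h (algebraMap R _ r) = algebraMap R' _ (φ r) :=
  Subtype.ext (map_C φ)

theorem reesMap_mem_deg {J' : Ideal R'} (h : J.map φ ≤ J') {n : ℕ} {x : reesAlgebra J}
    (hx : x ∈ Rees.deg (reesAlgebra J) n) : reesMap φ J J' h x ∈ Rees.deg (reesAlgebra J') n := by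
  rw [Rees.mem_deg_iff] at hx ⊢
  intro m hm
  rw [coe_reesMap, coeff_map, hx m hm, map_zero]

/-- A power of `r` bringing a coefficient into the ideal. -/
theorem exists_pow_mul_mem (r : R) (hR : letI := φ.toAlgebra; IsLocalization.Away r R') (n : ℕ) (c : R')
    (hc : c ∈ (J ^ n).map φ) : ∃ (k : ℕ), ∀ l, k ≤ l → ∃ a ∈ J ^ n, φ a = φ r ^ l * c := by
  letI := φ.toAlgebra
  haveI := hR
  obtain ⟨⟨⟨a, ha⟩, ⟨_, k, rfl⟩⟩, e⟩ :=
    (IsLocalization.mem_map_algebraMap_iff (Submonoid.powers r) R').mp hc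
  refine ⟨k, fun l hl => ⟨r ^ (l - k) * a, Ideal.mul_mem_left _ _ ha, ?_⟩⟩
  change c * φ (r ^ k) = φ a at e
  rw [map_mul, ← e, map_pow, map_pow, ← pow_sub_mul_pow (φ r) hl]
  ring

theorem isLocalization_reesMap (r : R) (hR : letI := φ.toAlgebra; IsLocalization.Away r R') {J' : Ideal R'}
    (h : J.map φ = J') :
    letI := (reesMap φ J J' h.le).toAlgebra
    IsLocalization.Away (algebraMap R (reesAlgebra J) r) (reesAlgebra J') := by
  letI alg := (reesMap φ J J' h.le).toAlgebra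
  letI := φ.toAlgebra
  haveI := hR
  have hu : IsUnit (φ r) := IsLocalization.Away.algebraMap_isUnit (S := R') r
  constructor
  constructor
  · rintro ⟨_, k, rfl⟩
    show IsUnit (reesMap φ J J' h.le ((algebraMap R (reesAlgebra J) r) ^ k))
    rw [map_pow, reesMap_algebraMap]
    exact (hu.map (algebraMap R' (reesAlgebra J'))).pow k
  · intro y
    classical
    have hk : ∀ n, ∃ k, ∀ l, k ≤ l → ∃ a ∈ J ^ n, φ a = φ r ^ l * (y : R'[X]).coeff n := fun n =>
      exists_pow_mul_mem φ J r hR n _ (by rw [Ideal.map_pow, h]; exact y.2 n)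
    choose k hk using hk
    let K := (y : R'[X]).support.sup k
    choose a ha hae using fun n : (y : R'[X]).support => hk n.1 K (Finset.le_sup n.2)
    let x : R[X] := ∑ n : (y : R'[X]).support, monomial n.1 (a n)
    have hx : x ∈ reesAlgebra J := sum_mem fun n _ => reesAlgebra.monomial_mem.mpr (ha n)
    refine ⟨(⟨x, hx⟩, ⟨(algebraMap R (reesAlgebra J) r) ^ K, K, rfl⟩), ?_⟩
    apply Subtype.ext
    show (y : R'[X]) * ((reesMap φ J J' h.le ((algebraMap R (reesAlgebra J) r) ^ K) : reesAlgebra J') : R'[X]) =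
      x.map φ
    rw [map_pow, reesMap_algebraMap]
    show (y : R'[X]) * (C (φ r)) ^ K = _
    simp only [x, Polynomial.map_sum, map_monomial, hae]
    rw [← map_pow, mul_comm]
    conv_lhs => rw [(y : R'[X]).as_sum_support, Finset.mul_sum]
    rw [← Finset.sum_coe_sort]
    refine Finset.sum_congr rfl fun n _ => ?_
    rw [C_mul_monomial]
  · intro x₁ x₂ hxe
    classical
    have hxe' : (x₁ : R[X]).map φ = (x₂ : R[X]).map φ := congrArg Subtype.val hxe
    have hk : ∀ n, ∃ k : ℕ, r ^ k * (x₁ : R[X]).coeff n = r ^ k * (x₂ : R[X]).coeff n := fun n => by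
      have e : φ ((x₁ : R[X]).coeff n) = φ ((x₂ : R[X]).coeff n) := by
        rw [← coeff_map, ← coeff_map, hxe']
      obtain ⟨⟨_, k, rfl⟩, hc⟩ := IsLocalization.exists_of_eq (M := Submonoid.powers r) (S := R') e
      exact ⟨k, hc⟩
    choose k hk using hk
    let K := ((x₁ : R[X]).support ∪ (x₂ : R[X]).support).sup k
    refine ⟨⟨(algebraMap R (reesAlgebra J) r) ^ K, K, rfl⟩, Subtype.ext ?_⟩
    show (C r) ^ K * (x₁ : R[X]) = (C r) ^ K * (x₂ : R[X])
    rw [← map_pow]
    ext n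
    rw [coeff_C_mul, coeff_C_mul]
    by_cases hn : n ∈ (x₁ : R[X]).support ∪ (x₂ : R[X]).support
    · obtain ⟨d, hd⟩ : ∃ d, K = d + k n := ⟨K - k n, (Nat.sub_add_cancel (Finset.le_sup hn)).symm⟩
      rw [hd, pow_add, mul_assoc, hk, mul_assoc]
    · rw [Finset.notMem_union, notMem_support_iff, notMem_support_iff] at hn
      rw [hn.1, hn.2]

end affine

variable {X : Scheme.{u}} (I : X.IdealSheafData)

/-- The Rees algebra over an affine open. -/
abbrev ring (U : X.AffineZariskiSite) : Subalgebra Γ(X, U.1) Γ(X, U.1)[X] :=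
  reesAlgebra (I.ideal ⟨U.1, U.2⟩)

theorem map_le {U V : X.AffineZariskiSite} (h : V.1 ≤ U.1) :
    (I.ideal ⟨U.1, U.2⟩).map (X.presheaf.map (homOfLE h).op).hom ≤ I.ideal ⟨V.1, V.2⟩ :=
  le_of_eq (I.map_ideal (U := ⟨V.1, V.2⟩) (V := ⟨U.1, U.2⟩) h)

/-- Restriction of Rees algebras. -/
def res {U V : X.AffineZariskiSite} (h : V.1 ≤ U.1) : ring I U →+* ring I V :=
  reesMap (X.presheaf.map (homOfLE h).op).hom _ _ (map_le I h)

theorem res_self (U : X.AffineZariskiSite) : res I (le_refl U.1) = RingHom.id _ := by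
  refine RingHom.ext fun x => Subtype.ext ?_
  rw [res, coe_reesMap]
  ext n
  rw [coeff_map]
  show (X.presheaf.map (𝟙 (op U.1))).hom _ = _
  rw [X.presheaf.map_id]
  rfl

theorem res_res {U V W : X.AffineZariskiSite} (h : V.1 ≤ U.1) (h' : W.1 ≤ V.1) :
    (res I h').comp (res I h) = res I (h'.trans h) := by
  refine RingHom.ext fun x => Subtype.ext ?_
  rw [RingHom.comp_apply, res, res, res, coe_reesMap, coe_reesMap, coe_reesMap, Polynomial.map_map,
    ← CommRingCat.hom_comp, ← X.presheaf.map_comp]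
  rfl

/-- The Rees algebras on the affine opens. -/
def reesFunctor : X.AffineZariskiSiteᵒᵖ ⥤ CommRingCat.{u} where
  obj U := CommRingCat.of (ring I U.unop)
  map {U V} i := CommRingCat.ofHom (res I (leOfHom ((aff X).map i.unop)))
  map_id U := CommRingCat.hom_ext (res_self I U.unop)
  map_comp {U V W} i k := CommRingCat.hom_ext
    (res_res I (leOfHom ((aff X).map i.unop)) (leOfHom ((aff X).map k.unop))).symm

/-- The structure maps. -/
def reesStr : (aff X).op ⋙ X.presheaf ⟶ reesFunctor I where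
  app U := CommRingCat.ofHom (algebraMap Γ(X, U.unop.1) (ring I U.unop))
  naturality U V i := CommRingCat.hom_ext (RingHom.ext fun r =>
    (reesMap_algebraMap _ _ (map_le I (leOfHom ((aff X).map i.unop))) r).symm)

theorem reesStr_coequifibered : (reesStr I).Coequifibered := by
  refine Scheme.AffineZariskiSite.coequifibered_iff_forall_isLocalizationAway.mpr fun U r => ?_
  exact isLocalization_reesMap _ _ r (U.2.isLocalization_basicOpen r)
    (I.map_ideal (U := ⟨(U.basicOpen r).1, (U.basicOpen r).2⟩) (V := ⟨U.1, U.2⟩) (X.basicOpen_le r))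

/-- `𝒮` is the Rees algebra of `I`. -/
def IsRees (𝒮 : RelProj.QCGrAlg X) : Prop :=
  ∀ (U : X.Opens) (hU : IsAffineOpen U),
    ∃ e : reesAlgebra (I.ideal ⟨U, hU⟩) ≃+* 𝒮.presheaf.obj (op U),
      (∀ r, e (algebraMap _ _ r) = (𝒮.str.app (op U)).hom r) ∧
      ∀ n x, e x ∈ 𝒮.deg U hU n ↔ x ∈ Rees.deg (reesAlgebra (I.ideal ⟨U, hU⟩)) n

theorem exists_isRees : ∃ 𝒮 : RelProj.QCGrAlg X, IsRees I 𝒮 := by
  obtain ⟨A, i, hi⟩ := RelSpec.exists_qcAlg_of_coequifibered (reesFunctor I) (reesStr I)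
    (reesStr_coequifibered I)
  let e : ∀ (U : X.Opens) (hU : IsAffineOpen U), reesAlgebra (I.ideal ⟨U, hU⟩) ≃+* A.presheaf.obj (op U) :=
    fun U hU => (i.app (op ⟨U, hU⟩)).commRingCatIsoToRingEquiv
  have hes : ∀ U hU r, e U hU (algebraMap _ _ r) = (A.str.app (op U)).hom r := fun U hU r =>
    ConcreteCategory.congr_hom (NatTrans.congr_app hi (op ⟨U, hU⟩)) r
  have hnat : ∀ (U V : X.Opens) (hU : IsAffineOpen U) (hV : IsAffineOpen V) (h : V ≤ U) (a),
      e V hV (res I (U := ⟨U, hU⟩) (V := ⟨V, hV⟩) h a) =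
        (A.presheaf.map (homOfLE h).op).hom (e U hU a) := by
    intro U V hU hV h a
    choose g g' hgg hpg using fun p : V => exists_basicOpen_le_affine_inter hU hV p.1 ⟨h p.2, p.2⟩
    refine TopCat.Sheaf.eq_of_locally_eq' (⟨A.presheaf, A.isSheaf⟩ : TopCat.Sheaf CommRingCat.{u} X.carrier)
      (fun p : V => X.basicOpen (g' p)) V (fun p => homOfLE (X.basicOpen_le _))
      (fun p hp => Opens.mem_iSup.mpr ⟨⟨p, hp⟩, hgg ⟨p, hp⟩ ▸ hpg ⟨p, hp⟩⟩) _ _ fun p => ?_
    let W := X.basicOpen (g' p)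
    have hW : IsAffineOpen W := hV.basicOpen _
    have hWU : W ≤ U := (X.basicOpen_le _).trans h
    let Uz : X.AffineZariskiSite := ⟨U, hU⟩
    let Vz : X.AffineZariskiSite := ⟨V, hV⟩
    let Wz : X.AffineZariskiSite := ⟨W, hW⟩
    have hWU' : Wz ≤ Uz := ⟨g p, hgg p⟩
    have hWV' : Wz ≤ Vz := ⟨g' p, rfl⟩
    have n1 := ConcreteCategory.congr_hom (i.hom.naturality (homOfLE hWU').op) a
    have n2 := ConcreteCategory.congr_hom (i.hom.naturality (homOfLE hWV').op)
      (res I (U := Uz) (V := Vz) h a)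
    show (A.presheaf.map (homOfLE (X.basicOpen_le (g' p))).op).hom (e V hV (res I (U := Uz) (V := Vz) h a)) =
      (A.presheaf.map (homOfLE (X.basicOpen_le (g' p))).op).hom ((A.presheaf.map (homOfLE h).op).hom (e U hU a))
    refine n2.symm.trans ?_
    show e W hW (res I (U := Vz) (V := Wz) (X.basicOpen_le (g' p)) (res I (U := Uz) (V := Vz) h a)) = _
    refine (congrArg (e W hW)
      (RingHom.congr_fun (res_res I (U := Uz) (V := Vz) (W := Wz) h (X.basicOpen_le (g' p))) a)).trans ?_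
    refine n1.trans ?_
    show (A.presheaf.map (homOfLE hWU).op).hom (e U hU a) = _
    rw [← CommRingCat.comp_apply, ← A.presheaf.map_comp]
    rfl
  let deg : ∀ (U : X.Opens), IsAffineOpen U → ℕ → AddSubgroup (A.presheaf.obj (op U)) := fun U hU n =>
    (Rees.deg (reesAlgebra (I.ideal ⟨U, hU⟩)) n).toAddSubgroup.map (e U hU).toRingHom.toAddMonoidHom
  have hmem : ∀ {U : X.Opens} (hU : IsAffineOpen U) (n : ℕ) (a),
      e U hU a ∈ deg U hU n ↔ a ∈ Rees.deg (reesAlgebra (I.ideal ⟨U, hU⟩)) n := by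
    intro U hU n a
    refine ⟨?_, fun ha => ⟨a, ha, rfl⟩⟩
    rintro ⟨b, hb, hab⟩
    rwa [← (e U hU).injective hab]
  let grade : ∀ (U : X.Opens) (hU : IsAffineOpen U), GradedRing (deg U hU) := fun U hU =>
    letI gm : SetLike.GradedMonoid (deg U hU) :=
      { one_mem := ⟨1, SetLike.one_mem_graded (Rees.deg (reesAlgebra (I.ideal ⟨U, hU⟩))), map_one (e U hU)⟩
        mul_mem := by
          rintro i k _ _ ⟨a, ha, rfl⟩ ⟨b, hb, rfl⟩
          exact ⟨a * b, SetLike.mul_mem_graded (A := Rees.deg (reesAlgebra (I.ideal ⟨U, hU⟩))) ha hb, map_mul (e U hU) _ _⟩ }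
    letI := (show DirectSum.IsInternal (deg U hU) by
      classical
      let 𝒜 := Rees.deg (reesAlgebra (I.ideal ⟨U, hU⟩))
      let ε : (DirectSum ℕ fun i => 𝒜 i) →+ DirectSum ℕ fun i => deg U hU i :=
        DirectSum.map fun i => (AddMonoidHom.mk' (fun a : 𝒜 i => ⟨e U hU a.1, (hmem hU i _).2 a.2⟩)
          (fun a b => Subtype.ext (map_add (e U hU) _ _)))
      have hε : Function.Bijective ε := by
        refine ⟨(DirectSum.map_injective _).mpr fun i a b hab =>
            Subtype.ext ((e U hU).injective (congrArg Subtype.val hab)),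
          (DirectSum.map_surjective _).mpr fun i => ?_⟩
        rintro ⟨_, a, ha, rfl⟩
        exact ⟨⟨a, ha⟩, rfl⟩
      have hcomp : (DirectSum.coeAddMonoidHom (deg U hU)).comp ε =
          (e U hU).toRingHom.toAddMonoidHom.comp (DirectSum.coeAddMonoidHom 𝒜) :=
        DirectSum.addHom_ext fun i a => by simp [ε]
      have hb : Function.Bijective ((DirectSum.coeAddMonoidHom (deg U hU)) ∘ ε) := by
        rw [← AddMonoidHom.coe_comp, hcomp]
        exact (e U hU).bijective.comp (DirectSum.Decomposition.isInternal 𝒜)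
      exact (Function.Bijective.of_comp_iff _ hε).mp hb).chooseDecomposition
    { gm, ‹DirectSum.Decomposition (deg U hU)› with }
  refine ⟨{ A with
      deg := deg
      graded := grade
      map_mem := by
        rintro U V hU hV i d _ ⟨a, ha, rfl⟩
        exact ⟨res I (U := ⟨U, hU⟩) (V := ⟨V, hV⟩) i a, reesMap_mem_deg _ _ (map_le I i) ha,
          hnat U V hU hV i a⟩
      str_mem := fun U hU r => by
        refine ⟨algebraMap _ _ r, ?_, hes U hU r⟩
        show algebraMap _ _ r ∈ Rees.deg (reesAlgebra (I.ideal ⟨U, hU⟩)) 0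
        rw [Rees.mem_deg_iff]
        intro m hm
        show (C r).coeff m = 0
        rw [coeff_C, if_neg hm] },
    fun U hU => ⟨e U hU, hes U hU, fun n x => hmem hU n x⟩⟩

variable {I} {𝒮 : RelProj.QCGrAlg X}

theorem IsRees.isGenDegOne (h : IsRees I 𝒮) : 𝒮.IsGenDegOne := by
  classical
  intro U hU
  obtain ⟨e, hes, hed⟩ := h U hU
  let S := Subring.closure ((𝒮.deg U hU 0 : Set (𝒮.presheaf.obj (op U))) ∪ (𝒮.deg U hU 1 : Set _))
  let S' := S.comap e.toRingHom
  have h0 : ∀ r, algebraMap Γ(X, U) (reesAlgebra (I.ideal ⟨U, hU⟩)) r ∈ S' := fun r => by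
    refine Subring.subset_closure (Or.inl ?_)
    show e (algebraMap Γ(X, U) (reesAlgebra (I.ideal ⟨U, hU⟩)) r) ∈ 𝒮.deg U hU 0
    rw [hes]; exact 𝒮.str_mem U hU r
  have h1 : ∀ a : I.ideal ⟨U, hU⟩, GrothLib.BlowUp.tX _ a ∈ S' := fun a =>
    Subring.subset_closure (Or.inr ((hed 1 _).2 (GrothLib.BlowUp.tX_mem _ a)))
  have key : ∀ (n : ℕ) (c : Γ(X, U)) (hc : c ∈ (I.ideal ⟨U, hU⟩) ^ n),
      (⟨monomial n c, reesAlgebra.monomial_mem.mpr hc⟩ : reesAlgebra (I.ideal ⟨U, hU⟩)) ∈ S' := by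
    intro n
    induction n with
    | zero =>
      intro c hc
      have : (⟨monomial 0 c, reesAlgebra.monomial_mem.mpr hc⟩ : reesAlgebra (I.ideal ⟨U, hU⟩)) =
          algebraMap _ _ c := Subtype.ext (monomial_zero_left (a := c))
      rw [this]; exact h0 c
    | succ n ih =>
      intro c hc
      rw [pow_succ] at hc
      refine Submodule.mul_induction_on' (C := fun c hc => (⟨monomial (n + 1) c, reesAlgebra.monomial_mem.mpr
        (by rw [pow_succ]; exact hc)⟩ : reesAlgebra (I.ideal ⟨U, hU⟩)) ∈ S') ?_ ?_ hc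
      · intro y hy z hz
        have : (⟨monomial (n + 1) (y * z), reesAlgebra.monomial_mem.mpr (by
            rw [pow_succ]; exact Ideal.mul_mem_mul hy hz)⟩ : reesAlgebra (I.ideal ⟨U, hU⟩)) =
            ⟨monomial n y, reesAlgebra.monomial_mem.mpr hy⟩ * GrothLib.BlowUp.tX _ ⟨z, hz⟩ :=
          Subtype.ext (by simp [GrothLib.BlowUp.tX, monomial_mul_monomial])
        rw [this]
        exact mul_mem (ih y hy) (h1 _)
      · intro y hy z hz ey ez
        convert add_mem ey ez using 1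
        exact Subtype.ext (by simp)
  refine eq_top_iff.2 fun t _ => ?_
  obtain ⟨x, rfl⟩ := e.surjective t
  show x ∈ S'
  have hx : x = ∑ n : (x : Γ(X, U)[X]).support,
      (⟨monomial n.1 ((x : Γ(X, U)[X]).coeff n.1), reesAlgebra.monomial_mem.mpr (x.2 _)⟩ :
        reesAlgebra (I.ideal ⟨U, hU⟩)) := by
    apply Subtype.ext
    rw [AddSubmonoidClass.coe_finset_sum, Finset.sum_coe_sort (f := fun n =>
      monomial n ((x : Γ(X, U)[X]).coeff n))]
    exact (x : Γ(X, U)[X]).as_sum_support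
  rw [hx]
  exact sum_mem fun n _ => key _ _ (x.2 _)

theorem IsRees.isFTDeg_one (h : IsRees I 𝒮) (hI : _root_.BlowUp.IsFiniteTypeIdeal I) : 𝒮.IsFTDeg 1 := by
  classical
  intro U hU
  obtain ⟨e, hes, hed⟩ := h U hU
  obtain ⟨T, hT⟩ := hI ⟨U, hU⟩
  let t : T → reesAlgebra (I.ideal ⟨U, hU⟩) := fun a =>
    GrothLib.BlowUp.tX _ ⟨a.1, hT ▸ Ideal.subset_span a.2⟩
  refine ⟨Finset.univ.image fun a => e (t a), ?_, fun x hx => ?_⟩
  · intro z hz
    obtain ⟨a, -, rfl⟩ := Finset.mem_image.mp hz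
    exact (hed 1 _).2 (GrothLib.BlowUp.tX_mem _ _)
  · obtain ⟨y, rfl⟩ := e.surjective x
    obtain ⟨c, hc, hyc⟩ := GrothLib.BlowUp.exists_eq_monomial _ ((hed 1 y).1 hx)
    rw [pow_one, ← hT] at hc
    obtain ⟨f, hf⟩ := Submodule.mem_span_finset'.mp hc
    have hinj : Function.Injective fun a : T => e (t a) := fun a b hab => Subtype.ext
      (Polynomial.monomial_injective 1 (congrArg Subtype.val (e.injective hab)))
    refine ⟨Function.extend (fun a : T => e (t a)) f 0, ?_⟩
    rw [Finset.sum_image hinj.injOn]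
    simp only [hinj.extend_apply, ← hes, ← map_mul, ← map_sum]
    refine congrArg e (Subtype.ext ?_)
    rw [hyc, ← hf, AddSubmonoidClass.coe_finset_sum, map_sum]
    refine Finset.sum_congr rfl fun a _ => ?_
    show monomial 1 (f a • (a : Γ(X, U))) = C (f a) * monomial 1 (a : Γ(X, U))
    rw [C_mul_monomial, smul_eq_mul]

end GrothLib.RLpsi8.ReesAlg
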