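import Groth.Agent.Lib.RLpsi8.Locus
import Groth.Agent.Lib.Ample.Cocycle

/-!
# Global sections of tensor powers and homogeneous sections of the symmetric algebra
-/

set_option autoImplicit false
set_option backward.isDefEq.respectTransparency false
set_option maxHeartbeats 400000

universe u

open CategoryTheory CategoryTheory.Limits AlgebraicGeometry TopologicalSpace Opposite
open GrothLib.RelProjK (dg rs em)
open GrothLib.InvExt (IsGen mres)
open GrothLib.Ample (res res_res res_self Cocycle)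

noncomputable section

namespace GrothLib.RLpsi8

variable {X : Scheme.{u}} {L : X.Modules} {𝒮L : RelProj.QCGrAlg X} {j : L ⟶ 𝒮L.toModule}

/-- Restriction of sections of the algebra. -/
abbrev ares (𝒮L : RelProj.QCGrAlg X) {V V' : X.Opens} (h : V' ≤ V) :
    𝒮L.presheaf.obj (op V) →+* 𝒮L.presheaf.obj (op V') := (𝒮L.presheaf.map (homOfLE h).op).hom

theorem ares_ares {V V' V'' : X.Opens} (h : V' ≤ V) (h' : V'' ≤ V') (z : 𝒮L.presheaf.obj (op V)) :
    ares 𝒮L h' (ares 𝒮L h z) = ares 𝒮L (h'.trans h) z := by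
  rw [ares, ares, ares, ← CommRingCat.comp_apply, ← Functor.map_comp]
  rfl

theorem ares_str {V V' : X.Opens} (h : V' ≤ V) (a : Γ(X, V)) :
    ares 𝒮L h ((𝒮L.str.app (op V)).hom a) = (𝒮L.str.app (op V')).hom (res h a) :=
  (ConcreteCategory.congr_hom (𝒮L.str.naturality (homOfLE h).op) a).symm

theorem ares_app (j : L ⟶ 𝒮L.toModule) {V V' : X.Opens} (h : V' ≤ V) (x : Γ(L, V)) :
    ares 𝒮L h (show 𝒮L.presheaf.obj (op V) from j.app V x) = (show 𝒮L.presheaf.obj (op V') from j.app V' (mres L h x)) :=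
  (Ample.app_mres j h x).symm

theorem ares_eq_of_cover {V : X.Opens} {ι : Type*} (W : ι → X.Opens) (hW : ∀ k, W k ≤ V) (hc : V ≤ ⨆ k, W k)
    {z z' : 𝒮L.presheaf.obj (op V)} (h : ∀ k, ares 𝒮L (hW k) z = ares 𝒮L (hW k) z') : z = z' :=
  TopCat.Sheaf.eq_of_locally_eq' (⟨𝒮L.presheaf, 𝒮L.isSheaf⟩ : TopCat.Sheaf CommRingCat.{u} X.carrier) W V
    (fun k => homOfLE (hW k)) hc z z' h

theorem isGen_of_iso {M M' : X.Modules} (φ : M ≅ M') {V : X.Opens} {e : Γ(M, V)} (he : IsGen M V e) :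
    IsGen M' V (φ.hom.app V e) := by
  intro W h
  have hb : Function.Bijective (φ.hom.app W) := by
    refine Function.bijective_iff_has_inverse.mpr ⟨φ.inv.app W, fun m => ?_, fun m => ?_⟩
    · exact congrArg (fun k : M ⟶ M => k.app W m) φ.hom_inv_id
    · exact congrArg (fun k : M' ⟶ M' => k.app W m) φ.inv_hom_id
  have e1 : (fun r : Γ(X, W) => r • mres M' h (φ.hom.app V e)) = φ.hom.app W ∘ fun r : Γ(X, W) => r • mres M h e := by
    funext r
    show _ = φ.hom.app W (r • mres M h e)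
    rw [Ample.app_smul, Ample.app_mres]
  rw [e1]
  exact hb.comp (he W h)

variable {c : Cocycle X} (φ : L ≅ c.twist 1)

/-- The generator of `L` over a part of a piece of the cocycle. -/
def gen (i : c.ι) {V : X.Opens} (hV : V ≤ c.D i) : Γ(L, V) :=
  φ.inv.app V (show Γ(c.twist 1, V) from c.base 1 i hV)

/-- The trivialization given by a piece of the cocycle. -/
def ctriv (i : c.ι) {V : X.Opens} (hV : V ≤ c.D i) (ha : IsAffineOpen V) : Triv L :=
  ⟨⟨V, ha⟩, gen φ i hV, isGen_of_iso φ.symm (c.isGen_base 1 i hV)⟩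

theorem exists_ctriv {W : X.Opens} {x : X} (hx : x ∈ W) :
    ∃ (i : c.ι) (V : X.Opens) (_ : IsAffineOpen V), V ≤ c.D i ∧ V ≤ W ∧ x ∈ V := by
  obtain ⟨i, hi⟩ := c.exists_mem x
  obtain ⟨V, hV, hxV, hle⟩ := exists_isAffineOpen_mem_and_subset (x := x) (U := c.D i ⊓ W) ⟨hi, hx⟩
  exact ⟨i, V, hV, fun z hz => (hle hz).1, fun z hz => (hle hz).2, hxV⟩

variable (j) in
/-- The degree one element of a piece. -/
def Tg (i : c.ι) {V : X.Opens} (hV : V ≤ c.D i) : 𝒮L.presheaf.obj (op V) := j.app V (gen φ i hV)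

theorem T_ctriv (i : c.ι) {V : X.Opens} (hV : V ≤ c.D i) (ha : IsAffineOpen V) :
    T j (ctriv φ i hV ha) = Tg j φ i hV := rfl

theorem ares_Tg (i : c.ι) {V V' : X.Opens} (hV : V ≤ c.D i) (h : V' ≤ V) :
    ares 𝒮L h (Tg j φ i hV) = Tg j φ i (h.trans hV) := by
  refine (ares_app j h _).trans (congrArg (j.app V') ?_)
  exact (Ample.app_mres φ.inv h (c.base 1 i hV)).symm.trans
    (congrArg (φ.inv.app V') ((c.mres_twist h _).trans (c.sectRes_base 1 i hV h)))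

theorem Tg_change (i k : c.ι) {V : X.Opens} (hi : V ≤ c.D i) (hk : V ≤ c.D k) :
    Tg j φ k hk = (𝒮L.str.app (op V)).hom (c.G i k hi hk) * Tg j φ i hi := by
  have e : gen φ k hk = c.G i k hi hk • gen φ i hi := by
    refine Eq.trans ?_ (Ample.app_smul φ.inv (c.G i k hi hk) (c.base 1 i hi))
    exact congrArg (φ.inv.app V) ((c.base_eq_smul_base 1 i k hi hk).trans (by rw [pow_one]))
  rw [Tg, e]
  exact Ample.app_smul j _ _

variable (j) in
/-- `z` is the homogeneous section of degree `N` corresponding to the family `a`. -/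
def Rel {N : ℕ} {W : X.Opens} (z : 𝒮L.presheaf.obj (op W)) (a : c.sect N W) : Prop :=
  ∀ (i : c.ι) (V : X.Opens) (hVW : V ≤ W) (hVi : V ≤ c.D i),
    ares 𝒮L hVW z = (𝒮L.str.app (op V)).hom (res (le_inf hVW hVi) (a.1 i)) * Tg j φ i hVi ^ N

theorem exists_rel_of_sect {N : ℕ} {W : X.Opens} (a : c.sect N W) : ∃ z, Rel j φ (𝒮L := 𝒮L) z a := by
  let sf : ∀ i, 𝒮L.presheaf.obj (op (W ⊓ c.D i)) := fun i =>
    (𝒮L.str.app (op (W ⊓ c.D i))).hom (a.1 i) * Tg j φ i inf_le_right ^ N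
  have key : ∀ (i k : c.ι) (V : X.Opens) (hi : V ≤ W ⊓ c.D i) (hk : V ≤ W ⊓ c.D k),
      ares 𝒮L hi (sf i) = ares 𝒮L hk (sf k) := fun i k V hi hk => by
    simp only [sf, map_mul, map_pow, ares_str, ares_Tg]
    rw [Tg_change φ i k (hi.trans inf_le_right) (hk.trans inf_le_right), mul_pow, ← map_pow (𝒮L.str.app (op V)).hom,
      ← mul_assoc, ← map_mul]
    congr 2
    rw [c.sect_spec a i k hi hk, mul_comm]
  obtain ⟨z, hz, -⟩ := TopCat.Sheaf.existsUnique_gluing'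
    (⟨𝒮L.presheaf, 𝒮L.isSheaf⟩ : TopCat.Sheaf CommRingCat.{u} X.carrier) (fun i => W ⊓ c.D i) W
    (fun i => homOfLE inf_le_left) (c.iSup_inf_D W) sf (fun i k => key i k _ inf_le_left inf_le_right)
  refine ⟨z, fun i V hVW hVi => ?_⟩
  have hzi : ares 𝒮L (inf_le_left : W ⊓ c.D i ≤ W) z = sf i := hz i
  rw [← ares_ares (inf_le_left : W ⊓ c.D i ≤ W) (le_inf hVW hVi), hzi]
  simp only [sf, map_mul, map_pow, ares_str, ares_Tg]

variable (hLq : Coh.IsQCoh L) (hj : RelProj.IsGrSymAlg L 𝒮L j)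

theorem coef_eq {N : ℕ} (i : c.ι) {V : X.Opens} (hV : V ≤ c.D i) (ha : IsAffineOpen V) (r : Γ(X, V)) :
    coef hLq hj (ctriv φ i hV ha) ((𝒮L.str.app (op V)).hom r * Tg j φ i hV ^ N) = r :=
  coef_str_mul hLq hj (ctriv φ i hV ha) r N

include hLq hj in
theorem exists_sect_of_hom {N : ℕ} {W : X.Opens} (z : 𝒮L.presheaf.obj (op W))
    (hz : ∀ (V : X.Opens) (hV : IsAffineOpen V) (h : V ≤ W), ares 𝒮L h z ∈ 𝒮L.deg V hV N) :
    ∃ a : c.sect N W, Rel j φ z a := by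
  let B := {Vf : X.Opens // IsAffineOpen Vf}
  have hloc : ∀ (i : c.ι) (V : B) (hVW : V.1 ≤ W) (hVi : V.1 ≤ c.D i),
      ares 𝒮L hVW z = (𝒮L.str.app (op V.1)).hom (coef hLq hj (ctriv φ i hVi V.2) (ares 𝒮L hVW z)) * Tg j φ i hVi ^ N :=
    fun i V hVW hVi => eq_str_coef_mul hLq hj (ctriv φ i hVi V.2) (hz V.1 V.2 hVW)
  -- compatibility under restriction
  have hres : ∀ (i : c.ι) (V V' : B) (h : V'.1 ≤ V.1) (hVW : V.1 ≤ W) (hVi : V.1 ≤ c.D i),
      res h (coef hLq hj (ctriv φ i hVi V.2) (ares 𝒮L hVW z)) =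
        coef hLq hj (ctriv φ i (h.trans hVi) V'.2) (ares 𝒮L (h.trans hVW) z) := by
    intro i V V' h hVW hVi
    rw [← ares_ares hVW h]
    conv_rhs => rw [hloc i V hVW hVi, map_mul, map_pow, ares_str, ares_Tg]
    exact (coef_eq φ hLq hj i _ V'.2 _).symm
  have hglue : ∀ i, ∃ f : Γ(X, W ⊓ c.D i), ∀ (V : B) (hV : V.1 ≤ W ⊓ c.D i),
      res hV f = coef hLq hj (ctriv φ i (hV.trans inf_le_right) V.2) (ares 𝒮L (hV.trans inf_le_left) z) := by
    intro i
    let κ := {V : B // V.1 ≤ W ⊓ c.D i}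
    have hcov : W ⊓ c.D i ≤ ⨆ V : κ, V.1.1 := fun x hx => by
      obtain ⟨V, hV, hxV, hle⟩ := exists_isAffineOpen_mem_and_subset hx
      exact Opens.mem_iSup.mpr ⟨⟨⟨V, hV⟩, hle⟩, hxV⟩
    obtain ⟨f, hf, -⟩ := X.sheaf.existsUnique_gluing' (fun V : κ => V.1.1) (W ⊓ c.D i)
      (fun V => homOfLE V.2) hcov
      (fun V => coef hLq hj (ctriv φ i (V.2.trans inf_le_right) V.1.2) (ares 𝒮L (V.2.trans inf_le_left) z))
      fun V V' => by
        show res inf_le_left _ = res inf_le_right _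
        refine Ample.eq_of_cover (fun T : {T : B // T.1 ≤ V.1.1 ⊓ V'.1.1} => T.1.1) (fun T => T.2) (fun x hx => ?_)
          fun T => ?_
        · obtain ⟨U, hU, hxU, hle⟩ := exists_isAffineOpen_mem_and_subset hx
          exact Opens.mem_iSup.mpr ⟨⟨⟨U, hU⟩, hle⟩, hxU⟩
        · rw [res_res, res_res]
          exact (hres i V.1 T.1 _ _ _).trans (hres i V'.1 T.1 _ _ _).symm
    exact ⟨f, fun V hV => hf ⟨V, hV⟩⟩
  choose f hf using hglue
  have hrel : ∀ (i : c.ι) (V : X.Opens) (hVW : V ≤ W) (hVi : V ≤ c.D i),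
      ares 𝒮L hVW z = (𝒮L.str.app (op V)).hom (res (le_inf hVW hVi) (f i)) * Tg j φ i hVi ^ N := by
    intro i V hVW hVi
    refine ares_eq_of_cover (fun T : {T : B // T.1 ≤ V} => T.1.1) (fun T => T.2) (fun x hx => ?_) fun T => ?_
    · obtain ⟨U, hU, hxU, hle⟩ := exists_isAffineOpen_mem_and_subset hx
      exact Opens.mem_iSup.mpr ⟨⟨⟨U, hU⟩, hle⟩, hxU⟩
    · rw [ares_ares, map_mul, map_pow, ares_str, ares_Tg, res_res, hf i T.1]
      exact hloc i T.1 _ _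
  have hmem : f ∈ c.sect N W := by
    intro i k V hi hk
    refine Ample.eq_of_cover (fun T : {T : B // T.1 ≤ V} => T.1.1) (fun T => T.2) (fun x hx => ?_) fun T => ?_
    · obtain ⟨U, hU, hxU, hle⟩ := exists_isAffineOpen_mem_and_subset hx
      exact Opens.mem_iSup.mpr ⟨⟨⟨U, hU⟩, hle⟩, hxU⟩
    · have h1 := hrel i T.1.1 ((T.2.trans hi).trans inf_le_left) ((T.2.trans hi).trans inf_le_right)
      rw [hrel k T.1.1 ((T.2.trans hk).trans inf_le_left) ((T.2.trans hk).trans inf_le_right),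
        Tg_change φ i k ((T.2.trans hi).trans inf_le_right) ((T.2.trans hk).trans inf_le_right), mul_pow,
        ← map_pow (𝒮L.str.app (op T.1.1)).hom, ← mul_assoc, ← map_mul] at h1
      have e := congrArg (coef hLq hj (ctriv φ i ((T.2.trans hi).trans inf_le_right) T.1.2)) h1
      rw [coef_eq, coef_eq] at e
      simp only [res_res, map_mul, map_pow, c.res_G]
      rw [← e, mul_comm]
  exact ⟨⟨f, hmem⟩, hrel⟩

section locus

variable {Y : Scheme.{u}} {q : X ⟶ Y} {𝒮 : RelProj.QCGrAlg Y} (hL : PicF.IsInvertible L)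
  (u : RelProj.QGrHom q 𝒮 𝒮L)

theorem psi_of_rel (U : Y.AffineZariskiSite) {N : ℕ} {W : X.Opens} (hW : W ≤ q ⁻¹ᵁ U.1) (s : 𝒮.presheaf.obj (op U.1))
    {a : c.sect N W} (hr : Rel j φ ((u.appLE U.1 W hW).hom s) a) (i : c.ι) {V : X.Opens} (hVi : V ≤ c.D i)
    (hVW : V ≤ W) (ha : IsAffineOpen V) :
    psi hLq hj u U (ctriv φ i hVi ha) (hVW.trans hW) s = res (le_inf hVW hVi) (a.1 i) := by
  have e : (u.appLE U.1 V (hVW.trans hW)).hom s = ares 𝒮L hVW ((u.appLE U.1 W hW).hom s) := by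
    rw [ares, ← CommRingCat.comp_apply, u.appLE_map]
  rw [psi_apply]
  show coef hLq hj (ctriv φ i hVi ha) ((u.appLE U.1 V (hVW.trans hW)).hom s) = _
  rw [e, hr i V hVW hVi]
  exact coef_eq φ hLq hj i hVi ha _

include hLq hj hL in
theorem mem_XS_iff_of_rel (U : Y.AffineZariskiSite) {N : ℕ} {W : X.Opens} (hW : W ≤ q ⁻¹ᵁ U.1)
    {s : 𝒮.presheaf.obj (op U.1)} (hs : s ∈ dg 𝒮 U N) {a : c.sect N W}
    (hr : Rel j φ ((u.appLE U.1 W hW).hom s) a) {x : X} (hx : x ∈ W) {i : c.ι} (hi : x ∈ c.D i) :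
    x ∈ XS u U N s ↔ x ∈ X.basicOpen (a.1 i) := by
  obtain ⟨V, hV, hxV, hle⟩ := exists_isAffineOpen_mem_and_subset (x := x) (U := c.D i ⊓ W) ⟨hi, hx⟩
  have hVi : V ≤ c.D i := fun z hz => (hle hz).1
  have hVW : V ≤ W := fun z hz => (hle hz).2
  rw [mem_XS_iff hL hLq hj u U (ctriv φ i hVi hV) (hVW.trans hW) hs hxV,
    psi_of_rel φ hLq hj u U hW s hr i hVi hVW hV]
  show x ∈ X.basicOpen (res (le_inf hVW hVi) (a.1 i)) ↔ _
  rw [res, Scheme.basicOpen_res]
  exact ⟨fun h => h.2, fun h => ⟨hxV, h⟩⟩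

end locus

end GrothLib.RLpsi8
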