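import Groth.Agent.Lib.UnivThick.Scheme
import Groth.Agent.Lib.UnivThick.Affine
import Groth.Agent.Lib.OmegaAff.Basic
import Groth.Agent.Lib.OmegaSheaf.Basic
import Groth.Agent.Lib.FormalLift.Basic
import Mathlib.LinearAlgebra.TensorProduct.Quotient

/-!
# Formally étale morphisms are their own universal thickening
-/

set_option autoImplicit false
set_option linter.style.haveILetI false
set_option backward.isDefEq.respectTransparency false

universe u

open CategoryTheory CategoryTheory.Limits AlgebraicGeometry TensorProduct Opposite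

namespace GrothLib.RLpsi8.SelfThick

open GrothLib.UnivThick

variable {X S : Scheme.{u}} {f : X ⟶ S}

theorem fot_id : MoreMor.IsFirstOrderThickening (𝟙 X) := by
  refine ⟨⟨inferInstance, inferInstance⟩, ?_⟩
  rw [show (𝟙 X : X ⟶ X).ker = ⊥ from Scheme.Hom.ker_eq_bot_of_isIso _]
  refine Scheme.IdealSheafData.ext (funext fun U => ?_)
  simp [Scheme.IdealSheafData.ideal_mul]

theorem univ_id_of_etale (hf : MoreMor.IsFormallyEtaleHom f) : OmegaSh.IsUnivThickening f (𝟙 X) f := by
  refine ⟨fot_id, Category.id_comp f, fun T T' j b a hj hjb => ?_⟩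
  haveI := fot_isClosedImmersion hj
  haveI := fot_surjective hj
  obtain ⟨l, ⟨hl, hlb⟩, hu⟩ := FormalLift.uniqueLift_of_thickening hf j hj.2 a b hjb
  exact ⟨l, ⟨hl.trans (Category.comp_id a).symm, hlb⟩, fun l' hl' => hu l' ⟨hl'.1.trans (Category.comp_id a), hl'.2⟩⟩

theorem fot_quot (A : Type u) [CommRing A] (I : Ideal A) (hI : I ^ 2 = ⊥) :
    MoreMor.IsFirstOrderThickening (Spec.map (CommRingCat.ofHom (Ideal.Quotient.mk I))) :=
  fot_spec _ Ideal.Quotient.mk_surjective (by
    rw [show RingHom.ker (CommRingCat.ofHom (Ideal.Quotient.mk I)).hom = I from Ideal.mk_ker]; exact hI)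

theorem etale_of_univ_id (h : OmegaSh.IsUnivThickening f (𝟙 X) f) : MoreMor.IsFormallyEtaleHom f := by
  intro A _ I hI a b hw
  obtain ⟨l, ⟨hl, hlb⟩, hu⟩ := h.2.2 _ _ _ b a (fot_quot A I hI) hw
  exact ⟨l, ⟨hl.trans (Category.comp_id a), hlb⟩, fun l' hl' => hu l' ⟨hl'.1.trans (Category.comp_id a).symm, hl'.2⟩⟩

theorem unramified_of_etale (hf : MoreMor.IsFormallyEtaleHom f) : FormallyUnramified f := by
  refine FormallyUnramified.of_hom_ext f fun R R' φ hs hk g₁ g₂ hg hgf => ?_
  have hj := fot_spec φ hs hk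
  haveI := fot_isClosedImmersion hj
  haveI := fot_surjective hj
  obtain ⟨l, -, hu⟩ := FormalLift.uniqueLift_of_thickening hf (Spec.map φ) hj.2 (Spec.map φ ≫ g₁) (g₁ ≫ f)
    (Category.assoc _ _ _).symm
  exact (hu g₁ ⟨rfl, rfl⟩).trans (hu g₂ ⟨hg.symm, hgf.symm⟩).symm

/-- A universal thickening of a formally étale morphism is trivial. -/
theorem isIso_of_univ (hf : MoreMor.IsFormallyEtaleHom f) {X' : Scheme.{u}} {i : X ⟶ X'} {h' : X' ⟶ S}
    (hu : OmegaSh.IsUnivThickening f i h') : IsIso i := by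
  haveI := fot_isClosedImmersion hu.1
  haveI := fot_surjective hu.1
  obtain ⟨r, ⟨hr, hrf⟩, -⟩ := (univ_id_of_etale hf).2.2 X X' i h' (𝟙 X) hu.1 (by rw [hu.2.1, Category.id_comp])
  obtain ⟨a', -, huniq⟩ := hu.2.2 X X' i h' (𝟙 X) hu.1 (by rw [hu.2.1, Category.id_comp])
  have h1 : r ≫ i = 𝟙 X' := by
    refine (huniq _ ⟨?_, ?_⟩).trans (huniq _ ⟨?_, ?_⟩).symm
    · rw [← Category.assoc, hr, Category.id_comp]
    · rw [Category.assoc, hu.2.1, hrf]
    · simp
    · simp
  exact ⟨r, hr.trans (Category.id_comp _), h1⟩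

theorem univ_id_of_isIso {X' : Scheme.{u}} {i : X ⟶ X'} [IsIso i] {h' : X' ⟶ S}
    (hu : OmegaSh.IsUnivThickening f i h') : OmegaSh.IsUnivThickening f (𝟙 X) f := by
  refine ⟨fot_id, Category.id_comp f, fun T T' j b a hj hjb => ?_⟩
  obtain ⟨a', ⟨h1, h2⟩, huniq⟩ := hu.2.2 T T' j b a hj hjb
  refine ⟨a' ≫ inv i, ⟨?_, ?_⟩, fun l hl => ?_⟩
  · rw [← Category.assoc, h1, Category.assoc, IsIso.hom_inv_id]
  · rw [Category.assoc, ← hu.2.1, IsIso.inv_hom_id_assoc, h2]
  · have := huniq (l ≫ i) ⟨by rw [← Category.assoc, hl.1, Category.comp_id], by rw [Category.assoc, hu.2.1, hl.2]⟩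
    rw [← this, Category.assoc, IsIso.hom_inv_id, Category.comp_id]

/-- The conormal sheaf of an isomorphism is zero. -/
theorem isZero_conormal_of_isIso {X' : Scheme.{u}} (i : X ⟶ X') [IsIso i] : IsZero (Omega.conormal i) := by
  refine (Scheme.Modules.pullback i).map_isZero ?_
  rw [IsZero.iff_id_eq_zero]
  refine Scheme.Modules.hom_ext _ _ fun U => ?_
  ext k
  have hk : k = 0 := by
    refine IdealModSec.val_injective _ _ (Eq.trans ?_ (IdealModSec.val_zero _ _).symm)
    have h1 : (ClSub.toSubscheme i.ker).app U (IdealModSec.val i.ker U k) = 0 :=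
      congrArg (fun φ : ClSub.idealMod i.ker ⟶ _ => φ.app U k) (kernel.condition (ClSub.toSubscheme i.ker))
    haveI : IsIso i.ker.subschemeι := by
      rw [Scheme.Hom.ker_eq_bot_of_isIso i]; infer_instance
    have hinj : Function.Injective (i.ker.subschemeι.app U) :=
      (ConcreteCategory.bijective_of_isIso (i.ker.subschemeι.app U)).1
    exact hinj (h1.trans (map_zero (i.ker.subschemeι.app U).hom).symm)
  rw [hk, map_zero, map_zero]

/-- A zero square-zero ideal with zero conormal module. -/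
theorem eq_bot_of_subsingleton {C : Type u} [CommRing C] (I : Ideal C) (hI : I ^ 2 = ⊥)
    [Subsingleton ((C ⧸ I) ⊗[C] I)] : I = ⊥ := by
  haveI : Subsingleton (I ⧸ I • (⊤ : Submodule C I)) := (quotTensorEquivQuotSMul I I).symm.toEquiv.subsingleton
  refine eq_bot_iff.2 fun x hx => ?_
  have h1 : (⟨x, hx⟩ : I) ∈ I • (⊤ : Submodule C I) :=
    (Submodule.Quotient.mk_eq_zero _).1 (Subsingleton.elim _ _)
  have h2 := Submodule.mem_map_of_mem (f := I.subtype) h1
  rw [Submodule.map_smul'', Submodule.map_top, Submodule.range_subtype, smul_eq_mul, ← pow_two, hI] at h2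
  exact h2

theorem subsingleton_of_isZero_tilde {R : CommRingCat.{u}} (M : ModuleCat.{u} R) (h : IsZero (tilde M)) :
    Subsingleton M := by
  have h1 : IsZero M := by
    rw [IsZero.iff_id_eq_zero]
    exact (tilde.functor R).map_injective (h.eq_of_src _ _)
  exact ModuleCat.subsingleton_of_isZero h1

/-- A first order thickening with zero conormal sheaf is an isomorphism. -/
theorem isIso_of_isZero_conormal {X' : Scheme.{u}} {i : X ⟶ X'} [QuasiCompact i]
    (hi : MoreMor.IsFirstOrderThickening i) (hz : IsZero (Omega.conormal i)) : IsIso i := by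
  rw [← MorphismProperty.isomorphisms.iff,
    IsZariskiLocalAtTarget.iff_of_iSup_eq_top (P := MorphismProperty.isomorphisms Scheme.{u})
      (fun W : X'.affineOpens => W.1) (iSup_affineOpens_eq_top X')]
  rintro ⟨W, hW⟩
  obtain ⟨C, I, ee, ee', hI, he⟩ := exists_spec_model i hi W hW
  let φ : CommRingCat.of C ⟶ CommRingCat.of (C ⧸ I) := CommRingCat.ofHom (Ideal.Quotient.mk I)
  let k : Spec C ⟶ X' := ee'.inv ≫ W.ι
  let j : Spec (CommRingCat.of (C ⧸ I)) ⟶ X := ee.inv ≫ (i ⁻¹ᵁ W).ι
  have H : IsPullback (Spec.map φ) j k i :=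
    (isPullback_morphismRestrict i W).of_iso ee ee' (Iso.refl X) (Iso.refl X') (by exact he)
      (by simp [j]) (by simp [k]) (by simp)
  obtain ⟨e1⟩ := OmegaSheaf.nonempty_pullback_conormal i (Spec.map φ) j k H
  obtain ⟨e2⟩ := OmegaAff.nonempty_conormal_iso C (C ⧸ I) (P := Spec (CommRingCat.of C)) (Iso.refl _)
  have hz' : IsZero (Omega.conormal (Spec.map φ)) := ((Scheme.Modules.pullback j).map_isZero hz).of_iso e1.symm
  have e3 : Spec.map (CommRingCat.ofHom (algebraMap C (C ⧸ I))) ≫ (Iso.refl (Spec (CommRingCat.of C))).hom =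
      Spec.map φ := Category.comp_id _
  rw [e3] at e2
  haveI := subsingleton_of_isZero_tilde _ (hz'.of_iso e2.symm)
  have hker : RingHom.ker (algebraMap C (C ⧸ I)) = I := Ideal.mk_ker
  haveI : Subsingleton ((C ⧸ I) ⊗[C] I) :=
    (TensorProduct.congr (LinearEquiv.refl C (C ⧸ I)) (LinearEquiv.ofEq _ _ hker).symm).toEquiv.subsingleton
  have hb := eq_bot_of_subsingleton I hI
  haveI : IsIso φ := (ConcreteCategory.isIso_iff_bijective φ).2
    ⟨RingHom.injective_iff_ker_eq_bot _ |>.2 (hker.trans hb), Ideal.Quotient.mk_surjective⟩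
  show IsIso (i ∣_ W)
  rw [show i ∣_ W = ee.hom ≫ Spec.map φ ≫ ee'.inv from by rw [← Category.assoc, ← he, Category.assoc, Iso.hom_inv_id, Category.comp_id]]
  infer_instance

end GrothLib.RLpsi8.SelfThick
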