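import Groth.Agent.Lib.RLpsi8.AmpleDict
import Groth.Agent.Lib.RLpsi8.Dominant

/-!
# The canonical morphism of a relatively ample module
-/

set_option autoImplicit false
set_option backward.isDefEq.respectTransparency false
set_option maxHeartbeats 400000

universe u

open CategoryTheory CategoryTheory.Limits AlgebraicGeometry TopologicalSpace Opposite
open GrothLib.RelProjK (dg rs em)
open GrothLib.RelCone8 (Pair gu)
open GrothLib.InvExt (IsGen mres)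
open GrothLib.Ample (res res_res res_self Cocycle)

noncomputable section

namespace GrothLib.RLpsi8

variable {Y X P PL : Scheme.{u}} {q : X ⟶ Y} {L : X.Modules} {𝒮 : RelProj.QCGrAlg Y} {𝒮L : RelProj.QCGrAlg X}
  {j : L ⟶ 𝒮L.toModule} (hL : PicF.IsInvertible L) (hLq : Coh.IsQCoh L) (hj : RelProj.IsGrSymAlg L 𝒮L j)
  (u : RelProj.QGrHom q 𝒮 𝒮L)

/-- The degree one element, restricted. -/
abbrev Tr (j : L ⟶ 𝒮L.toModule) (t : Triv L) {V : X.Opens} (h : V ≤ t.V.1) : 𝒮L.presheaf.obj (op V) :=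
  ares 𝒮L h (T j t)

theorem ares_appLE (U : Y.Opens) {V V' : X.Opens} (hV : V ≤ q ⁻¹ᵁ U) (h : V' ≤ V) (s : 𝒮.presheaf.obj (op U)) :
    ares 𝒮L h ((u.appLE U V hV).hom s) = (u.appLE U V' (h.trans hV)).hom s := by
  rw [ares, ← CommRingCat.comp_apply, u.appLE_map]

include hLq hj in
theorem ares_gu (U : Y.AffineZariskiSite) (t : Triv L) (h : t.V.1 ≤ q ⁻¹ᵁ U.1) {n : ℕ}
    {s : 𝒮.presheaf.obj (op U.1)} (hs : s ∈ dg 𝒮 U n) {V : X.Opens} (hV : V ≤ t.V.1) :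
    (u.appLE U.1 V (hV.trans h)).hom s =
      (𝒮L.str.app (op V)).hom (res hV (psi hLq hj u U t h s)) * Tr j t hV ^ n := by
  rw [← ares_appLE u U.1 h hV s]
  show ares 𝒮L hV (gu u (tp U t h) s) = _
  rw [gu_eq hLq hj u U t h hs, map_mul, map_pow, ares_str]

theorem ares_coef_str (t : Triv L) {D : X.AffineZariskiSite} (hD : D ≤ t.V) :
    Tr j t (Scheme.AffineZariskiSite.toOpens_mono hD) = T j (t.res hD) :=
  VA.rs_ev j hD t.e

include hL hLq hj in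
/-- A homogeneous section vanishing on the locus of `s` is killed by a power of `u s`. -/
theorem exists_pow_mul_eq_zero {U : Y.AffineZariskiSite} {n : ℕ} {s : 𝒮.presheaf.obj (op U.1)} (hs : s ∈ dg 𝒮 U n)
    {T₀ : X.Opens} (hT : T₀ ≤ q ⁻¹ᵁ U.1) (hTc : IsCompact (T₀ : Set X)) (e : ℕ) (δ : 𝒮L.presheaf.obj (op T₀))
    (hδ : ∀ (t : Triv L) (h : t.V.1 ≤ T₀), ares 𝒮L h δ ∈ dg 𝒮L t.V e)
    (h0 : ares 𝒮L (inf_le_left : T₀ ⊓ XS u U n s ≤ T₀) δ = 0) :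
    ∃ M : ℕ, ∀ M', M ≤ M' → (u.appLE U.1 T₀ hT).hom s ^ M' * δ = 0 := by
  classical
  choose t hxt htT using fun x : T₀ => exists_triv_le hL x.2
  obtain ⟨F, hF⟩ := hTc.elim_finite_subcover (fun x : T₀ => ((t x).V.1 : Set X)) (fun x => (t x).V.1.isOpen)
    fun x hx => Set.mem_iUnion.mpr ⟨⟨x, hx⟩, hxt ⟨x, hx⟩⟩
  have hloc : ∀ x : T₀, ∃ M : ℕ,
      psi hLq hj u U (t x) ((htT x).trans hT) s ^ M * coef hLq hj (t x) (ares 𝒮L (htT x) δ) = 0 := by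
    intro x
    let α := psi hLq hj u U (t x) ((htT x).trans hT) s
    refine exists_pow_mul_eq_zero_of_res_basicOpen_eq_zero_of_isCompact X (t x).V.2.isCompact _ α ?_
    let D : X.AffineZariskiSite := ⟨X.basicOpen α, (t x).V.2.basicOpen _⟩
    have hD : D ≤ (t x).V := ⟨α, rfl⟩
    have hDX : D.1 ≤ T₀ ⊓ XS u U n s := fun z hz => ⟨htT x (X.basicOpen_le α hz),
      (mem_XS_iff hL hLq hj u U (t x) ((htT x).trans hT) hs (X.basicOpen_le α hz)).mpr hz⟩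
    have e1 : ares 𝒮L (Scheme.AffineZariskiSite.toOpens_mono hD) (ares 𝒮L (htT x) δ) = 0 := by
      have h1 := congrArg (ares 𝒮L hDX) h0
      rw [ares_ares, map_zero] at h1
      rw [ares_ares]
      exact h1
    have e2 := coef_rs hLq hj (t x) hD (hδ (t x) (htT x))
    rw [show rs 𝒮L hD (ares 𝒮L (htT x) δ) = 0 from e1, map_zero] at e2
    exact e2.symm
  choose M hM using hloc
  refine ⟨F.sup M, fun M' hM' => ares_eq_of_cover (fun x : F => (t x.1).V.1) (fun x => htT x.1) (fun z hz => ?_) fun x => ?_⟩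
  · obtain ⟨x, hxF, hzx⟩ := Set.mem_iUnion₂.mp (hF hz)
    exact Opens.mem_iSup.mpr ⟨⟨x, hxF⟩, hzx⟩
  · rw [map_mul, map_pow, map_zero, ares_appLE u]
    have e1 : psi hLq hj u U (t x.1) ((htT x.1).trans hT) s ^ M' * coef hLq hj (t x.1) (ares 𝒮L (htT x.1) δ) = 0 := by
      rw [← Nat.sub_add_cancel ((Finset.le_sup x.2).trans hM'), pow_add, mul_assoc, hM x.1, mul_zero]
    show gu u (tp U (t x.1) ((htT x.1).trans hT)) s ^ M' * _ = 0
    rw [gu_eq hLq hj u U (t x.1) _ hs]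
    conv_lhs => rw [eq_str_coef_mul hLq hj (t x.1) (hδ (t x.1) (htT x.1))]
    rw [mul_pow, ← map_pow (𝒮L.str.app (op (t x.1).V.1)).hom, mul_mul_mul_comm, ← map_mul, e1, map_zero, zero_mul]

include hL hLq hj in
/-- Extension of a function on the locus of `s`. -/
theorem exists_extend {U : Y.AffineZariskiSite} {n : ℕ} {s : 𝒮.presheaf.obj (op U.1)} (hs : s ∈ dg 𝒮 U n)
    (hc : IsCompact ((q ⁻¹ᵁ U.1 : X.Opens) : Set X)) (hqs : IsQuasiSeparated ((q ⁻¹ᵁ U.1 : X.Opens) : Set X))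
    (b : Γ(X, XS u U n s)) :
    ∃ (m : ℕ) (_ : 0 < m) (z : 𝒮L.presheaf.obj (op (q ⁻¹ᵁ U.1))),
      (∀ x ∈ q ⁻¹ᵁ U.1, ∃ (t : Triv L) (h : t.V.1 ≤ q ⁻¹ᵁ U.1), x ∈ t.V.1 ∧ ares 𝒮L h z ∈ dg 𝒮L t.V (m * n)) ∧
        ares 𝒮L (XS_le u U n s) z = (𝒮L.str.app (op (XS u U n s))).hom b *
          (u.appLE U.1 (XS u U n s) (XS_le u U n s)).hom s ^ m := by
  classical
  let W := q ⁻¹ᵁ U.1
  choose t hxt htW using fun x : W => exists_triv_le hL x.2
  obtain ⟨F, hF⟩ := hc.elim_finite_subcover (fun x : W => ((t x).V.1 : Set X)) (fun x => (t x).V.1.isOpen)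
    fun x hx => Set.mem_iUnion.mpr ⟨⟨x, hx⟩, hxt ⟨x, hx⟩⟩
  have hDX : ∀ x : W, X.basicOpen (psi hLq hj u U (t x) (htW x) s) ≤ XS u U n s := fun x z hz =>
    (mem_XS_iff hL hLq hj u U (t x) (htW x) hs (X.basicOpen_le _ hz)).mpr hz
  choose m₁ d₁ hd₁ using fun x : W => exists_eq_pow_mul_of_isAffineOpen X (t x).V.1 (t x).V.2
    (psi hLq hj u U (t x) (htW x) s) (res (hDX x) b)
  let m₀ := F.sup m₁ + 1
  let d : ∀ x : F, Γ(X, (t x.1).V.1) := fun x => psi hLq hj u U (t x.1) (htW x.1) s ^ (m₀ - m₁ x.1) * d₁ x.1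
  let zl : ∀ x : F, 𝒮L.presheaf.obj (op (t x.1).V.1) :=
    fun x => (𝒮L.str.app (op (t x.1).V.1)).hom (d x) * T j (t x.1) ^ (m₀ * n)
  have hzl : ∀ x : F, zl x ∈ dg 𝒮L (t x.1).V (m₀ * n) := fun x => by
    have := SetLike.mul_mem_graded (𝒮L.str_mem (t x.1).V.1 (t x.1).V.2 (d x))
      (SetLike.pow_mem_graded (m₀ * n) (T_mem hj (t x.1)))
    simpa using this
  have hzX : ∀ (x : F) (V : X.Opens) (h : V ≤ (t x.1).V.1) (h' : V ≤ XS u U n s),
      ares 𝒮L h (zl x) = (𝒮L.str.app (op V)).hom (res h' b) *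
        (u.appLE U.1 V (h'.trans (XS_le u U n s))).hom s ^ m₀ := by
    intro x V h h'
    have hVD : V ≤ X.basicOpen (psi hLq hj u U (t x.1) (htW x.1) s) := fun z hz =>
      (mem_XS_iff hL hLq hj u U (t x.1) (htW x.1) hs (h hz)).mp (h' hz)
    have e1 := congrArg (res hVD) (hd₁ x.1)
    change res hVD (res (X.basicOpen_le _) (d₁ x.1)) =
      res hVD (res (X.basicOpen_le _) (psi hLq hj u U (t x.1) (htW x.1) s) ^ m₁ x.1 * res (hDX x.1) b) at e1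
    rw [map_mul, map_pow, res_res, res_res, res_res] at e1
    rw [ares_gu hLq hj u U (t x.1) (htW x.1) hs h, mul_pow, ← map_pow (𝒮L.str.app (op V)).hom, ← mul_assoc, ← map_mul,
      ← pow_mul, Nat.mul_comm n m₀]
    simp only [zl, d, map_mul, map_pow, ares_str]
    congr 1
    rw [e1, map_mul, map_pow, ← mul_assoc, ← pow_add, Nat.sub_add_cancel ((Finset.le_sup x.2).trans (Nat.le_succ _)),
      mul_comm]
  have hpair : ∀ x y : F, ∃ M : ℕ, ∀ M', M ≤ M' →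
      (u.appLE U.1 ((t x.1).V.1 ⊓ (t y.1).V.1) (inf_le_left.trans (htW x.1))).hom s ^ M' *
        (ares 𝒮L inf_le_left (zl x) - ares 𝒮L inf_le_right (zl y)) = 0 := by
    intro x y
    refine exists_pow_mul_eq_zero hL hLq hj u hs _ ?_ (m₀ * n) _ (fun t' h => ?_) ?_
    · exact hqs _ _ (htW x.1) (t x.1).V.1.isOpen (t x.1).V.2.isCompact (htW y.1) (t y.1).V.1.isOpen
        (t y.1).V.2.isCompact
    · rw [map_sub, ares_ares, ares_ares]
      exact sub_mem (𝒮L.map_mem (t x.1).V.2 t'.V.2 _ (hzl x)) (𝒮L.map_mem (t y.1).V.2 t'.V.2 _ (hzl y))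
    · rw [map_sub, ares_ares, ares_ares, hzX x _ _ inf_le_right, hzX y _ _ inf_le_right, sub_self]
  choose M₁ hM₁ using hpair
  let M := Finset.univ.sup fun xy : F × F => M₁ xy.1 xy.2
  let sf : ∀ x : F, 𝒮L.presheaf.obj (op (t x.1).V.1) := fun x => (u.appLE U.1 _ (htW x.1)).hom s ^ M * zl x
  obtain ⟨z, hz, -⟩ := TopCat.Sheaf.existsUnique_gluing'
    (⟨𝒮L.presheaf, 𝒮L.isSheaf⟩ : TopCat.Sheaf CommRingCat.{u} X.carrier) (fun x : F => (t x.1).V.1) W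
    (fun x => homOfLE (htW x.1))
    (fun z hz => by
      obtain ⟨x, hxF, hzx⟩ := Set.mem_iUnion₂.mp (hF hz)
      exact Opens.mem_iSup.mpr ⟨⟨x, hxF⟩, hzx⟩) sf fun x y => by
      show ares 𝒮L inf_le_left (sf x) = ares 𝒮L inf_le_right (sf y)
      have := hM₁ x y M (Finset.le_sup (f := fun xy : F × F => M₁ xy.1 xy.2) (Finset.mem_univ (x, y)))
      simp only [sf, map_mul, map_pow, ares_appLE]
      rw [← sub_eq_zero, ← mul_sub]
      exact this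
  have hz' : ∀ x : F, ares 𝒮L (htW x.1) z = sf x := hz
  refine ⟨M + m₀, Nat.add_pos_right _ (Nat.succ_pos _), z, fun w hw => ?_, ?_⟩
  · obtain ⟨x, hxF, hwx⟩ := Set.mem_iUnion₂.mp (hF hw)
    refine ⟨t x, htW x, hwx, ?_⟩
    rw [hz' ⟨x, hxF⟩, Nat.add_mul]
    refine SetLike.mul_mem_graded (A := dg 𝒮L (t x).V) ?_ (hzl ⟨x, hxF⟩)
    simpa [smul_eq_mul] using SetLike.pow_mem_graded M ((gu u (tp U (t x) (htW x))).map_mem hs)
  · refine ares_eq_of_cover (fun x : F => (t x.1).V.1 ⊓ XS u U n s) (fun _ => inf_le_right) (fun w hw => ?_) fun x => ?_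
    · obtain ⟨x, hxF, hwx⟩ := Set.mem_iUnion₂.mp (hF (XS_le u U n s hw))
      exact Opens.mem_iSup.mpr ⟨⟨x, hxF⟩, hwx, hw⟩
    · rw [ares_ares, ← ares_ares (htW x.1) inf_le_left z, hz' x]
      simp only [sf, map_mul, map_pow, ares_appLE, ares_str]
      rw [hzX x _ inf_le_left inf_le_right, pow_add]
      ring

variable (hu : ∀ (U : Y.Opens), IsAffineOpen U → Function.Bijective (u.app U).hom)

include hu in
theorem bijective_appLE (U : Y.AffineZariskiSite) : Function.Bijective (u.appLE U.1 (q ⁻¹ᵁ U.1) le_rfl).hom := by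
  have e : u.appLE U.1 (q ⁻¹ᵁ U.1) le_rfl = u.app U.1 := by
    rw [u.toQHom.appLE_eq, show (homOfLE (le_refl (q ⁻¹ᵁ U.1))).op = 𝟙 _ from rfl,
      CategoryTheory.Functor.map_id, Category.comp_id]
  rw [e]
  exact hu U.1 U.2

include hu in
/-- The degree is detected on the source. -/
theorem mem_deg_of_local (U : Y.AffineZariskiSite) {N : ℕ} {s : 𝒮.presheaf.obj (op U.1)}
    (h : ∀ x ∈ q ⁻¹ᵁ U.1, ∃ (t : Triv L) (hle : t.V.1 ≤ q ⁻¹ᵁ U.1),
      x ∈ t.V.1 ∧ (u.appLE U.1 t.V.1 hle).hom s ∈ dg 𝒮L t.V N) : s ∈ dg 𝒮 U N := by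
  classical
  have key : ∀ i, i ≠ N → (DirectSum.decompose (dg 𝒮 U) s i : 𝒮.presheaf.obj (op U.1)) = 0 := by
    intro i hi
    refine (bijective_appLE u hu U).1 ?_
    rw [map_zero]
    choose t hle hxt hdeg using fun x : (q ⁻¹ᵁ U.1 : X.Opens) => h x.1 x.2
    refine ares_eq_of_cover (fun x => (t x).V.1) hle (fun x hx => Opens.mem_iSup.mpr ⟨⟨x, hx⟩, hxt ⟨x, hx⟩⟩) fun x => ?_
    rw [ares_appLE, map_zero]
    show gu u (tp U (t x) (hle x)) _ = 0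
    rw [GradedRingHom.map_directSumDecompose]
    exact DirectSum.decompose_of_mem_ne (dg 𝒮L (t x).V) (hdeg x) (Ne.symm hi)
  rw [← DirectSum.sum_support_decompose (dg 𝒮 U) s]
  refine sum_mem fun i _ => ?_
  rcases eq_or_ne i N with rfl | hi
  · exact SetLike.coe_mem _
  · rw [key i hi]; exact zero_mem _

include hL hLq hj hu in
theorem isInj_of_bijective [QuasiCompact q] {U : Y.AffineZariskiSite} {n : ℕ} {s : 𝒮.presheaf.obj (op U.1)}
    (hs : s ∈ dg 𝒮 U n) : IsInj u U n s := by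
  intro m _ a ha e
  obtain ⟨M, hM⟩ := exists_pow_mul_eq_zero hL hLq hj u hs le_rfl (q.isCompact_preimage U.2.isCompact) (m * n)
    ((u.appLE U.1 (q ⁻¹ᵁ U.1) le_rfl).hom a)
    (fun t h => by rw [ares_appLE]; exact (gu u (tp U t h)).map_mem ha)
    (by
      rw [ares_appLE, ← ares_appLE u U.1 (XS_le u U n s) (inf_le_right : q ⁻¹ᵁ U.1 ⊓ XS u U n s ≤ XS u U n s), e,
        map_zero])
  refine ⟨M + 1, M.succ_pos, (bijective_appLE u hu U).1 ?_⟩
  rw [map_mul, map_pow, map_zero]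
  exact hM _ (Nat.le_succ M)

include hL hLq hj hu in
theorem isGood_of_bijective [QuasiCompact q] {U : Y.AffineZariskiSite} {n : ℕ} {s : 𝒮.presheaf.obj (op U.1)}
    (hs : s ∈ dg 𝒮 U n) (hqs : IsQuasiSeparated ((q ⁻¹ᵁ U.1 : X.Opens) : Set X))
    (hA : IsAffineOpen (XS u U n s)) : IsGood u U n s := by
  refine ⟨hA, fun b => ?_⟩
  obtain ⟨m, hm, z, hz, e⟩ := exists_extend hL hLq hj u hs (q.isCompact_preimage U.2.isCompact) hqs b
  obtain ⟨a, rfl⟩ := (bijective_appLE u hu U).2 z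
  refine ⟨m, hm, a, mem_deg_of_local (L := L) u hu U fun x hx => ?_, ?_⟩
  · obtain ⟨t, h, hxt, hdeg⟩ := hz x hx
    rw [ares_appLE] at hdeg
    exact ⟨t, h, hxt, hdeg⟩
  · rw [ares_appLE] at e
    exact e.symm

include hL hLq hj hu in
theorem isNilpotent_of_XS_eq_bot [QuasiCompact q] {U : Y.AffineZariskiSite} {n : ℕ} {s : 𝒮.presheaf.obj (op U.1)}
    (hs : s ∈ dg 𝒮 U n) (hb : XS u U n s = ⊥) : IsNilpotent s := by
  obtain ⟨M, hM⟩ := exists_pow_mul_eq_zero hL hLq hj u hs le_rfl (q.isCompact_preimage U.2.isCompact) 0 1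
    (fun t h => by rw [map_one]; exact SetLike.one_mem_graded _)
    (ares_eq_of_cover (fun _ : PEmpty.{u+1} => (⊥ : X.Opens)) (fun i => i.elim)
      (fun x (hx : x ∈ q ⁻¹ᵁ U.1 ⊓ XS u U n s) => absurd (hb.le hx.2) id) fun i => i.elim)
  refine ⟨M, (bijective_appLE u hu U).1 ?_⟩
  rw [map_pow, map_zero]
  simpa using hM M le_rfl

include hL hLq hj hu in
/-- The affine loci of a relatively ample module give pieces. -/
theorem exists_piece_of_isRelAmple (h : RelAmple.IsRelAmple q L) (x : X) :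
    ∃ c : Piece 𝒮, x ∈ c.locus u ∧ IsGood u c.U c.n c.s ∧ IsInj u c.U c.n c.s := by
  haveI := h.1
  obtain ⟨O, hO, hxO, -⟩ := exists_isAffineOpen_mem_and_subset (Opens.mem_top (q x))
  let U : Y.AffineZariskiSite := ⟨O, hO⟩
  let W : X.Opens := q ⁻¹ᵁ U.1
  have hA := h.2 ⟨O, hO⟩
  obtain ⟨c, ⟨φ⟩⟩ := Ample.exists_cocycle hL
  obtain ⟨d⟩ := c.nonempty_restrict_iso W.ι φ
  obtain ⟨hWc, hamp⟩ := ((c.comap W.ι).isAmple_iff d).mp hA
  haveI := hWc
  have hqs : IsQuasiSeparated (W : Set X) :=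
    (isQuasiSeparated_iff_quasiSeparatedSpace _ W.2).mpr (Ample.quasiSeparatedSpace_of_isAmple hA)
  obtain ⟨n, a', hxa, ha'⟩ := hamp ⟨x, hxO⟩
  obtain ⟨β, rfl⟩ := (c.bijective_pullSect W.ι (n := n + 1) ⊤).2 a'
  have hW0 : W.ι ''ᵁ ⊤ ≤ W := by rw [Scheme.Opens.ι_image_top]
  have hW1 : W ≤ W.ι ''ᵁ ⊤ := by rw [Scheme.Opens.ι_image_top]
  obtain ⟨z, hz⟩ := exists_rel_of_sect φ (j := j) β
  obtain ⟨s, hsz⟩ := (bijective_appLE u hu U).2 (ares 𝒮L hW1 z)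
  have hr : Rel j φ ((u.appLE U.1 (W.ι ''ᵁ ⊤) hW0).hom s) β := by
    rw [← ares_appLE u U.1 (le_refl W) hW0, hsz, ares_ares]
    intro i V hVW hVi
    rw [ares_ares]
    exact hz i V hVW hVi
  have hs : s ∈ dg 𝒮 U (n + 1) := mem_deg_of_local (L := L) u hu U fun y hy => by
    obtain ⟨i, V, hV, hVi, hVW, hyV⟩ := exists_ctriv (c := c) (W := W.ι ''ᵁ ⊤) (hW1 hy)
    refine ⟨ctriv φ i hVi hV, hVW.trans hW0, hyV, ?_⟩
    show (u.appLE U.1 V (hVW.trans hW0)).hom s ∈ 𝒮L.deg V hV (n + 1)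
    rw [← ares_appLE u U.1 hW0 hVW, hr i V hVW hVi]
    have := SetLike.mul_mem_graded (A := dg 𝒮L ⟨V, hV⟩) (𝒮L.str_mem V hV (res (le_inf hVW hVi) (β.1 i)))
      (SetLike.pow_mem_graded (n + 1) (T_mem hj (ctriv φ i hVi hV)))
    simpa [T_ctriv] using this
  have e := XS_eq_image_locus hL hLq hj u φ U hW0 hs hr
  refine ⟨⟨U, n + 1, n.succ_pos, s, hs⟩, ?_, isGood_of_bijective hL hLq hj u hu hs hqs ?_,
    isInj_of_bijective hL hLq hj u hu hs⟩
  · show x ∈ XS u U (n + 1) s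
    rw [← e]
    exact ⟨⟨x, hxO⟩, hxa, rfl⟩
  · rw [← e]
    exact ha'.image_of_isOpenImmersion W.ι

variable {p : P ⟶ Y} {chart : ∀ (U : Y.Opens) (hU : IsAffineOpen U), (((p ⁻¹ᵁ U : P.Opens) : Scheme.{u}) ≅ Proj (𝒮.deg U hU))}
  {pL : PL ⟶ X}
  {chartL : ∀ (U : X.Opens) (hU : IsAffineOpen U), (((pL ⁻¹ᵁ U : PL.Opens) : Scheme.{u}) ≅ Proj (𝒮L.deg U hU))}
  (hP : RelProj.IsRelProj 𝒮 p chart) (hPL : RelProj.IsRelProj 𝒮L pL chartL)
  {r : ((RelProj.domQ u pL chartL : PL.Opens) : Scheme.{u}) ⟶ P}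
  (hr : RelProj.IsProjQMapOn u p chart pL chartL (RelProj.domQ u pL chartL) r)

include hL hLq hj hu hP hPL hr in
theorem isOpenImmersion_isDominant_of_isRelAmple (h : RelAmple.IsRelAmple q L) :
    RelProj.domQ u pL chartL = ⊤ ∧ IsOpenImmersion r ∧ IsDominant r := by
  haveI := h.1
  choose c hc hgood hinj using exists_piece_of_isRelAmple hL hLq hj u hu h
  have hcov : ⨆ x, (c x).locus u = ⊤ := top_le_iff.mp fun x _ => Opens.mem_iSup.mpr ⟨x, hc x⟩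
  have htop := domQ_eq_top_of_cover hL hLq hj u hPL c hcov
  obtain ⟨g, hg, hQ⟩ := exists_g hL hLq hj u hPL htop hr
  refine ⟨htop, (hQ @IsOpenImmersion).mpr
    (isOpenImmersion_of_good hL hLq hj u hP hPL htop hg c hcov fun x => ⟨hgood x, hinj x⟩), ?_⟩
  refine (isDominant_iff hL hLq hj u hP hPL hr id fun y => ?_).mpr fun U n _ s hs hb =>
    isNilpotent_of_XS_eq_bot hL hLq hj u hu hs hb
  obtain ⟨O, hO, hy, -⟩ := exists_isAffineOpen_mem_and_subset (Opens.mem_top y)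
  exact ⟨⟨O, hO⟩, hy⟩

end GrothLib.RLpsi8
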