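import Groth.Agent.Lib.ProjQ8.QuotAlg
import Groth.Agent.Lib.ProjQ8.DegOne
import Groth.Agent.Lib.QCoh.Qcqs
import Groth.Agent.Lib.QCoh.FT
import Groth.Agent.Lib.RLpsi8.FTSub

/-!
# Quasi-coherent graded subalgebras
-/

set_option autoImplicit false
set_option backward.isDefEq.respectTransparency false
set_option maxHeartbeats 400000

universe u

open CategoryTheory AlgebraicGeometry TopologicalSpace Opposite DirectSum
open GrothLib.RelSpec (aff)
open GrothLib.ProjQ8 (resA strA resA_resA resA_self resA_strA)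
open GrothLib.QCoh (SubData rr)

noncomputable section

namespace GrothLib.RLpsi8

variable {S : Scheme.{u}} (𝒮 : RelProj.QCGrAlg S) (C : ∀ (U : S.Opens), IsAffineOpen U → Subring (𝒮.presheaf.obj (op U)))

/-- Subrings over the affine opens which glue to a graded subalgebra. -/
structure IsSubCompat : Prop where
  str : ∀ U hU (r : Γ(S, U)), strA 𝒮 U r ∈ C U hU
  res : ∀ (U : S.Opens) (hU : IsAffineOpen U) (s : Γ(S, U)) (a : 𝒮.presheaf.obj (op U)),
    a ∈ C U hU → resA 𝒮 (S.basicOpen_le s) a ∈ C _ (hU.basicOpen s)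
  homogeneous : ∀ U hU (a : 𝒮.presheaf.obj (op U)), a ∈ C U hU →
    ∀ n, (decompose (𝒮.deg U hU) a n : 𝒮.presheaf.obj (op U)) ∈ C U hU
  lift : ∀ (U : S.Opens) (hU : IsAffineOpen U) (s : Γ(S, U)) (z : 𝒮.presheaf.obj (op (S.basicOpen s))),
    z ∈ C _ (hU.basicOpen s) → ∃ k : ℕ, ∃ a ∈ C U hU,
      resA 𝒮 (S.basicOpen_le s) a = z * resA 𝒮 (S.basicOpen_le s) (strA 𝒮 U s) ^ k

variable {𝒮 C}

theorem IsSubCompat.res_le (hC : IsSubCompat 𝒮 C) {U V : S.AffineZariskiSite} (h : V ≤ U) :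
    C U.1 U.2 ≤ (C V.1 V.2).comap (resA 𝒮 (Scheme.AffineZariskiSite.toOpens_mono h)) := by
  obtain ⟨V, hV⟩ := V
  obtain ⟨r, hr⟩ := id h
  obtain rfl : S.basicOpen r = V := hr
  exact fun a ha => hC.res U.1 U.2 r a ha

variable (C) in
/-- The subrings, as a functor. -/
def subFunctor (hC : IsSubCompat 𝒮 C) : S.AffineZariskiSiteᵒᵖ ⥤ CommRingCat.{u} where
  obj U := CommRingCat.of (C U.unop.1 U.unop.2)
  map {U V} i := CommRingCat.ofHom (((resA 𝒮 (leOfHom ((aff S).map i.unop))).comp (C U.unop.1 U.unop.2).subtype).codRestrict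
    (C V.unop.1 V.unop.2) fun a => hC.res_le (leOfHom i.unop) a.2)
  map_id U := CommRingCat.hom_ext (RingHom.ext fun a => Subtype.ext (resA_self 𝒮 a.1))
  map_comp {U V W} i k := CommRingCat.hom_ext (RingHom.ext fun a => Subtype.ext
    (resA_resA 𝒮 (leOfHom ((aff S).map i.unop)) (leOfHom ((aff S).map k.unop)) a.1).symm)

/-- The structure maps of the subrings. -/
def subStr (hC : IsSubCompat 𝒮 C) : (aff S).op ⋙ S.presheaf ⟶ subFunctor C hC where
  app U := CommRingCat.ofHom ((strA 𝒮 U.unop.1).codRestrict (C U.unop.1 U.unop.2) (hC.str U.unop.1 U.unop.2))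
  naturality U V i := CommRingCat.hom_ext (RingHom.ext fun r =>
    Subtype.ext (resA_strA 𝒮 (leOfHom ((aff S).map i.unop)) r).symm)

theorem subStr_coequifibered (hC : IsSubCompat 𝒮 C) : (subStr hC).Coequifibered := by
  refine Scheme.AffineZariskiSite.coequifibered_iff_forall_isLocalizationAway.mpr fun U r => ?_
  have hloc := 𝒮.isQC U.1 U.2 r
  letI := (resA 𝒮 (S.basicOpen_le r)).toAlgebra
  haveI : IsLocalization.Away (strA 𝒮 U.1 r) (𝒮.presheaf.obj (op (S.basicOpen r))) := hloc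
  let q : C U.1 U.2 →+* C (S.basicOpen r) (U.2.basicOpen r) :=
    ((resA 𝒮 (S.basicOpen_le r)).comp (C U.1 U.2).subtype).codRestrict _ fun a => hC.res U.1 U.2 r a a.2
  letI : Algebra (C U.1 U.2) (C (S.basicOpen r) (U.2.basicOpen r)) := q.toAlgebra
  show IsLocalization.Away (⟨strA 𝒮 U.1 r, hC.str U.1 U.2 r⟩ : C U.1 U.2) (C (S.basicOpen r) (U.2.basicOpen r))
  refine IsLocalization.Away.mk _ ?_ ?_ ?_
  · obtain ⟨b, hb⟩ := (RingedSpace.isUnit_res_basicOpen S.toRingedSpace r).exists_right_inv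
    refine IsUnit.of_mul_eq_one ⟨strA 𝒮 (S.basicOpen r) b, hC.str _ (U.2.basicOpen r) b⟩ (Subtype.ext ?_)
    show resA 𝒮 (S.basicOpen_le r) (strA 𝒮 U.1 r) * strA 𝒮 (S.basicOpen r) b = 1
    rw [resA_strA, ← map_mul]
    exact (congrArg (strA 𝒮 (S.basicOpen r)) hb).trans (map_one _)
  · intro z
    obtain ⟨k, a, ha, e⟩ := hC.lift U.1 U.2 r z.1 z.2
    exact ⟨k, ⟨a, ha⟩, Subtype.ext e.symm⟩
  · intro a b hab
    obtain ⟨k, hk⟩ := IsLocalization.Away.exists_of_eq (S := 𝒮.presheaf.obj (op (S.basicOpen r))) (strA 𝒮 U.1 r)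
      (congrArg Subtype.val hab)
    exact ⟨k, Subtype.ext hk⟩

/-- The graded subalgebra with the given subrings of sections. -/
theorem exists_subalgebra (hC : IsSubCompat 𝒮 C) :
    ∃ (𝒯 : RelProj.QCGrAlg S) (j : 𝒯.toQCAlg ⟶ 𝒮.toQCAlg) (_ : RelProj.IsGradedHom j),
      (∀ (U : S.Opens) (_ : IsAffineOpen U), Function.Injective (j.hom.app (op U)).hom) ∧
      (∀ (U : S.Opens) (hU : IsAffineOpen U), (j.hom.app (op U)).hom.range = C U hU) ∧
      (∀ (U : S.Opens) (hU : IsAffineOpen U) (n : ℕ) (t : 𝒯.presheaf.obj (op U)),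
        t ∈ 𝒯.deg U hU n ↔ (j.hom.app (op U)).hom t ∈ 𝒮.deg U hU n) := by
  obtain ⟨A, i, hi⟩ := RelSpec.exists_qcAlg_of_coequifibered (subFunctor C hC) (subStr hC)
    (subStr_coequifibered hC)
  let e : ∀ (U : S.Opens) (hU : IsAffineOpen U), C U hU ≃+* A.presheaf.obj (op U) :=
    fun U hU => (i.app (op ⟨U, hU⟩)).commRingCatIsoToRingEquiv
  let ψ : ∀ (U : S.Opens), IsAffineOpen U → (A.presheaf.obj (op U) →+* 𝒮.presheaf.obj (op U)) :=
    fun U hU => (C U hU).subtype.comp (e U hU).symm.toRingHom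
  have hψe : ∀ (U : S.Opens) (hU : IsAffineOpen U) (a : C U hU), ψ U hU (e U hU a) = a.1 := fun U hU a =>
    congrArg Subtype.val ((e U hU).symm_apply_apply a)
  have hψinj : ∀ (U : S.Opens) (hU : IsAffineOpen U), Function.Injective (ψ U hU) := fun U hU =>
    Subtype.val_injective.comp (e U hU).symm.injective
  have hψs : ∀ (U : S.Opens) (hU : IsAffineOpen U) (r : Γ(S, U)),
      ψ U hU ((A.str.app (op U)).hom r) = strA 𝒮 U r := fun U hU r => by
    have h1 : e U hU ⟨strA 𝒮 U r, hC.str U hU r⟩ = (A.str.app (op U)).hom r :=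
      ConcreteCategory.congr_hom (NatTrans.congr_app hi (op ⟨U, hU⟩)) r
    rw [← h1, hψe]
  have hbas : ∀ {U V : S.AffineZariskiSite} (h : V ≤ U) (x : A.presheaf.obj (op U.1)),
      ψ V.1 V.2 ((A.presheaf.map (homOfLE (Scheme.AffineZariskiSite.toOpens_mono h)).op).hom x) =
        resA 𝒮 (Scheme.AffineZariskiSite.toOpens_mono h) (ψ U.1 U.2 x) := fun {U V} h x => by
    obtain ⟨a, rfl⟩ := (e U.1 U.2).surjective x
    have h1 := ConcreteCategory.congr_hom (i.hom.naturality (homOfLE h).op) a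
    refine (congrArg (ψ V.1 V.2) h1.symm).trans ((hψe V.1 V.2 _).trans ?_)
    rw [hψe]
    rfl
  have hnat : ∀ (U V : S.Opens) (hU : IsAffineOpen U) (hV : IsAffineOpen V) (h : V ≤ U) (x : A.presheaf.obj (op U)),
      ψ V hV ((A.presheaf.map (homOfLE h).op).hom x) = resA 𝒮 h (ψ U hU x) := by
    intro U V hU hV h x
    choose g g' hgg hpg using fun p : V => exists_basicOpen_le_affine_inter hU hV p.1 ⟨h p.2, p.2⟩
    refine TopCat.Sheaf.eq_of_locally_eq' (⟨𝒮.presheaf, 𝒮.isSheaf⟩ : TopCat.Sheaf CommRingCat.{u} S.carrier)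
      (fun p : V => S.basicOpen (g' p)) V (fun p => homOfLE (S.basicOpen_le _))
      (fun p hp => Opens.mem_iSup.mpr ⟨⟨p, hp⟩, hgg ⟨p, hp⟩ ▸ hpg ⟨p, hp⟩⟩) _ _ fun p => ?_
    let Wz : S.AffineZariskiSite := ⟨S.basicOpen (g' p), hV.basicOpen _⟩
    have hWU : Wz ≤ (⟨U, hU⟩ : S.AffineZariskiSite) := ⟨g p, hgg p⟩
    have hWV : Wz ≤ (⟨V, hV⟩ : S.AffineZariskiSite) := ⟨g' p, rfl⟩
    have n1 := hbas hWU x
    have n2 := hbas hWV ((A.presheaf.map (homOfLE h).op).hom x)
    rw [← CommRingCat.comp_apply, ← A.presheaf.map_comp] at n2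
    refine n2.symm.trans (n1.trans ?_)
    show _ = resA 𝒮 (S.basicOpen_le (g' p)) (resA 𝒮 h _)
    rw [resA_resA]
  let deg : ∀ (U : S.Opens), IsAffineOpen U → ℕ → AddSubgroup (A.presheaf.obj (op U)) := fun U hU n =>
    (𝒮.deg U hU n).comap (ψ U hU).toAddMonoidHom
  let grade : ∀ (U : S.Opens) (hU : IsAffineOpen U), GradedRing (deg U hU) := fun U hU =>
    letI gm : SetLike.GradedMonoid (deg U hU) :=
      { one_mem := show ψ U hU 1 ∈ 𝒮.deg U hU 0 by rw [map_one]; exact SetLike.GradedOne.one_mem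
        mul_mem := fun i j a b ha hb => show ψ U hU (a * b) ∈ 𝒮.deg U hU (i + j) by
          rw [map_mul]; exact SetLike.mul_mem_graded ha hb }
    letI := (show DirectSum.IsInternal (deg U hU) by
      classical
      let ε : (DirectSum ℕ fun i => deg U hU i) →+ DirectSum ℕ fun i => 𝒮.deg U hU i :=
        DirectSum.map fun i => AddMonoidHom.mk' (fun a => ⟨ψ U hU a.1, a.2⟩) (fun a b => Subtype.ext (map_add _ _ _))
      have hcomp : (DirectSum.coeAddMonoidHom (𝒮.deg U hU)).comp ε =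
          (ψ U hU).toAddMonoidHom.comp (DirectSum.coeAddMonoidHom (deg U hU)) :=
        DirectSum.addHom_ext fun i a => by simp [ε]
      refine ⟨fun a b hab => ?_, fun x => ?_⟩
      · have hε : Function.Injective ε := (DirectSum.map_injective _).mpr fun i a b h =>
          Subtype.ext (hψinj U hU (show ψ U hU a.1 = ψ U hU b.1 from (congrArg Subtype.val h :)))
        refine hε ?_
        refine (DirectSum.Decomposition.isInternal (𝒮.deg U hU)).1 ?_
        show (DirectSum.coeAddMonoidHom (𝒮.deg U hU)).comp ε a = (DirectSum.coeAddMonoidHom (𝒮.deg U hU)).comp ε b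
        rw [hcomp]
        exact congrArg (ψ U hU) hab
      · suffices x ∈ (DirectSum.coeAddMonoidHom (deg U hU)).range from this
        have hψx : ψ U hU x ∈ C U hU := ((e U hU).symm x).2
        have hx : x = ∑ i ∈ DFinsupp.support (decompose (𝒮.deg U hU) (ψ U hU x)),
            e U hU ⟨_, hC.homogeneous U hU _ hψx i⟩ := by
          refine hψinj U hU ?_
          rw [map_sum]
          simp only [hψe]
          exact (DirectSum.sum_support_decompose _ _).symm
        rw [hx]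
        refine sum_mem fun i _ => ⟨DirectSum.of (fun i => deg U hU i) i ⟨_, ?_⟩, DirectSum.coeAddMonoidHom_of _ _ _⟩
        show ψ U hU _ ∈ 𝒮.deg U hU i
        rw [hψe]
        exact SetLike.coe_mem _).chooseDecomposition
    { gm, ‹DirectSum.Decomposition (deg U hU)› with }
  let 𝒯 : RelProj.QCGrAlg S :=
    { A with
      deg := deg
      graded := grade
      map_mem := fun {U V} hU hV h d x hx => show ψ V hV _ ∈ 𝒮.deg V hV d by
        rw [hnat U V hU hV h x]; exact 𝒮.map_mem hU hV h hx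
      str_mem := fun U hU r => show ψ U hU _ ∈ 𝒮.deg U hU 0 by
        rw [hψs U hU r]; exact 𝒮.str_mem U hU r }
  obtain ⟨j, hj⟩ := RelSpec.exists_algHom (A := 𝒯.toQCAlg) (B := 𝒮.toQCAlg) ψ hψs hnat
  refine ⟨𝒯, j, fun U hU d x hx => by rw [hj U hU]; exact hx, fun U hU => ?_, fun U hU => ?_, fun U hU n t => ?_⟩
  · rw [hj U hU]; exact hψinj U hU
  · rw [hj U hU]
    exact le_antisymm (by rintro _ ⟨x, rfl⟩; exact ((e U hU).symm x).2) fun a ha => ⟨e U hU ⟨a, ha⟩, hψe U hU _⟩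
  · rw [hj U hU]
    exact Iff.rfl

/-! ### The subalgebra generated in degree zero and by a submodule of one degree -/

variable (𝒮) in
/-- The projection to one degree. -/
def projN (U : S.Opens) (hU : IsAffineOpen U) (N : ℕ) : 𝒮.presheaf.obj (op U) →+ 𝒮.presheaf.obj (op U) :=
  AddMonoidHom.mk' (fun x => (decompose (𝒮.deg U hU) x N : 𝒮.presheaf.obj (op U))) fun x y => by simp

theorem projN_of_mem {U : S.Opens} (hU : IsAffineOpen U) {N : ℕ} {x : 𝒮.presheaf.obj (op U)}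
    (hx : x ∈ 𝒮.deg U hU N) : projN 𝒮 U hU N x = x :=
  DirectSum.decompose_of_mem_same _ hx

theorem projN_res {U V : S.Opens} (hU : IsAffineOpen U) (hV : IsAffineOpen V) (h : V ≤ U) (N : ℕ)
    (x : 𝒮.presheaf.obj (op U)) : resA 𝒮 h (projN 𝒮 U hU N x) = projN 𝒮 V hV N (resA 𝒮 h x) :=
  GradedRingHom.map_directSumDecompose (𝒜 := 𝒮.deg U hU) (ℬ := 𝒮.deg V hV) (𝒮.res hU hV h)

theorem projN_str_mul {U : S.Opens} (hU : IsAffineOpen U) (N : ℕ) (r : Γ(S, U)) (x : 𝒮.presheaf.obj (op U)) :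
    projN 𝒮 U hU N (strA 𝒮 U r * x) = strA 𝒮 U r * projN 𝒮 U hU N x :=
  DirectSum.coe_decompose_mul_of_left_mem_zero _ (𝒮.str_mem U hU r)

variable (Q : SubData 𝒮.toModule)

/-- The degree `N` generators. -/
def genDeg (U : S.Opens) (hU : IsAffineOpen U) (N : ℕ) : AddSubgroup (𝒮.presheaf.obj (op U)) :=
  ((Q.sec U).toAddSubgroup).map (projN 𝒮 U hU N)

/-- The subring generated by the degree zero scalars and the degree `N` generators. -/
def genRing (N : ℕ) (U : S.Opens) (hU : IsAffineOpen U) : Subring (𝒮.presheaf.obj (op U)) :=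
  Subring.closure (Set.range (strA 𝒮 U) ∪ (genDeg Q U hU N : Set _))

variable {Q}

theorem str_mul_genDeg {U : S.Opens} (hU : IsAffineOpen U) {N : ℕ} (r : Γ(S, U)) {p : 𝒮.presheaf.obj (op U)}
    (hp : p ∈ genDeg Q U hU N) : strA 𝒮 U r * p ∈ genDeg Q U hU N := by
  obtain ⟨x, hx, rfl⟩ := hp
  exact ⟨strA 𝒮 U r * x, (Q.sec U).smul_mem r hx, projN_str_mul hU N r x⟩

theorem genDeg_le_deg {U : S.Opens} (hU : IsAffineOpen U) (N : ℕ) : genDeg Q U hU N ≤ 𝒮.deg U hU N := by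
  rintro _ ⟨x, -, rfl⟩
  exact SetLike.coe_mem _

/-- The homogeneous components of the generated subring. -/
theorem genRing_decompose {N : ℕ} (hN : 0 < N) {U : S.Opens} (hU : IsAffineOpen U)
    {a : 𝒮.presheaf.obj (op U)} (ha : a ∈ genRing Q N U hU) (n : ℕ) :
    projN 𝒮 U hU n a ∈ genRing Q N U hU ∧ (n = 0 → projN 𝒮 U hU n a ∈ Set.range (strA 𝒮 U)) ∧
      (n = N → projN 𝒮 U hU n a ∈ genDeg Q U hU N) := by
  have hmon : ∀ m ∈ Submonoid.closure (Set.range (strA 𝒮 U) ∪ (genDeg Q U hU N : Set _)),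
      ∃ k : ℕ, m ∈ 𝒮.deg U hU (k * N) ∧ (k = 0 → m ∈ Set.range (strA 𝒮 U)) ∧ (k = 1 → m ∈ genDeg Q U hU N) := by
    intro m hm
    induction hm using Submonoid.closure_induction with
    | mem m hm =>
      rcases hm with ⟨r, rfl⟩ | hm
      · exact ⟨0, by rw [zero_mul]; exact 𝒮.str_mem U hU r, fun _ => ⟨r, rfl⟩, fun h => absurd h zero_ne_one⟩
      · exact ⟨1, by rw [one_mul]; exact genDeg_le_deg hU N hm, fun h => absurd h one_ne_zero, fun _ => hm⟩
    | one => exact ⟨0, by rw [zero_mul]; exact SetLike.GradedOne.one_mem, fun _ => ⟨1, map_one _⟩,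
        fun h => absurd h zero_ne_one⟩
    | mul x y _ _ hx hy =>
      obtain ⟨k, hk, hk0, hk1⟩ := hx
      obtain ⟨l, hl, hl0, hl1⟩ := hy
      refine ⟨k + l, by rw [add_mul]; exact SetLike.mul_mem_graded hk hl, fun h => ?_, fun h => ?_⟩
      · obtain ⟨r, rfl⟩ := hk0 (Nat.eq_zero_of_add_eq_zero_right h)
        obtain ⟨t, rfl⟩ := hl0 (Nat.eq_zero_of_add_eq_zero_left h)
        exact ⟨r * t, map_mul _ _ _⟩
      · rcases Nat.add_eq_one_iff.mp h with ⟨h1, h2⟩ | ⟨h1, h2⟩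
        · obtain ⟨r, rfl⟩ := hk0 h1
          exact str_mul_genDeg hU r (hl1 h2)
        · obtain ⟨r, rfl⟩ := hl0 h2
          rw [mul_comm]
          exact str_mul_genDeg hU r (hk1 h1)
  have ha' := Subring.mem_closure_iff.mp ha
  induction ha' using AddSubgroup.closure_induction with
  | mem m hm =>
    have hmC : m ∈ genRing Q N U hU := Subring.mem_closure_iff.mpr (AddSubgroup.subset_closure hm)
    obtain ⟨k, hk, hk0, hk1⟩ := hmon m hm
    by_cases h : k * N = n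
    · subst h
      rw [projN_of_mem hU hk]
      refine ⟨hmC, fun h => hk0 ?_, fun h => hk1 ?_⟩
      · exact (Nat.mul_eq_zero.mp h).resolve_right hN.ne'
      · exact Nat.eq_of_mul_eq_mul_right hN (h.trans (one_mul N).symm)
    · have : projN 𝒮 U hU n m = 0 := DirectSum.decompose_of_mem_ne _ hk h
      rw [this]
      exact ⟨zero_mem _, fun _ => ⟨0, map_zero _⟩, fun _ => zero_mem _⟩
  | zero => rw [map_zero]; exact ⟨zero_mem _, fun _ => ⟨0, map_zero _⟩, fun _ => zero_mem _⟩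
  | add x y hx hy ihx ihy =>
    obtain ⟨x1, x2, x3⟩ := ihx (Subring.mem_closure_iff.mpr hx)
    obtain ⟨y1, y2, y3⟩ := ihy (Subring.mem_closure_iff.mpr hy)
    rw [map_add]
    refine ⟨add_mem x1 y1, fun h => ?_, fun h => add_mem (x3 h) (y3 h)⟩
    obtain ⟨r, hr⟩ := x2 h
    obtain ⟨t, ht⟩ := y2 h
    exact ⟨r + t, by rw [map_add, hr, ht]⟩
  | neg x hx ihx =>
    obtain ⟨x1, x2, x3⟩ := ihx (Subring.mem_closure_iff.mpr hx)
    rw [map_neg]
    refine ⟨neg_mem x1, fun h => ?_, fun h => neg_mem (x3 h)⟩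
    obtain ⟨r, hr⟩ := x2 h
    exact ⟨-r, by rw [map_neg, hr]⟩

theorem isSubCompat_genRing {N : ℕ} (hN : 0 < N) (hQ : Q.obj.IsQuasicoherent) :
    IsSubCompat 𝒮 (genRing Q N) where
  str U hU r := Subring.subset_closure (Or.inl ⟨r, rfl⟩)
  res U hU s a ha := by
    refine (Subring.closure_le.mpr ?_ : genRing Q N U hU ≤
      (genRing Q N _ (hU.basicOpen s)).comap (resA 𝒮 (S.basicOpen_le s))) ha
    rintro _ (⟨r, rfl⟩ | ⟨x, hx, rfl⟩)
    · exact Subring.subset_closure (Or.inl ⟨_, (resA_strA 𝒮 _ r).symm⟩)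
    · exact Subring.subset_closure (Or.inr ⟨_, Q.map_mem (homOfLE (S.basicOpen_le s)) hx,
        (projN_res hU (hU.basicOpen s) _ N x).symm⟩)
  homogeneous U hU a ha n := (genRing_decompose hN hU ha n).1
  lift U hU s z hz := by
    induction hz using Subring.closure_induction with
    | mem z hz =>
      rcases hz with ⟨r, rfl⟩ | ⟨x, hx, rfl⟩
      · haveI := hU.isLocalization_basicOpen s
        obtain ⟨k, t, ht⟩ := IsLocalization.Away.surj s r
        refine ⟨k, strA 𝒮 U t, Subring.subset_closure (Or.inl ⟨t, rfl⟩), ?_⟩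
        rw [resA_strA, resA_strA, ← map_pow, ← map_mul]
        exact congrArg (strA 𝒮 _) ht.symm
      · haveI := hQ
        obtain ⟨k, t, ht⟩ := QCoh.smulLift_of_isCompact Q.obj hU.isCompact hU.isQuasiSeparated s (Q.lift x hx)
        refine ⟨k, _, Subring.subset_closure (Or.inr ⟨_, Q.ι_app_mem t, rfl⟩), ?_⟩
        have h1 := congrArg Subtype.val ht
        rw [projN_res hU (hU.basicOpen s), resA_strA, ← map_pow, mul_comm, ← projN_str_mul]
        exact congrArg (projN 𝒮 _ _ N) h1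
    | zero => exact ⟨0, 0, zero_mem _, by simp⟩
    | one => exact ⟨0, 1, one_mem _, by simp⟩
    | add x y _ _ hx hy =>
      obtain ⟨k, a, ha, hka⟩ := hx
      obtain ⟨l, b, hb, hlb⟩ := hy
      refine ⟨k + l, strA 𝒮 U s ^ l * a + strA 𝒮 U s ^ k * b, add_mem ?_ ?_, ?_⟩
      · exact mul_mem (pow_mem (show strA 𝒮 U s ∈ genRing Q N U hU from Subring.subset_closure (Or.inl ⟨s, rfl⟩)) l) ha
      · exact mul_mem (pow_mem (show strA 𝒮 U s ∈ genRing Q N U hU from Subring.subset_closure (Or.inl ⟨s, rfl⟩)) k) hb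
      · rw [map_add, map_mul, map_mul, map_pow, map_pow, hka, hlb]; ring
    | neg x _ hx =>
      obtain ⟨k, a, ha, hka⟩ := hx
      exact ⟨k, -a, neg_mem ha, by rw [map_neg, hka, neg_mul]⟩
    | mul x y _ _ hx hy =>
      obtain ⟨k, a, ha, hka⟩ := hx
      obtain ⟨l, b, hb, hlb⟩ := hy
      exact ⟨k + l, a * b, mul_mem ha hb, by rw [map_mul, hka, hlb]; ring⟩

variable (𝒮) in
/-- The subalgebra generated in degree zero by scalars and in degree `N` by a submodule of finite type. -/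
theorem exists_finiteType_subalgebra {N : ℕ} (hN : 0 < N) (hQ : SubData.LocGen Q ⊤) :
    ∃ (𝒯 : RelProj.QCGrAlg S) (j : 𝒯.toQCAlg ⟶ 𝒮.toQCAlg) (_ : RelProj.IsGradedHom j),
      (∀ (U : S.Opens) (_ : IsAffineOpen U), Function.Injective (j.hom.app (op U)).hom) ∧
      (∀ (U : S.Opens) (hU : IsAffineOpen U),
        ((𝒯.deg U hU 0 : AddSubgroup (𝒯.presheaf.obj (op U))) : Set (𝒯.presheaf.obj (op U))) =
          Set.range (𝒯.str.app (op U)).hom) ∧
      (∀ (U : S.Opens) (hU : IsAffineOpen U),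
        Subring.closure (((𝒯.deg U hU 0 : AddSubgroup (𝒯.presheaf.obj (op U))) : Set (𝒯.presheaf.obj (op U))) ∪
          ((𝒯.deg U hU N : AddSubgroup (𝒯.presheaf.obj (op U))) : Set (𝒯.presheaf.obj (op U)))) = ⊤) ∧
      𝒯.IsFTDeg N ∧
      ∀ (U : S.Opens) (hU : IsAffineOpen U) (x : 𝒮.presheaf.obj (op U)), x ∈ Q.sec U → x ∈ 𝒮.deg U hU N →
        x ∈ Set.range (j.hom.app (op U)).hom := by
  haveI := ProjQ8.isQuasicoherent_toModule 𝒮
  have hQq : Q.obj.IsQuasicoherent := hQ.isQuasicoherent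
  obtain ⟨𝒯, j, hj, hinj, hrange, hdeg⟩ := exists_subalgebra (isSubCompat_genRing hN hQq)
  have hjs : ∀ (U : S.Opens) (r : Γ(S, U)), (j.hom.app (op U)).hom ((𝒯.str.app (op U)).hom r) = strA 𝒮 U r :=
    fun U r => ConcreteCategory.congr_hom (NatTrans.congr_app j.comm (op U)) r
  have hmem : ∀ (U : S.Opens) (hU : IsAffineOpen U) (t : 𝒯.presheaf.obj (op U)),
      (j.hom.app (op U)).hom t ∈ genRing Q N U hU := fun U hU t => hrange U hU ▸ ⟨t, rfl⟩
  have hgenmem : ∀ (U : S.Opens) (hU : IsAffineOpen U) (p : 𝒮.presheaf.obj (op U)), p ∈ genDeg Q U hU N →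
      ∃ t ∈ 𝒯.deg U hU N, (j.hom.app (op U)).hom t = p := fun U hU p hp => by
    obtain ⟨t, ht⟩ : p ∈ (j.hom.app (op U)).hom.range := by
      rw [hrange U hU]; exact Subring.subset_closure (Or.inr hp)
    exact ⟨t, (hdeg U hU N t).mpr (ht.symm ▸ genDeg_le_deg hU N hp), ht⟩
  refine ⟨𝒯, j, hj, hinj, fun U hU => ?_, fun U hU => ?_, fun U hU => ?_, fun U hU x hxQ hx => ?_⟩
  · refine subset_antisymm (fun t ht => ?_) (by rintro _ ⟨r, rfl⟩; exact 𝒯.str_mem U hU r)
    obtain ⟨r, hr⟩ := (genRing_decompose hN hU (hmem U hU t) 0).2.1 rfl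
    rw [projN_of_mem hU ((hdeg U hU 0 t).mp ht), ← hjs] at hr
    exact ⟨r, hinj U hU hr⟩
  · rw [eq_top_iff]
    intro t _
    have h1 : genRing Q N U hU ≤ (Subring.closure (((𝒯.deg U hU 0 : AddSubgroup (𝒯.presheaf.obj (op U))) : Set (𝒯.presheaf.obj (op U))) ∪
        ((𝒯.deg U hU N : AddSubgroup (𝒯.presheaf.obj (op U))) : Set (𝒯.presheaf.obj (op U))))).map (j.hom.app (op U)).hom := by
      refine Subring.closure_le.mpr ?_
      rintro _ (⟨r, rfl⟩ | hp)
      · exact ⟨_, Subring.subset_closure (Or.inl (𝒯.str_mem U hU r)), hjs U r⟩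
      · obtain ⟨t', ht', e⟩ := hgenmem U hU _ hp
        exact ⟨t', Subring.subset_closure (Or.inr ht'), e⟩
    obtain ⟨t', ht', e⟩ := h1 (hmem U hU t)
    exact hinj U hU e ▸ ht'
  · classical
    haveI := hQq
    haveI := QCoh.moduleFinite_of_isFiniteType Q.obj hQ.isFiniteType hU
    obtain ⟨T₀, hT₀⟩ := Module.Finite.fg_top (R := Γ(S, U)) (M := Γ(Q.obj, U))
    choose w hw hwe using fun z : Γ(Q.obj, U) => hgenmem U hU _ ⟨_, Q.ι_app_mem z, rfl⟩
    refine ⟨T₀.image w, fun t ht => ?_, fun t ht => ?_⟩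
    · obtain ⟨z, -, rfl⟩ := Finset.mem_image.mp ht
      exact hw z
    · have hp := (genRing_decompose hN hU (hmem U hU t) N).2.2 rfl
      rw [projN_of_mem hU ((hdeg U hU N t).mp ht)] at hp
      obtain ⟨x, hx, hxe⟩ := hp
      have key : ∀ z : Γ(Q.obj, U), ∃ c : Γ(Q.obj, U) → Γ(S, U),
          w z = ∑ y ∈ T₀, (𝒯.str.app (op U)).hom (c y) * w y := fun z => by
        obtain ⟨c, hc⟩ := Submodule.mem_span_finset'.mp (hT₀.ge (Submodule.mem_top (x := z)))
        refine ⟨fun y => if hy : y ∈ T₀ then c ⟨y, hy⟩ else 0, hinj U hU ?_⟩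
        rw [map_sum, hwe, ← hc, map_sum, map_sum, ← Finset.sum_attach T₀, ← Finset.univ_eq_attach]
        refine Finset.sum_congr rfl fun y _ => ?_
        simp only [dif_pos y.2, map_mul, hjs, hwe, ← projN_str_mul, Scheme.Modules.Hom.app_smul]
        rfl
      obtain ⟨c, hc⟩ := key (Q.lift x hx)
      have hwt : w (Q.lift x hx) = t := hinj U hU ((hwe _).trans hxe)
      refine ⟨fun t' => ∑ y ∈ T₀.filter (fun y => w y = t'), c y, ?_⟩
      rw [← hwt, hc, ← Finset.sum_fiberwise_of_maps_to (g := w) (t := T₀.image w) fun y hy =>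
        Finset.mem_image_of_mem _ hy]
      refine Finset.sum_congr rfl fun t' _ => ?_
      rw [map_sum, Finset.sum_mul]
      exact Finset.sum_congr rfl fun y hy => by rw [(Finset.mem_filter.mp hy).2]
  · obtain ⟨t, -, e⟩ := hgenmem U hU x ⟨x, hxQ, projN_of_mem hU hx⟩
    exact ⟨t, e⟩

end GrothLib.RLpsi8
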