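import Groth.Agent.Lib.RLpsi8.Locus
import Mathlib.AlgebraicGeometry.Morphisms.ClosedImmersion

/-!
# The ring homomorphisms `S_(s) ⟶ Γ(X_s, O_X)`
-/

set_option autoImplicit false
set_option backward.isDefEq.respectTransparency false
set_option maxHeartbeats 400000

universe u

open CategoryTheory CategoryTheory.Limits AlgebraicGeometry TopologicalSpace Opposite HomogeneousLocalization
open GrothLib.RelProjK (dg rs em mem_opensRange_em)
open GrothLib.RelCone8 (Pair gu Gu IsQ)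
open scoped HomogeneousIdeal

noncomputable section

namespace GrothLib.RLpsi8

variable {Y X P PL : Scheme.{u}} {q : X ⟶ Y} {L : X.Modules} {𝒮 : RelProj.QCGrAlg Y} {𝒮L : RelProj.QCGrAlg X}
  {j : L ⟶ 𝒮L.toModule} (hL : PicF.IsInvertible L) (hLq : Coh.IsQCoh L) (hj : RelProj.IsGrSymAlg L 𝒮L j)
  (u : RelProj.QGrHom q 𝒮 𝒮L)
  {p : P ⟶ Y} {chart : ∀ (U : Y.Opens) (hU : IsAffineOpen U), (((p ⁻¹ᵁ U : P.Opens) : Scheme.{u}) ≅ Proj (𝒮.deg U hU))}
  {pL : PL ⟶ X}
  {chartL : ∀ (U : X.Opens) (hU : IsAffineOpen U), (((pL ⁻¹ᵁ U : PL.Opens) : Scheme.{u}) ≅ Proj (𝒮L.deg U hU))}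
  (hP : RelProj.IsRelProj 𝒮 p chart) (hPL : RelProj.IsRelProj 𝒮L pL chartL)
  {g : X ⟶ P}
  (hg : RelProj.IsProjQMapOn u p chart pL chartL (RelProj.domQ u pL chartL) ((RelProj.domQ u pL chartL).ι ≫ pL ≫ g))

variable (p chart) in
/-- The standard open of `P` attached to a section of positive degree. -/
def sEmb (U : Y.AffineZariskiSite) {n : ℕ} (hn : 0 < n) {s : 𝒮.presheaf.obj (op U.1)} (hs : s ∈ dg 𝒮 U n) :
    Spec (CommRingCat.of (Away (dg 𝒮 U) s)) ⟶ P :=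
  Proj.awayι (dg 𝒮 U) s hs hn ≫ em p chart U

instance (U : Y.AffineZariskiSite) {n : ℕ} (hn : 0 < n) {s : 𝒮.presheaf.obj (op U.1)} (hs : s ∈ dg 𝒮 U n) :
    IsOpenImmersion (sEmb p chart U hn hs) := by
  unfold sEmb; infer_instance

theorem opensRange_sEmb (U : Y.AffineZariskiSite) {n : ℕ} (hn : 0 < n) {s : 𝒮.presheaf.obj (op U.1)} (hs : s ∈ dg 𝒮 U n) :
    (sEmb p chart U hn hs).opensRange = em p chart U ''ᵁ Proj.basicOpen (dg 𝒮 U) s := by
  show (Proj.awayι (dg 𝒮 U) s hs hn ≫ em p chart U).opensRange = _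
  rw [Scheme.Hom.opensRange_comp, Proj.opensRange_awayι]

include hg in
/-- On a trivialization inside the locus, the map is evaluation along `ψ`. -/
theorem fromSpec_comp (U : Y.AffineZariskiSite) (t : Triv L) (h : t.V.1 ≤ q ⁻¹ᵁ U.1) {n : ℕ} (hn : 0 < n)
    {s : 𝒮.presheaf.obj (op U.1)} (hs : s ∈ dg 𝒮 U n) (hu : IsUnit (psi hLq hj u U t h s))
    (hPL : RelProj.IsRelProj 𝒮L pL chartL) :
    t.V.2.fromSpec ≫ g =
      Spec.map (CommRingCat.ofHom (ProjPt.evalAway (dg 𝒮 U) (psi hLq hj u U t h) s hu)) ≫ sEmb p chart U hn hs := by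
  let κ := ProjPt.evalAway (dg 𝒮L t.V) (coef hLq hj t) (gu u (tp U t h) s) hu
  have hκ : κ.comp (Away.map (gu u (tp U t h)) s) = ProjPt.evalAway (dg 𝒮 U) (psi hLq hj u U t h) s hu := by
    refine RingHom.ext fun z => ?_
    obtain ⟨k, a, ha, rfl⟩ := Away.mk_surjective (dg 𝒮 U) hs z
    refine (hu.pow k).mul_left_injective ?_
    dsimp only
    rw [RingHom.comp_apply, Away.map_mk (gu u (tp U t h)) s hs, ProjPt.evalAway_mk_spec]
    exact ProjPt.evalAway_mk_spec (dg 𝒮L t.V) (coef hLq hj t) ((gu u (tp U t h)).map_mem hs) hu k _ _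
  have hbase : Spec.map (CommRingCat.ofHom κ) ≫ RelProj.awayEmb u pL chartL U.1 U.2 t.V.1 t.V.2 h hn s hs ≫ pL =
      t.V.2.fromSpec := by
    rw [RelProj.awayEmb, Category.assoc, RelCone8.emb_comp hPL, Proj.awayι_toSpecZero_assoc, ← Spec.map_comp_assoc,
      ← Spec.map_comp_assoc]
    refine (congrArg (Spec.map · ≫ t.V.2.fromSpec) (?_ : _ = 𝟙 _)).trans (by rw [Spec.map_id, Category.id_comp])
    refine CommRingCat.hom_ext (RingHom.ext fun c => ?_)
    show κ (fromZeroRingHom (dg 𝒮L t.V) _ ((𝒮L.strZero t.V.1 t.V.2).hom c)) = c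
    have e0 : fromZeroRingHom (dg 𝒮L t.V) (Submonoid.powers (gu u (tp U t h) s)) ((𝒮L.strZero t.V.1 t.V.2).hom c) =
        Away.mk (dg 𝒮L t.V) ((gu u (tp U t h)).map_mem hs) 0 ((𝒮L.str.app (op t.V.1)).hom c)
          (by simpa using 𝒮L.str_mem t.V.1 t.V.2 c) := by
      ext
      simp [fromZeroRingHom, HomogeneousLocalization.val_mk, Away.val_mk]
      rfl
    rw [e0]
    have h1 := ProjPt.evalAway_mk_spec (dg 𝒮L t.V) (coef hLq hj t) ((gu u (tp U t h)).map_mem hs) hu 0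
      ((𝒮L.str.app (op t.V.1)).hom c) (by simpa using 𝒮L.str_mem t.V.1 t.V.2 c)
    rw [pow_zero, mul_one] at h1
    exact h1.trans (coef_str hLq hj t c)
  have hW := RelProj.range_awayEmb_subset_domQ u pL chartL U.1 U.2 t.V.1 t.V.2 h hn s hs
  have e := hg U.1 U.2 t.V.1 t.V.2 h n hn s hs hW
  rw [IsOpenImmersion.lift_fac_assoc] at e
  calc t.V.2.fromSpec ≫ g
      = Spec.map (CommRingCat.ofHom κ) ≫ RelProj.awayEmb u pL chartL U.1 U.2 t.V.1 t.V.2 h hn s hs ≫ pL ≫ g := by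
        conv_lhs => rw [← hbase]
        simp only [Category.assoc]
    _ = Spec.map (CommRingCat.ofHom κ) ≫ Spec.map (CommRingCat.ofHom (Away.map (gu u (tp U t h)) s)) ≫
          sEmb p chart U hn hs := congrArg (Spec.map (CommRingCat.ofHom κ) ≫ ·) e
    _ = _ := by rw [← Spec.map_comp_assoc, ← CommRingCat.ofHom_comp, hκ]

include hL hLq hj hP hPL hg in
/-- The preimage of a standard open. -/
theorem preimage_sEmb (htop : RelProj.domQ u pL chartL = ⊤) (U : Y.AffineZariskiSite) {n : ℕ} (hn : 0 < n)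
    {s : 𝒮.presheaf.obj (op U.1)} (hs : s ∈ dg 𝒮 U n) :
    g ⁻¹ᵁ (sEmb p chart U hn hs).opensRange = XS u U n s := by
  haveI := isIso_relProj hLq hj hPL hL
  rw [opensRange_sEmb]
  ext x
  obtain ⟨z, rfl⟩ := pL.surjective x
  exact mem_iff_mem_XS hL hLq hj u hP hPL hg U hn hs ⟨z, by rw [htop]; trivial⟩

variable (g) in
/-- Pieces with their equations: `W` affine inside the locus of `s`. -/
def IsTheta (U : Y.AffineZariskiSite) {n : ℕ} (hn : 0 < n) {s : 𝒮.presheaf.obj (op U.1)} (hs : s ∈ dg 𝒮 U n)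
    {W : X.Opens} (hW : IsAffineOpen W) (θ : Away (dg 𝒮 U) s →+* Γ(X, W)) : Prop :=
  hW.fromSpec ≫ g = Spec.map (CommRingCat.ofHom θ) ≫ sEmb p chart U hn hs

include hL hLq hj hP hPL hg in
theorem exists_isTheta (htop : RelProj.domQ u pL chartL = ⊤) (U : Y.AffineZariskiSite) {n : ℕ} (hn : 0 < n)
    {s : 𝒮.presheaf.obj (op U.1)} (hs : s ∈ dg 𝒮 U n) {W : X.Opens} (hW : IsAffineOpen W) (hle : W ≤ XS u U n s) :
    ∃ θ, IsTheta (p := p) (chart := chart) g U hn hs hW θ := by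
  have hr : Set.range (hW.fromSpec ≫ g).base ⊆ Set.range (sEmb p chart U hn hs).base := by
    rintro _ ⟨x, rfl⟩
    have hx : hW.fromSpec x ∈ g ⁻¹ᵁ (sEmb p chart U hn hs).opensRange := by
      rw [preimage_sEmb hL hLq hj u hP hPL hg htop U hn hs]
      exact hle (hW.range_fromSpec ▸ ⟨x, rfl⟩ : hW.fromSpec x ∈ (W : Set X))
    exact hx
  refine ⟨(Spec.preimage (IsOpenImmersion.lift (sEmb p chart U hn hs) (hW.fromSpec ≫ g) hr)).hom, ?_⟩
  show _ = Spec.map (CommRingCat.ofHom (CommRingCat.Hom.hom _)) ≫ _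
  rw [CommRingCat.ofHom_hom, Spec.map_preimage, IsOpenImmersion.lift_fac]

include hg in
/-- On a trivialization, `θ` is evaluation along `ψ`. -/
theorem isTheta_res {U : Y.AffineZariskiSite} {n : ℕ} {hn : 0 < n} {s : 𝒮.presheaf.obj (op U.1)} {hs : s ∈ dg 𝒮 U n}
    {W : X.Opens} {hW : IsAffineOpen W} {θ : Away (dg 𝒮 U) s →+* Γ(X, W)}
    (hθ : IsTheta (p := p) (chart := chart) g U hn hs hW θ) (t : Triv L) (h : t.V.1 ≤ q ⁻¹ᵁ U.1) (htW : t.V.1 ≤ W)
    (hu : IsUnit (psi hLq hj u U t h s)) (hPL : RelProj.IsRelProj 𝒮L pL chartL) :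
    (X.presheaf.map (homOfLE htW).op).hom.comp θ = ProjPt.evalAway (dg 𝒮 U) (psi hLq hj u U t h) s hu := by
  have e := fromSpec_comp hLq hj u hg U t h hn hs hu hPL
  rw [← hW.map_fromSpec t.V.2 (homOfLE htW).op, Category.assoc, hθ, ← Spec.map_comp_assoc, cancel_mono,
    Spec.map_inj] at e
  exact congrArg CommRingCat.Hom.hom e

include hL hLq hj in
/-- Sections of the symmetric algebra over `W` agree if they agree on trivializations inside `W`. -/
theorem eq_of_triv {W : X.Opens} {z z' : 𝒮L.presheaf.obj (op W)}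
    (h : ∀ (t : Triv L) (htW : t.V.1 ≤ W),
      (𝒮L.presheaf.map (homOfLE htW).op).hom z = (𝒮L.presheaf.map (homOfLE htW).op).hom z') : z = z' := by
  choose t hxt hle using fun x : W => exists_triv_le hL x.2
  exact TopCat.Sheaf.eq_of_locally_eq' (⟨𝒮L.presheaf, 𝒮L.isSheaf⟩ : TopCat.Sheaf CommRingCat.{u} X.carrier)
    (fun x : W => (t x).V.1) W (fun x => homOfLE (hle x))
    (fun x hx => Opens.mem_iSup.mpr ⟨⟨x, hx⟩, hxt ⟨x, hx⟩⟩) z z' fun x => h (t x) (hle x)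

include hLq hj in
/-- Both sides of `str b * (u s) ^ m = u a`, read on a trivialization. -/
theorem res_eq_iff (U : Y.AffineZariskiSite) {W : X.Opens} (hWU : W ≤ q ⁻¹ᵁ U.1) {n m : ℕ}
    {s a : 𝒮.presheaf.obj (op U.1)} (hs : s ∈ dg 𝒮 U n) (ha : a ∈ dg 𝒮 U (m * n)) (b : Γ(X, W))
    (t : Triv L) (htW : t.V.1 ≤ W) :
    (𝒮L.presheaf.map (homOfLE htW).op).hom ((𝒮L.str.app (op W)).hom b * (u.appLE U.1 W hWU).hom s ^ m) =
        (𝒮L.presheaf.map (homOfLE htW).op).hom ((u.appLE U.1 W hWU).hom a) ↔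
      (X.presheaf.map (homOfLE htW).op).hom b * psi hLq hj u U t (htW.trans hWU) s ^ m =
        psi hLq hj u U t (htW.trans hWU) a := by
  have hres : ∀ x, (𝒮L.presheaf.map (homOfLE htW).op).hom ((u.appLE U.1 W hWU).hom x) =
      gu u (tp U t (htW.trans hWU)) x := fun x => by
    show (u.appLE U.1 W hWU ≫ 𝒮L.presheaf.map _).hom x = _
    rw [u.appLE_map]
    rfl
  have hstr : (𝒮L.presheaf.map (homOfLE htW).op).hom ((𝒮L.str.app (op W)).hom b) =
      (𝒮L.str.app (op t.V.1)).hom ((X.presheaf.map (homOfLE htW).op).hom b) :=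
    (ConcreteCategory.congr_hom (𝒮L.str.naturality (homOfLE htW).op) b).symm
  rw [map_mul, map_pow, hres, hres, hstr, gu_eq hLq hj u U t (htW.trans hWU) hs,
    gu_eq hLq hj u U t (htW.trans hWU) ha, mul_pow, ← map_pow (𝒮L.str.app (op t.V.1)).hom, ← mul_assoc,
    ← map_mul, ← pow_mul, Nat.mul_comm n m]
  refine ⟨fun e => ?_, fun e => by rw [e]⟩
  have e' := congrArg (coef hLq hj t) e
  rwa [coef_str_mul, coef_str_mul] at e'

include hL hLq hj hg in
/-- `θ (a / s ^ m) = b` is the equation `str b * (u s) ^ m = u a`. -/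
theorem isTheta_mk_iff {U : Y.AffineZariskiSite} {n : ℕ} {hn : 0 < n} {s : 𝒮.presheaf.obj (op U.1)}
    {hs : s ∈ dg 𝒮 U n} {W : X.Opens} {hW : IsAffineOpen W} {θ : Away (dg 𝒮 U) s →+* Γ(X, W)}
    (hθ : IsTheta (p := p) (chart := chart) g U hn hs hW θ) (hle : W ≤ XS u U n s) (hWU : W ≤ q ⁻¹ᵁ U.1)
    {m : ℕ} {a : 𝒮.presheaf.obj (op U.1)} (ha : a ∈ dg 𝒮 U (m * n)) (b : Γ(X, W))
    (hPL : RelProj.IsRelProj 𝒮L pL chartL) :
    (𝒮L.str.app (op W)).hom b * (u.appLE U.1 W hWU).hom s ^ m = (u.appLE U.1 W hWU).hom a ↔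
      θ (Away.mk (dg 𝒮 U) hs m a (by simpa using ha)) = b := by
  have key : ∀ (t : Triv L) (htW : t.V.1 ≤ W),
      IsUnit (psi hLq hj u U t (htW.trans hWU) s) ∧
        (X.presheaf.map (homOfLE htW).op).hom (θ (Away.mk (dg 𝒮 U) hs m a (by simpa using ha))) *
          psi hLq hj u U t (htW.trans hWU) s ^ m = psi hLq hj u U t (htW.trans hWU) a := fun t htW => by
    have hu : IsUnit (psi hLq hj u U t (htW.trans hWU) s) := by
      exact X.toRingedSpace.isUnit_of_isUnit_germ _ _ fun x hx =>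
        (X.mem_basicOpen _ x hx).mp ((mem_XS_iff hL hLq hj u U t (htW.trans hWU) hs hx).mp (hle (htW hx)))
    refine ⟨hu, ?_⟩
    rw [← RingHom.comp_apply, isTheta_res hLq hj u hg hθ t (htW.trans hWU) htW hu hPL]
    exact ProjPt.evalAway_mk_spec (dg 𝒮 U) _ hs hu m a _
  constructor
  · intro e
    choose t hxt htW using fun x : W => exists_triv_le hL x.2
    refine TopCat.Sheaf.eq_of_locally_eq' X.sheaf (fun x : W => (t x).V.1) W (fun x => homOfLE (htW x))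
      (fun x hx => Opens.mem_iSup.mpr ⟨⟨x, hx⟩, hxt ⟨x, hx⟩⟩) _ _ fun x => ?_
    obtain ⟨hu, h1⟩ := key (t x) (htW x)
    refine (hu.pow m).mul_right_cancel (h1.trans ?_)
    exact ((res_eq_iff hLq hj u U hWU hs ha b (t x) (htW x)).mp (congrArg _ e)).symm
  · rintro rfl
    exact eq_of_triv hL hLq hj fun t htW => (res_eq_iff hLq hj u U hWU hs ha _ t htW).mpr (key t htW).2

end GrothLib.RLpsi8
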