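import Groth.Agent.Lib.RLpsi8.TopDegree
import Groth.Agent.Lib.RLpsi8.FibreVanish
import Groth.Agent.Lib.Cohom.LinearLES
import Groth.Agent.Lib.Cohom.RpushModules
import Groth.Agent.Lib.BCCoh.RpushAffine
import Groth.Agent.Lib.ProjCoh.Finite
import Groth.Agent.Lib.Euler.Scalar
import Groth.Agent.Lib.FTIdeals9.Colim
import Groth.Agent.Lib.QCoh.Coherent
import Mathlib.AlgebraicGeometry.Morphisms.Finite

/-!
# The top higher direct image is of finite type (S7432)
-/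

set_option autoImplicit false
set_option backward.isDefEq.respectTransparency false
set_option linter.style.haveILetI false
set_option maxHeartbeats 400000

universe u

open CategoryTheory CategoryTheory.Limits AlgebraicGeometry TopologicalSpace Opposite Abelian
open GrothLib GrothLib.QCoh

noncomputable section

namespace GrothLib.RLpsi8.TopDegree

variable {X : Scheme.{u}}

/-- Composing with an isomorphism does not change fibre dimensions. -/
theorem dim_fiber_comp_iso {Y Z : Scheme.{u}} (g : X ⟶ Y) (e : Y ⟶ Z) [IsIso e] (d : ℕ)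
    (hd : ∀ s, topologicalKrullDim ↥(g.fiber s) ≤ d) (z : Z) :
    topologicalKrullDim ↥((g ≫ e).fiber z) ≤ d := by
  rw [IsHomeomorph.topologicalKrullDim_eq _ ((g ≫ e).fiberHomeo z).isHomeomorph]
  refine le_of_eq_of_le ?_ (hd (inv e z))
  rw [IsHomeomorph.topologicalKrullDim_eq _ (g.fiberHomeo (inv e z)).isHomeomorph]
  have : (g ≫ e) ⁻¹' {z} = g ⁻¹' {inv e z} := by
    ext x
    simp only [Set.mem_preimage, Set.mem_singleton_iff, Scheme.Hom.comp_apply]
    constructor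
    · intro hx
      rw [← hx, ← Scheme.Hom.comp_apply, IsIso.hom_inv_id]
      rfl
    · intro hx
      rw [hx, ← Scheme.Hom.comp_apply, IsIso.inv_hom_id]
      rfl
  rw [this]

/-- Around every point an affine open over which the top direct image is finite. -/
theorem exists_nhd_finite {Y : Scheme.{u}} (f : X ⟶ Y) [IsProper f] (d : ℕ)
    (hd : ∀ y : Y, topologicalKrullDim ↥(f.fiber y) ≤ d) [HasInjectiveResolutions X.Modules]
    (M : X.Modules) (hM : Coh.IsCoh M) (y : Y) :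
    ∃ (W : Y.Opens), IsAffineOpen W ∧ y ∈ W ∧ Module.Finite Γ(Y, W) Γ((Coh.Rpush f d).obj M, W) := by
  haveI := hM.1
  obtain ⟨V, hV, hyV, -⟩ := exists_isAffineOpen_mem_and_subset (show y ∈ (⊤ : Y.Opens) from trivial)
  haveI : IsAffine (V : Scheme.{u}) := hV
  let fV := f ∣_ V
  haveI : IsProper fV := IsZariskiLocalAtTarget.restrict ‹IsProper f› V
  obtain ⟨X₀, S₀, h, g, f₀, hh, hg, hf₀, hS₀, hw, hd₀⟩ := FibreVanish.exists_approx fV d
    (fun s => by rw [FibreVanish.dim_fiber_restrict]; exact hd _)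
  haveI := hh
  haveI := hg
  haveI := hf₀
  haveI := hS₀
  obtain ⟨W₀, hW₀, hgy, -⟩ := exists_isAffineOpen_mem_and_subset
    (show g ⟨y, hyV⟩ ∈ (⊤ : S₀.Opens) from trivial)
  haveI : IsAffine (W₀ : Scheme.{u}) := hW₀
  let W := g ⁻¹ᵁ W₀
  have hWa : IsAffineOpen W := hW₀.preimage g
  haveI : IsAffine (W : Scheme.{u}) := hWa
  let W' := V.ι ''ᵁ W
  have hW' : IsAffineOpen W' := hWa.image_of_isOpenImmersion V.ι
  refine ⟨W', hW', ⟨⟨y, hyV⟩, hgy, rfl⟩, ?_⟩
  haveI : IsNoetherianRing Γ(S₀, W₀) := IsLocallyNoetherian.component_noetherian ⟨W₀, hW₀⟩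
  let X' : Scheme.{u} := (f ⁻¹ᵁ W' : X.Opens)
  let fX := BCCoh.affBase f hW'
  haveI : IsProper (f ∣_ W') := IsZariskiLocalAtTarget.restrict ‹IsProper f› W'
  haveI hfX : IsProper fX := inferInstanceAs (IsProper ((f ∣_ W') ≫ hW'.isoSpec.hom))
  haveI : IsAffineHom (fV ⁻¹ᵁ W).ι :=
    MorphismProperty.of_isPullback (isPullback_morphismRestrict fV W)
      (inferInstance : IsAffineHom W.ι)
  let eX := IsOpenImmersion.isoOfRangeEq (f ⁻¹ᵁ W').ι ((fV ⁻¹ᵁ W).ι ≫ (f ⁻¹ᵁ V).ι) (by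
    rw [Scheme.Opens.range_ι, Scheme.Hom.comp_base, TopCat.coe_comp, Set.range_comp,
      Scheme.Opens.range_ι, ← image_morphismRestrict_preimage f V W]
    rfl)
  let jX : X' ⟶ (f ⁻¹ᵁ V : X.Opens) := eX.hom ≫ (fV ⁻¹ᵁ W).ι
  haveI : IsAffineHom jX := inferInstanceAs (IsAffineHom (eX.hom ≫ (fV ⁻¹ᵁ W).ι))
  have hjX : jX ≫ (f ⁻¹ᵁ V).ι = (f ⁻¹ᵁ W').ι := by
    rw [Category.assoc]; exact IsOpenImmersion.isoOfRangeEq_hom_fac _ _ _
  let jS : (W' : Scheme.{u}) ⟶ (V : Scheme.{u}) := Y.homOfLE (V.ι_image_le W)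
  have hfj : (f ∣_ W') ≫ jS = jX ≫ fV := by
    rw [← cancel_mono V.ι, Category.assoc, Category.assoc, Scheme.homOfLE_ι, morphismRestrict_ι,
      morphismRestrict_ι, ← Category.assoc jX, hjX]
  have hSr : Set.range (jS ≫ g) ⊆ Set.range W₀.ι := by
    rw [Scheme.Opens.range_ι]
    rintro _ ⟨z, rfl⟩
    obtain ⟨w, hw', hwz⟩ := z.2
    have : jS z = w := V.ι.isOpenEmbedding.injective (by
      rw [← Scheme.Hom.comp_apply, Scheme.homOfLE_ι]; exact hwz.symm)
    rw [Scheme.Hom.comp_apply, this]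
    exact hw'
  let gS := IsOpenImmersion.lift W₀.ι (jS ≫ g) hSr
  have hgS : gS ≫ W₀.ι = jS ≫ g := IsOpenImmersion.lift_fac _ _ _
  let U₀ := f₀ ⁻¹ᵁ W₀
  have hXr : Set.range (jX ≫ h) ⊆ Set.range U₀.ι := by
    rw [Scheme.Opens.range_ι]
    rintro _ ⟨z, rfl⟩
    show f₀ ((jX ≫ h) z) ∈ W₀
    rw [← Scheme.Hom.comp_apply, Category.assoc, ← hw, ← Category.assoc, ← hfj, Category.assoc,
      ← hgS, Scheme.Hom.comp_apply, Scheme.Hom.comp_apply]
    exact (gS _).2
  let h' := IsOpenImmersion.lift U₀.ι (jX ≫ h) hXr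
  have hh' : h' ≫ U₀.ι = jX ≫ h := IsOpenImmersion.lift_fac _ _ _
  haveI : IsAffineHom h' := by
    haveI : IsAffineHom (h' ≫ U₀.ι) := by rw [hh']; infer_instance
    exact MorphismProperty.of_postcomp (W := @IsAffineHom) (W' := @IsSeparated) h' U₀.ι inferInstance ‹_›
  let f₀' : (U₀ : Scheme.{u}) ⟶ Spec Γ(S₀, W₀) := (f₀ ∣_ W₀) ≫ hW₀.isoSpec.hom
  haveI : IsProper (f₀ ∣_ W₀) := IsZariskiLocalAtTarget.restrict ‹IsProper f₀› W₀
  haveI : IsProper f₀' := inferInstanceAs (IsProper ((f₀ ∣_ W₀) ≫ hW₀.isoSpec.hom))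
  let q := Spec.preimage (hW'.isoSpec.inv ≫ gS ≫ hW₀.isoSpec.hom)
  have hqw : h' ≫ f₀' = fX ≫ Spec.map q := by
    rw [Spec.map_preimage]
    show h' ≫ (f₀ ∣_ W₀) ≫ hW₀.isoSpec.hom = ((f ∣_ W') ≫ hW'.isoSpec.hom) ≫ hW'.isoSpec.inv ≫ _
    simp only [Category.assoc, Iso.hom_inv_id_assoc]
    rw [← Category.assoc, ← Category.assoc (f ∣_ W')]
    congr 1
    rw [← cancel_mono W₀.ι, Category.assoc, Category.assoc, morphismRestrict_ι, ← Category.assoc,
      hh', hgS, Category.assoc, ← hw, ← Category.assoc, ← hfj, Category.assoc]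
  let P := pullback f₀' (Spec.map q)
  let k : X' ⟶ P := pullback.lift h' fX hqw
  haveI : IsFinite k := by
    haveI : IsProper (k ≫ pullback.snd f₀' (Spec.map q)) := by rw [pullback.lift_snd]; exact hfX
    haveI : IsProper k := IsProper.of_comp k (pullback.snd f₀' (Spec.map q))
    haveI : IsAffineHom (k ≫ pullback.fst f₀' (Spec.map q)) := by rw [pullback.lift_fst]; infer_instance
    haveI : IsAffineHom k := MorphismProperty.of_postcomp (W := @IsAffineHom) (W' := @IsSeparated) k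
      (pullback.fst f₀' (Spec.map q)) inferInstance ‹_›
    exact IsFinite.iff_isProper_and_isAffineHom.2 ⟨inferInstance, inferInstance⟩
  obtain ⟨G, hG⟩ := exists_generators (A₀ := Γ(S₀, W₀)) (A := Γ(Y, W')) f₀' d
    (dim_fiber_comp_iso _ _ d (fun s => by rw [FibreVanish.dim_fiber_restrict]; exact hd₀ _))
    q.hom (IsPullback.of_hasPullback f₀' (Spec.map q)) k (M.restrict (f ⁻¹ᵁ W').ι)
    (Cohom.isCoh_restrict M hM _)
  have hk : k ≫ pullback.snd f₀' (Spec.map q) = fX := pullback.lift_snd _ _ _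
  rw [hk] at hG
  obtain ⟨e, he⟩ := BCCoh.exists_Rpush_equiv f hW' M d
  letI := BCCoh.modHH (A := Γ(Y, W')) fX (M.restrict (f ⁻¹ᵁ W').ι) d
  haveI : Module.Finite Γ(Y, W') (Coh.HH X' (M.restrict (f ⁻¹ᵁ W').ι) d) := by
    refine ⟨⟨G, top_le_iff.mp fun x _ => ?_⟩⟩
    refine (AddSubgroup.closure_le (K := (Submodule.span Γ(Y, W')
      (G : Set (Coh.HH X' (M.restrict (f ⁻¹ᵁ W').ι) d))).toAddSubgroup)).2 ?_ (hG x)
    rintro z ⟨a, g, hg, rfl⟩
    exact Submodule.smul_mem _ a (Submodule.subset_span hg)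
  exact Module.Finite.equiv { e with map_smul' := he }

/-- **S7432** -/
theorem isCoh_Rpush_top {Y : Scheme.{u}} (f : X ⟶ Y) [IsProper f] (d : ℕ)
    (hd : ∀ y : Y, topologicalKrullDim ↥(f.fiber y) ≤ d) [HasInjectiveResolutions X.Modules]
    (M : X.Modules) (hM : Coh.IsCoh M) : Coh.IsCoh ((Coh.Rpush f d).obj M) := by
  haveI := hM.1
  have hqc := Cohom.isQuasicoherent_Rpush f M d
  refine ⟨hqc, ?_⟩
  choose W hW hyW hfin using exists_nhd_finite f d hd M hM
  exact @QCoh.isFiniteType_of_moduleFinite _ ((Coh.Rpush f d).obj M) hqc Y W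
    (TopologicalSpace.Opens.ext (Set.eq_univ_of_forall fun y => by
      simp only [Opens.coe_iSup, Set.mem_iUnion]; exact ⟨y, hyW y⟩)) hW hfin

end GrothLib.RLpsi8.TopDegree
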