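import Groth.Prelude.Def_RelSpec
import Groth.Agent.Lib.RLpsi8.VBundle
import Groth.Agent.Lib.FinCov.Frame
import Mathlib.LinearAlgebra.SymmetricAlgebra.Basis
import Mathlib.AlgebraicGeometry.Morphisms.Smooth
universe u
open CategoryTheory CategoryTheory.Limits AlgebraicGeometry TopologicalSpace Opposite
set_option backward.isDefEq.respectTransparency false
namespace RLpsi8
open RelSpec GrothLib

theorem smooth_mvPolynomial (R : Type u) [CommRing R] (κ : Type) [Finite κ] :
    (algebraMap R (MvPolynomial κ R)).Smooth :=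
  RingHom.smooth_algebraMap.mpr ⟨inferInstance, inferInstance⟩

theorem S5029 {S : Scheme.{u}} (E : S.Modules) (hE : Coh.IsQCoh E)
    (hlf : FlatMod.IsFinLocFree E) (A : RelSpec.QCAlg S) (j : E ⟶ A.toModule) (hA : RelSpec.IsSymAlg E A j) :
    Smooth A.π := by
  have key : ∀ x : S, ∃ U : S.Opens, IsAffineOpen U ∧ x ∈ U ∧ (A.str.app (op U)).hom.Smooth := by
    intro x
    obtain ⟨W, n, e, hxW, he⟩ := GrothLib.FinCov.exists_frame_nhd hlf x
    obtain ⟨U, hU, hxU, hUW⟩ := exists_isAffineOpen_mem_and_subset (x := x) (U := W) hxW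
    refine ⟨U, hU, hxU, ?_⟩
    obtain ⟨ε, hεs, -⟩ := SymAlgX.isAffSym_of_isSymAlg hE hA U hU
    let b := he.basis U hUW
    let η := (SymmetricAlgebra.equivMvPolynomial b).symm.toRingEquiv.trans ε
    have h2 : (A.str.app (op U)).hom = η.toRingHom.comp (algebraMap Γ(S, U) (MvPolynomial (Fin n) Γ(S, U))) :=
      RingHom.ext fun r => ((congrArg ε ((SymmetricAlgebra.equivMvPolynomial b).symm.commutes r)).trans (hεs r)).symm
    rw [h2]
    exact (smooth_mvPolynomial _ _).comp (RingHom.Smooth.of_bijective η.bijective)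
  choose U hU hxU hs using key
  rw [IsZariskiLocalAtSource.iff_of_iSup_eq_top (P := @Smooth) (fun x => A.π ⁻¹ᵁ U x)
    (by rw [← Scheme.Hom.preimage_iSup, (top_unique fun x _ => Opens.mem_iSup.2 ⟨x, hxU x⟩ : ⨆ x, U x = ⊤), Scheme.Hom.preimage_top])]
  intro x
  have hr : Set.range (A.π ⁻¹ᵁ U x).ι = Set.range (A.ι (U x) (hU x)) := by
    rw [Scheme.Opens.range_ι, A.π_preimage (U x) (hU x)]; rfl
  rw [← IsOpenImmersion.isoOfRangeEq_hom_fac (A.π ⁻¹ᵁ U x).ι (A.ι (U x) (hU x)) hr, Category.assoc, A.ι_π]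
  have : Smooth (Spec.map (A.str.app (op (U x)))) :=
    (HasRingHomProperty.Spec_iff (P := @Smooth)).mpr (hs x)
  infer_instance

end RLpsi8
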