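import Groth.Agent.Lib.RelVanish.Basic
import Groth.Agent.Lib.Cohom.RpushSections
import Groth.Agent.Lib.Cohom.Compare
import Groth.Agent.Lib.QCoh.Qcqs

/-!
# Vanishing of higher direct images above a degree is stable under base change
-/

set_option autoImplicit false

universe u

open CategoryTheory CategoryTheory.Limits AlgebraicGeometry Opposite TopologicalSpace Abelian
open GrothLib

namespace RLpsi8.VanishBC

variable {X Y X' Y' : Scheme.{u}}

theorem subsingleton_of_isZero {S : Scheme.{u}} {F : TopCat.Sheaf AddCommGrpCat.{u} S} (h : IsZero F)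
    (V : S.Opens) : Subsingleton (F.obj.obj (op V)) :=
  AddCommGrpCat.subsingleton_of_isZero
    (((sheafToPresheaf _ _ ⋙ (evaluation _ _).obj (op V)).map_isZero h))

/-- Cohomology over `f⁻¹ V` of quasi-coherent modules on the scheme `f⁻¹ V` vanishes in high degree. -/
theorem subsingleton_open [CompactSpace X] [QuasiSeparatedSpace X] [QuasiSeparatedSpace Y] (f : X ⟶ Y) (d : ℕ)
    (hvan : ∀ (M : X.Modules) (i : ℕ), Coh.IsQCoh M → d < i → IsZero ((Coh.RpushAb f i).obj (Coh.toAb M)))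
    {V : Y.Opens} (hV : IsAffineOpen V) (N : (f ⁻¹ᵁ V).toScheme.Modules) [N.IsQuasicoherent]
    {i : ℕ} (hi : d < i) :
    Subsingleton (Ext.{u} (Cohom.freeFun.obj (⊤ : (f ⁻¹ᵁ V).toScheme.Opens)) (Coh.toAb N) i) := by
  haveI : QuasiCompact f := quasiCompact_of_compactSpace f
  haveI : QuasiSeparated f := .of_quasiSeparatedSpace f
  haveI : CompactSpace (f ⁻¹ᵁ V).toScheme :=
    isCompact_iff_compactSpace.mp (f.isCompact_preimage hV.isCompact)
  haveI : QuasiCompact (f ⁻¹ᵁ V).ι := quasiCompact_of_compactSpace _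
  haveI : ((Scheme.Modules.pushforward (f ⁻¹ᵁ V).ι).obj N).IsQuasicoherent :=
    QCoh.isQuasicoherent_pushforward _ N
  have hz := hvan ((Scheme.Modules.pushforward (f ⁻¹ᵁ V).ι).obj N) i inferInstance hi
  haveI := subsingleton_of_isZero hz V
  obtain ⟨e⟩ := Cohom.nonempty_RpushAb_sections_equiv f i
    ((Scheme.Modules.pushforward (f ⁻¹ᵁ V).ι).obj N) hV
  haveI := e.toEquiv.subsingleton
  obtain ⟨e'⟩ := Cohom.nonempty_ext_image_equiv (f ⁻¹ᵁ V).ι
    ((Scheme.Modules.pushforward (f ⁻¹ᵁ V).ι).obj N) ⊤ i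
  rw [Scheme.Opens.ι_image_top] at e'
  have key := e'.symm.toEquiv.subsingleton
  let c := (QCoh.toAbFun _).mapIso ((Scheme.Modules.restrictFunctorAdjCounitIso (f ⁻¹ᵁ V).ι).app N)
  refine ⟨fun a b => ?_⟩
  have hab : a.comp (Ext.mk₀ c.inv) (add_zero i) = b.comp (Ext.mk₀ c.inv) (add_zero i) :=
    @Subsingleton.elim _ key _ _
  have := congrArg (fun z => z.comp (Ext.mk₀ c.hom) (add_zero i)) hab
  simp only [Ext.comp_assoc_of_second_deg_zero, Ext.mk₀_comp_mk₀, c.inv_hom_id] at this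
  exact ((Ext.comp_mk₀_id a).symm.trans this).trans (Ext.comp_mk₀_id b)

theorem isZero_baseChange [CompactSpace X] [QuasiSeparatedSpace X] [CompactSpace Y] [QuasiSeparatedSpace Y]
    (f : X ⟶ Y) (d : ℕ)
    (hvan : ∀ (M : X.Modules) (i : ℕ), Coh.IsQCoh M → d < i → IsZero ((Coh.RpushAb f i).obj (Coh.toAb M)))
    (g : Y' ⟶ Y) (f' : X' ⟶ Y') (g' : X' ⟶ X) (sq : IsPullback g' f' f g) (M' : X'.Modules)
    [M'.IsQuasicoherent] (i : ℕ) (hi : d < i) :
    IsZero ((Coh.RpushAb f' i).obj (Coh.toAb M')) := by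
  haveI : QuasiCompact f := quasiCompact_of_compactSpace f
  haveI : QuasiSeparated f := .of_quasiSeparatedSpace f
  haveI : QuasiCompact f' := MorphismProperty.of_isPullback sq inferInstance
  haveI : QuasiSeparated f' := MorphismProperty.of_isPullback sq inferInstance
  have hex : ∀ y : Y', ∃ (V : Y.Opens) (V' : Y'.Opens), IsAffineOpen V ∧ IsAffineOpen V' ∧
      V' ≤ g ⁻¹ᵁ V ∧ y ∈ V' := by
    intro y
    obtain ⟨_, ⟨(V : Y.Opens), hV, rfl⟩, hyV, -⟩ :=
      Y.isBasis_affineOpens.exists_subset_of_mem_open (Set.mem_univ (g.base y)) isOpen_univ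
    obtain ⟨_, ⟨(V' : Y'.Opens), hV', rfl⟩, hyV', hle⟩ :=
      Y'.isBasis_affineOpens.exists_subset_of_mem_open (show y ∈ g ⁻¹ᵁ V from hyV) (g ⁻¹ᵁ V).2
    exact ⟨V, V', hV, hV', hle, hyV'⟩
  choose V V' hV hV' hle hy using hex
  refine RelVanish.isZero_RpushAb_of_cover f' M' i V' hV' (fun y => ⟨y, hy y⟩) fun y => ?_
  haveI : IsAffine (V y).toScheme := hV y
  haveI : IsAffine (V' y).toScheme := hV' y
  let h₁ : (V' y).toScheme ⟶ (V y).toScheme := g.resLE (V y) (V' y) (hle y)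
  haveI : IsAffineHom h₁ := isAffineHom_of_isAffine h₁
  let fV := f ∣_ V y
  let fV' := f' ∣_ V' y
  have hpre : f' ⁻¹ᵁ V' y ≤ g' ⁻¹ᵁ (f ⁻¹ᵁ V y) := by
    intro x hx
    show f (g' x) ∈ V y
    rw [← Scheme.Hom.comp_apply, sq.w, Scheme.Hom.comp_apply]
    exact hle y hx
  let π : (f' ⁻¹ᵁ V' y).toScheme ⟶ (f ⁻¹ᵁ V y).toScheme := g'.resLE _ _ hpre
  have hsq : IsPullback π fV' fV h₁ := by
    have a := (isPullback_morphismRestrict f' (V' y)).flip.paste_horiz sq
    rw [← Scheme.Hom.resLE_comp_ι g' hpre, ← Scheme.Hom.resLE_comp_ι g (hle y)] at a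
    refine IsPullback.of_right a ?_ (isPullback_morphismRestrict f (V y)).flip
    rw [← cancel_mono (V y).ι]
    simp only [π, fV, fV', h₁, Category.assoc, morphismRestrict_ι, Scheme.Hom.resLE_comp_ι,
      Scheme.Hom.resLE_comp_ι_assoc, morphismRestrict_ι_assoc, sq.w]
  haveI : IsAffineHom π := MorphismProperty.of_isPullback hsq.flip inferInstance
  let M₁ : (f' ⁻¹ᵁ V' y).toScheme.Modules := M'.restrict (f' ⁻¹ᵁ V' y).ι
  haveI : ((Scheme.Modules.pushforward π).obj M₁).IsQuasicoherent :=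
    QCoh.isQuasicoherent_pushforward π M₁
  have hs := subsingleton_open f d hvan (hV y) ((Scheme.Modules.pushforward π).obj M₁) hi
  obtain ⟨e⟩ := Cohom.nonempty_ext_preimage_equiv π M₁ ⊤ i
  obtain ⟨e'⟩ := Cohom.nonempty_ext_image_equiv (f' ⁻¹ᵁ V' y).ι M' ⊤ i
  rw [Scheme.Opens.ι_image_top] at e'
  have h1 := @Equiv.subsingleton _ _ e.toEquiv hs
  exact @Equiv.subsingleton _ _ e'.toEquiv h1

end RLpsi8.VanishBC
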