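import Groth.Agent.Lib.RLpsi8.Immersion
import Groth.Agent.Lib.RLpsi8.Sigma
import Groth.Agent.Lib.VA.Crit

/-!
# The canonical morphism of a very ample module
-/

set_option autoImplicit false
set_option backward.isDefEq.respectTransparency false
set_option maxHeartbeats 400000

universe u

open CategoryTheory CategoryTheory.Limits AlgebraicGeometry TopologicalSpace Opposite HomogeneousLocalization
open GrothLib.RelProjK (dg em)
open GrothLib.RelCone8 (Pair gu)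
open GrothLib.InvExt (IsGen mres fres)
open GrothLib.VA (Tp gp rat RS PieceImm toAff)

noncomputable section

namespace GrothLib.RLpsi8

theorem eq_toAff {T : Scheme.{u}} {A : Type u} [CommRing A] (f : T ⟶ Spec (CommRingCat.of A)) :
    f = toAff (f.appTop.hom.comp (Scheme.ΓSpecIso (CommRingCat.of A)).inv.hom) := by
  rw [toAff, CommRingCat.ofHom_comp, CommRingCat.ofHom_hom, CommRingCat.ofHom_hom, Spec.map_comp,
    ← Scheme.toSpecΓ_naturality_assoc, ← AlgebraicGeometry.SpecMap_ΓSpecIso_hom, ← Spec.map_comp]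
  simp

theorem fromSpec_lift_appTop {X : Scheme.{u}} (T₀ : X.Opens) {V : X.Opens} (hV : IsAffineOpen V) (hle : V ≤ T₀)
    (l : Spec Γ(X, V) ⟶ (T₀ : Scheme.{u})) (hl : l ≫ T₀.ι = hV.fromSpec) (a : Γ(X, T₀)) :
    l.appTop.hom (T₀.topIso.inv.hom a) = (Scheme.ΓSpecIso Γ(X, V)).inv.hom ((X.presheaf.map (homOfLE hle).op).hom a) := by
  have h0 : (⊤ : (Spec Γ(X, V)).Opens) ≤ hV.fromSpec ⁻¹ᵁ V := hV.fromSpec_preimage_self.ge
  have e1 : l.appTop.hom (T₀.topIso.inv.hom a) = (hV.fromSpec.appLE T₀ ⊤ (h0.trans (Scheme.Hom.preimage_mono _ hle))).hom a := by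
    have key : ∀ (k : Spec Γ(X, V) ⟶ X) (_ : l ≫ T₀.ι = k) (hk : ⊤ ≤ k ⁻¹ᵁ T₀),
        l.appTop.hom (T₀.topIso.inv.hom a) = (k.appLE T₀ ⊤ hk).hom a := by
      intro k hk0 hk
      subst hk0
      rw [← Scheme.Hom.appLE_comp_appLE l T₀.ι T₀ ⊤ ⊤ T₀.ι_preimage_self.ge (fun _ _ => trivial), Scheme.Opens.ι_appLE,
        Scheme.Hom.appTop, Scheme.Hom.app_eq_appLE]
      rfl
    exact key _ hl _
  rw [e1, ← Scheme.Hom.map_appLE hV.fromSpec h0 (homOfLE hle).op, CommRingCat.comp_apply]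
  show (hV.fromSpec.app V ≫ (Spec Γ(X, V)).presheaf.map _).hom _ = _
  rw [hV.fromSpec_app_self, Category.assoc, ← Functor.map_comp]
  rw [show (eqToHom hV.fromSpec_preimage_self).op ≫ (homOfLE h0).op = 𝟙 _ from Subsingleton.elim _ _,
    CategoryTheory.Functor.map_id, Category.comp_id]

variable {Y X P PL : Scheme.{u}} {q : X ⟶ Y} {L : X.Modules} {𝒜 : RelProj.QCGrAlg Y} {𝒮L : RelProj.QCGrAlg X}
  {j : L ⟶ 𝒮L.toModule} (hL : PicF.IsInvertible L) (hLq : Coh.IsQCoh L) (hj : RelProj.IsGrSymAlg L 𝒮L j)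
  (u : RelProj.QGrHom q 𝒜 𝒮L) {jE : (Scheme.Modules.pushforward q).obj L ⟶ 𝒜.toModule}
  (hu : ∀ (U : Y.Opens) (x : Γ((Scheme.Modules.pushforward q).obj L, U)),
    (u.app U).hom ((jE.app U) x) = (j.app (q ⁻¹ᵁ U)) x)

include hLq hj hu in
/-- `ψ` of a section of `L` is its coefficient. -/
theorem psi_jE (U : Y.AffineZariskiSite) (t : Triv L) (h : t.V.1 ≤ q ⁻¹ᵁ U.1) (x : Γ(L, q ⁻¹ᵁ U.1))
    {c : Γ(X, t.V.1)} (hc : mres L h x = c • t.e) :
    psi hLq hj u U t h (show 𝒜.presheaf.obj (op U.1) from jE.app U.1 x) = c := by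
  have e : (u.appLE U.1 t.V.1 h).hom (show 𝒜.presheaf.obj (op U.1) from jE.app U.1 x) =
      (show 𝒮L.presheaf.obj (op t.V.1) from j.app t.V.1 (mres L h x)) := by
    show ares 𝒮L h ((u.app U.1).hom _) = _
    rw [hu U.1 x]
    exact ares_app j h x
  rw [psi_apply, e, hc]
  refine (congrArg (coef hLq hj t) (Scheme.Modules.Hom.app_smul j c t.e)).trans ?_
  have := coef_str_mul hLq hj t c 1
  rwa [pow_one] at this

include hLq hj in
theorem psi_str (U : Y.AffineZariskiSite) (t : Triv L) (h : t.V.1 ≤ q ⁻¹ᵁ U.1) (r : Γ(Y, U.1)) :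
    psi hLq hj u U t h ((𝒜.str.app (op U.1)).hom r) = (q.appLE U.1 t.V.1 h).hom r := by
  rw [psi_apply, show (u.appLE U.1 t.V.1 h).hom ((𝒜.str.app (op U.1)).hom r) =
    (𝒮L.str.app (op t.V.1)).hom ((q.appLE U.1 t.V.1 h).hom r) from
      ConcreteCategory.congr_hom (u.str_appLE U.1 t.V.1 h) r]
  exact coef_str hLq hj t _

theorem exists_coeff (t : Triv L) {V : X.Opens} (h : t.V.1 ≤ V) (x : Γ(L, V)) :
    ∃ c : Γ(X, t.V.1), mres L h x = c • t.e := by
  obtain ⟨c, hc⟩ := t.isGen.exists_smul_eq le_rfl (mres L h x)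
  exact ⟨c, by rwa [InvExt.mres_self] at hc⟩

variable (hjE : ∀ (U : Y.AffineZariskiSite) (x : Γ((Scheme.Modules.pushforward q).obj L, U.1)),
  (show 𝒜.presheaf.obj (op U.1) from jE.app U.1 x) ∈ dg 𝒜 U 1)

include hL hLq hj hu hjE in
/-- The locus of a section of `L` is where it generates. -/
theorem XS_jE (U : Y.AffineZariskiSite) (x : Γ(L, q ⁻¹ᵁ U.1)) :
    XS u U 1 (show 𝒜.presheaf.obj (op U.1) from jE.app U.1 x) = VA.genOpen L x := by
  ext z
  by_cases hz : z ∈ q ⁻¹ᵁ U.1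
  · obtain ⟨t, hzt, hle⟩ := exists_triv_le hL hz
    obtain ⟨c, hc⟩ := exists_coeff t hle x
    refine (mem_XS_iff hL hLq hj u U t hle (hjE U x) hzt).trans ?_
    rw [psi_jE hLq hj u hu U t hle x hc]
    exact (VA.genAt_iff_mem_basicOpen hle t.isGen hc hzt).symm.trans VA.mem_genOpen.symm
  · exact iff_of_false (fun h => hz (XS_le u U _ _ h)) (fun h => hz (VA.genOpen_le x h))

variable {p : P ⟶ Y} {chart : ∀ (U : Y.Opens) (hU : IsAffineOpen U), (((p ⁻¹ᵁ U : P.Opens) : Scheme.{u}) ≅ Proj (𝒜.deg U hU))}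
  {pL : PL ⟶ X}
  {chartL : ∀ (U : X.Opens) (hU : IsAffineOpen U), (((pL ⁻¹ᵁ U : PL.Opens) : Scheme.{u}) ≅ Proj (𝒮L.deg U hU))}
  (hP : RelProj.IsRelProj 𝒜 p chart) (hPL : RelProj.IsRelProj 𝒮L pL chartL)
  (htop : RelProj.domQ u pL chartL = ⊤) {g : X ⟶ P}
  (hg : RelProj.IsProjQMapOn u p chart pL chartL (RelProj.domQ u pL chartL) ((RelProj.domQ u pL chartL).ι ≫ pL ≫ g))
  {E : Y.Modules} (φ : E ⟶ (Scheme.Modules.pushforward q).obj L)

include hL hLq hj hu hjE hP hPL htop hg in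
/-- An embedded piece is embedded in `Proj`. -/
theorem isImmersion_restrict_of_pieceImm (U : Y.AffineZariskiSite) (e : Γ(E, U.1)) (hi : PieceImm q φ U e) :
    IsImmersion (g ∣_ (sEmb p chart U one_pos (hjE U (φ.app U.1 e))).opensRange) := by
  set D := (sEmb p chart U one_pos (hjE U (φ.app U.1 e))).opensRange
  let s : 𝒜.presheaf.obj (op U.1) := jE.app U.1 (φ.app U.1 e)
  have hs : s ∈ dg 𝒜 U 1 := hjE U (φ.app U.1 e)
  let T₀ : X.Opens := g ⁻¹ᵁ D
  have hT : T₀ = Tp q φ U e := by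
    show g ⁻¹ᵁ D = _
    rw [preimage_sEmb hL hLq hj u hP hPL hg htop U one_pos hs]
    exact XS_jE hL hLq hj u hu hjE U (φ.app U.1 e)
  let f : (T₀ : Scheme.{u}) ⟶ Spec (CommRingCat.of (Away (dg 𝒜 U) s)) :=
    g ∣_ D ≫ (sEmb p chart U one_pos hs).isoOpensRange.inv
  suffices hf : IsImmersion f by
    have e : g ∣_ D = f ≫ (sEmb p chart U one_pos hs).isoOpensRange.hom := by simp [f]
    rw [e]; haveI := hf; infer_instance
  have hfe : f ≫ sEmb p chart U one_pos hs = T₀.ι ≫ g := by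
    simp only [f, Category.assoc, Scheme.Hom.isoOpensRange_inv_comp]
    exact morphismRestrict_ι g D
  let h : Away (dg 𝒜 U) s →+* Γ((T₀ : Scheme.{u}), ⊤) := f.appTop.hom.comp (Scheme.ΓSpecIso (CommRingCat.of (Away (dg 𝒜 U) s))).inv.hom
  rw [eq_toAff f]
  haveI := hi
  have h1 : IsImmersion (toAff (((X.homOfLE hT.le).appTop.hom).comp
      ((Tp q φ U e).topIso.inv.hom.comp (RS q φ U e).subtype))) := by
    rw [← VA.comp_toAff]
    haveI : IsImmersion (toAff ((Tp q φ U e).topIso.inv.hom.comp (RS q φ U e).subtype)) := hi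
    infer_instance
  refine VA.isImmersion_toAff_of_range_le _ _ ?_ h1
  -- values of `h` on trivializations
  have hval : ∀ (t : Triv L) (htT : t.V.1 ≤ T₀) (htU : t.V.1 ≤ q ⁻¹ᵁ U.1) (hu' : IsUnit (psi hLq hj u U t htU s))
      (z : Away (dg 𝒜 U) s), (X.presheaf.map (homOfLE htT).op).hom (T₀.topIso.hom.hom (h z)) =
        ProjPt.evalAway (dg 𝒜 U) (psi hLq hj u U t htU) s hu' z := by
    intro t htT htU hu' z
    let l := IsOpenImmersion.lift T₀.ι t.V.2.fromSpec (by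
      rw [t.V.2.range_fromSpec, Scheme.Opens.range_ι]; exact htT)
    have hl : l ≫ T₀.ι = t.V.2.fromSpec := IsOpenImmersion.lift_fac _ _ _
    have e2 : l ≫ f = Spec.map (CommRingCat.ofHom (ProjPt.evalAway (dg 𝒜 U) (psi hLq hj u U t htU) s hu')) := by
      rw [← cancel_mono (sEmb p chart U one_pos hs), Category.assoc, hfe, reassoc_of% hl]
      exact fromSpec_comp hLq hj u hg U t htU one_pos hs hu' hPL
    have e3 := congrArg (fun k => k.appTop.hom ((Scheme.ΓSpecIso (CommRingCat.of (Away (dg 𝒜 U) s))).inv.hom z)) e2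
    simp only [Scheme.Hom.comp_appTop, CommRingCat.comp_apply] at e3
    refine (ConcreteCategory.bijective_of_isIso (Scheme.ΓSpecIso Γ(X, t.V.1)).inv).1 ?_
    rw [← fromSpec_lift_appTop T₀ t.V.2 htT l hl, Iso.hom_inv_id_apply]
    refine e3.trans ?_
    rw [← CommRingCat.comp_apply, ← Scheme.ΓSpecIso_inv_naturality]
    rfl
  rintro _ ⟨⟨b, hb⟩, rfl⟩
  show (X.homOfLE hT.le).appTop.hom ((Tp q φ U e).topIso.inv.hom b) ∈ h.range
  rw [show (X.homOfLE hT.le).appTop.hom ((Tp q φ U e).topIso.inv.hom b) = T₀.topIso.inv.hom (Ample.res hT.le b) from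
    VA.oRes_topIso hT.le b]
  suffices RS q φ U e ≤ (h.range.comap T₀.topIso.inv.hom).comap (Ample.res hT.le) from this hb
  refine Subring.closure_le.mpr ?_
  -- it is enough to compare on trivializations
  have hcmp : ∀ (z : Away (dg 𝒜 U) s) (a : Γ(X, T₀)),
      (∀ (t : Triv L) (htT : t.V.1 ≤ T₀) (htU : t.V.1 ≤ q ⁻¹ᵁ U.1) (hu' : IsUnit (psi hLq hj u U t htU s)),
        ProjPt.evalAway (dg 𝒜 U) (psi hLq hj u U t htU) s hu' z = Ample.res htT a) →
      T₀.topIso.inv.hom a ∈ h.range := by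
    intro z a hz
    refine ⟨z, ?_⟩
    have : T₀.topIso.hom.hom (h z) = a := by
      choose t hxt htT using fun x : T₀ => exists_triv_le hL x.2
      refine Ample.eq_of_cover (fun x => (t x).V.1) htT (fun x hx => Opens.mem_iSup.mpr ⟨⟨x, hx⟩, hxt ⟨x, hx⟩⟩) fun x => ?_
      have htU : (t x).V.1 ≤ q ⁻¹ᵁ U.1 := (htT x).trans (hT.le.trans (VA.Tp_le q φ U e))
      have hu' : IsUnit (psi hLq hj u U (t x) htU s) :=
        X.toRingedSpace.isUnit_of_isUnit_germ _ _ fun w hw => (X.mem_basicOpen _ w hw).mp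
          ((mem_XS_iff hL hLq hj u U (t x) htU hs hw).mp (by
            rw [XS_jE hL hLq hj u hu hjE U (φ.app U.1 e)]
            exact hT.le (htT x hw)))
      exact (hval (t x) (htT x) htU hu' z).trans (hz (t x) (htT x) htU hu')
    rw [← this, ← CommRingCat.comp_apply, Iso.hom_inv_id, CommRingCat.id_apply]
  rintro _ (⟨r, rfl⟩ | ⟨e', rfl⟩)
  · refine hcmp (fromZeroRingHom (dg 𝒜 U) _ ((𝒜.strZero U.1 U.2).hom r)) _ fun t htT htU hu' => ?_
    rw [VA.evalAway_fromZero (𝒜 := dg 𝒜 U) _ (x := s) hs]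
    refine (psi_str hLq hj u U t htU r).trans ?_
    show _ = Ample.res htT (Ample.res hT.le (Ample.res (VA.Tp_le q φ U e) ((q.app U.1).hom r)))
    rw [Ample.res_res, Ample.res_res]
    rfl
  · refine hcmp (Away.mk (dg 𝒜 U) (f := s) hs 1 (show 𝒜.presheaf.obj (op U.1) from jE.app U.1 (φ.app U.1 e'))
      (by simpa using hjE U (φ.app U.1 e'))) _ fun t htT htU hu' => ?_
    obtain ⟨c, hc⟩ := exists_coeff t htU (show Γ(L, q ⁻¹ᵁ U.1) from φ.app U.1 e)
    obtain ⟨c', hc'⟩ := exists_coeff t htU (show Γ(L, q ⁻¹ᵁ U.1) from φ.app U.1 e')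
    refine (hu'.pow 1).mul_left_injective ?_
    dsimp only
    rw [ProjPt.evalAway_mk_spec (dg 𝒜 U) _ hs hu' 1 _ _, pow_one, psi_jE hLq hj u hu U t htU _ hc',
      psi_jE hLq hj u hu U t htU _ hc]
    have e5 := congrArg (mres L (htT.trans hT.le)) (VA.rat_spec q φ U e e')
    rw [InvExt.mres_smul, InvExt.mres_mres, InvExt.mres_mres, hc, hc', smul_smul] at e5
    rw [Ample.res_res]
    exact t.isGen.smul_left_injective le_rfl (by rw [InvExt.mres_self]; exact e5)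

variable {r : ((RelProj.domQ u pL chartL : PL.Opens) : Scheme.{u}) ⟶ P}
  (hr : RelProj.IsProjQMapOn u p chart pL chartL (RelProj.domQ u pL chartL) r)

include hL hLq hj hu hjE hP hPL hr in
theorem isImmersion_of_isRelVeryAmple (h : RelProj.IsRelVeryAmple q L) :
    RelProj.domQ u pL chartL = ⊤ ∧ IsImmersion r := by
  obtain ⟨E, φ, -, hp⟩ := VA.isRelVeryAmple_iff.mp h
  choose U e hx hi using hp
  let c : X → Piece 𝒜 := fun x => ⟨U x, 1, one_pos, _, hjE (U x) (φ.app (U x).1 (e x))⟩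
  have hcov : ⨆ x, (c x).locus u = ⊤ := top_le_iff.mp fun x _ => Opens.mem_iSup.mpr
    ⟨x, (XS_jE hL hLq hj u hu hjE (U x) (φ.app (U x).1 (e x))).ge (hx x)⟩
  have htop := domQ_eq_top_of_cover hL hLq hj u hPL c hcov
  obtain ⟨g, hg, hQ⟩ := exists_g hL hLq hj u hPL htop hr
  obtain ⟨h1, h2⟩ := property_of_cover g @IsImmersion (fun x => (c x).dPlus p chart)
    (iSup_preimage_eq_top hL hLq hj u hP hPL htop hg c hcov)
    fun x => isImmersion_restrict_of_pieceImm hL hLq hj u hu hjE hP hPL htop hg φ (U x) (e x) (hi x)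
  refine ⟨htop, (hQ @IsImmersion).mpr ?_⟩
  haveI := h2
  haveI := preimage_ι_isIso g h1
  have h3 : IsImmersion ((g ∣_ ⨆ x, (c x).dPlus p chart) ≫ (⨆ x, (c x).dPlus p chart).ι) := inferInstance
  rw [morphismRestrict_ι] at h3
  exact (MorphismProperty.cancel_left_of_respectsIso @IsImmersion _ g).mp h3

end GrothLib.RLpsi8
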