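import Groth.Agent.Lib.RLpsi8.VeryAmple
import Groth.Agent.Lib.ProjQ8.DegOne

/-!
# An immersion into the Proj of an algebra generated in degree one gives very ampleness
-/

set_option autoImplicit false
set_option backward.isDefEq.respectTransparency false
set_option maxHeartbeats 400000

universe u

open CategoryTheory CategoryTheory.Limits AlgebraicGeometry TopologicalSpace Opposite HomogeneousLocalization
open GrothLib.RelProjK (dg em)
open GrothLib.RelCone8 (Pair gu)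
open GrothLib.InvExt (IsGen mres fres)
open GrothLib.VA (Tp gp rat RS PieceImm toAff)
open GrothLib.QCoh GrothLib.QCoh.SubData
open GrothLib.ProjQ8 (degOne)

noncomputable section

namespace GrothLib.RLpsi8

variable {Y X P PL : Scheme.{u}} {q : X ⟶ Y} {L : X.Modules} {𝒜 : RelProj.QCGrAlg Y} {𝒮L : RelProj.QCGrAlg X}
  {j : L ⟶ 𝒮L.toModule} (hL : PicF.IsInvertible L) (hLq : Coh.IsQCoh L) (hj : RelProj.IsGrSymAlg L 𝒮L j)
  (u : RelProj.QGrHom q 𝒜 𝒮L)

include hLq hj in
theorem coef_app_smul (t : Triv L) (c : Γ(X, t.V.1)) :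
    coef hLq hj t (show 𝒮L.presheaf.obj (op t.V.1) from j.app t.V.1 (c • t.e)) = c := by
  refine (congrArg (coef hLq hj t) (Scheme.Modules.Hom.app_smul j c t.e)).trans ?_
  have := coef_str_mul hLq hj t c 1
  rwa [pow_one] at this

include hL hLq hj in
theorem app_j_injective (W : X.Opens) : Function.Injective (j.app W) := by
  intro x x' h
  choose t hxt htW using fun z : W => exists_triv_le hL z.2
  refine TopCat.Sheaf.eq_of_locally_eq' (⟨L.presheaf, L.isSheaf⟩ : TopCat.Sheaf Ab.{u} X.carrier)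
    (fun z => (t z).V.1) W (fun z => homOfLE (htW z))
    (fun z hz => Opens.mem_iSup.mpr ⟨⟨z, hz⟩, hxt ⟨z, hz⟩⟩) x x' fun z => ?_
  show mres L (htW z) x = mres L (htW z) x'
  obtain ⟨c, hc⟩ := exists_coeff (t z) (htW z) x
  obtain ⟨c', hc'⟩ := exists_coeff (t z) (htW z) x'
  rw [hc, hc']
  congr 1
  rw [← coef_app_smul hLq hj (t z) c, ← coef_app_smul hLq hj (t z) c', ← hc, ← hc', ← ares_app j (htW z) x,
    ← ares_app j (htW z) x', show (show 𝒮L.presheaf.obj (op W) from j.app W x) =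
      (show 𝒮L.presheaf.obj (op W) from j.app W x') from h]

include hL hLq hj in
/-- A section of the degree one part comes from the module. -/
theorem exists_app_j_eq {W : X.Opens} (z : Γ(𝒮L.toModule, W)) (hz : z ∈ (degOne 𝒮L).sec W) :
    ∃ x, j.app W x = z := by
  choose t hxt htW using fun z : W => exists_triv_le hL z.2
  let a : 𝒮L.presheaf.obj (op W) := z
  have hloc : ∀ k, (show 𝒮L.presheaf.obj (op (t k).V.1) from
      j.app (t k).V.1 (coef hLq hj (t k) (ares 𝒮L (htW k) a) • (t k).e)) = ares 𝒮L (htW k) a := fun k => by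
    have h1 : ares 𝒮L (htW k) a ∈ dg 𝒮L (t k).V 1 :=
      (ProjQ8.mem_degOne_iff (t k).V.2 _).mp ((degOne 𝒮L).map_mem (homOfLE (htW k)) hz)
    refine (Scheme.Modules.Hom.app_smul j _ (t k).e).trans ?_
    conv_rhs => rw [eq_str_coef_mul hLq hj (t k) h1, pow_one]
    rfl
  obtain ⟨x, hx, -⟩ := TopCat.Sheaf.existsUnique_gluing' (⟨L.presheaf, L.isSheaf⟩ : TopCat.Sheaf Ab.{u} X.carrier)
    (fun k => (t k).V.1) W (fun k => homOfLE (htW k))
    (fun z hz => Opens.mem_iSup.mpr ⟨⟨z, hz⟩, hxt ⟨z, hz⟩⟩)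
    (fun k => coef hLq hj (t k) (ares 𝒮L (htW k) a) • (t k).e) fun k l => by
      refine app_j_injective hL hLq hj _ ?_
      show j.app _ (mres L inf_le_left _) = j.app _ (mres L inf_le_right _)
      refine ((ares_app j _ _).symm.trans ?_).trans (ares_app j _ _)
      rw [hloc k, hloc l, ares_ares, ares_ares]
  refine ⟨x, ?_⟩
  show (show 𝒮L.presheaf.obj (op W) from j.app W x) = a
  refine ares_eq_of_cover (fun k => (t k).V.1) htW (fun z hz => Opens.mem_iSup.mpr ⟨⟨z, hz⟩, hxt ⟨z, hz⟩⟩) fun k => ?_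
  rw [ares_app, show mres L (htW k) x = _ from hx k]
  exact hloc k

/-- `u` maps degree one sections to degree one sections. -/
theorem app_mem_degOne {U : Y.Opens} {z : Γ(𝒜.toModule, U)} (hz : z ∈ (degOne 𝒜).sec U) :
    (show Γ(𝒮L.toModule, q ⁻¹ᵁ U) from (u.app U).hom (show 𝒜.presheaf.obj (op U) from z)) ∈
      (degOne 𝒮L).sec (q ⁻¹ᵁ U) := by
  intro x hx
  obtain ⟨V, hV, hVU, hxV, m⟩ := hz (q x) hx
  obtain ⟨W, hW, hxW, hle⟩ := exists_isAffineOpen_mem_and_subset (x := x) (U := q ⁻¹ᵁ V) hxV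
  have hle' : W ≤ q ⁻¹ᵁ V := hle
  refine ⟨W, hW, hle'.trans (Scheme.Hom.preimage_mono q hVU), hxW, ?_⟩
  have h1 := u.map_mem V hV W hW hle' (show (show 𝒜.presheaf.obj (op V) from rr hVU z) ∈ 𝒜.deg V hV 1 from m)
  have e : (𝒮L.presheaf.map (homOfLE hle').op).hom ((u.app V).hom (show 𝒜.presheaf.obj (op V) from rr hVU z)) =
      ares 𝒮L (hle'.trans (Scheme.Hom.preimage_mono q hVU)) ((u.app U).hom (show 𝒜.presheaf.obj (op U) from z)) := by
    refine (congrArg (fun k => (𝒮L.presheaf.map (homOfLE hle').op).hom k) (ConcreteCategory.congr_hom (u.naturality hVU)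
      (show 𝒜.presheaf.obj (op U) from z)).symm).trans ?_
    exact ares_ares (Scheme.Hom.preimage_mono q hVU) hle' _
  exact e ▸ h1

/-- The map of the degree one part to sections of the module. -/
def phiApp (U : Y.Opens) (z : Γ((degOne 𝒜).obj, U)) : Γ(L, q ⁻¹ᵁ U) :=
  (exists_app_j_eq hL hLq hj _ (app_mem_degOne u ((degOne 𝒜).ι_app_mem z))).choose

theorem app_phiApp (U : Y.Opens) (z : Γ((degOne 𝒜).obj, U)) :
    (show 𝒮L.presheaf.obj (op (q ⁻¹ᵁ U)) from j.app (q ⁻¹ᵁ U) (phiApp hL hLq hj u U z)) =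
      (u.app U).hom (show 𝒜.presheaf.obj (op U) from (degOne 𝒜).ι.app U z) :=
  (exists_app_j_eq hL hLq hj _ (app_mem_degOne u ((degOne 𝒜).ι_app_mem z))).choose_spec

/-- `u` in degree one, as a map of modules. -/
def phi : (degOne 𝒜).obj ⟶ (Scheme.Modules.pushforward q).obj L :=
  ⟨PresheafOfModules.homMk
    { app := fun U => AddCommGrpCat.ofHom (AddMonoidHom.mk' (phiApp hL hLq hj u U.unop) fun a b =>
        app_j_injective hL hLq hj _ (by
          show (show 𝒮L.presheaf.obj (op (q ⁻¹ᵁ U.unop)) from j.app _ (phiApp hL hLq hj u U.unop (a + b))) =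
            j.app _ (phiApp hL hLq hj u U.unop a + phiApp hL hLq hj u U.unop b)
          rw [map_add (j.app (q ⁻¹ᵁ U.unop)).hom, app_phiApp, map_add ((degOne 𝒜).ι.app U.unop).hom]
          exact (map_add (u.app U.unop).hom _ _).trans
            (congrArg₂ (· + ·) (app_phiApp hL hLq hj u _ a).symm (app_phiApp hL hLq hj u _ b).symm)))
      naturality := fun U V i => by
        ext a
        refine app_j_injective hL hLq hj _ ?_
        show (show 𝒮L.presheaf.obj (op (q ⁻¹ᵁ V.unop)) from j.app _ (phiApp hL hLq hj u V.unop _)) =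
          (show 𝒮L.presheaf.obj (op (q ⁻¹ᵁ V.unop)) from
            j.app _ (mres L (Scheme.Hom.preimage_mono q i.unop.le) (phiApp hL hLq hj u U.unop a)))
        rw [← ares_app, app_phiApp, app_phiApp]
        exact (ConcreteCategory.congr_hom (u.naturality i.unop.le) _).symm }
    fun U r a => app_j_injective hL hLq hj _ (by
      show (show 𝒮L.presheaf.obj (op (q ⁻¹ᵁ U.unop)) from j.app _ (phiApp hL hLq hj u U.unop (r • a))) =
        j.app _ ((q.app U.unop).hom r • phiApp hL hLq hj u U.unop a)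
      rw [app_phiApp]
      refine ((map_mul (u.app U.unop).hom _ _).trans ?_).trans (Scheme.Modules.Hom.app_smul j _ _).symm
      exact congrArg₂ (· * ·) (ConcreteCategory.congr_hom (u.str_app U.unop) r)
        (app_phiApp hL hLq hj u _ a).symm)⟩

theorem app_phi (U : Y.Opens) (z : Γ((degOne 𝒜).obj, U)) :
    (show 𝒮L.presheaf.obj (op (q ⁻¹ᵁ U)) from j.app (q ⁻¹ᵁ U) ((phi hL hLq hj u).app U z)) =
      (u.app U).hom (show 𝒜.presheaf.obj (op U) from (degOne 𝒜).ι.app U z) :=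
  app_phiApp hL hLq hj u U z

include hLq hj in
/-- `ψ` of an element mapped to a section of `L` is its coefficient. -/
theorem psi_of_app (U : Y.AffineZariskiSite) (t : Triv L) (h : t.V.1 ≤ q ⁻¹ᵁ U.1) {s : 𝒜.presheaf.obj (op U.1)}
    {x : Γ(L, q ⁻¹ᵁ U.1)} (hx : (show 𝒮L.presheaf.obj (op (q ⁻¹ᵁ U.1)) from j.app _ x) = (u.app U.1).hom s)
    {c : Γ(X, t.V.1)} (hc : mres L h x = c • t.e) : psi hLq hj u U t h s = c := by
  have e : (u.appLE U.1 t.V.1 h).hom s = (show 𝒮L.presheaf.obj (op t.V.1) from j.app t.V.1 (mres L h x)) := by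
    show ares 𝒮L h ((u.app U.1).hom s) = _
    rw [← hx]
    exact ares_app j h x
  rw [psi_apply, e, hc]
  exact coef_app_smul hLq hj t c

include hL hLq hj in
theorem XS_eq_genOpen (U : Y.AffineZariskiSite) {s : 𝒜.presheaf.obj (op U.1)} (hs : s ∈ dg 𝒜 U 1)
    {x : Γ(L, q ⁻¹ᵁ U.1)} (hx : (show 𝒮L.presheaf.obj (op (q ⁻¹ᵁ U.1)) from j.app _ x) = (u.app U.1).hom s) :
    XS u U 1 s = VA.genOpen L x := by
  ext z
  by_cases hz : z ∈ q ⁻¹ᵁ U.1
  · obtain ⟨t, hzt, hle⟩ := exists_triv_le hL hz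
    obtain ⟨c, hc⟩ := exists_coeff t hle x
    refine (mem_XS_iff hL hLq hj u U t hle hs hzt).trans ?_
    rw [psi_of_app hLq hj u U t hle hx hc]
    exact (VA.genAt_iff_mem_basicOpen hle t.isGen hc hzt).symm.trans VA.mem_genOpen.symm
  · exact iff_of_false (fun h => hz (XS_le u U _ _ h)) (fun h => hz (VA.genOpen_le x h))

/-- In degree-one generated algebras a property of the generators passes to every fraction. -/
theorem mk_mem_of_gen (U : Y.AffineZariskiSite) {s : 𝒜.presheaf.obj (op U.1)} (hs : s ∈ dg 𝒜 U 1)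
    (hgen : 𝒜.IsGenDegOne) (R : Subring (Away (dg 𝒜 U) s))
    (h0 : ∀ (a : 𝒜.presheaf.obj (op U.1)) (ha : a ∈ dg 𝒜 U (0 • 1)), Away.mk (dg 𝒜 U) hs 0 a ha ∈ R)
    (h1 : ∀ (a : 𝒜.presheaf.obj (op U.1)) (ha : a ∈ dg 𝒜 U (1 • 1)), Away.mk (dg 𝒜 U) hs 1 a ha ∈ R) : R = ⊤ := by
  classical
  letI := 𝒜.gradedRing U.1 U.2
  rw [eq_top_iff]
  rintro z -
  obtain ⟨n, a, ha, rfl⟩ := Away.mk_surjective (dg 𝒜 U) hs z
  have hval : ∀ (i : ℕ) (b : 𝒜.presheaf.obj (op U.1)) (hb : b ∈ dg 𝒜 U (i • 1)) (z : Away (dg 𝒜 U) s),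
      z.val = Localization.mk b (⟨s ^ i, i, rfl⟩ : Submonoid.powers s) → z ∈ R → Away.mk (dg 𝒜 U) hs i b hb ∈ R := fun i b hb z hz hzR => by
    rwa [show Away.mk (dg 𝒜 U) hs i b hb = z from val_injective _ (by rw [Away.val_mk, hz])]
  let S₀ : Set (𝒜.presheaf.obj (op U.1)) := dg 𝒜 U 0
  let S₁ : Set (𝒜.presheaf.obj (op U.1)) := dg 𝒜 U 1
  have hmon : ∀ b ∈ Submonoid.closure (S₀ ∪ S₁), ∃ (i : ℕ) (hb : b ∈ dg 𝒜 U (i • 1)),
      Away.mk (dg 𝒜 U) hs i b hb ∈ R := by
    intro b hb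
    induction hb using Submonoid.closure_induction with
    | mem b hb =>
      rcases hb with hb | hb
      · exact ⟨0, (zero_smul ℕ 1).symm ▸ hb, h0 b _⟩
      · exact ⟨1, (one_smul ℕ 1).symm ▸ hb, h1 b _⟩
    | one =>
      refine ⟨0, by simpa using SetLike.one_mem_graded (dg 𝒜 U), hval _ _ _ 1 ?_ (one_mem R)⟩
      rw [val_one, ← Localization.mk_one]
      congr 1
      exact Subtype.ext (pow_zero s).symm
    | mul a b _ _ ha hb =>
      obtain ⟨i, hia, hR⟩ := ha; obtain ⟨k, hkb, hR'⟩ := hb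
      have hab : a * b ∈ dg 𝒜 U ((i + k) • 1) := by
        rw [add_smul]; exact SetLike.mul_mem_graded hia hkb
      refine ⟨i + k, hab, hval _ _ _ _ ?_ (mul_mem hR hR')⟩
      rw [val_mul, Away.val_mk, Away.val_mk, Localization.mk_mul]
      congr 1
      exact Subtype.ext (pow_add s i k).symm
  have key : ∀ b ∈ AddSubgroup.closure (Submonoid.closure (S₀ ∪ S₁) : Set _), ∀ (i : ℕ)
      (hb : (DirectSum.decompose (dg 𝒜 U) b i : 𝒜.presheaf.obj (op U.1)) ∈ dg 𝒜 U (i • 1)),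
      Away.mk (dg 𝒜 U) hs i (DirectSum.decompose (dg 𝒜 U) b i : 𝒜.presheaf.obj (op U.1)) hb ∈ R := by
    intro b hb
    induction hb using AddSubgroup.closure_induction with
    | mem b hb =>
      intro i hi
      obtain ⟨k, hkb, hR⟩ := hmon b hb
      have hkb' : b ∈ dg 𝒜 U k := by simpa using hkb
      by_cases hik : k = i
      · subst hik
        refine hval _ _ _ _ ?_ hR
        rw [Away.val_mk, DirectSum.decompose_of_mem_same _ hkb']
      · refine hval _ _ _ 0 ?_ (zero_mem R)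
        rw [HomogeneousLocalization.val_zero, DirectSum.decompose_of_mem_ne _ hkb' hik, Localization.mk_zero]
    | zero =>
      intro i hi
      refine hval _ _ _ 0 ?_ (zero_mem R)
      rw [HomogeneousLocalization.val_zero, DirectSum.decompose_zero, DirectSum.zero_apply, ZeroMemClass.coe_zero,
        Localization.mk_zero]
    | add a b _ _ iha ihb =>
      intro i hi
      refine hval _ _ _ _ ?_ (add_mem (iha i (by simp)) (ihb i (by simp)))
      rw [val_add, Away.val_mk, Away.val_mk, Localization.add_mk_self, DirectSum.decompose_add, DirectSum.add_apply,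
        AddMemClass.coe_add]
    | neg a _ iha =>
      intro i hi
      refine hval _ _ _ _ ?_ (neg_mem (iha i (by simp)))
      rw [val_neg, Away.val_mk, Localization.neg_mk, DirectSum.decompose_neg]
      rfl
  have ha' : a ∈ dg 𝒜 U n := by simpa using ha
  have := key a (Subring.mem_closure_iff.mp ((hgen U.1 U.2).ge trivial)) n (by simp)
  simpa only [DirectSum.decompose_of_mem_same _ ha'] using this

variable {p : P ⟶ Y} {chart : ∀ (U : Y.Opens) (hU : IsAffineOpen U), (((p ⁻¹ᵁ U : P.Opens) : Scheme.{u}) ≅ Proj (𝒜.deg U hU))}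
  {pL : PL ⟶ X}
  {chartL : ∀ (U : X.Opens) (hU : IsAffineOpen U), (((pL ⁻¹ᵁ U : PL.Opens) : Scheme.{u}) ≅ Proj (𝒮L.deg U hU))}
  (hP : RelProj.IsRelProj 𝒜 p chart) (hPL : RelProj.IsRelProj 𝒮L pL chartL)
  (htop : RelProj.domQ u pL chartL = ⊤) {g : X ⟶ P}
  (hg : RelProj.IsProjQMapOn u p chart pL chartL (RelProj.domQ u pL chartL) ((RelProj.domQ u pL chartL).ι ≫ pL ≫ g))

include hP hPL htop hg in
/-- An immersion into the relative Proj embeds the pieces. -/
theorem pieceImm_phi [IsImmersion g] (hgen : 𝒜.IsGenDegOne)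
    (h0 : ∀ (U : Y.Opens) (hU : IsAffineOpen U),
      ((𝒜.deg U hU 0 : AddSubgroup (𝒜.presheaf.obj (op U))) : Set (𝒜.presheaf.obj (op U))) = Set.range (𝒜.str.app (op U)).hom)
    (U : Y.AffineZariskiSite) (e : Γ((degOne 𝒜).obj, U.1)) : PieceImm q (phi hL hLq hj u) U e := by
  let φ := phi hL hLq hj u
  have hdeg : ∀ e' : Γ((degOne 𝒜).obj, U.1),
      (show 𝒜.presheaf.obj (op U.1) from (degOne 𝒜).ι.app U.1 e') ∈ dg 𝒜 U 1 := fun e' =>
    (ProjQ8.mem_degOne_iff U.2 _).mp ((degOne 𝒜).ι_app_mem e')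
  let s : 𝒜.presheaf.obj (op U.1) := (degOne 𝒜).ι.app U.1 e
  have hs : s ∈ dg 𝒜 U 1 := hdeg e
  set D := (sEmb p chart U one_pos hs).opensRange
  let T₀ : X.Opens := g ⁻¹ᵁ D
  have hT : T₀ = Tp q φ U e := by
    show g ⁻¹ᵁ D = _
    rw [preimage_sEmb hL hLq hj u hP hPL hg htop U one_pos hs]
    exact XS_eq_genOpen hL hLq hj u U hs (app_phi hL hLq hj u U.1 e)
  let f : (T₀ : Scheme.{u}) ⟶ Spec (CommRingCat.of (Away (dg 𝒜 U) s)) :=
    g ∣_ D ≫ (sEmb p chart U one_pos hs).isoOpensRange.inv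
  haveI : IsImmersion (g ∣_ D) := IsZariskiLocalAtTarget.restrict (P := @IsImmersion) inferInstance D
  have hf : IsImmersion f := inferInstance
  have hfe : f ≫ sEmb p chart U one_pos hs = T₀.ι ≫ g := by
    simp only [f, Category.assoc, Scheme.Hom.isoOpensRange_inv_comp]
    exact morphismRestrict_ι g D
  let h : Away (dg 𝒜 U) s →+* Γ((T₀ : Scheme.{u}), ⊤) := f.appTop.hom.comp (Scheme.ΓSpecIso (CommRingCat.of (Away (dg 𝒜 U) s))).inv.hom
  let h' : Away (dg 𝒜 U) s →+* Γ(X, T₀) := T₀.topIso.hom.hom.comp h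
  have hi : IsImmersion (toAff (T₀.topIso.inv.hom.comp h')) := by
    have e0 : T₀.topIso.inv.hom.comp h' = h := RingHom.ext fun z => Iso.hom_inv_id_apply T₀.topIso _
    rw [e0]
    exact eq_toAff f ▸ hf
  refine VA.pieceImm_of_le hT.ge h' hi fun z => ?_
  -- values of `h` on trivializations
  have hval : ∀ (t : Triv L) (htT : t.V.1 ≤ T₀) (htU : t.V.1 ≤ q ⁻¹ᵁ U.1) (hu' : IsUnit (psi hLq hj u U t htU s))
      (z : Away (dg 𝒜 U) s), Ample.res htT (h' z) = ProjPt.evalAway (dg 𝒜 U) (psi hLq hj u U t htU) s hu' z := by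
    intro t htT htU hu' z
    let l := IsOpenImmersion.lift T₀.ι t.V.2.fromSpec (by
      rw [t.V.2.range_fromSpec, Scheme.Opens.range_ι]; exact htT)
    have hl : l ≫ T₀.ι = t.V.2.fromSpec := IsOpenImmersion.lift_fac _ _ _
    have e2 : l ≫ f = Spec.map (CommRingCat.ofHom (ProjPt.evalAway (dg 𝒜 U) (psi hLq hj u U t htU) s hu')) := by
      rw [← cancel_mono (sEmb p chart U one_pos hs), Category.assoc, hfe, reassoc_of% hl]
      exact fromSpec_comp hLq hj u hg U t htU one_pos hs hu' hPL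
    have e3 := congrArg (fun k => k.appTop.hom ((Scheme.ΓSpecIso (CommRingCat.of (Away (dg 𝒜 U) s))).inv.hom z)) e2
    simp only [Scheme.Hom.comp_appTop, CommRingCat.comp_apply] at e3
    refine (ConcreteCategory.bijective_of_isIso (Scheme.ΓSpecIso Γ(X, t.V.1)).inv).1 ?_
    refine (fromSpec_lift_appTop T₀ t.V.2 htT l hl (h' z)).symm.trans ?_
    rw [show T₀.topIso.inv.hom (h' z) = h z from Iso.hom_inv_id_apply T₀.topIso _]
    refine e3.trans ?_
    rw [← CommRingCat.comp_apply, ← Scheme.ΓSpecIso_inv_naturality]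
    rfl
  -- it is enough to compare on trivializations
  have hcmp : ∀ (z : Away (dg 𝒜 U) s) (b : Γ(X, Tp q φ U e)), b ∈ RS q φ U e →
      (∀ (t : Triv L) (htT : t.V.1 ≤ Tp q φ U e) (htU : t.V.1 ≤ q ⁻¹ᵁ U.1) (hu' : IsUnit (psi hLq hj u U t htU s)),
        ProjPt.evalAway (dg 𝒜 U) (psi hLq hj u U t htU) s hu' z = Ample.res htT b) →
      z ∈ (RS q φ U e).comap ((Ample.res hT.ge).comp h') := by
    intro z b hb hz
    show fres X hT.ge (h' z) ∈ RS q φ U e
    have : fres X hT.ge (h' z) = b := by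
      choose t hxt htT using fun x : Tp q φ U e => exists_triv_le hL x.2
      refine Ample.eq_of_cover (fun x => (t x).V.1) htT (fun x hx => Opens.mem_iSup.mpr ⟨⟨x, hx⟩, hxt ⟨x, hx⟩⟩) fun x => ?_
      have htU : (t x).V.1 ≤ q ⁻¹ᵁ U.1 := (htT x).trans (VA.Tp_le q φ U e)
      have hu' : IsUnit (psi hLq hj u U (t x) htU s) :=
        X.toRingedSpace.isUnit_of_isUnit_germ _ _ fun w hw => (X.mem_basicOpen _ w hw).mp
          ((mem_XS_iff hL hLq hj u U (t x) htU hs hw).mp (by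
            rw [XS_eq_genOpen hL hLq hj u U hs (app_phi hL hLq hj u U.1 e)]
            exact htT x hw))
      refine Eq.trans ?_ (hz (t x) (htT x) htU hu')
      refine Eq.trans ?_ (hval (t x) ((htT x).trans hT.ge) htU hu' z)
      exact Ample.res_res (h := hT.ge) (h' := htT x) (h' z)
    rw [this]; exact hb
  refine (show z ∈ (RS q φ U e).comap ((Ample.res hT.ge).comp h') from ?_)
  rw [mk_mem_of_gen U hs hgen ((RS q φ U e).comap ((Ample.res hT.ge).comp h')) ?_ ?_]
  · trivial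
  · intro a ha
    obtain ⟨r, rfl⟩ : a ∈ Set.range (𝒜.str.app (op U.1)).hom := by
      rw [← h0 U.1 U.2]; simpa using ha
    refine hcmp _ _ (VA.base_mem_RS q φ U e r) fun t htT htU hu' => ?_
    refine (hu'.pow 0).mul_left_injective ?_
    dsimp only
    rw [ProjPt.evalAway_mk_spec (dg 𝒜 U) _ hs hu' 0 _ _, pow_zero, mul_one]
    refine (psi_str hLq hj u U t htU r).trans ?_
    show _ = Ample.res htT (Ample.res (VA.Tp_le q φ U e) ((q.app U.1).hom r))
    rw [Ample.res_res]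
    rfl
  · intro a ha
    let e' : Γ((degOne 𝒜).obj, U.1) := (degOne 𝒜).lift (U := U.1) (show Γ(𝒜.toModule, U.1) from a)
      ((ProjQ8.mem_degOne_iff U.2 _).mpr (show a ∈ dg 𝒜 U 1 by simpa using ha))
    refine hcmp _ _ (VA.rat_mem_RS q φ U e e') fun t htT htU hu' => ?_
    obtain ⟨c, hc⟩ := exists_coeff t htU (show Γ(L, q ⁻¹ᵁ U.1) from φ.app U.1 e)
    obtain ⟨c', hc'⟩ := exists_coeff t htU (show Γ(L, q ⁻¹ᵁ U.1) from φ.app U.1 e')
    refine (hu'.pow 1).mul_left_injective ?_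
    dsimp only
    rw [ProjPt.evalAway_mk_spec (dg 𝒜 U) _ hs hu' 1 _ _, pow_one,
      psi_of_app hLq hj u U t htU (s := a) (app_phi hL hLq hj u U.1 e') hc',
      psi_of_app hLq hj u U t htU (app_phi hL hLq hj u U.1 e) hc]
    have e5 := congrArg (mres L htT) (VA.rat_spec q φ U e e')
    rw [InvExt.mres_smul, InvExt.mres_mres, InvExt.mres_mres, hc, hc', smul_smul] at e5
    exact t.isGen.smul_left_injective le_rfl (by rw [InvExt.mres_self]; exact e5)

variable {r : ((RelProj.domQ u pL chartL : PL.Opens) : Scheme.{u}) ⟶ P}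
  (hr : RelProj.IsProjQMapOn u p chart pL chartL (RelProj.domQ u pL chartL) r)

include hL hLq hj hP hPL hr in
theorem isRelVeryAmple_of_isImmersion (hgen : 𝒜.IsGenDegOne)
    (h0 : ∀ (U : Y.Opens) (hU : IsAffineOpen U),
      ((𝒜.deg U hU 0 : AddSubgroup (𝒜.presheaf.obj (op U))) : Set (𝒜.presheaf.obj (op U))) = Set.range (𝒜.str.app (op U)).hom)
    (hcovp : ∀ x : X, ∃ (U : Y.AffineZariskiSite) (s : 𝒜.presheaf.obj (op U.1)),
      s ∈ dg 𝒜 U 1 ∧ x ∈ XS u U 1 s)
    (himm : IsImmersion r) : RelProj.IsRelVeryAmple q L := by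
  choose U s hs hx using hcovp
  have hcov : ⨆ x, ((⟨U x, 1, one_pos, s x, hs x⟩ : Piece 𝒜)).locus u = ⊤ := top_le_iff.mp fun x _ =>
    Opens.mem_iSup.mpr ⟨x, hx x⟩
  have htop := domQ_eq_top_of_cover hL hLq hj u hPL (fun x => (⟨U x, 1, one_pos, s x, hs x⟩ : Piece 𝒜)) hcov
  obtain ⟨g, hg, hQ⟩ := exists_g hL hLq hj u hPL htop hr
  haveI := (hQ @IsImmersion).mp himm
  haveI := ProjQ8.isQuasicoherent_toModule 𝒜
  refine VA.isRelVeryAmple_iff.mpr ⟨(degOne 𝒜).obj, phi hL hLq hj u, ProjQ8.isQuasicoherent_degOne, fun x => ?_⟩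
  let e := (degOne 𝒜).lift (U := (U x).1) (show Γ(𝒜.toModule, (U x).1) from s x)
    ((ProjQ8.mem_degOne_iff (U x).2 _).mpr (hs x))
  refine ⟨U x, e, ?_, pieceImm_phi hL hLq hj u hP hPL htop hg hgen h0 (U x) e⟩
  exact (XS_eq_genOpen hL hLq hj u (U x) (hs x) (app_phi hL hLq hj u (U x).1 e)).le (hx x)

end GrothLib.RLpsi8
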