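import Mathlib

/-!
# Affine Zariski coverings of an inverse system over a cofinite poset
-/

universe v u

open CategoryTheory Limits AlgebraicGeometry Opposite TopologicalSpace

namespace GrothLib.RLpsi8.ZarSystem

variable {Λ : Type v} [PartialOrder Λ] (X : Λᵒᵖ ⥤ Scheme.{u})

/-- Transition map. -/
noncomputable abbrev tr {k m : Λ} (h : k ≤ m) : X.obj (op m) ⟶ X.obj (op k) :=
  X.map (homOfLE h).op

lemma tr_self (m : Λ) : tr X (le_refl m) = 𝟙 _ := X.map_id _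

lemma tr_comp {k m n : Λ} (h : k ≤ m) (h' : m ≤ n) : tr X h' ≫ tr X h = tr X (h.trans h') := by
  rw [tr, tr, tr, ← X.map_comp]
  rfl

/-- The covering is rich enough with respect to the coverings below. -/
def Good (l : Λ) (prev : ∀ m : Λ, m < l → Finset (X.obj (op m)).Opens)
    (C : Finset (X.obj (op l)).Opens) : Prop :=
  (∀ U ∈ C, IsAffineOpen U) ∧
    ∀ t : ∀ m : Set.Iio l, {U : (X.obj (op m.1)).Opens // U ∈ prev m.1 m.2 ∧ IsAffineOpen U},
      ∀ x : X.obj (op l), (∀ m : Set.Iio l, tr X m.2.le x ∈ (t m).1) →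
        ∃ U ∈ C, x ∈ U ∧ ∀ m : Set.Iio l, U ≤ tr X m.2.le ⁻¹ᵁ (t m).1

variable (hΛ : ∀ l : Λ, (Set.Iic l).Finite) (hqc : ∀ l : Λ, CompactSpace ↥(X.obj (op l)))
  (hqs : ∀ l : Λ, QuasiSeparatedSpace ↥(X.obj (op l)))

include hqc hqs in
lemma exists_finset_cover_inf {l : Λ} {ι : Type v} [Finite ι] (k : ι → Λ) (hk : ∀ i, k i ≤ l)
    (V : ∀ i, (X.obj (op (k i))).Opens) (hV : ∀ i, IsAffineOpen (V i)) :
    ∃ C : Finset (X.obj (op l)).Opens, (∀ U ∈ C, IsAffineOpen U ∧ ∀ i, U ≤ tr X (hk i) ⁻¹ᵁ V i) ∧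
      ∀ x : X.obj (op l), (∀ i, tr X (hk i) x ∈ V i) → ∃ U ∈ C, x ∈ U := by
  haveI := hqc l
  haveI := hqs l
  have hW : IsCompact (⋂ i, ((tr X (hk i) ⁻¹ᵁ V i : (X.obj (op l)).Opens) : Set (X.obj (op l)))) ∧
      IsOpen (⋂ i, ((tr X (hk i) ⁻¹ᵁ V i : (X.obj (op l)).Opens) : Set (X.obj (op l)))) := by
    refine ⟨?_, isOpen_iInter_of_finite fun i => (tr X (hk i) ⁻¹ᵁ V i).isOpen⟩
    have hb : ∀ s : Finset ι, IsCompact
        (⋂ i ∈ s, ((tr X (hk i) ⁻¹ᵁ V i : (X.obj (op l)).Opens) : Set (X.obj (op l)))) := by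
      intro s
      classical
      induction s using Finset.induction with
      | empty => simpa using isCompact_univ
      | insert a s ha ih =>
        rw [Finset.set_biInter_insert]
        refine QuasiSeparatedSpace.inter_isCompact _ _ (tr X (hk a) ⁻¹ᵁ V a).isOpen ?_
          (isOpen_biInter_finset fun i _ => (tr X (hk i) ⁻¹ᵁ V i).isOpen) ih
        haveI : QuasiSeparatedSpace ↥(X.obj (op (k a))) := hqs _
        exact (tr X (hk a)).isCompact_preimage (hV a).isCompact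
    haveI := Fintype.ofFinite ι
    simpa using hb Finset.univ
  obtain ⟨hc, ho⟩ := hW
  set W : (X.obj (op l)).Opens := ⟨_, ho⟩ with hWdef
  have : ∀ x : W, ∃ U : (X.obj (op l)).Opens, IsAffineOpen U ∧ x.1 ∈ U ∧ U ≤ W := fun x => by
    obtain ⟨_, ⟨U, hU, rfl⟩, h1, h2⟩ := (X.obj (op l)).isBasis_affineOpens.exists_subset_of_mem_open
      x.2 W.isOpen
    exact ⟨U, hU, h1, h2⟩
  choose U hU hxU hUW using this
  obtain ⟨s, hs⟩ := hc.elim_finite_subcover (fun x : W => (U x : Set (X.obj (op l))))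
    (fun x => (U x).isOpen) (fun x hx => Set.mem_iUnion.mpr ⟨⟨x, hx⟩, hxU _⟩)
  classical
  refine ⟨s.image U, ?_, fun x hx => ?_⟩
  · intro V' hV'
    obtain ⟨x, -, rfl⟩ := Finset.mem_image.mp hV'
    exact ⟨hU x, fun i => le_trans (hUW x) fun y hy => Set.mem_iInter.mp hy i⟩
  · obtain ⟨y, hy, hxy⟩ : ∃ y ∈ s, x ∈ U y := by
      simpa using hs (Set.mem_iInter.mpr hx)
    exact ⟨U y, Finset.mem_image_of_mem _ hy, hxy⟩

include hΛ hqc hqs in
lemma exists_good (l : Λ) (prev : ∀ m : Λ, m < l → Finset (X.obj (op m)).Opens) :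
    ∃ C, Good X l prev C := by
  classical
  haveI : Finite (Set.Iio l) := ((hΛ l).subset Set.Iio_subset_Iic_self).to_subtype
  haveI : ∀ m : Set.Iio l,
      Finite {U : (X.obj (op m.1)).Opens // U ∈ prev m.1 m.2 ∧ IsAffineOpen U} := fun m =>
    ((prev m.1 m.2).finite_toSet.subset fun U hU => hU.1).to_subtype
  let T := ∀ m : Set.Iio l, {U : (X.obj (op m.1)).Opens // U ∈ prev m.1 m.2 ∧ IsAffineOpen U}
  have : ∀ t : T, _ := fun t => exists_finset_cover_inf X hqc hqs (fun m : Set.Iio l => m.1)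
    (fun m => m.2.le) (fun m => (t m).1) (fun m => (t m).2.2)
  choose C hC hC' using this
  haveI := Fintype.ofFinite T
  refine ⟨Finset.univ.biUnion C, fun U hU => ?_, fun t x hx => ?_⟩
  · obtain ⟨t, -, ht⟩ := Finset.mem_biUnion.mp hU
    exact (hC t U ht).1
  · obtain ⟨U, hU, hxU⟩ := hC' t x hx
    exact ⟨U, Finset.mem_biUnion.mpr ⟨t, Finset.mem_univ _, hU⟩, hxU, (hC t U hU).2⟩

include hΛ in
lemma wf : WellFounded ((· < ·) : Λ → Λ → Prop) := by
  refine Subrelation.wf (fun {a b} h => ?_) (measure fun l => (hΛ l).toFinset.card).wf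
  refine Finset.card_lt_card ⟨fun x hx => ?_, fun hsub => ?_⟩
  · simp only [Set.Finite.mem_toFinset, Set.mem_Iic] at hx ⊢
    exact hx.trans h.le
  · have := hsub (show b ∈ (hΛ b).toFinset by simp)
    simp only [Set.Finite.mem_toFinset, Set.mem_Iic] at this
    exact (not_lt_of_ge this) h

/-- Coverings. -/
noncomputable def cov : ∀ l : Λ, Finset (X.obj (op l)).Opens :=
  (wf hΛ).fix fun l prev => (exists_good X hΛ hqc hqs l prev).choose

lemma cov_good (l : Λ) : Good X l (fun m _ => cov X hΛ hqc hqs m) (cov X hΛ hqc hqs l) := by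
  have h := (exists_good X hΛ hqc hqs l (fun m _ => cov X hΛ hqc hqs m)).choose_spec
  have e : cov X hΛ hqc hqs l =
      (exists_good X hΛ hqc hqs l (fun m _ => cov X hΛ hqc hqs m)).choose :=
    (wf hΛ).fix_eq _ l
  rwa [← e] at h

/-- Compatible tuples below `l`. -/
def Tup (l : Λ) : Type (max u v) :=
  {s : ∀ m : Set.Iic l, (X.obj (op m.1)).Opens //
    (∀ m, s m ∈ cov X hΛ hqc hqs m.1) ∧
      ∀ (k m : Set.Iic l) (h : k.1 ≤ m.1), s m ≤ tr X h ⁻¹ᵁ s k}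

instance finite_tup (l : Λ) : Finite (Tup X hΛ hqc hqs l) := by
  haveI : Finite (Set.Iic l) := (hΛ l).to_subtype
  haveI : ∀ m : Set.Iic l, Finite {U : (X.obj (op m.1)).Opens // U ∈ cov X hΛ hqc hqs m.1} :=
    fun m => (cov X hΛ hqc hqs m.1).finite_toSet.to_subtype
  refine Finite.of_injective
    (β := ∀ m : Set.Iic l, {U : (X.obj (op m.1)).Opens // U ∈ cov X hΛ hqc hqs m.1})
    (fun s m => ⟨s.1 m, s.2.1 m⟩) fun s t h => Subtype.ext (funext fun m => ?_)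
  exact congrArg Subtype.val (congrFun h m)

lemma exists_tup (l : Λ) (x : X.obj (op l)) :
    ∃ s : Tup X hΛ hqc hqs l, x ∈ (tr X (le_refl l)) ⁻¹ᵁ s.1 ⟨l, le_refl l⟩ := by
  classical
  have key : ∀ D : Finset Λ, (∀ m ∈ D, m ≤ l) → (∀ m ∈ D, ∀ k, k ≤ m → k ∈ D) →
      ∃ s : ∀ m, (X.obj (op m)).Opens, ∀ m ∈ D, ∃ hm : m ≤ l,
        s m ∈ cov X hΛ hqc hqs m ∧ tr X hm x ∈ s m ∧
          ∀ k, ∀ h : k ≤ m, s m ≤ tr X h ⁻¹ᵁ s k := by
    intro D
    induction D using Finset.strongInduction with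
    | H D ih =>
      intro hl hd
      rcases D.eq_empty_or_nonempty with rfl | hne
      · exact ⟨fun _ => ⊤, by simp⟩
      obtain ⟨a, ha, hmax⟩ := D.exists_maximal hne
      have hmax' : ∀ m ∈ D, a ≤ m → m = a := fun m hm h => le_antisymm (hmax hm h) h
      obtain ⟨s, hs⟩ := ih (D.erase a) (Finset.erase_ssubset ha)
        (fun m hm => hl m (Finset.mem_of_mem_erase hm))
        (fun m hm k hk => Finset.mem_erase.mpr ⟨fun e => (Finset.mem_erase.mp hm).1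
          (hmax' m (Finset.mem_of_mem_erase hm) (e ▸ hk)), hd m (Finset.mem_of_mem_erase hm) k hk⟩)
      have hmem : ∀ m : Set.Iio a, m.1 ∈ D.erase a := fun m =>
        Finset.mem_erase.mpr ⟨m.2.ne, hd a ha m.1 m.2.le⟩
      obtain ⟨U, hU, hxU, hUs⟩ := (cov_good X hΛ hqc hqs a).2
        (fun m => ⟨s m.1, (hs _ (hmem m)).choose_spec.1,
          (cov_good X hΛ hqc hqs m.1).1 _ (hs _ (hmem m)).choose_spec.1⟩)
        (tr X (hl a ha) x) (fun m => by
          rw [← Scheme.Hom.comp_apply, tr_comp]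
          exact (hs _ (hmem m)).choose_spec.2.1)
      refine ⟨Function.update s a U, fun m hm => ⟨hl m hm, ?_⟩⟩
      by_cases hma : m = a
      · subst hma
        refine ⟨by simpa using hU, by simpa using hxU, fun k h => ?_⟩
        rcases h.eq_or_lt with rfl | hlt
        · rw [tr_self]; exact le_rfl
        · rw [Function.update_self, Function.update_of_ne hlt.ne]
          exact hUs ⟨k, hlt⟩
      · obtain ⟨_, h1, h2, h3⟩ := hs m (Finset.mem_erase.mpr ⟨hma, hm⟩)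
        refine ⟨by simpa [hma] using h1, by simpa [hma] using h2, fun k h => ?_⟩
        have hka : k ≠ a := fun e => hma (hmax' m hm (e ▸ h))
        rw [Function.update_of_ne hma, Function.update_of_ne hka]
        exact h3 k h
  obtain ⟨s, hs⟩ := key (hΛ l).toFinset (fun m hm => by simpa using hm)
    (fun m hm k hk => by simp only [Set.Finite.mem_toFinset, Set.mem_Iic] at hm ⊢; exact hk.trans hm)
  have hs' : ∀ m : Set.Iic l, ∃ hm : m.1 ≤ l, s m.1 ∈ cov X hΛ hqc hqs m.1 ∧ tr X hm x ∈ s m.1 ∧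
      ∀ k, ∀ h : k ≤ m.1, s m.1 ≤ tr X h ⁻¹ᵁ s k := fun m => hs m.1 (by simp)
  exact ⟨⟨fun m => s m.1, fun m => (hs' m).choose_spec.1,
    fun k m h => (hs' m).choose_spec.2.2 k.1 h⟩, (hs' ⟨l, le_refl l⟩).choose_spec.2.1⟩

instance small_tup (l : Λ) : Small.{u} (Tup X hΛ hqc hqs l) := Countable.toSmall _

/-- Index type in the small universe. -/
abbrev Idx (l : Λ) : Type u := Shrink.{u} (Tup X hΛ hqc hqs l)

instance finite_idx (l : Λ) : Finite (Idx X hΛ hqc hqs l) :=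
  Finite.of_equiv _ (equivShrink (Tup X hΛ hqc hqs l))

/-- The piece. -/
noncomputable def piece (l : Λ) (i : Idx X hΛ hqc hqs l) : (X.obj (op l)).Opens :=
  ((equivShrink (Tup X hΛ hqc hqs l)).symm i).1 ⟨l, le_refl l⟩

lemma isAffineOpen_piece (l : Λ) (i : Idx X hΛ hqc hqs l) :
    IsAffineOpen (piece X hΛ hqc hqs l i) :=
  (cov_good X hΛ hqc hqs l).1 _ (((equivShrink (Tup X hΛ hqc hqs l)).symm i).2.1 ⟨l, le_refl l⟩)

/-- Restriction of tuples. -/
noncomputable def res {k l : Λ} (h : k ≤ l) (i : Idx X hΛ hqc hqs l) : Idx X hΛ hqc hqs k :=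
  equivShrink _ ⟨fun m => ((equivShrink (Tup X hΛ hqc hqs l)).symm i).1 ⟨m.1, le_trans m.2 h⟩,
    fun m => ((equivShrink (Tup X hΛ hqc hqs l)).symm i).2.1 ⟨m.1, le_trans m.2 h⟩,
    fun a b hab => ((equivShrink (Tup X hΛ hqc hqs l)).symm i).2.2
      ⟨a.1, le_trans a.2 h⟩ ⟨b.1, le_trans b.2 h⟩ hab⟩

lemma piece_le {k l : Λ} (h : k ≤ l) (i : Idx X hΛ hqc hqs l) :
    piece X hΛ hqc hqs l i ≤ tr X h ⁻¹ᵁ piece X hΛ hqc hqs k (res X hΛ hqc hqs h i) := by
  rw [piece, piece, res, Equiv.symm_apply_apply]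
  exact ((equivShrink (Tup X hΛ hqc hqs l)).symm i).2.2 ⟨k, h⟩ ⟨l, le_refl l⟩ h

lemma res_self {l : Λ} (i : Idx X hΛ hqc hqs l) : res X hΛ hqc hqs (le_refl l) i = i := by
  rw [res, Equiv.apply_eq_iff_eq_symm_apply]
  exact Subtype.ext rfl

lemma res_res {j k l : Λ} (h : j ≤ k) (h' : k ≤ l) (i : Idx X hΛ hqc hqs l) :
    res X hΛ hqc hqs h (res X hΛ hqc hqs h' i) = res X hΛ hqc hqs (h.trans h') i := by
  simp only [res, Equiv.symm_apply_apply]

/-- The affine scheme over `l`. -/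
noncomputable abbrev Yobj (l : Λ) : Scheme.{u} :=
  ∐ fun i : Idx X hΛ hqc hqs l => (piece X hΛ hqc hqs l i).toScheme

/-- The projection. -/
noncomputable def proj (l : Λ) : Yobj X hΛ hqc hqs l ⟶ X.obj (op l) :=
  Sigma.desc fun i => (piece X hΛ hqc hqs l i).ι

/-- Map of a piece into a piece. -/
noncomputable def pieceHom {k l : Λ} (h : k ≤ l) (i : Idx X hΛ hqc hqs l) (j : Idx X hΛ hqc hqs k)
    (hij : piece X hΛ hqc hqs l i ≤ tr X h ⁻¹ᵁ piece X hΛ hqc hqs k j) :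
    (piece X hΛ hqc hqs l i).toScheme ⟶ Yobj X hΛ hqc hqs k :=
  (tr X h).resLE _ _ hij ≫ Sigma.ι (fun j : Idx X hΛ hqc hqs k => (piece X hΛ hqc hqs k j).toScheme) j

lemma pieceHom_congr {k l : Λ} (h : k ≤ l) (i : Idx X hΛ hqc hqs l) {j j' : Idx X hΛ hqc hqs k}
    (e : j = j') (hij : piece X hΛ hqc hqs l i ≤ tr X h ⁻¹ᵁ piece X hΛ hqc hqs k j)
    (hij' : piece X hΛ hqc hqs l i ≤ tr X h ⁻¹ᵁ piece X hΛ hqc hqs k j') :
    pieceHom X hΛ hqc hqs h i j hij = pieceHom X hΛ hqc hqs h i j' hij' := by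
  subst e
  rfl

/-- Transition maps of the covering system. -/
noncomputable def Ymap {k l : Λ} (h : k ≤ l) : Yobj X hΛ hqc hqs l ⟶ Yobj X hΛ hqc hqs k :=
  Sigma.desc fun i => pieceHom X hΛ hqc hqs h i _ (piece_le X hΛ hqc hqs h i)

lemma Ymap_self (l : Λ) : Ymap X hΛ hqc hqs (le_refl l) = 𝟙 _ := by
  refine Sigma.hom_ext _ _ fun i => ?_
  have hi : piece X hΛ hqc hqs l i ≤ tr X (le_refl l) ⁻¹ᵁ piece X hΛ hqc hqs l i := by
    rw [tr_self]; exact le_rfl
  rw [Ymap, Sigma.ι_desc, pieceHom_congr X hΛ hqc hqs _ i (res_self X hΛ hqc hqs i) _ hi, pieceHom]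
  have e : (tr X (le_refl l)).resLE _ _ hi = 𝟙 _ := by
    rw [← cancel_mono (piece X hΛ hqc hqs l i).ι, Scheme.Hom.resLE_comp_ι, tr_self,
      Category.comp_id, Category.id_comp]
  rw [e, Category.id_comp]
  exact (Category.comp_id _).symm

lemma Ymap_comp {j k l : Λ} (h : j ≤ k) (h' : k ≤ l) :
    Ymap X hΛ hqc hqs h' ≫ Ymap X hΛ hqc hqs h = Ymap X hΛ hqc hqs (h.trans h') := by
  refine Sigma.hom_ext _ _ fun i => ?_
  have hle : piece X hΛ hqc hqs l i ≤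
      tr X (h.trans h') ⁻¹ᵁ piece X hΛ hqc hqs j (res X hΛ hqc hqs h (res X hΛ hqc hqs h' i)) := by
    rw [res_res]; exact piece_le X hΛ hqc hqs _ i
  rw [Ymap, Ymap, Ymap, Sigma.ι_desc_assoc, Sigma.ι_desc,
    ← pieceHom_congr X hΛ hqc hqs _ i (res_res X hΛ hqc hqs h h' i) hle (piece_le X hΛ hqc hqs _ i),
    pieceHom, Category.assoc, Sigma.ι_desc, pieceHom, pieceHom]
  rw [← Category.assoc]
  congr 1
  rw [← cancel_mono (piece X hΛ hqc hqs j _).ι, Category.assoc, Scheme.Hom.resLE_comp_ι,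
    Scheme.Hom.resLE_comp_ι_assoc, Scheme.Hom.resLE_comp_ι, tr_comp]

/-- The covering system. -/
noncomputable def Yfun : Λᵒᵖ ⥤ Scheme.{u} where
  obj l := Yobj X hΛ hqc hqs l.unop
  map a := Ymap X hΛ hqc hqs (leOfHom a.unop)
  map_id l := Ymap_self X hΛ hqc hqs l.unop
  map_comp a b := (Ymap_comp X hΛ hqc hqs (leOfHom b.unop) (leOfHom a.unop)).symm

/-- The projection, natural. -/
noncomputable def projNat : Yfun X hΛ hqc hqs ⟶ X where
  app l := proj X hΛ hqc hqs l.unop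
  naturality := by
    rintro ⟨l⟩ ⟨k⟩ a
    refine Sigma.hom_ext _ _ fun i => ?_
    show Sigma.ι _ i ≫ Ymap X hΛ hqc hqs (leOfHom a.unop) ≫ proj X hΛ hqc hqs k =
      Sigma.ι _ i ≫ proj X hΛ hqc hqs l ≫ X.map a
    rw [Ymap, Sigma.ι_desc_assoc, proj, proj, pieceHom, Category.assoc, Sigma.ι_desc,
      Scheme.Hom.resLE_comp_ι, Sigma.ι_desc_assoc]
    rfl

include hΛ hqc hqs in
theorem exists_system :
    ∃ (Y : Λᵒᵖ ⥤ Scheme.{u}) (π : Y ⟶ X), ∀ l : Λ,
      IsAffine (Y.obj (op l)) ∧ Surjective (π.app (op l)) ∧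
        ∃ (ι : Type u) (U : ι → (Y.obj (op l)).Opens),
          Pairwise (fun i j => Disjoint (U i) (U j)) ∧ iSup U = ⊤ ∧
            ∀ i, IsOpenImmersion ((U i).ι ≫ π.app (op l)) := by
  refine ⟨Yfun X hΛ hqc hqs, projNat X hΛ hqc hqs, fun l => ?_⟩
  haveI : ∀ i, IsAffine (piece X hΛ hqc hqs l i).toScheme := fun i =>
    isAffineOpen_piece X hΛ hqc hqs l i
  let f := fun i : Idx X hΛ hqc hqs l => (piece X hΛ hqc hqs l i).toScheme
  refine ⟨show IsAffine (∐ f) from inferInstance, ⟨fun x => ?_⟩, Idx X hΛ hqc hqs l,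
    fun i => (Sigma.ι f i).opensRange, ?_, (sigmaOpenCover f).iSup_opensRange, fun i => ?_⟩
  · obtain ⟨s, hs⟩ := exists_tup X hΛ hqc hqs l x
    have hx : x ∈ piece X hΛ hqc hqs l (equivShrink _ s) := by
      rw [piece, Equiv.symm_apply_apply]
      rw [tr_self] at hs
      exact hs
    refine ⟨Sigma.ι f (equivShrink _ s) ⟨x, hx⟩, ?_⟩
    show proj X hΛ hqc hqs l (Sigma.ι f (equivShrink _ s) ⟨x, hx⟩) = x
    rw [← Scheme.Hom.comp_apply, proj, Sigma.ι_desc]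
    rfl
  · intro i j hij
    exact disjoint_opensRange_sigmaι f i j hij
  · have e : (Sigma.ι f i).opensRange.ι ≫ proj X hΛ hqc hqs l =
        (Sigma.ι f i).isoOpensRange.inv ≫ (piece X hΛ hqc hqs l i).ι := by
      rw [← Scheme.Hom.isoOpensRange_inv_comp, Category.assoc, proj, Sigma.ι_desc]
    show IsOpenImmersion ((Sigma.ι f i).opensRange.ι ≫ proj X hΛ hqc hqs l)
    rw [e]
    infer_instance

end GrothLib.RLpsi8.ZarSystem
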